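import Cfsg.Agent.Lib.Chev.Table
import Cfsg.Prelude.Def_ChevB2

/-! Packed tables of type B2, and their verification. -/

set_option autoImplicit false
set_option maxRecDepth 100000

namespace Cfsg.Agent.Lib.Chev

open Cfsg.Lie

def tabB2 : Tables where
  chainT := (.node 0x37000000000029000000000000000000000000000000000000000000000000000000000000 (.node 0x49006700000000000000000000004600000019003900000000000000000000001a000000000000000000000000 (.node 0x69000000000000000000000000000000000000000000000027000000000000000000000000 (.node 0x77000000000069000000000000 .leaf .leaf) .leaf) (.node 0x8a00000000000000000087007700000000000000000000000000000000004a000000470027 .leaf .leaf)) (.node 0x570079000000000056000000000000000000000000000000170029000000000000000000000016000000000000 (.node 0x79000000000000000000000000000000000000000000000037000000000000 .leaf .leaf) (.node 0x8600000000000000000089006700000000005a000000000000000000590039 .leaf .leaf)))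
  coefP := [
    0xa9988776,
    0x99897877]
  coP := [
    0x99988777,
    0x9a897867]
  cartP := [
    0xa8a6a686,
    0x897a6978]
  reflP := [
    0x9000d0005000f0001000b00030007,
    0xe000b000c00070009000200050000]

theorem basicB2 : chkBasic chevB2 tabB2 = true := by decide +kernel
theorem chainB2 : chkChain chevB2 tabB2 = true := by decide +kernel
theorem reflB2 : chkRefl chevB2 tabB2 = true := by decide +kernel
theorem equivB2 : chkEquiv chevB2 tabB2 = true := by decide +kernel
theorem ncolsB2 : chkN chevB2 tabB2 = true := by decide +kernel
theorem commB2 : chkComm chevB2 tabB2 = true := by decide +kernel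

theorem goodB2 : Good chevB2 tabB2 := ⟨basicB2, chainB2, reflB2, equivB2, ncolsB2, commB2⟩

end Cfsg.Agent.Lib.Chev
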