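import Cfsg.Agent.Lib.Chev.TabE8

/-! Verification for type E8, part comm. -/

set_option autoImplicit false
set_option maxRecDepth 100000

namespace Cfsg.Agent.Lib.Chev

open Cfsg.Lie

theorem commE8 : chkComm chevE8 tabE8 = true := by decide +kernel

end Cfsg.Agent.Lib.Chev
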