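import Cfsg.Agent.Lib.Chev.E8Basic
import Cfsg.Agent.Lib.Chev.E8Chain
import Cfsg.Agent.Lib.Chev.E8Refl
import Cfsg.Agent.Lib.Chev.E8Equiv
import Cfsg.Agent.Lib.Chev.E8Ncols
import Cfsg.Agent.Lib.Chev.E8Comm

/-! Tables of type E8. -/

set_option autoImplicit false

namespace Cfsg.Agent.Lib.Chev

theorem goodE8 : Good Cfsg.Lie.chevE8 tabE8 := ⟨basicE8, chainE8, reflE8, equivE8, ncolsE8, commE8⟩

end Cfsg.Agent.Lib.Chev
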