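import Cfsg.Agent.Lib.Chev.Torus

/-!
The standard subgroups: root subgroups, `H`, `N` and their interaction.
-/

set_option autoImplicit false

namespace Cfsg.Agent.Lib.Chev

open Cfsg.Lie
open scoped Matrix

variable {D : ChevalleyDatum} {T : Tables} {F : Type*} [Field F]

/-- The character of the torus element with parameters `c`. -/
def tor (D : ChevalleyDatum) (T : Tables) (c : ℕ → F) (s : ℕ) : F :=
  ∏ i ∈ Finset.range D.rank, c i ^ T.A i s

namespace Good

variable (G : Good D T)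
include G

theorem mem_rootSubgroup {r : ℕ} {g : GL D.Idx F} :
    g ∈ D.rootSubgroup F r ↔ ∃ t : F, g = G.X F r t := by
  constructor
  · intro h
    induction h using Subgroup.closure_induction with
    | mem x hx => obtain ⟨t, ht⟩ := hx; exact ⟨t, G.eq_X_of_val ht⟩
    | one => exact ⟨0, (G.X_zero r).symm⟩
    | mul x y _ _ hx hy =>
      obtain ⟨a, rfl⟩ := hx
      obtain ⟨b, rfl⟩ := hy
      exact ⟨a + b, G.X_add r a b⟩
    | inv x _ hx =>
      obtain ⟨a, rfl⟩ := hx
      exact ⟨-a, G.X_inv r a⟩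
  · rintro ⟨t, rfl⟩
    exact Subgroup.subset_closure ⟨t, rfl⟩

theorem X_mem_group {r : ℕ} (hr : r < D.nroots) (t : F) : G.X F r t ∈ D.group F :=
  Subgroup.subset_closure ⟨⟨r, hr⟩, t, by simp [ChevalleyDatum.x, hr]⟩

theorem group_le_of {K : Subgroup (GL D.Idx F)} (h : ∀ r < D.nroots, ∀ t : F, G.X F r t ∈ K) :
    D.group F ≤ K := by
  refine (Subgroup.closure_le _).2 ?_
  rintro g ⟨r, t, hg⟩
  have : g = G.X F r.val t := Units.ext (by simpa [ChevalleyDatum.x] using hg)
  exact this ▸ h r.val r.isLt t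

theorem X_mem_posUnipotent {r : ℕ} (hr : r < D.nroots) (hp : npos D ≤ r) (t : F) :
    G.X F r t ∈ D.posUnipotent F :=
  Subgroup.subset_closure ⟨r, t, G.isPos_iff.2 ⟨hr, hp⟩, rfl⟩

theorem X_mem_negUnipotent {r : ℕ} (hr : r < D.nroots) (hp : r < npos D) (t : F) :
    G.X F r t ∈ D.negUnipotent F :=
  Subgroup.subset_closure ⟨r, t, G.isNeg_iff.2 ⟨hr, hp⟩, rfl⟩

theorem posUnipotent_le_of {K : Subgroup (GL D.Idx F)}
    (h : ∀ r < D.nroots, npos D ≤ r → ∀ t : F, G.X F r t ∈ K) : D.posUnipotent F ≤ K := by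
  refine (Subgroup.closure_le _).2 ?_
  rintro g ⟨r, t, hr, hg⟩
  exact G.eq_X_of_val hg ▸ h r (G.isPos_iff.1 hr).1 (G.isPos_iff.1 hr).2 t

theorem negUnipotent_le_of {K : Subgroup (GL D.Idx F)}
    (h : ∀ r < D.nroots, r < npos D → ∀ t : F, G.X F r t ∈ K) : D.negUnipotent F ≤ K := by
  refine (Subgroup.closure_le _).2 ?_
  rintro g ⟨r, t, hr, hg⟩
  exact G.eq_X_of_val hg ▸ h r (G.isNeg_iff.1 hr).1 (G.isNeg_iff.1 hr).2 t

theorem pos_sup_neg : D.posUnipotent F ⊔ D.negUnipotent F = D.group F := by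
  apply le_antisymm
  · exact sup_le (G.posUnipotent_le_of fun r hr _ t => G.X_mem_group hr t)
      (G.negUnipotent_le_of fun r hr _ t => G.X_mem_group hr t)
  · refine G.group_le_of fun r hr t => ?_
    by_cases hp : npos D ≤ r
    · exact Subgroup.mem_sup_left (G.X_mem_posUnipotent hr hp t)
    · exact Subgroup.mem_sup_right (G.X_mem_negUnipotent hr (by omega) t)

theorem Hg_mem {r : ℕ} (hr : r < D.nroots) {t : F} (ht : t ≠ 0) :
    G.Hg F r t ∈ D.diagonalSubgroup F :=
  Subgroup.subset_closure ⟨r, t, hr, ht, G.Hg_val hr t⟩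

theorem diagonal_le_of {K : Subgroup (GL D.Idx F)}
    (h : ∀ r < D.nroots, ∀ t : F, t ≠ 0 → G.Hg F r t ∈ K) : D.diagonalSubgroup F ≤ K := by
  refine (Subgroup.closure_le _).2 ?_
  rintro g ⟨r, t, hr, ht, hg⟩
  have : g = G.Hg F r t := Units.ext (hg.trans (G.Hg_val hr t).symm)
  exact this ▸ h r hr t ht

theorem tor_congr {c c' : ℕ → F} (h : ∀ i < D.rank, c i = c' i) (s : ℕ) :
    tor D T c s = tor D T c' s :=
  Finset.prod_congr rfl fun i hi => by rw [h i (Finset.mem_range.1 hi)]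

theorem tor_mul (c c' : ℕ → F) (s : ℕ) :
    tor D T c s * tor D T c' s = tor D T (fun i => c i * c' i) s := by
  rw [tor, tor, tor, ← Finset.prod_mul_distrib]
  exact Finset.prod_congr rfl fun i _ => (mul_zpow _ _ _).symm

theorem zpow_P_eq_tor {t : F} (ht : t ≠ 0) (r s : ℕ) :
    t ^ P D T r s = tor D T (fun i => t ^ T.c r i) s := by
  unfold P tor
  induction D.rank with
  | zero => simp
  | succ n ih => rw [Finset.sum_range_succ, Finset.prod_range_succ, zpow_add₀ ht, ih, zpow_mul]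

theorem tor_ne_zero {c : ℕ → F} (hc : ∀ i < D.rank, c i ≠ 0) (s : ℕ) : tor D T c s ≠ 0 :=
  Finset.prod_ne_zero_iff.2 fun i hi => zpow_ne_zero _ (hc i (Finset.mem_range.1 hi))

theorem isChar_tor {c : ℕ → F} (hc : ∀ i < D.rank, c i ≠ 0) : IsChar D T (tor D T c) where
  neg r hr := by
    rw [tor, tor, ← Finset.prod_mul_distrib]
    refine Finset.prod_eq_one fun i hi => ?_
    rw [G.A_ng hr (Finset.mem_range.1 hi), ← zpow_add₀ (hc i (Finset.mem_range.1 hi)),
      neg_add_cancel, zpow_zero]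
  chain r s m u M hr hs hm := by
    rw [tor, tor, tor, ← Finset.prod_pow, ← Finset.prod_mul_distrib]
    refine Finset.prod_congr rfl fun i hi => ?_
    have hi' := Finset.mem_range.1 hi
    rw [G.A_chain hi' hr hs hm, zpow_add₀ (hc i hi'), mul_comm ((m : ℤ) + 1), zpow_mul,
      ← zpow_natCast]
    push_cast
    rfl

/-- Every element of `H` is a torus element. -/
theorem exists_tor {g : GL D.Idx F} (hg : g ∈ D.diagonalSubgroup F) :
    ∃ c : ℕ → F, (∀ i, c i ≠ 0) ∧ (g : Matrix D.Idx D.Idx F) = dmat D (tor D T c) := by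
  induction hg using Subgroup.closure_induction with
  | mem x hx =>
    obtain ⟨r, t, hr, ht, hx⟩ := hx
    refine ⟨fun i => t ^ T.c r i, fun i => zpow_ne_zero _ ht, ?_⟩
    rw [hx, ← G.Hg_val hr, G.Hg_eq hr ht]
    exact dmat_congr fun s _ => G.zpow_P_eq_tor ht r s
  | one =>
    refine ⟨fun _ => 1, fun _ => one_ne_zero, ?_⟩
    rw [Units.val_one, ← dmat_one]
    exact dmat_congr fun s _ => by simp [tor]
  | mul x y _ _ hx hy =>
    obtain ⟨a, ha, hxa⟩ := hx
    obtain ⟨b, hb, hyb⟩ := hy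
    refine ⟨fun i => a i * b i, fun i => mul_ne_zero (ha i) (hb i), ?_⟩
    rw [Units.val_mul, hxa, hyb, dmat_mul]
    exact dmat_congr fun s _ => G.tor_mul a b s
  | inv x _ hx =>
    obtain ⟨a, ha, hxa⟩ := hx
    refine ⟨fun i => (a i)⁻¹, fun i => inv_ne_zero (ha i), ?_⟩
    refine Units.inv_eq_of_mul_eq_one_right ?_
    rw [hxa, dmat_mul, ← dmat_one]
    exact dmat_congr fun s _ => by
      rw [G.tor_mul, tor]
      exact Finset.prod_eq_one fun i _ => by rw [mul_inv_cancel₀ (ha i), one_zpow]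

theorem diagonal_comm {g h : GL D.Idx F} (hg : g ∈ D.diagonalSubgroup F)
    (hh : h ∈ D.diagonalSubgroup F) : g * h = h * g := by
  obtain ⟨a, -, ha⟩ := G.exists_tor hg
  obtain ⟨b, -, hb⟩ := G.exists_tor hh
  refine Units.ext ?_
  rw [Units.val_mul, Units.val_mul, ha, hb, dmat_mul, dmat_mul]
  exact dmat_congr fun s _ => mul_comm _ _

/-- A product of fundamental `h`'s. -/
theorem word_h_eq (c : ℕ → F) : ∀ (l : List ℕ), (∀ i ∈ l, i < D.rank ∧ c i ≠ 0) →
    D.wordMat F (l.flatMap fun i => D.hWord (D.simple i) (c i)) =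
      dmat D (fun s => (l.map fun i => c i ^ T.A i s).prod) := by
  intro l
  induction l with
  | nil => intro _; simp [ChevalleyDatum.wordMat, dmat_one]
  | cons i l ih =>
    intro hl
    have hi := hl i List.mem_cons_self
    have e : D.wordMat F ((i :: l).flatMap fun i => D.hWord (D.simple i) (c i)) =
        D.hMat F (D.simple i) (c i) * D.wordMat F (l.flatMap fun i => D.hWord (D.simple i) (c i)) := by
      simp [ChevalleyDatum.wordMat, ChevalleyDatum.hMat, List.map_append, List.prod_append]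
    rw [e, ih (fun j hj => hl j (List.mem_cons_of_mem _ hj)), G.simple_eq,
      ← G.Hg_val (G.sim_lt hi.1), G.Hg_eq (G.sim_lt hi.1) hi.2, dmat_mul]
    exact dmat_congr fun s _ => by simp [G.P_sim hi.1]

theorem word_h_tor (c : ℕ → F) (hc : ∀ i < D.rank, c i ≠ 0) :
    D.wordMat F ((List.range D.rank).flatMap fun i => D.hWord (D.simple i) (c i)) =
      dmat D (tor D T c) := by
  rw [G.word_h_eq c _ fun i hi => ⟨List.mem_range.1 hi, hc i (List.mem_range.1 hi)⟩]
  refine dmat_congr fun s _ => ?_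
  rw [tor, ← List.prod_toFinset _ List.nodup_range]
  exact Finset.prod_congr (by ext; simp) fun i _ => rfl

theorem diag_conj_X {g : GL D.Idx F} {χ : ℕ → F} (hg : (g : Matrix D.Idx D.Idx F) = dmat D χ)
    (hχ : IsChar D T χ) {r : ℕ} (hr : r < D.nroots) (t : F) :
    g * G.X F r t * g⁻¹ = G.X F r (χ r * t) := by
  rw [mul_inv_eq_iff_eq_mul]
  refine Units.ext ?_
  rw [Units.val_mul, Units.val_mul, hg]
  exact G.dmat_x hχ hr t

theorem Hg_conj_X {q r : ℕ} (hq : q < D.nroots) (hr : r < D.nroots) {c : F} (hc : c ≠ 0) (t : F) :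
    G.Hg F q c * G.X F r t * (G.Hg F q c)⁻¹ = G.X F r (c ^ P D T q r * t) :=
  G.diag_conj_X (G.Hg_eq hq hc) (G.isChar_P q hc) hr t

theorem Hg_mul {r : ℕ} (hr : r < D.nroots) {t u : F} (ht : t ≠ 0) (hu : u ≠ 0) :
    G.Hg F r t * G.Hg F r u = G.Hg F r (t * u) := by
  refine Units.ext ?_
  rw [Units.val_mul, G.Hg_eq hr ht, G.Hg_eq hr hu, G.Hg_eq hr (mul_ne_zero ht hu), dmat_mul]
  exact dmat_congr fun s _ => (mul_zpow _ _ _).symm

theorem ni_conj_X {i r : ℕ} (hi : i < D.rank) (hr : r < D.nroots) (t : F) :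
    G.ni F i * G.X F r t * (G.ni F i)⁻¹ = G.X F (T.w i r) ((T.eta i r : F) * t) := by
  rw [mul_inv_eq_iff_eq_mul]
  exact Units.ext (by simpa using G.ni_x hi hr t)

theorem ni_conj_Ng {i r : ℕ} (hi : i < D.rank) (hr : r < D.nroots) (t : F) :
    G.ni F i * G.Ng F r t * (G.ni F i)⁻¹ = G.Ng F (T.w i r) ((T.eta i r : F) * t) := by
  rw [mul_inv_eq_iff_eq_mul]
  exact Units.ext (G.ni_Ng hi hr t)

theorem ni_conj_Hg {i r : ℕ} (hi : i < D.rank) (hr : r < D.nroots) {t : F} (ht : t ≠ 0) :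
    G.ni F i * G.Hg F r t * (G.ni F i)⁻¹ = G.Hg F (T.w i r) t := by
  rw [mul_inv_eq_iff_eq_mul]
  refine Units.ext ?_
  rw [Units.val_mul, Units.val_mul, G.Hg_eq hr ht, G.Hg_eq (G.w_lt hi hr) ht, G.ni_dmat hi]
  congr 1
  exact dmat_congr fun s hs => by rw [← G.P_w hi hr (G.w_lt hi hs), G.w_w hi hs]

theorem ni_normalizer {i : ℕ} (hi : i < D.rank) :
    G.ni F i ∈ Subgroup.normalizer (D.diagonalSubgroup F : Set (GL D.Idx F)) := by
  have h1 : ∀ g ∈ D.diagonalSubgroup F, G.ni F i * g * (G.ni F i)⁻¹ ∈ D.diagonalSubgroup F := by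
    intro g hg
    induction hg using Subgroup.closure_induction with
    | mem x hx =>
      obtain ⟨r, t, hr, ht, hx⟩ := hx
      rw [show x = G.Hg F r t from Units.ext (hx.trans (G.Hg_val hr t).symm), G.ni_conj_Hg hi hr ht]
      exact G.Hg_mem (G.w_lt hi hr) ht
    | one => simp
    | mul x y _ _ hx hy =>
      have e : G.ni F i * (x * y) * (G.ni F i)⁻¹ =
          (G.ni F i * x * (G.ni F i)⁻¹) * (G.ni F i * y * (G.ni F i)⁻¹) := by group
      rw [e]; exact mul_mem hx hy
    | inv x _ hx =>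
      have e : G.ni F i * x⁻¹ * (G.ni F i)⁻¹ = (G.ni F i * x * (G.ni F i)⁻¹)⁻¹ := by group
      rw [e]; exact inv_mem hx
  rw [Subgroup.mem_normalizer_iff]
  intro g
  refine ⟨h1 g, fun h => ?_⟩
  have hsq : G.ni F i * G.ni F i ∈ D.diagonalSubgroup F := by
    have hp := G.sim_lt hi
    have e : G.ni F i * G.ni F i = (G.Hg F (sim D i) (-1))⁻¹ := by
      rw [Good.Hg, mul_inv_rev, G.Ng_inv, neg_neg]; rfl
    rw [e]
    exact inv_mem (G.Hg_mem hp (neg_ne_zero.2 one_ne_zero))
  have h2 := h1 _ h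
  have e : g = (G.ni F i * G.ni F i)⁻¹ *
      (G.ni F i * (G.ni F i * g * (G.ni F i)⁻¹) * (G.ni F i)⁻¹) * (G.ni F i * G.ni F i) := by group
  rw [e]
  exact mul_mem (mul_mem (inv_mem hsq) h2) hsq

/-- `N` is generated by `H` and the fundamental `n`'s. -/
theorem monomial_eq : D.monomialSubgroup F = D.diagonalSubgroup F ⊔
    Subgroup.closure {g | ∃ i < D.rank, g = G.ni F i} := by
  have key : ∀ r < D.nroots, ∀ {t : F}, t ≠ 0 → G.Ng F r t ∈ D.diagonalSubgroup F ⊔
      Subgroup.closure {g | ∃ i < D.rank, g = G.ni F i} := by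
    refine G.root_induction ?_ ?_
    · intro i hi t ht
      have e : G.Ng F (sim D i) t = G.Hg F (sim D i) t * G.ni F i := by
        rw [Good.Hg, mul_assoc]
        conv_lhs => rw [← mul_one (G.Ng F (sim D i) t)]
        congr 1
        rw [Good.ni, eq_comm, mul_eq_one_iff_eq_inv, G.Ng_inv]
      rw [e]
      exact mul_mem (Subgroup.mem_sup_left (G.Hg_mem (G.sim_lt hi) ht))
        (Subgroup.mem_sup_right (Subgroup.subset_closure ⟨i, hi, rfl⟩))
    · intro i r hi hr ih t ht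
      have he : (T.eta i r : F) ≠ 0 := by rcases T.eta_eq_or i r with h | h <;> simp [h]
      have hn : G.ni F i ∈ D.diagonalSubgroup F ⊔
          Subgroup.closure {g | ∃ i < D.rank, g = G.ni F i} :=
        Subgroup.mem_sup_right (Subgroup.subset_closure ⟨i, hi, rfl⟩)
      have h := mul_mem (mul_mem hn (ih (mul_ne_zero he ht))) (inv_mem hn)
      rw [G.ni_conj_Ng hi hr, ← mul_assoc, ← pow_two, G.eta_sq, one_mul] at h
      exact h
  apply le_antisymm
  · refine sup_le le_sup_left ((Subgroup.closure_le _).2 ?_)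
    rintro g ⟨r, hr, hg⟩
    rw [show g = G.Ng F r 1 from Units.ext (hg.trans (G.Ng_val hr 1).symm)]
    exact key r hr one_ne_zero
  · refine sup_le le_sup_left ((Subgroup.closure_le _).2 ?_)
    rintro g ⟨i, hi, rfl⟩
    exact Subgroup.mem_sup_right
      (Subgroup.subset_closure ⟨sim D i, G.sim_lt hi, G.Ng_val (G.sim_lt hi) 1⟩)

theorem ni_mem_monomial {i : ℕ} (hi : i < D.rank) : G.ni F i ∈ D.monomialSubgroup F := by
  rw [G.monomial_eq]
  exact Subgroup.mem_sup_right (Subgroup.subset_closure ⟨i, hi, rfl⟩)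

omit G in
theorem diagonal_le_monomial : D.diagonalSubgroup F ≤ D.monomialSubgroup F := le_sup_left

theorem monomial_le_normalizer : D.monomialSubgroup F ≤
    Subgroup.normalizer (D.diagonalSubgroup F : Set (GL D.Idx F)) := by
  rw [G.monomial_eq]
  refine sup_le Subgroup.le_normalizer ((Subgroup.closure_le _).2 ?_)
  rintro g ⟨i, hi, rfl⟩
  exact G.ni_normalizer hi

theorem diagonal_normal :
    ((D.diagonalSubgroup F).subgroupOf (D.monomialSubgroup F)).Normal := by
  constructor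
  intro h hh n
  rw [Subgroup.mem_subgroupOf] at hh ⊢
  exact ((Subgroup.mem_normalizer_iff.1 (G.monomial_le_normalizer n.2)) h).1 hh

theorem Hg_mem_group {r : ℕ} (hr : r < D.nroots) (t : F) : G.Hg F r t ∈ D.group F := by
  have hn : ∀ t : F, G.Ng F r t ∈ D.group F := fun t =>
    mul_mem (mul_mem (G.X_mem_group hr t) (G.X_mem_group (G.ng_lt hr) _)) (G.X_mem_group hr t)
  exact mul_mem (hn t) (hn _)

theorem ni_mem_group {i : ℕ} (hi : i < D.rank) : G.ni F i ∈ D.group F :=
  mul_mem (mul_mem (G.X_mem_group (G.sim_lt hi) 1) (G.X_mem_group (G.ng_lt (G.sim_lt hi)) _))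
    (G.X_mem_group (G.sim_lt hi) 1)

theorem borel_le_group : D.borelSubgroup F ≤ D.group F :=
  sup_le (G.posUnipotent_le_of fun r hr _ t => G.X_mem_group hr t)
    (G.diagonal_le_of fun r hr t _ => G.Hg_mem_group hr t)

theorem monomial_le_group : D.monomialSubgroup F ≤ D.group F := by
  rw [G.monomial_eq]
  refine sup_le (G.diagonal_le_of fun r hr t _ => G.Hg_mem_group hr t) ((Subgroup.closure_le _).2 ?_)
  rintro g ⟨i, hi, rfl⟩
  exact G.ni_mem_group hi

theorem X_mem_borel_sup_monomial : ∀ r < D.nroots, ∀ t : F,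
    G.X F r t ∈ D.borelSubgroup F ⊔ D.monomialSubgroup F := by
  refine G.root_induction ?_ ?_
  · intro i hi t
    exact Subgroup.mem_sup_left
      (Subgroup.mem_sup_left (G.X_mem_posUnipotent (G.sim_lt hi) (G.sim_pos hi) t))
  · intro i r hi hr ih t
    have hn : G.ni F i ∈ D.borelSubgroup F ⊔ D.monomialSubgroup F :=
      Subgroup.mem_sup_right (G.ni_mem_monomial hi)
    have h := mul_mem (mul_mem hn (ih ((T.eta i r : F) * t))) (inv_mem hn)
    rw [G.ni_conj_X hi hr, ← mul_assoc, ← pow_two, G.eta_sq, one_mul] at h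
    exact h

theorem borel_sup_monomial : D.borelSubgroup F ⊔ D.monomialSubgroup F = D.group F :=
  le_antisymm (sup_le G.borel_le_group G.monomial_le_group)
    (G.group_le_of G.X_mem_borel_sup_monomial)

theorem Ng_conj_X_self : ∀ r < D.nroots, ∀ t : F,
    G.Ng F r 1 * G.X F r t * (G.Ng F r 1)⁻¹ = G.X F (ng D r) (-t) := by
  refine G.root_induction ?_ ?_
  · intro i hi t
    have h := G.ni_conj_X (F := F) hi (G.sim_lt hi) t
    rw [G.w_sim hi, G.eta_sim hi, Int.cast_neg, Int.cast_one, neg_one_mul] at h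
    exact h
  · intro i r hi hr ih t
    set n := G.ni F i with hn
    have e2 := G.eta_sq (F := F) i r
    have hN : n * G.Ng F r (T.eta i r : F) * n⁻¹ = G.Ng F (T.w i r) 1 := by
      rw [G.ni_conj_Ng hi hr, ← pow_two, e2]
    have hX : n * G.X F r ((T.eta i r : F) * t) * n⁻¹ = G.X F (T.w i r) t := by
      rw [G.ni_conj_X hi hr, ← mul_assoc, ← pow_two, e2, one_mul]
    rw [← hN, ← hX]
    have key : G.Ng F r (T.eta i r : F) * G.X F r ((T.eta i r : F) * t) *
        (G.Ng F r (T.eta i r : F))⁻¹ = G.X F (ng D r) (-((T.eta i r : F) * t)) := by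
      rcases T.eta_eq_or i r with h | h
      · rw [h, Int.cast_one]; exact ih _
      · rw [h, Int.cast_neg, Int.cast_one]
        have hh : G.Ng F r (-1 : F) = G.Hg F r (-1) * G.Ng F r 1 := by
          rw [Good.Hg, mul_assoc]
          conv_lhs => rw [← mul_one (G.Ng F r (-1))]
          congr 1
          rw [eq_comm, mul_eq_one_iff_eq_inv, G.Ng_inv]
        rw [hh]
        calc _ = G.Hg F r (-1) * (G.Ng F r 1 * G.X F r (-1 * t) * (G.Ng F r 1)⁻¹) *
            (G.Hg F r (-1))⁻¹ := by group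
          _ = _ := by
            rw [ih, G.Hg_conj_X hr (G.ng_lt hr) (neg_ne_zero.2 one_ne_zero), G.P_ng_right hr,
              G.P_self hr]
            congr 1
            norm_num
    have e : n * G.Ng F r (T.eta i r : F) * n⁻¹ * (n * G.X F r ((T.eta i r : F) * t) * n⁻¹) *
        (n * G.Ng F r (T.eta i r : F) * n⁻¹)⁻¹ = n * (G.Ng F r (T.eta i r : F) *
          G.X F r ((T.eta i r : F) * t) * (G.Ng F r (T.eta i r : F))⁻¹) * n⁻¹ := by group
    rw [e, key, G.ni_conj_X hi (G.ng_lt hr), G.w_ng hi hr, G.eta_ng hi hr]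
    congr 1
    linear_combination (-t) * e2

end Good

end Cfsg.Agent.Lib.Chev
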