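import Cfsg.Agent.Lib.Chev.DataG2
import Cfsg.Agent.Lib.Chev.DataB2
import Cfsg.Agent.Lib.Chev.DataD4
import Cfsg.Agent.Lib.Chev.DataF4
import Cfsg.Agent.Lib.Chev.DataE6
import Cfsg.Agent.Lib.Chev.DataE7
import Cfsg.Agent.Lib.Chev.DataE8
import Cfsg.Agent.Lib.Chev.Subgroups

/-! All seven tabulated data are good. -/

set_option autoImplicit false

namespace Cfsg.Agent.Lib.Chev

open Cfsg.Lie

theorem exists_good {D : ChevalleyDatum}
    (hD : D ∈ [chevG2, chevB2, chevD4, chevF4, chevE6, chevE7, chevE8]) : ∃ T, Good D T := by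
  simp only [List.mem_cons, List.not_mem_nil, or_false] at hD
  rcases hD with rfl | rfl | rfl | rfl | rfl | rfl | rfl
  exacts [⟨_, goodG2⟩, ⟨_, goodB2⟩, ⟨_, goodD4⟩, ⟨_, goodF4⟩, ⟨_, goodE6⟩, ⟨_, goodE7⟩, ⟨_, goodE8⟩]

end Cfsg.Agent.Lib.Chev
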