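import Cfsg.Agent.Lib.Chev.DefectZero

/-!
The Steinberg character is the only character of defect zero.
-/

set_option autoImplicit false
set_option linter.unusedSectionVars false

namespace Cfsg.Agent.Lib.Chev

open Cfsg Cfsg.Lie
open Cfsg.Agent.Lib Cfsg.Agent.Lib.Blocks Cfsg.Agent.Lib.Characters
open scoped ComplexConjugate Matrix Classical

theorem classInner_fixed_right {H : Type*} [Group H] [Fintype H] (K : Subgroup H) {χ : H → ℂ}
    (hχ : ∀ g x : H, χ (x * g * x⁻¹) = χ g) :
    classInner χ (Cfsg.fixedPointCharacter K) = (Nat.card K : ℂ)⁻¹ * ∑ a : K, χ a := by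
  unfold classInner
  simp only [Flag.conj_fixedPointCharacter]
  have hfix : ∀ g : H, Cfsg.fixedPointCharacter K g =
      ∑ c : H ⧸ K, if g • c = c then (1 : ℂ) else 0 := by
    intro g
    rw [Finset.sum_boole, Cfsg.fixedPointCharacter, Nat.card_eq_fintype_card, Nat.cast_inj]
    exact Fintype.card_subtype _
  have hpt : ∀ c : H ⧸ K, ∑ g : H, χ g * (if g • c = c then (1 : ℂ) else 0) = ∑ a : K, χ a := by
    intro c
    simp only [mul_ite, mul_one, mul_zero]
    rw [← Finset.sum_filter]
    symm
    refine Finset.sum_bij (fun (a : K) _ => c.out * a * c.out⁻¹) ?_ ?_ ?_ ?_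
    · intro a _
      simp only [Finset.mem_filter, Finset.mem_univ, true_and]
      rw [show (c.out * (a : H) * c.out⁻¹) • c = (c.out * (a : H) * c.out⁻¹) •
        (QuotientGroup.mk c.out : H ⧸ K) from congrArg _ (Quotient.out_eq c).symm]
      conv_rhs => rw [← Quotient.out_eq c]
      show QuotientGroup.mk (c.out * a * c.out⁻¹ * c.out) = QuotientGroup.mk c.out
      rw [inv_mul_cancel_right]
      exact QuotientGroup.eq.2 (by simp)
    · intro a _ b _ h
      exact Subtype.ext (mul_left_cancel (mul_right_cancel h))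
    · intro g hg
      simp only [Finset.mem_filter, Finset.mem_univ, true_and] at hg
      rw [← Quotient.out_eq c] at hg
      change QuotientGroup.mk (g * c.out) = QuotientGroup.mk c.out at hg
      have h := QuotientGroup.eq.1 hg.symm
      exact ⟨⟨_, h⟩, Finset.mem_univ _, by simp [mul_assoc]⟩
    · intro a _
      rw [hχ]
  have hsum : ∑ g : H, χ g * Cfsg.fixedPointCharacter K g = ∑ _c : H ⧸ K, ∑ a : K, χ a := by
    simp only [hfix, Finset.mul_sum]
    rw [Finset.sum_comm]
    exact Finset.sum_congr rfl fun c _ => hpt c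
  rw [hsum, Finset.sum_const, Finset.card_univ, nsmul_eq_mul, ← Nat.card_eq_fintype_card,
    Subgroup.card_eq_card_quotient_mul_card_subgroup K, Nat.cast_mul, mul_inv]
  have h0 : (Nat.card (H ⧸ K) : ℂ) ≠ 0 := Nat.cast_ne_zero.2 Nat.card_pos.ne'
  field_simp

variable {D : ChevalleyDatum} {T : Tables} {F : Type*} [Field F] [Fintype F]

theorem Good.eq_steinberg_of_defect_zero (G : Good D T) (hP : chkPar D T = true) (p : ℕ)
    [Fact p.Prime] [CharP F p] (χ : ↥(D.group F) → ℂ)
    (hχ : Cfsg.IsIrrCharacter ↥(D.group F) χ)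
    (hdeg : ∃ d : ℕ, χ 1 = (d : ℂ) ∧ p ^ (Nat.card ↥(D.group F)).factorization p ∣ d) :
    χ = D.steinbergCharacter F := by
  haveI := Fintype.ofFinite ↥(D.group F)
  haveI := Fintype.ofFinite (G.bnPair F).S
  haveI := Fintype.ofFinite (G.W0 F)
  obtain ⟨M, hM⟩ := exists_isPModular (Fact.out : p.Prime)
  haveI := isPrime_of_isPModular hM
  haveI := resField_charP hM
  obtain ⟨d, hd, hdiv⟩ := hdeg
  obtain ⟨n, σ, hn, hσ, c, hc, hschur⟩ := BNPair.DefectZero.exists_schur_model hM hχ hd hdiv
  haveI : Nonempty (Fin n) := ⟨⟨0, hn⟩⟩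
  set ρ := redModel σ with hρ
  obtain ⟨v, hv0, hvU, hline, hvH, hvs, z, hz⟩ :=
    G.defectZero_line (F := F) hP p ρ hc hschur
  have L := G.lieData (F := F) hP p
  set ι := (locSubring M).subtype with hι
  set S : Subgroup ↥(D.group F) → Matrix (Fin n) (Fin n) (locSubring M) :=
    fun K => ∑ a : K, σ (a : ↥(D.group F)) with hS
  have htr : ∀ K : Subgroup ↥(D.group F), ∑ a : K, χ a = ((S K).map ι).trace := by
    intro K
    simp only [← hσ, hS]
    rw [← Matrix.trace_sum]
    congr 1
    exact (map_sum ι.mapMatrix (fun a : K => σ (a : ↥(D.group F))) Finset.univ).symm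
  have hmul : ∀ K : Subgroup ↥(D.group F), ∀ a ∈ K, σ a * S K = S K := by
    intro K a ha
    simp only [hS, Finset.mul_sum, ← map_mul]
    exact Fintype.sum_equiv (Equiv.mulLeft (⟨a, ha⟩ : K)) _ _ fun _ => rfl
  -- the parabolic subgroups other than the Borel subgroup have no fixed vector
  have hpar : ∀ J : Finset (G.bnPair F).S, J.Nonempty →
      classInner χ (Cfsg.fixedPointCharacter (BNPair.par (G.bnPair F) (↑J : Set (G.bnPair F).S))) =
        0 := by
    intro J hJ
    set K := BNPair.par (G.bnPair F) (↑J : Set (G.bnPair F).S) with hK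
    rw [classInner_fixed_right K fun g x => IsCharacter.conj_apply (IsIrrCharacter.isCharacter hχ) g x, htr]
    suffices h : S K = 0 by rw [h]; simp
    by_contra hne
    obtain ⟨j, hj⟩ : ∃ j, (fun i => S K i j) ≠ 0 := by
      by_contra h
      push Not at h
      exact hne (by ext i j; exact congrArg Subtype.val (congrFun (h j) i))
    set x : Fin n → locSubring M := fun i => S K i j with hx
    have hfix : ∀ a ∈ K, σ a *ᵥ x = x := fun a ha => funext fun i =>
      congrFun (congrFun (hmul K a ha) i) j
    obtain ⟨i₀, hi₀, hloc⟩ := exists_scaling hM (fun i => (x i : ℂ))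
      (fun i => isAlgebraic_of_memLocalRing (x i).2) (by
        by_contra h
        push Not at h
        exact hj (funext fun i => Subtype.ext (h i)))
    set y : Fin n → locSubring M := fun i => ⟨(x i₀ : ℂ)⁻¹ * x i, hloc i⟩ with hy
    have hxy : x = x i₀ • y := funext fun i => Subtype.ext (by
      show (x i : ℂ) = (x i₀ : ℂ) * ((x i₀ : ℂ)⁻¹ * x i)
      rw [mul_inv_cancel_left₀ hi₀])
    set y' : Fin n → ResField M := fun i => red M (y i) with hy'
    have hyfix : ∀ a ∈ K, ρ a y' = y' := by
      intro a ha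
      have h := hfix a ha
      rw [hxy, Matrix.mulVec_smul] at h
      have h' : σ a *ᵥ y = y := funext fun i =>
        mul_left_cancel₀ (fun h0 => hi₀ (congrArg Subtype.val h0)) (congrFun h i)
      funext i
      show ((σ a).map (red M) *ᵥ y') i = red M (y i)
      conv_rhs => rw [← h']
      exact (RingHom.map_mulVec (red M) (σ a) y i).symm
    have hy0 : y' ≠ 0 := by
      intro h
      have h1 := congrFun h i₀
      simp only [hy', Pi.zero_apply] at h1
      rw [show y i₀ = 1 from Subtype.ext (inv_mul_cancel₀ hi₀), map_one] at h1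
      exact one_ne_zero h1
    obtain ⟨s, hs⟩ := hJ
    obtain ⟨i, rfl⟩ := (G.sEquiv F).surjective s
    obtain ⟨a, ha⟩ := hline y' fun u hu => hyfix u (BNPair.B_le_par (G.bnPair F) _ (L.U_le hu))
    have hmem : ((G.sEquiv F i : (G.bnPair F).S) : ↥(D.group F)) ∈ K :=
      Subgroup.mem_sup_right (Subgroup.subset_closure ⟨_, hs, rfl⟩)
    have h1 := hyfix _ hmem
    rw [ha, map_smul] at h1
    have ha0 : a ≠ 0 := fun h => hy0 (by rw [ha, h, zero_smul])
    exact hvs i (smul_right_injective _ ha0 h1)
  -- the Borel subgroup has one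
  have hB : classInner χ (Cfsg.fixedPointCharacter
      (BNPair.par (G.bnPair F) (↑(∅ : Finset (G.bnPair F).S) : Set (G.bnPair F).S))) ≠ 0 := by
    have hpe : BNPair.par (G.bnPair F) (∅ : Set (G.bnPair F).S) = (G.bnPair F).B := by
      simp [BNPair.par, Cfsg.BNPair.parabolic]
    rw [Finset.coe_empty, hpe,
      classInner_fixed_right _ fun g x => IsCharacter.conj_apply (IsIrrCharacter.isCharacter hχ) g x, htr]
    set K := (G.bnPair F).B with hK
    refine mul_ne_zero (inv_ne_zero (Nat.cast_ne_zero.2 Nat.card_pos.ne')) fun h0 => ?_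
    have hsq : S K * S K = (Nat.card K : locSubring M) • S K := by
      conv_lhs => arg 1; rw [hS]
      rw [Finset.sum_mul, Finset.sum_congr rfl fun (a : K) _ => hmul K a a.2, Finset.sum_const,
        Finset.card_univ, Nat.card_eq_fintype_card, Nat.cast_smul_eq_nsmul]
    have hm : (S K).map ι * (S K).map ι = (Nat.card K : ℂ) • (S K).map ι := by
      rw [← Matrix.map_mul, hsq]
      ext i j
      simp [hι]
    have hidem : IsIdempotentElem (Matrix.toLin' ((Nat.card K : ℂ)⁻¹ • (S K).map ι)) := by
      show Matrix.toLin' _ * Matrix.toLin' _ = _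
      rw [Module.End.mul_eq_comp, ← Matrix.toLin'_mul, Matrix.smul_mul, Matrix.mul_smul, hm,
        smul_smul, smul_smul, inv_mul_cancel_right₀ (Nat.cast_ne_zero.2 Nat.card_pos.ne')]
    have hE := LinearMap.IsIdempotentElem.eq_zero_of_trace_eq_zero hidem (by
      rw [Matrix.trace_toLin'_eq, Matrix.trace_smul, h0, smul_zero])
    have hS0 : S K = 0 := by
      have h1 : (Nat.card K : ℂ)⁻¹ • (S K).map ι = 0 :=
        Matrix.toLin'.injective (hE.trans (map_zero _).symm)
      rw [smul_eq_zero] at h1
      have h2 := h1.resolve_left (inv_ne_zero (Nat.cast_ne_zero.2 Nat.card_pos.ne'))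
      ext i j
      exact congrFun (congrFun h2 i) j
    have hzero : BNPair.DefectZero.sumOp ρ K z = 0 := by
      have h1 : BNPair.DefectZero.sumOp ρ K = Matrix.toLinAlgEquiv' ((S K).map (red M)) := by
        have h2 : (S K).map (red M) = ∑ a : K, (σ (a : ↥(D.group F))).map (red M) :=
          map_sum (red M).mapMatrix _ _
        rw [h2, map_sum]
        rfl
      rw [h1, hS0]
      simp
    have hUle : (D.posUnipotent F).subgroupOf (D.group F) ≤ K := L.U_le
    obtain ⟨a, ha⟩ := hline (BNPair.DefectZero.sumOp ρ _ z)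
      fun u hu => BNPair.DefectZero.fix_sumOp ρ hu z
    have hbv : ∀ b ∈ K, ρ b v = v := by
      intro b hb
      obtain ⟨u, hu, h, hh, rfl⟩ := L.borel b hb
      rw [G.torus_eq] at hh
      rw [BNPair.DefectZero.rho_mul, hvH h hh, hvU u hu]
    rw [BNPair.DefectZero.sumOp_coset ρ hUle, ha] at hzero
    simp only [map_smul, hbv _ (SetLike.coe_mem _)] at hzero
    rw [Finset.sum_const, Finset.card_univ, ← Nat.card_eq_fintype_card,
      ← Nat.cast_smul_eq_nsmul (ResField M), smul_smul, smul_eq_zero] at hzero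
    rcases mul_eq_zero.1 (hzero.resolve_right hv0) with h1 | h1
    · have h2 := Subgroup.card_eq_card_quotient_mul_card_subgroup
        (((D.posUnipotent F).subgroupOf (D.group F)).subgroupOf K)
      rw [Nat.card_congr (Subgroup.subgroupOfEquivOfLe hUle).toEquiv, hK, L.card_B, mul_comm] at h2
      rw [← Nat.eq_of_mul_eq_mul_right Nat.card_pos h2] at h1
      exact L.torus ((CharP.cast_eq_zero_iff (ResField M) p _).1 h1)
    · exact hz (by rw [ha, h1, zero_smul])
  by_contra hne
  have hirr := G.steinberg_isIrr (F := F)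
  have h := IsIrrCharacter.classInner_ne hχ hirr hne
  rw [G.steinberg_eq, BNPair.stein_eq_sum, classInner_sum_right, Finset.sum_eq_single ∅] at h
  · exact hB (by simpa [classInner_smul_right] using h)
  · intro J _ hJ
    rw [classInner_smul_right, hpar J (Finset.nonempty_iff_ne_empty.2 hJ), mul_zero]
  · simp

end Cfsg.Agent.Lib.Chev
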