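import Cfsg.Agent.Lib.Chev.Weyl

/-!
The Weyl group as a set of maps of the roots, and its length generating function computed along the
chain of standard parabolic subgroups from certified lists of coset representatives.
-/

set_option autoImplicit false

namespace Cfsg.Agent.Lib.Chev

open Cfsg.Lie

/-- A coset representative: images of the fundamental roots, a parent with the letter leading from
it, the positive root sent by the parent to that letter's root, the length, and the cosets (or,
shifted by the number of cosets, the right letters) reached by the left letters. -/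
structure Coset where
  img : List ℕ
  par : ℕ
  letter : ℕ
  wit : ℕ
  len : ℕ
  mv : List ℕ

/-- The entry of a list of cosets. -/
def cget (C : List Coset) (m : ℕ) : Coset := C.getD m ⟨[], 0, 0, 0, 0, []⟩

/-- Positive roots have nonnegative coefficients. -/
def chkSign (D : ChevalleyDatum) (T : Tables) : Bool :=
  allLt D.nroots fun r => decide (r < npos D) || allLt D.rank fun x => decide (0 ≤ T.k x r)

/-- One step of the chain: from the letters below `k` to the letters up to `k`. -/
def chkStep (D : ChevalleyDatum) (T : Tables) (k : ℕ) (C : List Coset) : Bool :=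
  decide (k < D.rank) && decide (0 < C.length) &&
  ((cget C 0).img == (List.range D.rank).map (sim D)) && ((cget C 0).len == 0) &&
  allLt C.length (fun m =>
    let c := cget C m
    decide ((c.img).length = D.rank) &&
    allLt D.rank (fun j => decide (c.img.getD j 0 < D.nroots)) &&
    allLt k (fun j => decide (npos D ≤ c.img.getD j 0)) &&
    (decide (m = 0) ||
      (decide (c.par < m) && decide (c.letter ≤ k) && decide (c.wit < D.nroots) &&
        decide (npos D ≤ c.wit) && ((cget C c.par).len + 1 == c.len) &&
        (c.img == (cget C c.par).img.map (T.w c.letter)) &&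
        allLt D.rank (fun x => T.k x (sim D c.letter) ==
          isum D.rank (fun j => T.k j c.wit * T.k x ((cget C c.par).img.getD j 0))))) &&
    allLt (k + 1) (fun i =>
      let t := c.mv.getD i 0
      if t < C.length then c.img.map (T.w i) == (cget C t).img
      else decide (t - C.length < k) && allLt D.rank (fun j => allLt D.rank fun x =>
        T.k x (T.w i (c.img.getD j 0)) == T.k x (c.img.getD j 0) -
          T.A (t - C.length) (sim D j) * T.k x (c.img.getD (t - C.length) 0)))) &&
  allLt C.length (fun m => allLt m fun m' => (cget C m).img != (cget C m').img)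

variable {D : ChevalleyDatum} {T : Tables}

/-- A word in the letters below `k`. -/
def IsWk (k : ℕ) (l : List ℕ) : Prop := ∀ i ∈ l, i < k

theorem IsWk.isW {k : ℕ} {l : List ℕ} (h : IsWk k l) (hk : k ≤ D.rank) : IsW D l :=
  fun i hi => lt_of_lt_of_le (h i hi) hk

theorem IsWk.append {k : ℕ} {l l' : List ℕ} (h : IsWk k l) (h' : IsWk k l') : IsWk k (l ++ l') :=
  fun i hi => (List.mem_append.1 hi).elim (h i) (h' i)

theorem IsWk.reverse {k : ℕ} {l : List ℕ} (h : IsWk k l) : IsWk k l.reverse :=
  fun i hi => h i (List.mem_reverse.1 hi)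

theorem IsWk.mono {k k' : ℕ} {l : List ℕ} (h : IsWk k l) (hk : k ≤ k') : IsWk k' l :=
  fun i hi => lt_of_lt_of_le (h i hi) hk

/-- The map of the roots induced by a word, as a map of `Fin`. -/
def IsFun (D : ChevalleyDatum) (T : Tables) (l : List ℕ) (f : Fin D.nroots → Fin D.nroots) : Prop :=
  ∀ s, (f s).val = wl T l s.val

open Classical in
/-- The maps of the roots given by the words in the letters below `k`. -/
noncomputable def wset (D : ChevalleyDatum) (T : Tables) (k : ℕ) :
    Finset (Fin D.nroots → Fin D.nroots) :=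
  Finset.univ.filter fun f => ∃ l, IsWk k l ∧ IsFun D T l f

/-- The number of positive roots made negative. -/
def numInv (D : ChevalleyDatum) (f : Fin D.nroots → Fin D.nroots) : ℕ :=
  (Finset.univ.filter fun s : Fin D.nroots => npos D ≤ s.val ∧ (f s).val < npos D).card

/-- The length generating function of the parabolic subgroup of the letters below `k`. -/
noncomputable def pW (D : ChevalleyDatum) (T : Tables) (k : ℕ) (q : ℕ) : ℕ :=
  ∑ f ∈ wset D T k, q ^ numInv D f

theorem mem_wset {k : ℕ} {f : Fin D.nroots → Fin D.nroots} :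
    f ∈ wset D T k ↔ ∃ l, IsWk k l ∧ IsFun D T l f := by
  simp [wset]

namespace Good

variable (G : Good D T)
include G

/-- The map of the roots of a valid word. -/
def wfun {l : List ℕ} (hl : IsW D l) : Fin D.nroots → Fin D.nroots :=
  fun s => ⟨wl T l s.val, G.wl_lt hl s.isLt⟩

theorem isFun_wfun {l : List ℕ} (hl : IsW D l) : IsFun D T l (G.wfun hl) := fun _ => rfl

omit G in
theorem numInv_eq {l : List ℕ} {f : Fin D.nroots → Fin D.nroots} (h : IsFun D T l f) :
    numInv D f = (invSet D T l).card := by
  unfold numInv invSet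
  refine Finset.card_bij (fun s _ => s.val) (fun s hs => ?_) (fun a _ b _ e => Fin.ext e)
    (fun b hb => ?_)
  · simp only [Finset.mem_filter, Finset.mem_univ, true_and] at hs
    simp only [Finset.mem_filter, Finset.mem_range]
    exact ⟨s.isLt, hs.1, h s ▸ hs.2⟩
  · simp only [Finset.mem_filter, Finset.mem_range] at hb
    exact ⟨⟨b, hb.1⟩, by simp [h ⟨b, hb.1⟩, hb.2], rfl⟩

theorem k_wl_sum : ∀ {l : List ℕ}, IsW D l → ∀ {s x : ℕ}, s < D.nroots → x < D.rank →
    T.k x (wl T l s) = ∑ c ∈ Finset.range D.rank, T.k c s * T.k x (wl T l (sim D c))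
  | [], _, s, x, _, hx => by
    simp only [wl]
    rw [Finset.sum_eq_single x]
    · rw [G.k_sim hx hx, if_pos rfl, mul_one]
    · intro c hc hne
      rw [G.k_sim (Finset.mem_range.1 hc) hx, if_neg (Ne.symm hne), mul_zero]
    · intro h; exact absurd (Finset.mem_range.2 hx) h
  | i :: l, hl, s, x, hs, hx => by
    have hl' := hl.tail.2
    have hi := hl.tail.1
    have hs' := G.wl_lt hl' hs
    simp only [wl]
    rw [G.k_w hi hs' hx]
    have hA : T.A i (wl T l s) =
        ∑ c ∈ Finset.range D.rank, T.k c s * T.A i (wl T l (sim D c)) := by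
      rw [G.A_linear hi hs']
      rw [Finset.sum_congr rfl (fun m hm => by
        rw [k_wl_sum hl' hs (Finset.mem_range.1 hm), Finset.sum_mul])]
      rw [Finset.sum_comm]
      refine Finset.sum_congr rfl fun c hc => ?_
      rw [G.A_linear hi (G.wl_lt hl' (G.sim_lt (Finset.mem_range.1 hc))), Finset.mul_sum]
      exact Finset.sum_congr rfl fun m _ => by ring
    rw [k_wl_sum hl' hs hx]
    have e : ∀ c ∈ Finset.range D.rank, T.k c s * T.k x (T.w i (wl T l (sim D c))) =
        T.k c s * T.k x (wl T l (sim D c)) -
          (if x = i then T.k c s * T.A i (wl T l (sim D c)) else 0) := fun c hc => by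
      rw [G.k_w hi (G.wl_lt hl' (G.sim_lt (Finset.mem_range.1 hc))) hx, mul_sub, mul_ite, mul_zero]
    rw [Finset.sum_congr rfl e, Finset.sum_sub_distrib]
    by_cases h : x = i
    · simp [h, hA]
    · simp [h]

theorem wl_eq_of_simples {l l' : List ℕ} (hl : IsW D l) (hl' : IsW D l')
    (h : ∀ j < D.rank, wl T l (sim D j) = wl T l' (sim D j)) {s : ℕ} (hs : s < D.nroots) :
    wl T l s = wl T l' s :=
  G.eq_of_k_eq (G.wl_lt hl hs) (G.wl_lt hl' hs) fun x hx => by
    rw [G.k_wl_sum hl hs hx, G.k_wl_sum hl' hs hx]
    exact Finset.sum_congr rfl fun c hc => by rw [h c (Finset.mem_range.1 hc)]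

theorem k_wl_high : ∀ {l : List ℕ} {k : ℕ}, IsWk k l → k ≤ D.rank → ∀ {s x : ℕ}, s < D.nroots →
    k ≤ x → x < D.rank → T.k x (wl T l s) = T.k x s
  | [], _, _, _, _, _, _, _, _ => rfl
  | i :: l, k, hl, hk, s, x, hs, hkx, hx => by
    have hi : i < k := hl i List.mem_cons_self
    have hl' : IsWk k l := fun j hj => hl j (List.mem_cons_of_mem _ hj)
    simp only [wl]
    rw [G.k_w (by omega) (G.wl_lt (hl'.isW hk) hs) hx, if_neg (by omega), sub_zero,
      k_wl_high hl' hk hs hkx hx]

omit G in
theorem k_nonneg (hS : chkSign D T = true) {s x : ℕ} (hs : s < D.nroots) (hp : npos D ≤ s)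
    (hx : x < D.rank) : 0 ≤ T.k x s := by
  have := allLt_eq_true hS s hs
  simp only [Bool.or_eq_true, decide_eq_true_eq] at this
  rcases this with h | h
  · omega
  · simpa using allLt_eq_true h x hx

theorem k_nonpos (hS : chkSign D T = true) {s x : ℕ} (hs : s < D.nroots) (hp : s < npos D)
    (hx : x < D.rank) : T.k x s ≤ 0 := by
  have := k_nonneg hS (G.ng_lt hs) ((G.ng_pos_iff hs).2 hp) hx
  rw [G.k_ng hs hx] at this
  omega

theorem pos_of_k_nonneg (hS : chkSign D T = true) {s : ℕ} (hs : s < D.nroots)
    (h : ∀ x < D.rank, 0 ≤ T.k x s) : npos D ≤ s := by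
  by_contra hcon
  have h0 : ∀ x < D.rank, T.k x s = 0 := fun x hx =>
    le_antisymm (G.k_nonpos hS hs (by omega) hx) (h x hx)
  have : ng D s = s := G.eq_of_k_eq (G.ng_lt hs) hs fun x hx => by
    rw [G.k_ng hs hx, h0 x hx, neg_zero]
  exact G.ng_ne hs this

/-- A word keeping the fundamental roots below `k` positive keeps their positive span positive. -/
theorem pos_of_low (hS : chkSign D T = true) {d : List ℕ} {k s : ℕ} (hd : IsW D d)
    (hdk : ∀ j < k, npos D ≤ wl T d (sim D j)) (hs : s < D.nroots) (hp : npos D ≤ s)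
    (hlow : ∀ x, k ≤ x → x < D.rank → T.k x s = 0) : npos D ≤ wl T d s := by
  refine G.pos_of_k_nonneg hS (G.wl_lt hd hs) fun x hx => ?_
  rw [G.k_wl_sum hd hs hx]
  refine Finset.sum_nonneg fun c hc => ?_
  have hc' := Finset.mem_range.1 hc
  by_cases hck : c < k
  · exact mul_nonneg (k_nonneg hS hs hp hc')
      (k_nonneg hS (G.wl_lt hd (G.sim_lt hc')) (hdk c hck) hx)
  · rw [hlow c (by omega) hc', zero_mul]

theorem neg_of_low (hS : chkSign D T = true) {d : List ℕ} {k s : ℕ} (hd : IsW D d)
    (hdk : ∀ j < k, npos D ≤ wl T d (sim D j)) (hs : s < D.nroots) (hp : s < npos D)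
    (hlow : ∀ x, k ≤ x → x < D.rank → T.k x s = 0) : wl T d s < npos D := by
  have h := G.pos_of_low hS hd hdk (G.ng_lt hs) ((G.ng_pos_iff hs).2 hp)
    (fun x h1 h2 => by rw [G.k_ng hs h2, hlow x h1 h2, neg_zero])
  rw [G.wl_ng hd hs] at h
  exact (G.ng_pos_iff (G.wl_lt hd hs)).1 h

/-- If a word in the letters below `k` makes a positive root negative, the root lies in the span of
the fundamental roots below `k`. -/
theorem low_of_flip (hS : chkSign D T = true) {u : List ℕ} {k s : ℕ} (hu : IsWk k u)
    (hk : k ≤ D.rank) (hs : s < D.nroots) (hp : npos D ≤ s) (hneg : wl T u s < npos D) :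
    ∀ x, k ≤ x → x < D.rank → T.k x s = 0 := fun x h1 h2 => by
  have a := k_nonneg hS hs hp h2
  have b := G.k_nonpos hS (G.wl_lt (hu.isW hk) hs) hneg h2
  rw [G.k_wl_high hu hk hs h1 h2] at b
  omega

/-- Lengths add along a minimal representative. -/
theorem invSet_append (hS : chkSign D T = true) {d u : List ℕ} {k : ℕ} (hd : IsW D d)
    (hdk : ∀ j < k, npos D ≤ wl T d (sim D j)) (hu : IsWk k u) (hk : k ≤ D.rank) :
    (invSet D T (d ++ u)).card = (invSet D T d).card + (invSet D T u).card := by
  classical
  have huW := hu.isW (D := D) hk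
  have huR := huW.reverse
  have key : invSet D T (d ++ u) =
      invSet D T u ∪ (invSet D T d).image (wl T u.reverse) := by
    ext s
    simp only [mem_invSet, Finset.mem_union, Finset.mem_image, wl_append]
    constructor
    · rintro ⟨hs, hp, hn⟩
      by_cases h : wl T u s < npos D
      · exact Or.inl ⟨hs, hp, h⟩
      · exact Or.inr ⟨wl T u s, ⟨G.wl_lt huW hs, by omega, hn⟩, G.wl_reverse_wl huW hs⟩
    · rintro (⟨hs, hp, hn⟩ | ⟨v, ⟨hv, hvp, hvn⟩, rfl⟩)
      · refine ⟨hs, hp, G.neg_of_low hS hd hdk (G.wl_lt huW hs) hn fun x h1 h2 => ?_⟩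
        rw [G.k_wl_high hu hk hs h1 h2]
        exact G.low_of_flip hS hu hk hs hp hn x h1 h2
      · refine ⟨G.wl_lt huR hv, ?_, by rw [G.wl_wl_reverse huW hv]; exact hvn⟩
        by_contra hcon
        have h2 := G.pos_of_low hS hd hdk hv hvp
          (G.low_of_flip hS hu.reverse hk hv hvp (by omega))
        omega
  rw [key, Finset.card_union_of_disjoint, Finset.card_image_of_injOn, add_comm]
  · intro a ha b hb e
    simp only [Finset.mem_coe, mem_invSet] at ha hb
    exact G.wl_injective huR ha.1 hb.1 e
  · rw [Finset.disjoint_left]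
    intro s hs hs'
    simp only [mem_invSet, Finset.mem_image] at hs hs'
    obtain ⟨v, ⟨hv, hvp, -⟩, rfl⟩ := hs'
    rw [G.wl_wl_reverse huW hv] at hs
    omega

/-- A left letter raises the length by one at the preimage of its root. -/
theorem invSet_cons {d : List ℕ} {i s : ℕ} (hd : IsW D d) (hi : i < D.rank) (hs : s < D.nroots)
    (hp : npos D ≤ s) (he : wl T d s = sim D i) :
    (invSet D T (i :: d)).card = (invSet D T d).card + 1 := by
  classical
  have hip := G.sim_pos hi
  have hin : ng D (sim D i) < npos D := (by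
    have := G.even_n; have := G.sim_lt hi; unfold ng; omega)
  have key : invSet D T (i :: d) = insert s (invSet D T d) := by
    ext r
    simp only [mem_invSet, Finset.mem_insert, wl]
    constructor
    · rintro ⟨hr, hrp, hrn⟩
      by_cases h : wl T d r = sim D i
      · exact Or.inl (G.wl_injective hd hr hs (h.trans he.symm))
      refine Or.inr ⟨hr, hrp, ?_⟩
      by_contra hcon
      have := (G.pos_w hi (G.wl_lt hd hr) h (by omega)).1 (by omega)
      omega
    · rintro (rfl | ⟨hr, hrp, hrn⟩)
      · exact ⟨hs, hp, by rw [he, G.w_sim hi]; exact hin⟩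
      · refine ⟨hr, hrp, ?_⟩
        have h1 : wl T d r ≠ sim D i := by omega
        have h2 : wl T d r ≠ ng D (sim D i) := by
          intro e
          have : r = ng D s := G.wl_injective hd hr (G.ng_lt hs) (by rw [G.wl_ng hd hs, he, e])
          have := (G.ng_pos_iff hs).1 (this ▸ hrp)
          omega
        by_contra hcon
        have := (G.pos_w hi (G.wl_lt hd hr) h1 h2).2 (by omega)
        omega
  rw [key, Finset.card_insert_of_notMem]
  rw [mem_invSet, he]
  omega

omit G in
theorem invSet_nil : (invSet D T []).card = 0 := by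
  rw [Finset.card_eq_zero, Finset.eq_empty_iff_forall_notMem]
  intro s hs
  rw [mem_invSet] at hs
  simp only [wl] at hs
  omega

theorem pW_zero (q : ℕ) : pW D T 0 q = 1 := by
  classical
  have hnil : IsW D ([] : List ℕ) := isW_nil
  have e : wset D T 0 = {G.wfun hnil} := by
    ext f
    rw [mem_wset, Finset.mem_singleton]
    constructor
    · rintro ⟨l, hl, hf⟩
      have : l = [] := List.eq_nil_iff_forall_not_mem.2 fun x hx => Nat.not_lt_zero _ (hl x hx)
      subst this
      funext s
      exact Fin.ext (hf s)
    · rintro rfl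
      exact ⟨[], fun _ h => absurd h (List.not_mem_nil), G.isFun_wfun hnil⟩
  rw [pW, e, Finset.sum_singleton, numInv_eq (G.isFun_wfun hnil), invSet_nil, pow_zero]

/-- One step along the chain of parabolic subgroups. -/
theorem pW_succ (hS : chkSign D T = true) {k : ℕ} {C : List Coset} (hC : chkStep D T k C = true)
    (q : ℕ) :
    pW D T (k + 1) q = (∑ m ∈ Finset.range C.length, q ^ (cget C m).len) * pW D T k q := by
  classical
  simp only [chkStep, Bool.and_eq_true, decide_eq_true_eq, beq_iff_eq] at hC
  obtain ⟨⟨⟨⟨⟨hk, hlen⟩, himg0⟩, hlen0⟩, hall⟩, hdist⟩ := hC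
  have hk' : k ≤ D.rank := hk.le
  have facts : ∀ m < C.length,
      (cget C m).img.length = D.rank ∧ (∀ j < D.rank, (cget C m).img.getD j 0 < D.nroots) ∧
      (∀ j < k, npos D ≤ (cget C m).img.getD j 0) := by
    intro m hm
    have := allLt_eq_true hall m hm
    simp only [Bool.and_eq_true, decide_eq_true_eq] at this
    exact ⟨this.1.1.1.1, fun j hj => by simpa using allLt_eq_true this.1.1.1.2 j hj,
      fun j hj => by simpa using allLt_eq_true this.1.1.2 j hj⟩
  -- representatives
  have reps : ∀ m < C.length, ∃ d, IsWk (k + 1) d ∧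
      (∀ j < D.rank, wl T d (sim D j) = (cget C m).img.getD j 0) ∧
      (invSet D T d).card = (cget C m).len := by
    intro m
    induction m using Nat.strong_induction_on with
    | _ m ih =>
      intro hm
      rcases Nat.eq_zero_or_pos m with rfl | hpos
      · refine ⟨[], fun _ h => absurd h (List.not_mem_nil), fun j hj => ?_, by rw [invSet_nil, hlen0]⟩
        rw [himg0]
        simp [wl, hj]
      have hf := allLt_eq_true hall m hm
      simp only [Bool.and_eq_true, decide_eq_true_eq, Bool.or_eq_true, beq_iff_eq] at hf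
      rcases hf.1.2 with h0 | ⟨⟨⟨⟨⟨⟨hpar, hlet⟩, hwit⟩, hwitp⟩, hl⟩, himg⟩, hk2⟩
      · omega
      obtain ⟨d, hd, hdimg, hdlen⟩ := ih _ hpar (by omega)
      have hdW : IsW D d := hd.isW (by omega)
      have hi : (cget C m).letter < D.rank := by omega
      refine ⟨(cget C m).letter :: d, ?_, fun j hj => ?_, ?_⟩
      · intro x hx
        rcases List.mem_cons.1 hx with rfl | hx
        · omega
        · exact hd x hx
      · rw [himg, wl, hdimg j hj]
        have hlp := (facts _ (lt_trans hpar hm)).1
        rw [List.getD_eq_getElem _ _ (by rw [hlp]; exact hj),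
          List.getD_eq_getElem _ _ (by rw [List.length_map, hlp]; exact hj), List.getElem_map]
      · rw [G.invSet_cons hdW hi hwit hwitp, hdlen, ← hl]
        refine G.eq_of_k_eq (G.wl_lt hdW hwit) (G.sim_lt hi) fun x hx => ?_
        have h3 := allLt_eq_true hk2 x hx
        rw [beq_iff_eq, isum_eq] at h3
        rw [G.k_wl_sum hdW hwit hx, h3]
        exact Finset.sum_congr rfl fun c hc => by rw [hdimg c (Finset.mem_range.1 hc)]
  choose! d hd hdimg hdlen using reps
  have hdW : ∀ m < C.length, IsW D (d m) := fun m hm => (hd m hm).isW (by omega)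
  have hdpos : ∀ m < C.length, ∀ j < k, npos D ≤ wl T (d m) (sim D j) := fun m hm j hj => by
    rw [hdimg m hm j (by omega)]; exact (facts m hm).2.2 j hj
  -- every element is a representative times an element of the smaller subgroup
  have cover : ∀ l, IsWk (k + 1) l → ∃ m < C.length, ∃ u, IsWk k u ∧
      ∀ s < D.nroots, wl T l s = wl T (d m) (wl T u s) := by
    intro l
    induction l with
    | nil =>
      intro _
      refine ⟨0, hlen, [], fun _ h => absurd h (List.not_mem_nil), fun s hs => ?_⟩
      have h0 : ∀ j < D.rank, wl T ([] : List ℕ) (sim D j) = wl T (d 0) (sim D j) := fun j hj => by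
        rw [hdimg 0 hlen j hj, himg0]; simp [wl, hj]
      exact G.wl_eq_of_simples isW_nil (hdW 0 hlen) h0 hs
    | cons i l ih =>
      intro hl
      obtain ⟨m, hm, u, hu, he⟩ := ih fun x hx => hl x (List.mem_cons_of_mem _ hx)
      have hi : i < k + 1 := hl i List.mem_cons_self
      have hi' : i < D.rank := by omega
      have hf := allLt_eq_true hall m hm
      simp only [Bool.and_eq_true] at hf
      have hmove := allLt_eq_true hf.2 i hi
      split at hmove
      · rename_i ht
        simp only [beq_iff_eq] at hmove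
        refine ⟨_, ht, u, hu, fun s hs => ?_⟩
        simp only [wl]
        rw [he s hs]
        have hu' := G.wl_lt (hu.isW hk') hs
        refine G.wl_eq_of_simples (l := i :: d m) ?_ (hdW _ ht) (fun j hj => ?_) hu'
        · intro x hx
          rcases List.mem_cons.1 hx with rfl | hx
          · exact hi'
          · exact hdW m hm x hx
        · simp only [wl]
          rw [hdimg m hm j hj, hdimg _ ht j hj, ← hmove]
          rw [List.getD_eq_getElem _ _ (by rw [(facts m hm).1]; exact hj),
            List.getD_eq_getElem _ _ (by rw [List.length_map, (facts m hm).1]; exact hj),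
            List.getElem_map]
      · simp only [Bool.and_eq_true, decide_eq_true_eq] at hmove
        set j0 := ((cget C m).mv.getD i 0) - C.length with hj0
        have hj0' : j0 < D.rank := by omega
        refine ⟨m, hm, j0 :: u, ?_, fun s hs => ?_⟩
        · intro x hx
          rcases List.mem_cons.1 hx with rfl | hx
          · exact hmove.1
          · exact hu x hx
        simp only [wl]
        rw [he s hs]
        have hu' := G.wl_lt (hu.isW hk') hs
        have e := G.wl_eq_of_simples (l := i :: d m) (l' := d m ++ [j0]) ?_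
          ((hdW m hm).append (isW_single hj0')) (fun j hj => ?_) hu'
        · simpa [wl_append, wl] using e
        · intro x hx
          rcases List.mem_cons.1 hx with rfl | hx
          · exact hi'
          · exact hdW m hm x hx
        · simp only [wl, wl_append]
          rw [hdimg m hm j hj]
          have hw : T.w j0 (sim D j) < D.nroots := G.w_lt hj0' (G.sim_lt hj)
          refine G.eq_of_k_eq (G.w_lt hi' ((facts m hm).2.1 j hj)) (G.wl_lt (hdW m hm) hw)
            fun x hx => ?_
          have hx' := allLt_eq_true (allLt_eq_true hmove.2 j hj) x hx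
          rw [beq_iff_eq] at hx'
          rw [hx']
          have hrel : ∀ y < D.rank, T.k y (T.w j0 (sim D j)) =
              1 * T.k y (sim D j) + (-T.A j0 (sim D j)) * T.k y (sim D j0) := fun y hy => by
            rw [G.k_w hj0' (G.sim_lt hj) hy, G.k_sim hj0' hy]
            split <;> ring
          rw [G.k_wl_lin (hdW m hm) (G.sim_lt hj) (G.sim_lt hj0') hw hrel x hx, hdimg m hm j hj,
            hdimg m hm j0 hj0']
          ring
  -- the decomposition is unique
  have uniq : ∀ m < C.length, ∀ m' < C.length, ∀ u u', IsWk k u → IsWk k u' →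
      (∀ s < D.nroots, wl T (d m) (wl T u s) = wl T (d m') (wl T u' s)) →
      m = m' ∧ ∀ s < D.nroots, wl T u s = wl T u' s := by
    intro m hm m' hm' u u' hu hu' he
    have huW := hu.isW (D := D) hk'
    have hu'W := hu'.isW (D := D) hk'
    set v := u ++ u'.reverse with hv
    have hvk : IsWk k v := hu.append hu'.reverse
    have hvW := hvk.isW (D := D) hk'
    have hv' : ∀ s < D.nroots, wl T (d m) (wl T v s) = wl T (d m') s := fun s hs => by
      rw [hv, wl_append, he _ (G.wl_lt hu'W.reverse hs), G.wl_wl_reverse hu'W hs]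
    have hid : ∀ s < D.nroots, wl T v s = s := by
      intro s hs
      refine G.wl_eq_self_of_pos hvW (fun j hj => ?_) hs
      have hpl := G.wl_lt hvW (G.sim_lt hj)
      by_contra hcon
      have hlow : ∀ x, k ≤ x → x < D.rank → T.k x (wl T v (sim D j)) = 0 := fun x h1 h2 => by
        rw [G.k_wl_high hvk hk' (G.sim_lt hj) h1 h2]
        exact G.low_of_flip hS hvk hk' (G.sim_lt hj) (G.sim_pos hj) (by omega) x h1 h2
      have hjk : j < k := by
        by_contra hjk
        have := hlow j (by omega) hj
        rw [G.k_wl_high hvk hk' (G.sim_lt hj) (by omega) hj, G.k_sim hj hj, if_pos rfl] at this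
        omega
      have h1 := G.neg_of_low hS (hdW m hm) (hdpos m hm) hpl (by omega) hlow
      rw [hv' _ (G.sim_lt hj)] at h1
      have := hdpos m' hm' j hjk
      omega
    have hmm : m = m' := by
      by_contra hne
      have hsame : (cget C m).img = (cget C m').img := by
        refine List.ext_getElem (by rw [(facts m hm).1, (facts m' hm').1]) fun j hj1 hj2 => ?_
        have hj : j < D.rank := by rw [(facts m hm).1] at hj1; exact hj1
        rw [← List.getD_eq_getElem _ 0 hj1, ← List.getD_eq_getElem _ 0 hj2, ← hdimg m hm j hj,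
          ← hdimg m' hm' j hj, ← hv' _ (G.sim_lt hj), hid _ (G.sim_lt hj)]
      rcases Nat.lt_or_gt_of_ne hne with h | h
      · have := allLt_eq_true (allLt_eq_true hdist m' hm') m h
        simp [hsame] at this
      · have := allLt_eq_true (allLt_eq_true hdist m hm) m' h
        simp [hsame] at this
    refine ⟨hmm, fun s hs => ?_⟩
    subst hmm
    exact G.wl_injective (hdW m hm) (G.wl_lt huW hs) (G.wl_lt hu'W hs) (he s hs)
  -- the count
  unfold pW
  rw [Finset.sum_mul_sum, ← Finset.sum_product']
  refine (Finset.sum_bij (fun p hp => fun s =>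
      ⟨wl T (d p.1) (p.2 s).val, G.wl_lt (hdW p.1 (Finset.mem_range.1 (Finset.mem_product.1 hp).1))
        (p.2 s).isLt⟩) ?_ ?_ ?_ ?_).symm
  · intro p hp
    rw [Finset.mem_product, Finset.mem_range, mem_wset] at hp
    obtain ⟨hm, u, hu, hf⟩ := hp
    rw [mem_wset]
    exact ⟨d p.1 ++ u, (hd _ hm).append (hu.mono (by omega)), fun s => by
      rw [wl_append, ← hf s]⟩
  · intro p hp p' hp' e
    rw [Finset.mem_product, Finset.mem_range, mem_wset] at hp hp'
    obtain ⟨hm, u, hu, hf⟩ := hp
    obtain ⟨hm', u', hu', hf'⟩ := hp'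
    obtain ⟨h1, h2⟩ := uniq _ hm _ hm' u u' hu hu' fun s hs => by
      have := congrArg Fin.val (congrFun e ⟨s, hs⟩)
      simpa [hf ⟨s, hs⟩, hf' ⟨s, hs⟩] using this
    refine Prod.ext h1 (funext fun s => Fin.ext ?_)
    rw [hf s, hf' s]
    exact h2 _ s.isLt
  · intro f hf
    rw [mem_wset] at hf
    obtain ⟨l, hl, hfl⟩ := hf
    obtain ⟨m, hm, u, hu, he⟩ := cover l hl
    refine ⟨(m, G.wfun (hu.isW hk')), ?_, ?_⟩
    · rw [Finset.mem_product, Finset.mem_range, mem_wset]
      exact ⟨hm, u, hu, G.isFun_wfun (hu.isW hk')⟩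
    · funext s
      exact Fin.ext (by simp [Good.wfun, hfl s, he s.val s.isLt])
  · intro p hp
    rw [Finset.mem_product, Finset.mem_range, mem_wset] at hp
    obtain ⟨hm, u, hu, hf⟩ := hp
    rw [numInv_eq hf, numInv_eq (l := d p.1 ++ u) (fun s => by rw [wl_append, ← hf s]),
      G.invSet_append hS (hdW _ hm) (hdpos _ hm) hu hk', hdlen _ hm, pow_add]

end Good

end Cfsg.Agent.Lib.Chev
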