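import Cfsg.Agent.Lib.Chev.NormalForm
import Cfsg.Agent.Lib.Chev.Poincare

/-!
The order of a Chevalley group in terms of the Borel subgroup and the Weyl group.
-/

set_option autoImplicit false

namespace Cfsg.Agent.Lib.Chev

open Cfsg.Lie
open scoped Matrix Pointwise

variable {D : ChevalleyDatum} {T : Tables} {F : Type*} [Field F]

namespace Good

variable (G : Good D T)
include G

theorem card_borel : Nat.card (D.borelSubgroup F) =
    Nat.card (D.posUnipotent F) * Nat.card (D.diagonalSubgroup F) := by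
  let Φ : ↥(D.posUnipotent F) × ↥(D.diagonalSubgroup F) → ↥(D.borelSubgroup F) := fun p =>
    ⟨(p.1 : GL D.Idx F) * (p.2 : GL D.Idx F), G.mem_borel.2 ⟨_, p.1.2, _, p.2.2, rfl⟩⟩
  have hΦ : Function.Bijective Φ := by
    constructor
    · rintro ⟨⟨u, hu⟩, ⟨h, hh⟩⟩ ⟨⟨u', hu'⟩, ⟨h', hh'⟩⟩ e
      have e' : u * h = u' * h' := congrArg Subtype.val e
      have e2 : u'⁻¹ * u = h' * h⁻¹ := by
        calc u'⁻¹ * u = u'⁻¹ * (u * h) * h⁻¹ := by group
          _ = _ := by rw [e']; group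
      have h3 : h' * h⁻¹ = 1 := Subgroup.mem_bot.1 (G.pos_inf_diag (F := F) ▸
        Subgroup.mem_inf.2 ⟨e2 ▸ mul_mem (inv_mem hu') hu, mul_mem hh' (inv_mem hh)⟩)
      have h4 : h = h' := (mul_inv_eq_one.1 h3).symm
      subst h4
      have h5 : u = u' := mul_right_cancel e'
      subst h5
      rfl
    · rintro ⟨g, hg⟩
      obtain ⟨u, hu, h, hh, rfl⟩ := G.mem_borel.1 hg
      exact ⟨(⟨u, hu⟩, ⟨h, hh⟩), rfl⟩
  rw [← Nat.card_eq_of_bijective Φ hΦ, Nat.card_prod]

theorem card_flip [Fintype F] {l : List ℕ} (hl : IsW D l) :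
    Nat.card (G.USub F (flipSet D T l)) = Fintype.card F ^ (invSet D T l).card := by
  have e : G.USub F (flipSet D T l) = G.USub F ((invSet D T l : Finset ℕ) : Set ℕ) := by
    apply le_antisymm
    · exact G.USub_mono fun q hq hp hS => Finset.mem_coe.2 (mem_invSet.2 ⟨hq, hp, hS⟩)
    · exact G.USub_mono fun q _ _ hS => (mem_invSet.1 (Finset.mem_coe.1 hS)).2.2
  rw [e]
  refine G.card_USub (fun q hq => ⟨(mem_invSet.1 hq).1, (mem_invSet.1 hq).2.1⟩) ?_
  intro r hrS s hsS hr hs hpr hps hne c hc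
  obtain ⟨k, C, a, b⟩ := c
  obtain ⟨hk, h1, -⟩ := G.terms_gt hr hs hpr hps hc
  exact Finset.mem_coe.2 (mem_invSet.2 ⟨hk, le_of_lt (lt_of_le_of_lt hpr h1),
    G.flip_closed hl r (mem_invSet.1 (Finset.mem_coe.1 hrS)).2.2 s
      (mem_invSet.1 (Finset.mem_coe.1 hsS)).2.2 hr hs hpr hps hne _ hc⟩)

/-- The order of the group. -/
theorem card_group [Fintype F] : Nat.card (D.group F) =
    Nat.card (D.borelSubgroup F) * pW D T D.rank (Fintype.card F) := by
  classical
  have hf : ∀ f : ↥(wset D T D.rank), ∃ l, IsWk D.rank l ∧ IsFun D T l f.1 := fun f =>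
    mem_wset.1 f.2
  choose lf hlk hlf using hf
  have hlW : ∀ f, IsW D (lf f) := fun f => (hlk f).isW le_rfl
  let Φ : (Σ f : ↥(wset D T D.rank), ↥(D.borelSubgroup F) × ↥(G.USub F (flipSet D T (lf f)))) →
      ↥(D.group F) := fun p => ⟨(p.2.1 : GL D.Idx F) * G.nl F (lf p.1) * (p.2.2 : GL D.Idx F),
    mul_mem (mul_mem (G.borel_le_group p.2.1.2) (G.monomial_le_group (G.nl_mem_monomial (hlW p.1))))
      (G.borel_le_group (Subgroup.mem_sup_left (G.USub_le_pos _ p.2.2.2)))⟩
  have hΦ : Function.Bijective Φ := by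
    constructor
    · rintro ⟨f, ⟨b, hb⟩, ⟨u, hu⟩⟩ ⟨f', ⟨b', hb'⟩, ⟨u', hu'⟩⟩ e
      have e' : b * G.nl F (lf f) * u = b' * G.nl F (lf f') * u' := congrArg Subtype.val e
      have hH := G.normal_form_coset hb hb' (G.nl_mem_monomial (hlW f))
        (G.nl_mem_monomial (hlW f')) (G.USub_le_pos _ hu) (G.USub_le_pos _ hu') e'
      have hact : ∀ s < D.nroots, wl T (lf f') s = wl T (lf f) s := by
        intro s hs
        have h1 := G.act_mul (G.act_nl (F := F) (hlW f)) (G.act_diag hH)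
        rw [mul_inv_cancel_left] at h1
        exact G.act_unique (G.act_nl (hlW f')) h1 hs
      have hff : f = f' := Subtype.ext (funext fun s => Fin.ext (by
        rw [hlf f s, hlf f' s, hact _ s.isLt]))
      subst hff
      obtain ⟨rfl, rfl⟩ := G.normal_form_unique (G.rep_nl (hlW f)) hb hb' hu hu' e'
      rfl
    · rintro ⟨g, hg⟩
      obtain ⟨b, hb, n, l, hl, u, hu, rfl⟩ := G.exists_normal_form hg
      have hmem : G.wfun hl.1 ∈ wset D T D.rank := mem_wset.2 ⟨l, hl.1, G.isFun_wfun hl.1⟩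
      set f : ↥(wset D T D.rank) := ⟨G.wfun hl.1, hmem⟩ with hfdef
      have hsame : ∀ s < D.nroots, wl T (lf f) s = wl T l s := fun s hs => (hlf f ⟨s, hs⟩).symm
      have hn := G.monomial_of_rep hl
      have hid : n * (G.nl F (lf f))⁻¹ ∈ D.diagonalSubgroup F := by
        obtain ⟨l', hl'⟩ := G.exists_rep (inv_mem (G.nl_mem_monomial (F := F) (hlW f)))
        refine G.mem_diag_of_act_id (mul_mem hn (inv_mem (G.nl_mem_monomial (hlW f))))
          (G.act_mul (G.rep_act hl) (G.rep_act hl')) fun s hs => ?_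
        have h2 := G.act_mul (G.act_nl (F := F) (hlW f)) (G.rep_act hl')
        rw [mul_inv_cancel] at h2
        have h3 := G.act_unique h2 (G.act_diag (one_mem _)) hs
        simp only [Function.comp_apply, id] at h3 ⊢
        rw [← hsame _ (G.wl_lt hl'.1 hs)]
        exact h3
      have hu' : u ∈ G.USub F (flipSet D T (lf f)) :=
        G.USub_mono (fun q hq _ hqS => by
          show wl T (lf f) q < npos D
          rw [hsame q hq]; exact hqS) hu
      refine ⟨⟨f, ⟨b * (n * (G.nl F (lf f))⁻¹), mul_mem hb (Subgroup.mem_sup_right hid)⟩, ⟨u, hu'⟩⟩,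
        Subtype.ext ?_⟩
      show b * (n * (G.nl F (lf f))⁻¹) * G.nl F (lf f) * u = b * n * u
      group
  rw [← Nat.card_eq_of_bijective Φ hΦ, Nat.card_sigma, pW, Finset.mul_sum,
    ← Finset.sum_coe_sort (wset D T D.rank)]
  refine Finset.sum_congr rfl fun f _ => ?_
  rw [Nat.card_prod, G.card_flip (hlW f), numInv_eq (hlf f)]

end Good

end Cfsg.Agent.Lib.Chev
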