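import Cfsg.Agent.Lib.Chev.Subgroups
import Cfsg.Agent.Lib.Chev.All

/-!
The order of the diagonal subgroup, from Smith normal forms of the Cartan matrices.
-/

set_option autoImplicit false

namespace Cfsg.Agent.Lib.Chev

open Cfsg.Lie
open scoped Matrix

/-- Entry of an integral matrix given as a list of rows. -/
def ent (M : List (List ℤ)) (i j : ℕ) : ℤ := (M.getD i []).getD j 0

/-- The factorisation `A = U d V` of the Cartan matrix with invertible `U` and `V`. -/
def chkSmith (D : ChevalleyDatum) (T : Tables) (U V Ui Vi : List (List ℤ)) (d : List ℕ) : Bool :=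
  allLt D.rank (fun j => allLt D.rank fun i =>
    (T.A i (sim D j) == isum D.rank fun a => ent U j a * ((d.getD a 0 : ℕ) : ℤ) * ent V a i) &&
    (isum D.rank (fun a => ent Ui j a * ent U a i) == if j = i then 1 else 0) &&
    (isum D.rank (fun a => ent V j a * ent Vi a i) == if j = i then 1 else 0) &&
    (isum D.rank (fun a => ent Vi j a * ent V a i) == if j = i then 1 else 0))

variable {l : ℕ} {C : Type*} [CommGroup C]

/-- The monomial map of an integral matrix. -/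
def monMap (C : Type*) [CommGroup C] (M : Fin l → Fin l → ℤ) : (Fin l → C) →* (Fin l → C) where
  toFun c j := ∏ i, c i ^ M j i
  map_one' := by funext j; simp
  map_mul' a b := by funext j; simp [mul_zpow, Finset.prod_mul_distrib]

theorem monMap_comp (M N : Fin l → Fin l → ℤ) (c : Fin l → C) :
    monMap C M (monMap C N c) = monMap C (fun j i => ∑ a, M j a * N a i) c := by
  funext j
  show ∏ a, (∏ i, c i ^ N a i) ^ M j a = ∏ i, c i ^ ∑ a, M j a * N a i
  have hsum : ∀ (x : C) (f : Fin l → ℤ), x ^ ∑ a, f a = ∏ a, x ^ f a := fun x f => by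
    induction (Finset.univ : Finset (Fin l)) using Finset.induction_on with
    | empty => simp
    | insert a s ha ih => rw [Finset.sum_insert ha, Finset.prod_insert ha, zpow_add, ih]
  simp only [← Finset.prod_zpow, ← zpow_mul, hsum]
  rw [Finset.prod_comm]
  simp only [mul_comm]

theorem monMap_one {M : Fin l → Fin l → ℤ} (h : ∀ j i, M j i = if j = i then 1 else 0)
    (c : Fin l → C) : monMap C M c = c := by
  funext j
  show ∏ i, c i ^ M j i = c j
  rw [Finset.prod_eq_single j]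
  · simp [h]
  · intro i _ hne; simp [h, Ne.symm hne]
  · simp

variable {D : ChevalleyDatum} {T : Tables} {F : Type*} [Field F]

/-- Torus parameters as a function on naturals. -/
def extOne (D : ChevalleyDatum) (c : Fin D.rank → Fˣ) (i : ℕ) : F :=
  if h : i < D.rank then (c ⟨i, h⟩ : F) else 1

theorem extOne_ne_zero (c : Fin D.rank → Fˣ) (i : ℕ) : extOne D c i ≠ 0 := by
  unfold extOne
  split
  · exact Units.ne_zero _
  · exact one_ne_zero

namespace Good

variable (G : Good D T)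
include G

/-- The torus element with given parameters. -/
def torG (c : Fin D.rank → Fˣ) : GL D.Idx F where
  val := dmat D (tor D T (extOne D c))
  inv := dmat D (tor D T (extOne D c⁻¹))
  val_inv := by
    rw [dmat_mul, ← dmat_one]
    refine dmat_congr fun s _ => ?_
    rw [G.tor_mul, tor]
    exact Finset.prod_eq_one fun i hi => by simp [extOne, Finset.mem_range.1 hi]
  inv_val := by
    rw [dmat_mul, ← dmat_one]
    refine dmat_congr fun s _ => ?_
    rw [G.tor_mul, tor]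
    exact Finset.prod_eq_one fun i hi => by simp [extOne, Finset.mem_range.1 hi]

/-- The parametrisation of the torus. -/
def torHom (F : Type*) [Field F] : (Fin D.rank → Fˣ) →* GL D.Idx F where
  toFun := G.torG
  map_one' := Units.ext (by
    show dmat D _ = 1
    rw [← dmat_one]
    refine dmat_congr fun s _ => Finset.prod_eq_one fun i hi => ?_
    simp [extOne, Finset.mem_range.1 hi])
  map_mul' a b := Units.ext (by
    show dmat D _ = dmat D _ * dmat D _
    rw [dmat_mul]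
    refine dmat_congr fun s _ => ?_
    rw [G.tor_mul]
    refine G.tor_congr (fun i hi => ?_) s
    simp [extOne, hi])

theorem torHom_val (c : Fin D.rank → Fˣ) :
    ((G.torHom F c : GL D.Idx F) : Matrix D.Idx D.Idx F) = dmat D (tor D T (extOne D c)) := rfl

theorem torHom_range : (G.torHom F).range = D.diagonalSubgroup F := by
  apply le_antisymm
  · rintro g ⟨c, rfl⟩
    have hword : ∀ (l : List ℕ), (∀ i ∈ l, i < D.rank) →
        ((l.map fun i => G.Hg F (sim D i) (extOne D c i)).prod : GL D.Idx F).val =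
          dmat D (fun s => (l.map fun i => extOne D c i ^ T.A i s).prod) := by
      intro l
      induction l with
      | nil => intro _; simp [dmat_one]
      | cons i l ih =>
        intro hl
        have hi := hl i List.mem_cons_self
        rw [List.map_cons, List.prod_cons, Units.val_mul,
          ih fun j hj => hl j (List.mem_cons_of_mem _ hj),
          G.Hg_eq (G.sim_lt hi) (extOne_ne_zero c i), dmat_mul]
        exact dmat_congr fun s _ => by simp [G.P_sim hi]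
    have e : G.torHom F c =
        ((List.range D.rank).map fun i => G.Hg F (sim D i) (extOne D c i)).prod := by
      refine Units.ext ?_
      rw [hword _ fun i hi => List.mem_range.1 hi, torHom_val]
      refine dmat_congr fun s _ => ?_
      rw [tor, ← List.prod_toFinset _ List.nodup_range]
      exact Finset.prod_congr (by ext; simp) fun i _ => rfl
    rw [e]
    refine list_prod_mem fun x hx => ?_
    obtain ⟨i, hi, rfl⟩ := List.mem_map.1 hx
    exact G.Hg_mem (G.sim_lt (List.mem_range.1 hi)) (extOne_ne_zero c i)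
  · intro g hg
    obtain ⟨c, hc, e⟩ := G.exists_tor hg
    refine ⟨fun i => Units.mk0 (c i) (hc i), Units.ext ?_⟩
    rw [torHom_val, e]
    exact dmat_congr fun s _ => G.tor_congr (fun i hi => by simp [extOne, hi]) s

theorem tor_eq_prod_sim {c : ℕ → F} (hc : ∀ i, c i ≠ 0) {s : ℕ} (hs : s < D.nroots) :
    tor D T c s = ∏ j ∈ Finset.range D.rank, tor D T c (sim D j) ^ T.k j s := by
  simp only [tor, ← Finset.prod_zpow, ← zpow_mul]
  rw [Finset.prod_comm]
  refine Finset.prod_congr rfl fun i hi => ?_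
  rw [G.A_linear (Finset.mem_range.1 hi) hs]
  induction Finset.range D.rank using Finset.induction_on with
  | empty => simp
  | insert a s ha ih =>
    rw [Finset.sum_insert ha, Finset.prod_insert ha, zpow_add₀ (hc i), ih, mul_comm (T.k a _)]

theorem mem_ker_torHom (c : Fin D.rank → Fˣ) :
    c ∈ (G.torHom F).ker ↔
      monMap Fˣ (fun j i : Fin D.rank => T.A i.val (sim D j.val)) c = 1 := by
  have hval : ∀ j : Fin D.rank,
      ((monMap Fˣ (fun j i : Fin D.rank => T.A i.val (sim D j.val)) c j : Fˣ) : F) =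
        tor D T (extOne D c) (sim D j.val) := by
    intro j
    show ((∏ i : Fin D.rank, c i ^ T.A i.val (sim D j.val) : Fˣ) : F) = _
    rw [tor, ← Fin.prod_univ_eq_prod_range, Units.coe_prod]
    exact Finset.prod_congr rfl fun i _ => by simp [extOne]
  rw [MonoidHom.mem_ker]
  constructor
  · intro h
    funext j
    refine Units.ext ?_
    rw [hval, Pi.one_apply, Units.val_one]
    have h1 := congrArg (fun g : GL D.Idx F =>
      (g : Matrix D.Idx D.Idx F) (Sum.inr ⟨sim D j.val, G.sim_lt j.isLt⟩)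
        (Sum.inr ⟨sim D j.val, G.sim_lt j.isLt⟩)) h
    simpa [torHom_val, dmat] using h1
  · intro h
    refine Units.ext ?_
    rw [torHom_val, Units.val_one, ← dmat_one]
    refine dmat_congr fun s hs => ?_
    rw [G.tor_eq_prod_sim (extOne_ne_zero c) hs]
    refine Finset.prod_eq_one fun j hj => ?_
    rw [← hval ⟨j, Finset.mem_range.1 hj⟩, h]
    simp

/-- The order of the diagonal subgroup. -/
theorem card_diag [Fintype F] {U V Ui Vi : List (List ℤ)} {d : List ℕ}
    (h : chkSmith D T U V Ui Vi d = true) :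
    (∏ a ∈ Finset.range D.rank, Nat.gcd (Fintype.card F - 1) (d.getD a 0)) *
      Nat.card (D.diagonalSubgroup F) = (Fintype.card F - 1) ^ D.rank := by
  classical
  let mU : Fin D.rank → Fin D.rank → ℤ := fun j i => ent U j i
  let mV : Fin D.rank → Fin D.rank → ℤ := fun j i => ent V j i
  let mUi : Fin D.rank → Fin D.rank → ℤ := fun j i => ent Ui j i
  let mVi : Fin D.rank → Fin D.rank → ℤ := fun j i => ent Vi j i
  let mD : Fin D.rank → Fin D.rank → ℤ := fun j i => if j = i then ((d.getD j 0 : ℕ) : ℤ) else 0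
  have hh := fun (j i : Fin D.rank) => allLt_eq_true (allLt_eq_true h j j.isLt) i i.isLt
  simp only [Bool.and_eq_true, beq_iff_eq, isum_eq, ← Fin.sum_univ_eq_sum_range] at hh
  have hfac : ∀ c : Fin D.rank → Fˣ,
      monMap Fˣ (fun j i : Fin D.rank => T.A i.val (sim D j.val)) c =
        monMap Fˣ mU (monMap Fˣ mD (monMap Fˣ mV c)) := by
    intro c
    rw [monMap_comp, monMap_comp]
    congr 2
    funext j i
    rw [(hh j i).1.1.1]
    refine Finset.sum_congr rfl fun a _ => ?_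
    simp [mU, mV, mD, mul_comm, mul_left_comm]
  have hUiU : ∀ c, monMap Fˣ mUi (monMap Fˣ mU c) = c := fun c => by
    rw [monMap_comp]
    exact monMap_one (fun j i => (hh j i).1.1.2.trans (by simp [Fin.ext_iff])) c
  have hVVi : ∀ c, monMap Fˣ mV (monMap Fˣ mVi c) = c := fun c => by
    rw [monMap_comp]
    exact monMap_one (fun j i => (hh j i).1.2.trans (by simp [Fin.ext_iff])) c
  have hViV : ∀ c, monMap Fˣ mVi (monMap Fˣ mV c) = c := fun c => by
    rw [monMap_comp]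
    exact monMap_one (fun j i => (hh j i).2.trans (by simp [Fin.ext_iff])) c
  have hker : ∀ c, c ∈ (G.torHom F).ker ↔
      ∀ a : Fin D.rank, (monMap Fˣ mV c a) ^ (d.getD a 0) = 1 := by
    intro c
    have hD : ∀ x : Fin D.rank → Fˣ, monMap Fˣ mD x = fun a : Fin D.rank => x a ^ (d.getD a 0) := by
      intro x
      funext a
      show ∏ i, x i ^ mD a i = _
      rw [Finset.prod_eq_single a]
      · simp [mD]
      · intro i _ hne; simp [mD, Ne.symm hne]
      · simp
    rw [G.mem_ker_torHom, hfac]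
    constructor
    · intro h1 a
      have h2 := congrArg (monMap Fˣ mUi) h1
      rw [hUiU, map_one, hD] at h2
      exact congrFun h2 a
    · intro h1
      have : monMap Fˣ mD (monMap Fˣ mV c) = 1 := by rw [hD]; funext a; exact h1 a
      rw [this, map_one]
  let e : (G.torHom F).ker ≃
      ((a : Fin D.rank) → (powMonoidHom (d.getD a 0) : Fˣ →* Fˣ).ker) :=
    { toFun := fun c a => ⟨monMap Fˣ mV c.1 a, MonoidHom.mem_ker.2 ((hker c.1).1 c.2 a)⟩
      invFun := fun x => ⟨monMap Fˣ mVi fun a => (x a).1, (hker _).2 fun a => by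
        rw [hVVi]; exact MonoidHom.mem_ker.1 (x a).2⟩
      left_inv := fun c => Subtype.ext (hViV c.1)
      right_inv := fun x => funext fun a => Subtype.ext (congrFun (hVVi fun a => (x a).1) a) }
  have hk : Nat.card (G.torHom F).ker =
      ∏ a ∈ Finset.range D.rank, Nat.gcd (Fintype.card F - 1) (d.getD a 0) := by
    rw [Nat.card_congr e, Nat.card_pi, ← Fin.prod_univ_eq_prod_range]
    refine Finset.prod_congr rfl fun a _ => ?_
    rw [IsCyclic.card_powMonoidHom_ker, Nat.card_units, Nat.card_eq_fintype_card]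
  have hquot := Subgroup.card_mul_index (G.torHom F).ker
  rw [Subgroup.index_ker, G.torHom_range, hk, Nat.card_pi, Finset.prod_const, Finset.card_univ,
    Fintype.card_fin, Nat.card_units, Nat.card_eq_fintype_card (α := F)] at hquot
  exact hquot

end Good

theorem smithG2 : chkSmith chevG2 tabG2 [[-1, 0], [2, 1]]
    [[-2, 1], [1, 0]]
    [[-1, 0], [2, 1]]
    [[0, 1], [1, 2]]
    [1, 1] = true := by decide +kernel

theorem smithB2 : chkSmith chevB2 tabB2 [[-1, 0], [2, 1]]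
    [[-2, 1], [1, 0]]
    [[-1, 0], [2, 1]]
    [[0, 1], [1, 2]]
    [1, 2] = true := by decide +kernel

theorem smithD4 : chkSmith chevD4 tabD4 [[-1, 0, 0, 0], [2, -1, 0, 0], [-1, 2, -1, 0], [-1, 0, 1, 1]]
    [[-2, 1, 0, 0], [-3, 0, 1, 1], [-2, 0, 0, 1], [1, 0, 0, 0]]
    [[-1, 0, 0, 0], [-2, -1, 0, 0], [-3, -2, -1, 0], [2, 2, 1, 1]]
    [[0, 0, 0, 1], [1, 0, 0, 2], [0, 1, -1, 1], [0, 0, 1, 2]]
    [1, 1, 2, 2] = true := by decide +kernel

theorem smithF4 : chkSmith chevF4 tabF4 [[-1, 0, 0, 0], [2, -1, 0, 0], [-2, 2, -1, 0], [0, -1, 2, 1]]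
    [[-2, 1, 0, 0], [-3, 0, 1, 0], [-2, 0, 0, 1], [1, 0, 0, 0]]
    [[-1, 0, 0, 0], [-2, -1, 0, 0], [-2, -2, -1, 0], [2, 3, 2, 1]]
    [[0, 0, 0, 1], [1, 0, 0, 2], [0, 1, 0, 3], [0, 0, 1, 2]]
    [1, 1, 1, 1] = true := by decide +kernel

theorem smithE6 : chkSmith chevE6 tabE6 [[-1, 0, 0, 0, 0, 0], [0, -1, 0, 0, 0, 0], [2, -1, 0, 0, -1, 0], [-1, 2, -1, 0, 0, 0], [0, -1, 2, -1, 0, 0], [0, 0, -1, 2, 4, -1]]
    [[-2, 0, 1, 0, 0, 0], [0, -2, 0, 1, 0, 0], [2, -3, 0, 0, 1, 0], [4, -4, 0, 0, 0, 1], [-3, 2, 0, 0, 0, 0], [-2, 1, 0, 0, 0, 0]]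
    [[-1, 0, 0, 0, 0, 0], [0, -1, 0, 0, 0, 0], [1, -2, 0, -1, 0, 0], [2, -3, 0, -2, -1, 0], [-2, 1, -1, 0, 0, 0], [-5, 0, -4, -3, -2, -1]]
    [[0, 0, 0, 0, 1, -2], [0, 0, 0, 0, 2, -3], [1, 0, 0, 0, 2, -4], [0, 1, 0, 0, 4, -6], [0, 0, 1, 0, 4, -5], [0, 0, 0, 1, 4, -4]]
    [1, 1, 1, 1, 1, 3] = true := by decide +kernel

theorem smithE7 : chkSmith chevE7 tabE7 [[-1, 0, 0, 0, 0, 0, 0], [0, -1, 0, 0, 0, 0, 0], [2, -1, 0, 0, 0, -1, 0], [-1, 2, -1, 0, 0, 0, 0], [0, -1, 2, -1, 0, 0, 0], [0, 0, -1, 2, -1, 0, 0], [0, 0, 0, -1, 2, 4, -1]]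
    [[-2, 0, 1, 0, 0, 0, 0], [0, -2, 0, 1, 0, 0, 0], [2, -3, 0, 0, 1, 0, 0], [4, -4, 0, 0, 0, 1, 0], [6, -5, 0, 0, 0, 0, 1], [-3, 2, 0, 0, 0, 0, 0], [-2, 1, 0, 0, 0, 0, 0]]
    [[-1, 0, 0, 0, 0, 0, 0], [0, -1, 0, 0, 0, 0, 0], [1, -2, 0, -1, 0, 0, 0], [2, -3, 0, -2, -1, 0, 0], [3, -4, 0, -3, -2, -1, 0], [-2, 1, -1, 0, 0, 0, 0], [-4, -1, -4, -4, -3, -2, -1]]
    [[0, 0, 0, 0, 0, 1, -2], [0, 0, 0, 0, 0, 2, -3], [1, 0, 0, 0, 0, 2, -4], [0, 1, 0, 0, 0, 4, -6], [0, 0, 1, 0, 0, 4, -5], [0, 0, 0, 1, 0, 4, -4], [0, 0, 0, 0, 1, 4, -3]]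
    [1, 1, 1, 1, 1, 1, 2] = true := by decide +kernel

theorem smithE8 : chkSmith chevE8 tabE8 [[-1, 0, 0, 0, 0, 0, 0, 0], [0, -1, 0, 0, 0, 0, 0, 0], [2, -1, 0, 0, 0, 0, -1, 0], [-1, 2, -1, 0, 0, 0, 0, 0], [0, -1, 2, -1, 0, 0, 0, 0], [0, 0, -1, 2, -1, 0, 0, 0], [0, 0, 0, -1, 2, -1, 0, 0], [0, 0, 0, 0, -1, 2, 4, -1]]
    [[-2, 0, 1, 0, 0, 0, 0, 0], [0, -2, 0, 1, 0, 0, 0, 0], [2, -3, 0, 0, 1, 0, 0, 0], [4, -4, 0, 0, 0, 1, 0, 0], [6, -5, 0, 0, 0, 0, 1, 0], [8, -6, 0, 0, 0, 0, 0, 1], [-3, 2, 0, 0, 0, 0, 0, 0], [-2, 1, 0, 0, 0, 0, 0, 0]]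
    [[-1, 0, 0, 0, 0, 0, 0, 0], [0, -1, 0, 0, 0, 0, 0, 0], [1, -2, 0, -1, 0, 0, 0, 0], [2, -3, 0, -2, -1, 0, 0, 0], [3, -4, 0, -3, -2, -1, 0, 0], [4, -5, 0, -4, -3, -2, -1, 0], [-2, 1, -1, 0, 0, 0, 0, 0], [-3, -2, -4, -5, -4, -3, -2, -1]]
    [[0, 0, 0, 0, 0, 0, 1, -2], [0, 0, 0, 0, 0, 0, 2, -3], [1, 0, 0, 0, 0, 0, 2, -4], [0, 1, 0, 0, 0, 0, 4, -6], [0, 0, 1, 0, 0, 0, 4, -5], [0, 0, 0, 1, 0, 0, 4, -4], [0, 0, 0, 0, 1, 0, 4, -3], [0, 0, 0, 0, 0, 1, 4, -2]]
    [1, 1, 1, 1, 1, 1, 1, 1] = true := by decide +kernel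

end Cfsg.Agent.Lib.Chev
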