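import Cfsg.Agent.Lib.Chev.Parabolic
import Cfsg.Agent.Lib.Chev.Count
import Cfsg.Agent.Lib.Chev.TorusCard
import Cfsg.Prelude.Def_ChevAutomorphisms

/-!
Root characters, diagonal elements of the group, generation by few root subgroups, Sylow order.
-/

set_option autoImplicit false

namespace Cfsg.Agent.Lib.Chev

open Cfsg.Lie
open scoped Matrix

variable {D : ChevalleyDatum} {T : Tables} {F : Type*} [Field F]

theorem charDiag_eq (χ : ℕ → Fˣ) : D.charDiag F χ = dmat D fun s => (χ s : F) := rfl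

namespace Good

variable (G : Good D T)
include G

theorem isChar_of_rootChar {χ : ℕ → Fˣ} (h : D.IsRootCharacter χ) :
    IsChar D T fun s => (χ s : F) where
  neg r hr := by
    show ((χ (ng D r) : Fˣ) : F) * _ = 1
    rw [← G.neg_eq hr, h.1 r hr, ← Units.val_mul, inv_mul_cancel, Units.val_one]
  chain := by
    intro r s m
    induction m with
    | zero =>
      intro u M hr hs hm
      have h1 := h.2 r s u hr hs (by rw [G.chainRoot_eq hr hs, Tables.chRoot, hm]; rfl)
      simp [h1, Units.val_mul]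
    | succ m ih =>
      intro u M hr hs hm
      have hlt : m < (T.ch r s).length := by
        have := (List.getElem?_eq_some_iff.1 hm).1; omega
      obtain ⟨⟨v, N⟩, hv⟩ : ∃ p, (T.ch r s)[m]? = some p := ⟨_, List.getElem?_eq_getElem hlt⟩
      obtain ⟨hv', -, -, -, -, -, hlen, hnext⟩ := G.ch_entry hr hs hv
      have hm' := (List.getElem?_eq_some_iff.1 hm).1
      obtain ⟨⟨w, N'⟩, hw⟩ : ∃ p, (T.ch r v)[0]? = some p :=
        ⟨_, List.getElem?_eq_getElem (by omega)⟩
      obtain ⟨M'', hM'', -⟩ := hnext 0 w N' hw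
      rw [add_zero, hm] at hM''
      obtain rfl : u = w := (Prod.ext_iff.1 (Option.some.inj hM'')).1
      have h1 := h.2 r v u hr hv' (by rw [G.chainRoot_eq hr hv', Tables.chRoot, hw]; rfl)
      show (χ u : F) = _
      rw [h1, Units.val_mul, show (χ v : F) = _ from ih v N hr hs hv]
      ring

theorem charDiag_conj_X {χ : ℕ → Fˣ} (h : D.IsRootCharacter χ) {r : ℕ} (hr : r < D.nroots) (t : F) :
    D.charDiag F χ * D.x F r t * D.charDiag F (fun s => (χ s)⁻¹) = D.x F r ((χ r : F) * t) := by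
  rw [charDiag_eq, charDiag_eq, G.dmat_x (G.isChar_of_rootChar h) hr t, mul_assoc, dmat_mul]
  rw [show dmat D (fun s => (χ s : F) * (((χ s)⁻¹ : Fˣ) : F)) = 1 from by
    rw [← dmat_one]; exact dmat_congr fun s _ => by simp]
  rw [mul_one]

/-- An element of the group with a diagonal matrix lies in `H`. -/
theorem mem_diag_of_dmat {g : GL D.Idx F} (hg : g ∈ D.group F) {χ : ℕ → F}
    (hχ : IsChar D T χ) (hgχ : (g : Matrix D.Idx D.Idx F) = dmat D χ) :
    g ∈ D.diagonalSubgroup F := by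
  obtain ⟨b, hb, n, l, hl, u, hu, e⟩ := G.exists_normal_form hg
  have hfwd : ∀ r < D.nroots, npos D ≤ r → ∀ t : F, g * G.X F r t * g⁻¹ ∈ D.posUnipotent F :=
    fun r hr hp t => by rw [G.diag_conj_X hgχ hχ hr t]; exact G.X_mem_posUnipotent hr hp _
  have hsimple : ∀ i < D.rank, npos D ≤ wl T l (sim D i) := by
    intro i hi
    by_contra hneg
    push Not at hneg
    have hs := G.sim_lt hi
    have huB : u⁻¹ ∈ D.borelSubgroup F := inv_mem (Subgroup.mem_sup_left (G.USub_le_pos _ hu))
    have hgU : ∀ x ∈ D.posUnipotent F, g * x * g⁻¹ ∈ D.posUnipotent F := fun x hx => by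
      have h' : D.posUnipotent F ≤ (D.posUnipotent F).comap (MulAut.conj g).toMonoidHom :=
        G.posUnipotent_le_of fun r hr hp t => by simpa using hfwd r hr hp t
      simpa using h' hx
    have hx : g * (u⁻¹ * G.X F (sim D i) 1 * u) * g⁻¹ ∈ D.posUnipotent F := by
      refine hgU _ (mul_mem (mul_mem ?_ (G.X_mem_posUnipotent hs (G.sim_pos hi) 1))
        (G.USub_le_pos _ hu))
      exact inv_mem (G.USub_le_pos _ hu)
    have h1 : n * G.X F (sim D i) 1 * n⁻¹ ∈ D.borelSubgroup F := by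
      have h2 : b⁻¹ * (g * (u⁻¹ * G.X F (sim D i) 1 * u) * g⁻¹) * b ∈ D.borelSubgroup F :=
        mul_mem (mul_mem (inv_mem hb) (Subgroup.mem_sup_left hx)) hb
      have e2 : b⁻¹ * (g * (u⁻¹ * G.X F (sim D i) 1 * u) * g⁻¹) * b =
          n * G.X F (sim D i) 1 * n⁻¹ := by rw [e]; group
      rwa [e2] at h2
    obtain ⟨hlt, c, hc, e3⟩ := G.rep_act hl _ hs
    rw [e3, mul_one] at h1
    have h4 := Subgroup.mem_bot.1 (G.borel_inf_neg (F := F) ▸
      Subgroup.mem_inf.2 ⟨h1, G.X_mem_negUnipotent hlt hneg c⟩)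
    rw [G.X_eq_one_iff hlt] at h4
    exact hc h4
  have hn : n ∈ D.diagonalSubgroup F := by
    have h1 := G.nl_mem_diag_of_pos (F := F) _ rfl hl.1 hsimple
    have h2 := mul_mem hl.2 h1
    rwa [inv_mul_cancel_right] at h2
  have hgB : g ∈ D.borelSubgroup F := e ▸
    mul_mem (mul_mem hb (Subgroup.mem_sup_right hn)) (Subgroup.mem_sup_left (G.USub_le_pos _ hu))
  obtain ⟨v, hv, h, hh, e'⟩ := G.mem_borel.1 hgB
  suffices hv1 : v = 1 by rw [e', hv1, one_mul]; exact hh
  obtain ⟨c, hc, hcv⟩ := G.exists_tor (inv_mem hh)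
  have ev : (v : Matrix D.Idx D.Idx F) = dmat D (fun s => χ s * tor D T c s) := by
    rw [show v = g * h⁻¹ from by rw [e', mul_inv_cancel_right], Units.val_mul, hgχ, hcv, dmat_mul]
  refine Units.ext (Matrix.ext fun x y => ?_)
  rw [Units.val_one]
  by_cases hxy : x = y
  · subst hxy; rw [G.pos_diag_entry hv, Matrix.one_apply_eq]
  · rw [ev, dmat, Matrix.diagonal_apply_ne _ hxy, Matrix.one_apply_ne hxy]

/-- A subgroup containing the fundamental root subgroups and their negatives contains the group. -/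
theorem group_le_of_simple {K : Subgroup (GL D.Idx F)}
    (h : ∀ i < D.rank, ∀ t : F, G.X F (sim D i) t ∈ K ∧ G.X F (ng D (sim D i)) t ∈ K) :
    D.group F ≤ K := by
  have hni : ∀ i < D.rank, G.ni F i ∈ K := fun i hi => by
    simp only [Good.ni, Good.Ng]
    exact mul_mem (mul_mem (h i hi _).1 (h i hi _).2) (h i hi _).1
  refine G.group_le_of (G.root_induction (C := fun r => ∀ t : F, G.X F r t ∈ K)
    (fun i hi t => (h i hi t).1) fun i r hi hr ih t => ?_)
  have h1 : G.ni F i * G.X F r ((T.eta i r : F) * t) * (G.ni F i)⁻¹ ∈ K :=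
    mul_mem (mul_mem (hni i hi) (ih _)) (inv_mem (hni i hi))
  rwa [G.ni_conj_X hi hr, ← mul_assoc, ← Int.cast_mul, Tables.eta_mul_self, Int.cast_one,
    one_mul] at h1

end Good

/-- The roots reachable from `r₀` by at most `n` fundamental reflections. -/
def orbN (D : ChevalleyDatum) (T : Tables) (S : List ℕ) (r₀ : ℕ) : ℕ → List ℕ
  | 0 => [r₀]
  | n + 1 =>
    let P := orbN D T S r₀ n
    S.filter fun r => decide (r < D.nroots) &&
      (P.contains r || anyLt D.rank fun j => P.contains (T.w j r))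

/-- The group of a short root subgroup and the monomial group contains all fundamental roots. -/
def chkShortGen (D : ChevalleyDatum) (T : Tables) (S : List ℕ) (n i : ℕ) (p : ℕ) : Bool :=
  let O := orbN D T S (sim D i) n
  O.all (fun r => decide (r < D.nroots)) && allLt D.rank fun j =>
    O.contains (sim D j) || O.any fun a => O.any fun b =>
      match T.terms a b with
      | [(k, C, x, y)] => k == sim D j && decide (C.natAbs = 1 ∨ C.natAbs = p) && x == 1 && y == 1
          && b != a && b != ng D a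
      | _ => false

namespace Good

variable (G : Good D T)
include G

theorem X_orbN_mem {K : Subgroup (GL D.Idx F)} (hN : ∀ j < D.rank, G.ni F j ∈ K) {S : List ℕ}
    {r₀ : ℕ} (h₀ : ∀ t : F, G.X F r₀ t ∈ K) :
    ∀ n, ∀ r ∈ orbN D T S r₀ n, ∀ t : F, G.X F r t ∈ K := by
  intro n
  induction n with
  | zero => intro r hr; simp only [orbN, List.mem_singleton] at hr; subst hr; exact h₀
  | succ n ih =>
    intro r hr t
    simp only [orbN, List.mem_filter, Bool.and_eq_true, Bool.or_eq_true, List.contains_iff_mem,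
      decide_eq_true_eq] at hr
    obtain ⟨-, hr', h | h⟩ := hr
    · exact ih r h t
    obtain ⟨j, hj, hc⟩ := anyLt_eq_true h
    have hw := List.contains_iff_mem.1 hc
    have h1 : (G.ni F j)⁻¹ * G.X F (T.w j r) ((T.eta j r : F) * t) * G.ni F j ∈ K :=
      mul_mem (mul_mem (inv_mem (hN j hj)) (ih _ hw _)) (hN j hj)
    rwa [← G.ni_conj_X hj hr', mul_assoc (G.ni F j)⁻¹, inv_mul_cancel_right,
      inv_mul_cancel_left] at h1

theorem group_le_short {S : List ℕ} {n i p : ℕ} (hi : i < D.rank)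
    (hchk : chkShortGen D T S n i p = true) (hp : (p : F) ≠ 0) :
    D.group F ≤ D.monomialSubgroup F ⊔ D.rootSubgroup F (D.simple i) := by
  simp only [chkShortGen, Bool.and_eq_true, List.all_eq_true, decide_eq_true_eq] at hchk
  obtain ⟨hO, hall⟩ := hchk
  set K := D.monomialSubgroup F ⊔ D.rootSubgroup F (D.simple i) with hK
  have hN : ∀ j < D.rank, G.ni F j ∈ K := fun j hj => Subgroup.mem_sup_left (G.ni_mem_monomial hj)
  have h₀ : ∀ t : F, G.X F (sim D i) t ∈ K := fun t =>
    Subgroup.mem_sup_right (G.mem_rootSubgroup.2 ⟨t, by rw [G.simple_eq]⟩)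
  have hsim : ∀ j < D.rank, ∀ t : F, G.X F (sim D j) t ∈ K := by
    intro j hj t
    have h1 := allLt_eq_true hall j hj
    simp only [Bool.or_eq_true, List.contains_iff_mem, List.any_eq_true] at h1
    rcases h1 with h1 | ⟨a, ha, b, hb, h1⟩
    · exact G.X_orbN_mem hN h₀ n _ h1 t
    rcases hT : T.terms a b with _ | ⟨⟨k, C, x, y⟩, _ | ⟨_, _⟩⟩
    · simp [hT] at h1
    swap
    · simp [hT] at h1
    simp only [hT, Bool.and_eq_true, beq_iff_eq, decide_eq_true_eq, bne_iff_ne, ne_eq] at h1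
    obtain ⟨⟨⟨⟨⟨rfl, hC⟩, rfl⟩, rfl⟩, hne⟩, hne'⟩ := h1
    have hC0 : (C : F) ≠ 0 := by
      rcases Int.natAbs_eq C with e | e <;> rw [e] <;> rcases hC with h | h <;> simp [h, hp]
    have hab := G.commAt a b (hO a ha) (hO b hb) hne hne' (-(t / (C : F))) (1 : F)
    have e : G.wordG (cw T a b (-(t / (C : F))) (1 : F)) = G.X F (sim D j) t := by
      simp [Good.wordG, cw, hT, mul_div_cancel₀ _ hC0]
    rw [e] at hab
    have h2 : G.X F (sim D j) t = (G.X F a (-(t / (C : F))) * G.X F b 1)⁻¹ *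
        (G.X F b 1 * G.X F a (-(t / (C : F)))) := by rw [hab]; group
    rw [h2]
    exact mul_mem (inv_mem (mul_mem (G.X_orbN_mem hN h₀ n _ ha _)
      (G.X_orbN_mem hN h₀ n _ hb _))) (mul_mem (G.X_orbN_mem hN h₀ n _ hb _)
      (G.X_orbN_mem hN h₀ n _ ha _))
  refine G.group_le_of_simple fun j hj t => ⟨hsim j hj t, ?_⟩
  have h1 : G.ni F j * G.X F (sim D j) ((T.eta j (sim D j) : F) * t) * (G.ni F j)⁻¹ ∈ K :=
    mul_mem (mul_mem (hN j hj) (hsim j hj _)) (inv_mem (hN j hj))
  rwa [G.ni_conj_X hj (G.sim_lt hj), G.w_sim hj, ← mul_assoc, ← Int.cast_mul,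
    Tables.eta_mul_self, Int.cast_one, one_mul] at h1

theorem diag_card_dvd [Fintype F] :
    Nat.card (D.diagonalSubgroup F) ∣ (Fintype.card F - 1) ^ D.rank := by
  rw [← G.torHom_range, ← Subgroup.index_ker]
  refine (Subgroup.index_dvd_card _).trans ?_
  rw [Nat.card_pi, Finset.prod_const, Finset.card_univ, Fintype.card_fin, Nat.card_units,
    Nat.card_eq_fintype_card]

theorem pW_mod (q : ℕ) : ∃ k, pW D T D.rank q = 1 + q * k := by
  classical
  have hnil : IsW D ([] : List ℕ) := isW_nil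
  have hmem : G.wfun hnil ∈ wset D T D.rank :=
    mem_wset.2 ⟨[], fun _ h => absurd h (List.not_mem_nil), G.isFun_wfun hnil⟩
  rw [pW, ← Finset.add_sum_erase _ _ hmem, numInv_eq (G.isFun_wfun hnil), invSet_nil, pow_zero]
  obtain ⟨k, hk⟩ : q ∣ ∑ f ∈ (wset D T D.rank).erase (G.wfun hnil), q ^ numInv D f := by
    refine Finset.dvd_sum fun f hf => dvd_pow_self q fun h0 => ?_
    obtain ⟨hne, hf⟩ := Finset.mem_erase.1 hf
    obtain ⟨l, hl, hlf⟩ := mem_wset.1 hf
    rw [numInv_eq hlf, Finset.card_eq_zero] at h0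
    have hlW := hl.isW le_rfl
    have h2 : ∀ i < D.rank, npos D ≤ wl T l (sim D i) := fun i hi => by
      by_contra hcon
      have : sim D i ∈ invSet D T l :=
        mem_invSet.2 ⟨G.sim_lt hi, G.sim_pos hi, not_le.1 hcon⟩
      simp [h0] at this
    exact hne (funext fun s => Fin.ext (by rw [hlf s, G.wl_eq_self_of_pos hlW h2 s.isLt]; rfl))
  exact ⟨k, by rw [hk]⟩

theorem exists_sylow [Fintype F] (p : ℕ) [Fact p.Prime] [CharP F p] :
    ∃ P : Sylow p ↥(D.group F),
      (P : Subgroup ↥(D.group F)) = (D.posUnipotent F).subgroupOf (D.group F) := by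
  have hle : D.posUnipotent F ≤ D.group F := le_sup_left.trans G.borel_le_group
  obtain ⟨m, hp, hq⟩ := FiniteField.card F p
  have hcard : Nat.card ((D.posUnipotent F).subgroupOf (D.group F)) =
      p ^ ((m : ℕ) * (D.nroots / 2)) := by
    rw [Nat.card_congr (Subgroup.subgroupOfEquivOfLe hle).toEquiv, G.card_pos, hq, pow_mul]
  haveI : Finite ↥(D.group F) := inferInstance
  refine ⟨(IsPGroup.of_card hcard).toSylow ?_, rfl⟩
  intro hdvd
  have h1 := Subgroup.card_mul_index ((D.posUnipotent F).subgroupOf (D.group F))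
  have h2 : Nat.card ((D.posUnipotent F).subgroupOf (D.group F)) = Nat.card (D.posUnipotent F) :=
    Nat.card_congr (Subgroup.subgroupOfEquivOfLe hle).toEquiv
  rw [h2, G.card_group, G.card_borel, mul_assoc] at h1
  rw [Nat.eq_of_mul_eq_mul_left Nat.card_pos h1] at hdvd
  obtain ⟨k, hk⟩ := G.pW_mod (Fintype.card F)
  have hpq : p ∣ Fintype.card F := hq ▸ dvd_pow_self p m.pos.ne'
  rcases hp.dvd_mul.1 hdvd with h | h
  · have h3 := hp.dvd_of_dvd_pow (h.trans G.diag_card_dvd)
    have h4 : p ∣ 1 := by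
      have := Nat.dvd_sub hpq h3
      rwa [Nat.sub_sub_self Fintype.card_pos] at this
    exact hp.not_dvd_one h4
  · rw [hk, ← Nat.dvd_add_iff_left (dvd_mul_of_dvd_left hpq k)] at h
    exact hp.not_dvd_one h

end Good

end Cfsg.Agent.Lib.Chev
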