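import Cfsg.Agent.Lib.Chev.Perfect
import Cfsg.Agent.Lib.BNPair.Simple

/-!
Simplicity of the Chevalley groups.
-/

set_option autoImplicit false

namespace Cfsg.Agent.Lib.Chev

open Cfsg.Lie
open scoped Matrix commutatorElement

/-- Two fundamental reflections that do not commute. -/
def adj (D : ChevalleyDatum) (T : Tables) (i j : ℕ) : Bool :=
  anyLt D.nroots fun s => decide (T.w i (T.w j (T.w i (T.w j s))) ≠ s)

/-- Nodes reached from node `0` in at most `k` steps along non-commuting pairs. -/
def reach (D : ChevalleyDatum) (T : Tables) : ℕ → List ℕ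
  | 0 => [0]
  | k + 1 =>
    let l := reach D T k
    l ++ (List.range D.rank).filter fun j => l.any fun i => decide (i < D.rank) && adj D T i j

/-- The diagram is connected. -/
def chkConn (D : ChevalleyDatum) (T : Tables) : Bool :=
  decide (0 < D.rank) && allLt D.rank fun i => (reach D T D.rank).contains i

variable {D : ChevalleyDatum} {T : Tables} {F : Type*} [Field F]

namespace Good

variable (G : Good D T)
include G

theorem commutator_not_mem {i j : ℕ} (hi : i < D.rank) (hj : j < D.rank) (h : adj D T i j = true) :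
    G.ni F i * G.ni F j * (G.ni F i)⁻¹ * (G.ni F j)⁻¹ ∉ D.borelSubgroup F := by
  intro hb
  have hr := G.rep_mul (G.rep_mul (G.rep_mul (G.rep_ni (F := F) hi) (G.rep_ni hj))
    (G.rep_ni_inv hi)) (G.rep_ni_inv hj)
  obtain ⟨s, hs, hne⟩ := anyLt_eq_true h
  rw [decide_eq_true_eq] at hne
  apply hne
  have := G.borel_monomial_fix hb hr hs
  simpa [wl] using this

theorem bn_irreducible (h : chkConn D T = true) : (G.bnPair F).Irreducible := by
  intro J hJ hne hne'
  simp only [chkConn, Bool.and_eq_true, decide_eq_true_eq] at h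
  by_contra hcon
  push Not at hcon
  let e : ∀ i, i < D.rank → ↥(D.group F) := fun i hi => ⟨G.ni F i, G.ni_mem_group hi⟩
  have heS : ∀ i hi, e i hi ∈ (G.bnPair F).S := fun i hi => G.mem_niSet.2 ⟨i, hi, rfl⟩
  have hB : (G.bnPair F).B = (D.borelSubgroup F).subgroupOf (D.group F) := rfl
  have hc : ∀ x ∈ J, ∀ y ∈ (G.bnPair F).S \ J,
      (x : GL D.Idx F) * y * (x : GL D.Idx F)⁻¹ * (y : GL D.Idx F)⁻¹ ∈ D.borelSubgroup F := by
    intro x hx y hy
    have := hcon x hx y hy
    rw [hB, Subgroup.mem_subgroupOf] at this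
    simpa only [Subgroup.coe_mul, Subgroup.coe_inv] using this
  have ev : ∀ i hi, ((e i hi : ↥(D.group F)) : GL D.Idx F) = G.ni F i := fun i hi => rfl
  clear_value e
  have hsame : ∀ i j (hi : i < D.rank) (hj : j < D.rank), adj D T i j = true →
      (e i hi ∈ J ↔ e j hj ∈ J) := by
    intro i j hi hj ha
    refine ⟨fun hiJ => ?_, fun hjJ => ?_⟩
    · by_contra hjJ
      have h2 := hc _ hiJ _ ⟨heS j hj, hjJ⟩
      rw [ev, ev] at h2
      exact G.commutator_not_mem (F := F) hi hj ha h2
    · by_contra hiJ
      refine G.commutator_not_mem (F := F) hi hj ha ?_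
      have h2 := inv_mem (hc _ hjJ _ ⟨heS i hi, hiJ⟩)
      rw [ev, ev] at h2
      simpa only [mul_inv_rev, inv_inv, ← mul_assoc] using h2
  have key : ∀ k, ∀ i ∈ reach D T k, ∀ hi : i < D.rank, (e i hi ∈ J ↔ e 0 h.1 ∈ J) := by
    intro k
    induction k with
    | zero =>
      intro i hi hlt
      simp only [reach, List.mem_singleton] at hi
      subst hi
      rfl
    | succ k ih =>
      intro j hj hjlt
      simp only [reach, List.mem_append, List.mem_filter, List.any_eq_true, Bool.and_eq_true,
        decide_eq_true_eq] at hj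
      rcases hj with hj | ⟨-, i, hil, hilt, ha⟩
      · exact ih j hj hjlt
      · exact (hsame i j hilt hjlt ha).symm.trans (ih i hil hilt)
  have all : ∀ i hi, (e i hi ∈ J ↔ e 0 h.1 ∈ J) := fun i hi =>
    key _ i (by simpa using allLt_eq_true h.2 i hi) hi
  obtain ⟨x, hx⟩ := hne
  obtain ⟨y, hy, hyJ⟩ := hne'
  obtain ⟨i, hi, ex⟩ := G.mem_niSet.1 (hJ hx)
  obtain ⟨j, hj, ey⟩ := G.mem_niSet.1 hy
  have hx' : x = e i hi := Subtype.ext (ex.trans (ev i hi).symm)
  have hy' : y = e j hj := Subtype.ext (ey.trans (ev j hj).symm)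
  exact hyJ (hy' ▸ (all j hj).2 ((all i hi).1 (hx' ▸ hx)))

theorem group_nontrivial (h : 0 < D.rank) : Nontrivial ↥(D.group F) :=
  ⟨⟨⟨G.X F (sim D 0) 1, G.X_mem_group (G.sim_lt h) 1⟩, 1, fun e =>
    one_ne_zero ((G.X_eq_one_iff (G.sim_lt h) (1 : F)).1 (congrArg Subtype.val e))⟩⟩

theorem simple (h : chkConn D T = true) (hperf : commutator ↥(D.group F) = ⊤) :
    IsSimpleGroup ↥(D.group F) ∧ ¬ IsMulCommutative ↥(D.group F) := by
  have h0 : 0 < D.rank := by
    simp only [chkConn, Bool.and_eq_true, decide_eq_true_eq] at h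
    exact h.1
  have := G.group_nontrivial (F := F) h0
  have hsolv : Group.IsSolvable (G.bnPair F).B := by
    have := G.borel_solvable (F := F)
    let φ := Subgroup.subgroupOfEquivOfLe (G.borel_le_group (F := F))
    exact Group.isSolvable_of_surjective (f := φ.symm.toMonoidHom) φ.symm.surjective
  refine ⟨BNPair.simple_of_criterion (G.bnPair F) (G.bn_irreducible h) hsolv hperf
    G.normalCore_borel, fun hc => ?_⟩
  have hbot : commutator ↥(D.group F) = ⊥ := by
    rw [commutator_def, Subgroup.commutator_eq_bot_iff_le_centralizer]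
    intro x _
    rw [Subgroup.mem_centralizer_iff]
    exact fun y _ => hc.is_comm.comm y x
  rw [hperf] at hbot
  exact bot_ne_top hbot.symm

end Good

theorem connG2 : chkConn chevG2 tabG2 = true := by decide +kernel
theorem connB2 : chkConn chevB2 tabB2 = true := by decide +kernel
theorem connD4 : chkConn chevD4 tabD4 = true := by decide +kernel
theorem connF4 : chkConn chevF4 tabF4 = true := by decide +kernel
theorem connE6 : chkConn chevE6 tabE6 = true := by decide +kernel
theorem connE7 : chkConn chevE7 tabE7 = true := by decide +kernel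
theorem connE8 : chkConn chevE8 tabE8 = true := by decide +kernel

theorem perfect_group {D : ChevalleyDatum}
    (hD : D ∈ [chevG2, chevB2, chevD4, chevF4, chevE6, chevE7, chevE8])
    (h2 : D = chevG2 ∨ D = chevB2 → ∃ a : F, a ≠ 0 ∧ a ≠ 1) :
    commutator ↥(D.group F) = ⊤ := by
  simp only [List.mem_cons, List.not_mem_nil, or_false] at hD
  rcases hD with rfl | rfl | rfl | rfl | rfl | rfl | rfl
  · exact goodG2.perfect (fun _ => h2 (Or.inl rfl)) perfectG2
  · exact goodB2.perfect (fun _ => h2 (Or.inr rfl)) perfectB2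
  · exact goodD4.perfect (by simp) perfectD4
  · exact goodF4.perfect (by simp) perfectF4
  · exact goodE6.perfect (by simp) perfectE6
  · exact goodE7.perfect (by simp) perfectE7
  · exact goodE8.perfect (by simp) perfectE8

end Cfsg.Agent.Lib.Chev
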