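import Cfsg.Agent.Lib.Chev.NormalForm
import Cfsg.Agent.Lib.Chev.Poincare
import Cfsg.Agent.Lib.Chev.All

/-!
Standard parabolic subgroups and their Levi decomposition.
-/

set_option autoImplicit false
set_option maxRecDepth 100000
set_option linter.unusedSectionVars false

namespace Cfsg.Agent.Lib.Chev

open Cfsg.Lie
open scoped Matrix

/-- The coefficients of roots and coroots vanish together and positive roots have no negative
coefficient. -/
def chkPar (D : ChevalleyDatum) (T : Tables) : Bool :=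
  chkSign D T && allLt D.nroots fun r => allLt D.rank fun i =>
    decide (T.k i r = 0) == decide (T.c r i = 0)

theorem parG2 : chkPar chevG2 tabG2 = true := by decide +kernel
theorem parB2 : chkPar chevB2 tabB2 = true := by decide +kernel
theorem parD4 : chkPar chevD4 tabD4 = true := by decide +kernel
theorem parF4 : chkPar chevF4 tabF4 = true := by decide +kernel
theorem parE6 : chkPar chevE6 tabE6 = true := by decide +kernel
theorem parE7 : chkPar chevE7 tabE7 = true := by decide +kernel
theorem parE8 : chkPar chevE8 tabE8 = true := by decide +kernel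

theorem exists_good_par {D : ChevalleyDatum}
    (hD : D ∈ [chevG2, chevB2, chevD4, chevF4, chevE6, chevE7, chevE8]) :
    ∃ T, Good D T ∧ chkPar D T = true := by
  simp only [List.mem_cons, List.not_mem_nil, or_false] at hD
  rcases hD with rfl | rfl | rfl | rfl | rfl | rfl | rfl
  exacts [⟨_, goodG2, parG2⟩, ⟨_, goodB2, parB2⟩, ⟨_, goodD4, parD4⟩, ⟨_, goodF4, parF4⟩,
    ⟨_, goodE6, parE6⟩, ⟨_, goodE7, parE7⟩, ⟨_, goodE8, parE8⟩]

variable {D : ChevalleyDatum} {T : Tables} {F : Type*} [Field F]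

/-- The positive roots outside a standard root subsystem. -/
def outSet (D : ChevalleyDatum) (J : Set ℕ) : Set ℕ := {q | ¬ D.InRootSub J q}

open Classical in
/-- The sum of the coefficients outside a set of fundamental roots. -/
noncomputable def wtJ (D : ChevalleyDatum) (T : Tables) (J : Set ℕ) (a : ℕ) : ℤ :=
  ∑ i ∈ (Finset.range D.rank).filter fun i => i ∉ J, T.k i a

/-- A bound for the weights. -/
noncomputable def wtMax (D : ChevalleyDatum) (T : Tables) (J : Set ℕ) : ℕ :=
  ∑ a ∈ Finset.range D.nroots, (wtJ D T J a).natAbs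

/-- The weight as a natural number, with sign `e`. -/
noncomputable def grade (D : ChevalleyDatum) (T : Tables) (J : Set ℕ) (e : ℤ) (a : ℕ) : ℕ :=
  if a < D.nroots then ((wtMax D T J : ℤ) + e * wtJ D T J a).toNat else wtMax D T J

theorem grade_root {J : Set ℕ} {e : ℤ} (he : e = 1 ∨ e = -1) {a : ℕ} (ha : a < D.nroots) :
    (grade D T J e a : ℤ) = (wtMax D T J : ℤ) + e * wtJ D T J a := by
  have h : (wtJ D T J a).natAbs ≤ wtMax D T J :=
    Finset.single_le_sum (f := fun a => (wtJ D T J a).natAbs) (fun _ _ => Nat.zero_le _)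
      (Finset.mem_range.2 ha)
  rw [grade, if_pos ha]
  rcases he with rfl | rfl <;> omega

namespace Good

variable (G : Good D T) (hP : chkPar D T = true)
include G hP

theorem par_sign : chkSign D T = true := by
  simp only [chkPar, Bool.and_eq_true] at hP; exact hP.1

theorem inRootSub_iff {J : Set ℕ} {r : ℕ} :
    D.InRootSub J r ↔ r < D.nroots ∧ ∀ i < D.rank, i ∉ J → T.k i r = 0 := by
  refine and_congr_right fun hr => forall_congr' fun i => forall_congr' fun hi =>
    forall_congr' fun _ => ?_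
  rw [G.coroot_eq hr hi]
  simp only [chkPar, Bool.and_eq_true] at hP
  have := allLt_eq_true (allLt_eq_true hP.2 r hr) i hi
  simp only [beq_iff_eq, decide_eq_decide] at this
  exact this.symm

theorem out_pos {J : Set ℕ} {q : ℕ} (hq : q < D.nroots) (hp : npos D ≤ q)
    (h : q ∈ outSet D J) : ∃ i < D.rank, i ∉ J ∧ 0 < T.k i q := by
  by_contra hcon
  push Not at hcon
  refine h ((G.inRootSub_iff hP).2 ⟨hq, fun i hi hiJ => ?_⟩)
  exact le_antisymm (hcon i hi hiJ) (Good.k_nonneg (G.par_sign hP) hq hp hi)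

theorem out_of_pos {J : Set ℕ} {q : ℕ} (hq : q < D.nroots) {i : ℕ} (hi : i < D.rank) (hiJ : i ∉ J)
    (h : 0 < T.k i q) : npos D ≤ q ∧ q ∈ outSet D J := by
  refine ⟨?_, fun hin => ?_⟩
  · by_contra hcon
    have := G.k_nonpos (G.par_sign hP) hq (Nat.lt_of_not_le hcon) hi
    omega
  · have := ((G.inRootSub_iff hP).1 hin).2 i hi hiJ
    omega

theorem out_closed (J : Set ℕ) : Closed D T (outSet D J) := by
  intro r hrS s _ hr hs hpr hps _ c hc
  obtain ⟨k, C, a, b⟩ := c
  obtain ⟨hk, ha, hb, hlin⟩ := G.mem_terms hr hs hc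
  obtain ⟨i, hi, hiJ, hpos⟩ := G.out_pos hP hr hpr hrS
  have h2 := Good.k_nonneg (G.par_sign hP) hs hps hi
  refine (G.out_of_pos hP hk hi hiJ ?_).2
  rw [hlin i hi]
  have ha' : (0 : ℤ) < a := by exact_mod_cast ha
  positivity

theorem radical_eq (J : Set ℕ) : D.unipotentRadical F J = G.USub F (outSet D J) := by
  refine congrArg Subgroup.closure (Set.ext fun g => ?_)
  constructor
  · rintro ⟨r, t, hr, hn, e⟩
    obtain ⟨hr, hp⟩ := G.isPos_iff.1 hr
    exact ⟨r, t, hr, hp, hn, G.eq_X_of_val e⟩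
  · rintro ⟨r, t, hr, hp, hn, rfl⟩
    exact ⟨r, t, G.isPos_iff.2 ⟨hr, hp⟩, hn, rfl⟩

theorem sim_inRootSub {J : Set ℕ} {j : ℕ} (hj : j < D.rank) :
    D.InRootSub J (sim D j) ↔ j ∈ J := by
  rw [G.inRootSub_iff hP]
  constructor
  · intro h
    by_contra hjJ
    have := h.2 j hj hjJ
    rw [G.k_sim hj hj, if_pos rfl] at this
    exact one_ne_zero this
  · intro hjJ
    refine ⟨G.sim_lt hj, fun i hi hiJ => ?_⟩
    rw [G.k_sim hj hi, if_neg]
    rintro rfl
    exact hiJ hjJ

theorem ng_inRootSub {J : Set ℕ} {r : ℕ} (h : D.InRootSub J r) : D.InRootSub J (ng D r) := by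
  rw [G.inRootSub_iff hP] at h ⊢
  exact ⟨G.ng_lt h.1, fun i hi hiJ => by rw [G.k_ng h.1 hi, h.2 i hi hiJ, neg_zero]⟩

omit hP in
theorem ni_mem_parabolic {J : Set ℕ} {j : ℕ} (hjJ : j ∈ J) (hj : j < D.rank) :
    G.ni F j ∈ D.parabolicSubgroup F J :=
  Subgroup.mem_sup_right (Subgroup.subset_closure
    ⟨j, hjJ, hj, by rw [G.simple_eq, ← G.Ng_val (G.sim_lt hj)]; rfl⟩)

theorem X_mem_parabolic {J : Set ℕ} {r : ℕ} (hr : r < D.nroots)
    (h : npos D ≤ r ∨ D.InRootSub J r) (t : F) : G.X F r t ∈ D.parabolicSubgroup F J := by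
  by_cases hp : npos D ≤ r
  · exact Subgroup.mem_sup_left (Subgroup.mem_sup_left (G.X_mem_posUnipotent hr hp t))
  suffices key : ∀ s, s < D.nroots → npos D ≤ s → D.InRootSub J s →
      ∀ t : F, G.X F (ng D s) t ∈ D.parabolicSubgroup F J by
    have := key (ng D r) (G.ng_lt hr) ((G.ng_pos_iff hr).2 (Nat.lt_of_not_le hp))
      (G.ng_inRootSub hP (h.resolve_left hp)) t
    rwa [G.ng_ng hr] at this
  intro s
  induction s using Nat.strong_induction_on with
  | _ s ih =>
    intro hs hps hin t
    by_cases hsim : ∃ i < D.rank, s = sim D i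
    · obtain ⟨j, hj, rfl⟩ := hsim
      have hn := G.ni_mem_parabolic (F := F) ((G.sim_inRootSub hP hj).1 hin) hj
      have hX : G.X F (sim D j) (-t) ∈ D.parabolicSubgroup F J :=
        Subgroup.mem_sup_left (Subgroup.mem_sup_left (G.X_mem_posUnipotent hs hps _))
      have h1 := mul_mem (mul_mem hn hX) (inv_mem hn)
      rwa [G.ni_conj_X hj hs, G.w_sim hj, G.eta_sim hj, Int.cast_neg, Int.cast_one, neg_mul_neg,
        one_mul] at h1
    push Not at hsim
    obtain ⟨i, hi, hp', hlt⟩ := G.exists_lower hs hps hsim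
    have hs' := G.w_lt hi hs
    have hiJ : i ∈ J := by
      by_contra hiJ
      have h0 := ((G.inRootSub_iff hP).1 hin).2 i hi hiJ
      have h1 := Good.k_nonneg (G.par_sign hP) hs' hp' hi
      rw [G.k_w hi hs hi, if_pos rfl, h0] at h1
      have hrel : ∀ j < D.rank, T.k j s = 1 * T.k j (T.w i s) + T.A i s * T.k j (sim D i) := by
        intro j hj
        rw [G.k_w hi hs hj, G.k_sim hi hj]
        split <;> ring
      have hc := code_lin (D := D) hrel
      have h2 := G.code_strictMono hlt hs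
      have h3 := G.code_pos (G.sim_lt hi) (G.sim_pos hi)
      nlinarith
    have hin' : D.InRootSub J (T.w i s) := by
      rw [G.inRootSub_iff hP] at hin ⊢
      refine ⟨hs', fun j hj hjJ => ?_⟩
      rw [G.k_w hi hs hj, if_neg (by rintro rfl; exact hjJ hiJ), hin.2 j hj hjJ]
      rfl
    have hn := G.ni_mem_parabolic (F := F) hiJ hi
    have h1 := mul_mem (mul_mem hn (ih _ hlt hs' hp' hin'
      ((T.eta i (ng D (T.w i s)) : F) * t))) (inv_mem hn)
    rwa [G.ni_conj_X hi (G.ng_lt hs'), G.w_ng hi hs', G.w_w hi hs, ← mul_assoc, ← pow_two,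
      G.eta_sq, one_mul] at h1

/-- The parabolic subgroup as generated by root subgroups. -/
theorem parabolic_eq (J : Set ℕ) :
    D.parabolicSubgroup F J = D.diagonalSubgroup F ⊔
      Subgroup.closure {g : GL D.Idx F | ∃ (r : ℕ) (t : F), (D.IsPosRoot r ∨ D.InRootSub J r) ∧
        (g : Matrix D.Idx D.Idx F) = D.x F r t} := by
  set R := D.diagonalSubgroup F ⊔
      Subgroup.closure {g : GL D.Idx F | ∃ (r : ℕ) (t : F), (D.IsPosRoot r ∨ D.InRootSub J r) ∧
        (g : Matrix D.Idx D.Idx F) = D.x F r t} with hR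
  have hX : ∀ r t, (D.IsPosRoot r ∨ D.InRootSub J r) → G.X F r t ∈ R := fun r t h =>
    Subgroup.mem_sup_right (Subgroup.subset_closure ⟨r, t, h, rfl⟩)
  refine le_antisymm (sup_le (sup_le ?_ le_sup_left) ?_) (sup_le ?_ ?_)
  · exact G.posUnipotent_le_of fun r hr hp t => hX r t (Or.inl (G.isPos_iff.2 ⟨hr, hp⟩))
  · refine (Subgroup.closure_le _).2 ?_
    rintro g ⟨j, hjJ, hj, e⟩
    have e' : g = G.ni F j := Units.ext (by rw [e, G.simple_eq, ← G.Ng_val (G.sim_lt hj)]; rfl)
    have hin := (G.sim_inRootSub hP hj).2 hjJ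
    rw [e']
    exact mul_mem (mul_mem (hX _ _ (Or.inr hin)) (hX _ _ (Or.inr (G.ng_inRootSub hP hin))))
      (hX _ _ (Or.inr hin))
  · exact le_trans le_sup_right le_sup_left
  · refine (Subgroup.closure_le _).2 ?_
    rintro g ⟨r, t, h, e⟩
    have hr : r < D.nroots := h.elim (fun h => h.1) (fun h => h.1)
    rw [G.eq_X_of_val e]
    exact G.X_mem_parabolic hP hr (h.imp_left fun h => (G.isPos_iff.1 h).2) t

theorem parabolic_le_group (J : Set ℕ) : D.parabolicSubgroup F J ≤ D.group F := by
  refine sup_le G.borel_le_group ((Subgroup.closure_le _).2 ?_)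
  rintro g ⟨j, -, hj, e⟩
  have e' : g = G.ni F j := Units.ext (by rw [e, G.simple_eq, ← G.Ng_val (G.sim_lt hj)]; rfl)
  rw [e']
  exact G.ni_mem_group hj

theorem parabolic_le_normalizer (J : Set ℕ) :
    D.parabolicSubgroup F J ≤ Subgroup.normalizer (D.unipotentRadical F J : Set (GL D.Idx F)) := by
  rw [G.radical_eq hP]
  set S := outSet D J with hS
  have hXX : ∀ r, r < D.nroots → npos D ≤ r → ∀ t : F, ∀ x ∈ G.USub F S,
      G.X F r t * x * (G.X F r t)⁻¹ ∈ G.USub F S := by
    intro r hr hpr t x hx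
    have h' : G.USub F S ≤ (G.USub F S).comap (MulAut.conj (G.X F r t)).toMonoidHom := by
      refine G.USub_le_of fun q hq hqp hqS u => ?_
      simp only [Subgroup.mem_comap, MulEquiv.coe_toMonoidHom, MulAut.conj_apply]
      by_cases hqr : q = r
      · subst hqr
        rw [G.X_add, G.X_inv, G.X_add, add_comm t u, add_neg_cancel_right]
        exact G.X_mem_USub hq hqp hqS u
      have hne' : q ≠ ng D r := by have := G.even_n; unfold ng; omega
      have e : G.X F r t * G.X F q u * (G.X F r t)⁻¹ =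
          G.X F q u * G.wordG (cw T r q (-t) u) := by
        rw [mul_assoc, G.X_inv, G.commAt _ q hr hq hqr hne' (-t) u, mul_assoc (G.X F r (-t)),
          ← mul_assoc, G.X_add, add_neg_cancel, G.X_zero, one_mul]
      rw [e]
      refine mul_mem (G.X_mem_USub hq hqp hqS u) (G.wordG_mem fun p hp' => ?_)
      simp only [cw, List.mem_map] at hp'
      obtain ⟨⟨k, C, a, b⟩, hc, rfl⟩ := hp'
      obtain ⟨hk, ha, hb, hlin⟩ := G.mem_terms hr hq hc
      obtain ⟨i, hi, hiJ, hpos⟩ := G.out_pos hP hq hqp hqS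
      have h2 := Good.k_nonneg (G.par_sign hP) hr hpr hi
      have hk' : 0 < T.k i k := by
        rw [hlin i hi]
        have hb' : (0 : ℤ) < b := by exact_mod_cast hb
        positivity
      obtain ⟨hk1, hk2⟩ := G.out_of_pos hP hk hi hiJ hk'
      exact G.X_mem_USub hk hk1 hk2 _
    simpa using h' hx
  refine sup_le (sup_le (G.posUnipotent_le_of fun r hr hp t => ?_) (G.diag_normalizes S)) ?_
  · rw [Subgroup.mem_normalizer_iff]
    refine fun x => ⟨hXX r hr hp t x, fun h => ?_⟩
    have := hXX r hr hp (-t) _ h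
    rw [← G.X_inv] at this
    simpa [mul_assoc] using this
  · refine (Subgroup.closure_le _).2 ?_
    rintro g ⟨j, hjJ, hj, e⟩
    have e' : g = G.ni F j := Units.ext (by rw [e, G.simple_eq, ← G.Ng_val (G.sim_lt hj)]; rfl)
    rw [e', SetLike.mem_coe, Subgroup.mem_normalizer_iff]
    have hN : ∀ x ∈ G.USub F S, G.ni F j * x * (G.ni F j)⁻¹ ∈ G.USub F S := by
      intro x hx
      refine G.act_conj_USub (G.rep_act (G.rep_ni hj)) (fun q hq hp hqS t => ?_) hx
      obtain ⟨i, hi, hiJ, hpos⟩ := G.out_pos hP hq hp hqS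
      have hk' : 0 < T.k i (T.w j q) := by
        rw [G.k_w hj hq hi, if_neg (by rintro rfl; exact hiJ hjJ), sub_zero]
        exact hpos
      obtain ⟨h1, h2⟩ := G.out_of_pos hP (G.w_lt hj hq) hi hiJ hk'
      exact G.X_mem_USub (G.w_lt hj hq) h1 h2 t
    refine fun x => ⟨hN x, fun h => ?_⟩
    have h2 := hN _ h
    have h3 : G.ni F j * G.ni F j * x * (G.ni F j * G.ni F j)⁻¹ ∈ G.USub F S := by
      simpa [mul_assoc] using h2
    exact (Subgroup.mem_normalizer_iff.1 (G.diag_normalizes _ (G.ni_sq hj)) x).2 h3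

theorem levi_le (J : Set ℕ) : D.leviSubgroup F J ≤ D.parabolicSubgroup F J := by
  rw [G.parabolic_eq hP]
  refine sup_le le_sup_left ((Subgroup.closure_le _).2 ?_)
  rintro g ⟨r, t, h, e⟩
  exact Subgroup.mem_sup_right (Subgroup.subset_closure ⟨r, t, Or.inr h, e⟩)

theorem radical_le (J : Set ℕ) : D.unipotentRadical F J ≤ D.parabolicSubgroup F J := by
  rw [G.radical_eq hP]
  exact (G.USub_le_pos _).trans (le_trans le_sup_left le_sup_left)

theorem radical_sup_levi (J : Set ℕ) :
    D.unipotentRadical F J ⊔ D.leviSubgroup F J = D.parabolicSubgroup F J := by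
  refine le_antisymm (sup_le (G.radical_le hP J) (G.levi_le hP J)) ?_
  rw [G.parabolic_eq hP]
  refine sup_le (le_trans le_sup_left le_sup_right) ((Subgroup.closure_le _).2 ?_)
  rintro g ⟨r, t, h, e⟩
  by_cases hin : D.InRootSub J r
  · exact Subgroup.mem_sup_right (Subgroup.mem_sup_right (Subgroup.subset_closure ⟨r, t, hin, e⟩))
  · exact Subgroup.mem_sup_left (Subgroup.subset_closure ⟨r, t, h.resolve_right hin, hin, e⟩)

omit hP in
theorem x_raises_le {f : ℕ → ℕ} {r : ℕ} (hr : r < D.nroots) (t : F)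
    (h1 : ∀ i < D.rank, f (D.nroots + i) ≤ f r ∧ f (ng D r) ≤ f (D.nroots + i))
    (h2 : f (ng D r) ≤ f r)
    (h3 : ∀ (s u m : ℕ) (M : ℤ), s < D.nroots → (T.ch r s)[m]? = some (u, M) → f s ≤ f u) :
    Raises f (D.x F r t) 0 := by
  have key : Raises f (D.x F r t - 1) 0 := by
    intro x y hxy
    rw [entry_eq (D.x F r t - 1), Matrix.sub_mulVec, Matrix.one_mulVec, Pi.sub_apply]
    rcases code_cases D (cd_lt y) with ⟨i, hi, he⟩ | hy
    · rw [he, G.x_bas_h hr hi, Pi.add_apply, add_sub_cancel_left, Pi.smul_apply,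
        bas_apply_eq_zero, smul_zero]
      intro hx
      have := (h1 i hi).1
      rw [hx, he] at hxy
      omega
    by_cases e1 : cd D y = r
    · rw [e1, G.x_bas_self hr, sub_self]
    by_cases e2 : cd D y = ng D r
    · rw [e2, G.x_bas_ng hr, Pi.add_apply, Pi.add_apply]
      rw [e2] at hxy
      have hh : hvec D T F r x = 0 := by
        rcases code_cases D (cd_lt x) with ⟨i, hi, he⟩ | hx
        · have := (h1 i hi).2
          rw [he] at hxy
          omega
        · exact hvec_apply_eq_zero r hx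
      have hb : bas D F r x = 0 := bas_apply_eq_zero fun hx => by rw [hx] at hxy; omega
      simp [hh, hb]
    rw [G.x_bas_other hr hy e1 e2, Pi.add_apply, add_sub_cancel_left]
    simp only [chVec, list_sum_apply']
    refine List.sum_eq_zero fun z hz => ?_
    simp only [List.map_map, List.mem_map, Function.comp_apply] at hz
    obtain ⟨⟨⟨u, M⟩, m⟩, hq, rfl⟩ := hz
    have := h3 (cd D y) u m M hy (List.mk_mem_zipIdx_iff_getElem?.1 hq)
    rw [Pi.smul_apply, bas_apply_eq_zero, smul_zero]
    intro hx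
    simp only [hx] at hxy
    omega
  have := key.add raises_one
  simpa using this

omit hP in
theorem wtJ_ch {J : Set ℕ} {r s m u : ℕ} {M : ℤ} (hr : r < D.nroots) (hs : s < D.nroots)
    (hm : (T.ch r s)[m]? = some (u, M)) :
    wtJ D T J u = ((m : ℤ) + 1) * wtJ D T J r + wtJ D T J s := by
  obtain ⟨-, -, -, -, -, hk, -⟩ := G.ch_entry hr hs hm
  classical
  rw [wtJ, wtJ, wtJ, Finset.mul_sum, ← Finset.sum_add_distrib]
  refine Finset.sum_congr rfl fun i hi => hk i ?_
  exact Finset.mem_range.1 (Finset.mem_filter.1 hi).1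

omit hP in
theorem wtJ_ng {J : Set ℕ} {r : ℕ} (hr : r < D.nroots) :
    wtJ D T J (ng D r) = - wtJ D T J r := by
  classical
  rw [wtJ, wtJ, ← Finset.sum_neg_distrib]
  exact Finset.sum_congr rfl fun i hi => G.k_ng hr (Finset.mem_range.1 (Finset.mem_filter.1 hi).1)

theorem radical_inf_levi (J : Set ℕ) : D.unipotentRadical F J ⊓ D.leviSubgroup F J = ⊥ := by
  classical
  rw [eq_bot_iff]
  rintro g ⟨hU, hL⟩
  rw [Subgroup.mem_bot]
  have h1 : Raises (grade D T J 1) ((g : Matrix D.Idx D.Idx F) - 1) 1 := by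
    refine raises_of_mem_closure ?_ hU
    rintro x ⟨r, t, hr, hn, hx⟩
    obtain ⟨hr, hp⟩ := G.isPos_iff.1 hr
    rw [G.eq_X_of_val hx, G.X_inv]
    obtain ⟨i, hi, hiJ, hpos⟩ := G.out_pos hP hr hp hn
    have hw : 0 < wtJ D T J r :=
      lt_of_lt_of_le hpos (Finset.single_le_sum (f := fun i => T.k i r)
        (fun j hj => Good.k_nonneg (G.par_sign hP) hr hp
          (Finset.mem_range.1 (Finset.mem_filter.1 hj).1))
        (Finset.mem_filter.2 ⟨Finset.mem_range.2 hi, hiJ⟩))
    have hgr := grade_root (T := T) (J := J) (Or.inl rfl) hr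
    have hgn := grade_root (T := T) (J := J) (Or.inl rfl) (G.ng_lt hr)
    rw [G.wtJ_ng hr] at hgn
    have hh : ∀ i, grade D T J 1 (D.nroots + i) = wtMax D T J := fun i => if_neg (by omega)
    have key : ∀ u : F, Raises (grade D T J 1) (D.x F r u - 1) 1 := fun u => by
      refine G.x_sub_one_raises hr u (fun i _ => ?_) (by omega) fun s u' m M hs hm => ?_
      · rw [hh]; omega
      · have hu := (G.ch_entry hr hs hm).1
        have e1 := grade_root (T := T) (J := J) (Or.inl rfl) hs
        have e2 := grade_root (T := T) (J := J) (Or.inl rfl) hu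
        rw [G.wtJ_ch hr hs hm] at e2
        have : 0 < ((m : ℤ) + 1) * wtJ D T J r := mul_pos (by omega) hw
        omega
    exact ⟨key t, key (-t)⟩
  have h2 : Raises (grade D T J (-1)) (g : Matrix D.Idx D.Idx F) 0 := by
    have hgen : ∀ (r : ℕ) (t : F), D.InRootSub J r →
        Raises (grade D T J (-1)) (G.X F r t : Matrix D.Idx D.Idx F) 0 := by
      intro r t hin
      obtain ⟨hr, hz⟩ := (G.inRootSub_iff hP).1 hin
      have hw : wtJ D T J r = 0 := Finset.sum_eq_zero fun i hi =>
        hz i (Finset.mem_range.1 (Finset.mem_filter.1 hi).1) (Finset.mem_filter.1 hi).2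
      have hgr := grade_root (T := T) (J := J) (Or.inr rfl) hr
      have hgn := grade_root (T := T) (J := J) (Or.inr rfl) (G.ng_lt hr)
      rw [G.wtJ_ng hr] at hgn
      have hh : ∀ i, grade D T J (-1) (D.nroots + i) = wtMax D T J := fun i => if_neg (by omega)
      rw [G.X_val]
      refine G.x_raises_le hr t (fun i _ => ?_) (by omega) fun s u' m M hs hm => ?_
      · rw [hh]; omega
      · have hu := (G.ch_entry hr hs hm).1
        have e1 := grade_root (T := T) (J := J) (Or.inr rfl) hs
        have e2 := grade_root (T := T) (J := J) (Or.inr rfl) hu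
        rw [G.wtJ_ch hr hs hm, hw, mul_zero, zero_add] at e2
        omega
    have hdiag : ∀ h ∈ D.diagonalSubgroup F,
        Raises (grade D T J (-1)) ((h : GL D.Idx F) : Matrix D.Idx D.Idx F) 0 :=
      fun h hh x y hxy => G.diag_offdiag hh (by rintro rfl; omega)
    have e : D.leviSubgroup F J = Subgroup.closure ((D.diagonalSubgroup F : Set (GL D.Idx F)) ∪
        {g | ∃ (r : ℕ) (t : F), D.InRootSub J r ∧ (g : Matrix D.Idx D.Idx F) = D.x F r t}) := by
      rw [Subgroup.closure_union, Subgroup.closure_eq]; rfl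
    rw [e] at hL
    clear h1 hU
    induction hL using Subgroup.closure_induction_left with
    | one => exact raises_one
    | mul_left x hx y _ ih =>
      rw [Units.val_mul]
      refine Raises.mul (a := 0) (b := 0) ?_ ih
      rcases hx with hx | ⟨r, t, hin, e⟩
      · exact hdiag x hx
      · rw [G.eq_X_of_val e]; exact hgen r t hin
    | inv_mul_cancel x hx y _ ih =>
      rw [Units.val_mul]
      refine Raises.mul (a := 0) (b := 0) ?_ ih
      rcases hx with hx | ⟨r, t, hin, e⟩
      · exact hdiag _ (inv_mem hx)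
      · rw [G.eq_X_of_val e, G.X_inv]; exact hgen r _ hin
  refine Units.ext ?_
  rw [Units.val_one, ← sub_eq_zero]
  ext x y
  rw [Matrix.zero_apply]
  by_cases hlt : grade D T J 1 (cd D x) < grade D T J 1 (cd D y) + 1
  · exact h1 x y hlt
  have hne : x ≠ y := by rintro rfl; omega
  rw [Matrix.sub_apply, Matrix.one_apply_ne hne, sub_zero]
  refine h2 x y ?_
  have hcode : ∀ z : D.Idx, (grade D T J (-1) (cd D z) : ℤ) =
      2 * (wtMax D T J : ℤ) - grade D T J 1 (cd D z) := by
    intro z
    by_cases hz : cd D z < D.nroots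
    · rw [grade_root (Or.inr rfl) hz, grade_root (Or.inl rfl) hz]; ring
    · simp only [grade, if_neg hz]; ring
  have hx' := hcode x
  have hy' := hcode y
  omega

theorem mem_parabolic_of_normalizes (J : Set ℕ) :
    ∀ (k : ℕ) (n : GL D.Idx F) (l : List ℕ), G.Rep F n l → (invSet D T l).card = k →
      n ∈ Subgroup.normalizer (D.unipotentRadical F J : Set (GL D.Idx F)) →
      n ∈ D.parabolicSubgroup F J := by
  intro k
  induction k using Nat.strong_induction_on with
  | _ k ih =>
    intro n l hl hk hn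
    by_cases hall : ∀ i < D.rank, npos D ≤ wl T l (sim D i)
    · have h1 := G.nl_mem_diag_of_pos (F := F) _ rfl hl.1 hall
      have h2 := mul_mem hl.2 h1
      rw [inv_mul_cancel_right] at h2
      exact Subgroup.mem_sup_left (Subgroup.mem_sup_right h2)
    push Not at hall
    obtain ⟨i, hi, hneg⟩ := hall
    have hiJ : i ∈ J := by
      by_contra hiJ
      have hX : G.X F (sim D i) 1 ∈ D.unipotentRadical F J := by
        rw [G.radical_eq hP]
        exact G.X_mem_USub (S := outSet D J) (G.sim_lt hi) (G.sim_pos hi)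
          (fun h => hiJ ((G.sim_inRootSub hP hi).1 h)) 1
      have h1 := (Subgroup.mem_normalizer_iff.1 hn _).1 hX
      obtain ⟨hlt, c, hc, e⟩ := G.rep_act hl _ (G.sim_lt hi)
      rw [e, mul_one] at h1
      rw [G.radical_eq hP] at h1
      have h3 := Subgroup.mem_bot.1 (G.borel_inf_neg (F := F) ▸ Subgroup.mem_inf.2
        ⟨Subgroup.mem_sup_left (G.USub_le_pos _ h1), G.X_mem_negUnipotent hlt hneg c⟩)
      rw [G.X_eq_one_iff hlt] at h3
      exact hc h3
    have hni := G.ni_mem_parabolic (F := F) hiJ hi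
    have hl' : G.Rep F (n * G.ni F i) (l ++ [i]) := G.rep_mul hl (G.rep_ni hi)
    have hcard : (invSet D T (l ++ [i])).card < k := by
      have hpos : npos D ≤ wl T (l ++ [i]) (sim D i) := by
        rw [wl_append]
        show npos D ≤ wl T l (T.w i (sim D i))
        rw [G.w_sim hi, G.wl_ng hl.1 (G.sim_lt hi)]
        exact (G.ng_pos_iff (G.wl_lt hl.1 (G.sim_lt hi))).2 hneg
      have h2 := G.inv_succ hl'.1 hi hpos
      have e : invSet D T (l ++ [i] ++ [i]) = invSet D T l := by
        ext s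
        rw [mem_invSet, mem_invSet, wl_append, wl_append]
        refine and_congr_right fun hs => ?_
        show _ ∧ wl T l (T.w i (T.w i s)) < _ ↔ _
        rw [G.w_w hi hs]
      rw [e] at h2
      omega
    have h := ih _ hcard _ _ hl' rfl (mul_mem hn (G.parabolic_le_normalizer hP J hni))
    have h2 := mul_mem h (inv_mem hni)
    rwa [mul_inv_cancel_right] at h2

theorem normalizer_radical (J : Set ℕ) :
    Subgroup.normalizer (D.unipotentRadical F J : Set (GL D.Idx F)) ⊓ D.group F =
      D.parabolicSubgroup F J := by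
  refine le_antisymm ?_ (le_inf (G.parabolic_le_normalizer hP J) (G.parabolic_le_group hP J))
  rintro g ⟨hgN, hg⟩
  obtain ⟨b, hb, n, l, hl, u, hu, rfl⟩ := G.exists_normal_form hg
  have hbP : b ∈ D.parabolicSubgroup F J := Subgroup.mem_sup_left hb
  have huP : u ∈ D.parabolicSubgroup F J :=
    Subgroup.mem_sup_left (Subgroup.mem_sup_left (G.USub_le_pos _ hu))
  have hn := mul_mem (mul_mem (inv_mem (G.parabolic_le_normalizer hP J hbP)) hgN)
    (inv_mem (G.parabolic_le_normalizer hP J huP))
  rw [mul_assoc b, inv_mul_cancel_left, mul_inv_cancel_right] at hn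
  exact mul_mem (mul_mem hbP (G.mem_parabolic_of_normalizes hP J _ n l hl rfl hn)) huP

end Good

end Cfsg.Agent.Lib.Chev
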