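import Cfsg.Agent.Lib.Chev.Order
import Cfsg.Agent.Lib.Chev.Parabolic
import Cfsg.Agent.Lib.Modular.WeightCount

/-!
The split BN datum of a Chevalley group with injectively parametrised torus.
-/

set_option autoImplicit false
set_option linter.unusedSectionVars false

namespace Cfsg.Agent.Lib.Chev

open Cfsg.Lie
open scoped Matrix

variable {D : ChevalleyDatum} {T : Tables} {F : Type*} [Field F]

namespace Good

variable (G : Good D T)
include G

/-- The conjugate of a torus element by a fundamental `n`. -/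
theorem ni_conj_torus {i : ℕ} (hi : i < D.rank) {h : GL D.Idx F}
    (hh : h ∈ D.diagonalSubgroup F) :
    ∃ x : F, x ≠ 0 ∧ G.ni F i * h * (G.ni F i)⁻¹ = h * G.Hg F (sim D i) x := by
  obtain ⟨c, hc, e⟩ := G.exists_tor hh
  have hne : tor D T c (sim D i) ≠ 0 := tor_ne_zero G (fun m _ => hc m) _
  refine ⟨(tor D T c (sim D i))⁻¹, inv_ne_zero hne, ?_⟩
  rw [mul_inv_eq_iff_eq_mul]
  refine Units.ext ?_
  rw [Units.val_mul, Units.val_mul, Units.val_mul, e, G.ni_dmat hi,
    G.Hg_eq (G.sim_lt hi) (inv_ne_zero hne), dmat_mul]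
  congr 1
  refine dmat_congr fun s hs => ?_
  rw [G.P_sim hi, inv_zpow, ← zpow_neg]
  simp only [tor, ← Finset.prod_zpow, ← zpow_mul, ← Finset.prod_mul_distrib]
  refine Finset.prod_congr rfl fun m hm => ?_
  rw [← zpow_add₀ (hc m), G.A_w hi hs (Finset.mem_range.1 hm)]
  congr 1
  ring

/-- The subtori of a set of fundamental roots. -/
def HSub (F : Type*) [Field F] (K : Set ℕ) : Subgroup (GL D.Idx F) :=
  Subgroup.closure {g | ∃ j ∈ K, j < D.rank ∧ ∃ x : F, x ≠ 0 ∧ g = G.Hg F (sim D j) x}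

theorem HSub_le (K : Set ℕ) : G.HSub F K ≤ D.diagonalSubgroup F := by
  refine (Subgroup.closure_le _).2 ?_
  rintro _ ⟨j, -, hj, x, hx, rfl⟩
  exact G.Hg_mem (G.sim_lt hj) hx

theorem Hg_mem_HSub {K : Set ℕ} {j : ℕ} (hjK : j ∈ K) (hj : j < D.rank) {x : F} (hx : x ≠ 0) :
    G.Hg F (sim D j) x ∈ G.HSub F K :=
  Subgroup.subset_closure ⟨j, hjK, hj, x, hx, rfl⟩

theorem ni_sq_eq (i : ℕ) : G.ni F i * G.ni F i = (G.Hg F (sim D i) (-1))⁻¹ := by
  rw [Good.Hg, mul_inv_rev, G.Ng_inv, neg_neg]; rfl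

theorem Hg_one' {r : ℕ} (hr : r < D.nroots) : G.Hg F r (1 : F) = 1 := by
  refine Units.ext ?_
  rw [G.Hg_eq hr one_ne_zero, Units.val_one, ← dmat_one]
  exact dmat_congr fun s _ => one_zpow _

theorem Hg_inv' {r : ℕ} (hr : r < D.nroots) {t : F} (ht : t ≠ 0) :
    (G.Hg F r t)⁻¹ = G.Hg F r t⁻¹ :=
  inv_eq_of_mul_eq_one_right (by rw [G.Hg_mul hr ht (inv_ne_zero ht), mul_inv_cancel₀ ht, G.Hg_one' hr])

theorem ni_sq_eq' {i : ℕ} (hi : i < D.rank) :
    G.ni F i * G.ni F i = G.Hg F (sim D i) (-1) := by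
  rw [G.ni_sq_eq, G.Hg_inv' (G.sim_lt hi) (neg_ne_zero.2 one_ne_zero), inv_neg_one]

theorem ni_conj_HSub {K : Set ℕ} {i : ℕ} (hiK : i ∈ K) (hi : i < D.rank) {h : GL D.Idx F}
    (hh : h ∈ G.HSub F K) : G.ni F i * h * (G.ni F i)⁻¹ ∈ G.HSub F K := by
  obtain ⟨x, hx, e⟩ := G.ni_conj_torus hi (G.HSub_le K hh)
  rw [e]
  exact mul_mem hh (G.Hg_mem_HSub hiK hi hx)

theorem nl_conj_HSub {K : Set ℕ} : ∀ {l : List ℕ}, (∀ j ∈ l, j ∈ K ∧ j < D.rank) →
    ∀ {h : GL D.Idx F}, h ∈ G.HSub F K → G.nl F l * h * (G.nl F l)⁻¹ ∈ G.HSub F K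
  | [], _, h, hh => by simpa [G.nl_nil] using hh
  | i :: l, hl, h, hh => by
    have e : G.nl F (i :: l) * h * (G.nl F (i :: l))⁻¹ =
        G.ni F i * (G.nl F l * h * (G.nl F l)⁻¹) * (G.ni F i)⁻¹ := by
      rw [G.nl_cons]; group
    rw [e]
    exact G.ni_conj_HSub (hl i List.mem_cons_self).1 (hl i List.mem_cons_self).2
      (nl_conj_HSub (fun j hj => hl j (List.mem_cons_of_mem _ hj)) hh)

theorem exists_word_mul {K : Set ℕ} {g : GL D.Idx F}
    (hg : g ∈ Subgroup.closure {g | ∃ j ∈ K, j < D.rank ∧ g = G.ni F j}) :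
    ∃ h ∈ G.HSub F K, ∃ l, (∀ j ∈ l, j ∈ K ∧ j < D.rank) ∧ g = h * G.nl F l := by
  induction hg using Subgroup.closure_induction_left with
  | one => exact ⟨1, one_mem _, [], by simp, by simp [G.nl_nil]⟩
  | mul_left x hx y _ ih =>
    obtain ⟨h, hh, l, hl, rfl⟩ := ih
    obtain ⟨i, hiK, hi, rfl⟩ := hx
    refine ⟨_, G.ni_conj_HSub hiK hi hh, i :: l, ?_, ?_⟩
    · simp only [List.mem_cons, forall_eq_or_imp]
      exact ⟨⟨hiK, hi⟩, hl⟩
    · rw [G.nl_cons]; group
  | inv_mul_cancel x hx y _ ih =>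
    obtain ⟨h, hh, l, hl, rfl⟩ := ih
    obtain ⟨i, hiK, hi, rfl⟩ := hx
    refine ⟨(G.ni F i * G.ni F i)⁻¹ * (G.ni F i * h * (G.ni F i)⁻¹),
      mul_mem (inv_mem ?_) (G.ni_conj_HSub hiK hi hh), i :: l, ?_, ?_⟩
    · rw [G.ni_sq_eq' hi]; exact G.Hg_mem_HSub hiK hi (neg_ne_zero.2 one_ne_zero)
    · simp only [List.mem_cons, forall_eq_or_imp]
      exact ⟨⟨hiK, hi⟩, hl⟩
    · rw [G.nl_cons]; group

/-- A word in `K` keeping all fundamental roots positive lies in the subtori of `K`. -/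
theorem nl_mem_HSub {K : Set ℕ} : ∀ (k : ℕ) {l : List ℕ}, l.length = k →
    (∀ j ∈ l, j ∈ K ∧ j < D.rank) → (∀ i < D.rank, npos D ≤ wl T l (sim D i)) →
    G.nl F l ∈ G.HSub F K := by
  intro k
  induction k using Nat.strong_induction_on with
  | _ k ih =>
    intro l hk hlK hid
    rcases List.eq_nil_or_concat l with rfl | ⟨l', i, rfl⟩
    · rw [G.nl_nil]; exact one_mem _
    rw [List.concat_eq_append] at *
    have hl : IsW D (l' ++ [i]) := fun x hx => (hlK x hx).2
    have hi : i < D.rank := hl i (by simp)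
    have hp := G.sim_lt hi
    have hne : npos D ≤ wl T l' (ng D (sim D i)) := by
      have h := hid i hi
      rw [wl_append] at h
      simp only [wl, G.w_sim hi] at h
      exact h
    have hneg : ng D (sim D i) < npos D := by
      have := G.even_n; have := G.sim_pos hi; have := G.sim_lt hi; unfold ng; omega
    obtain ⟨a, j, b, rfl, hb⟩ := G.exists_split (G.ng_lt hp) hneg hl.left hne
    have hb' : IsW D b := fun x hx => hl x (by simp [hx])
    have ha : IsW D a := fun x hx => hl x (by simp [hx])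
    have haK : ∀ x ∈ a, x ∈ K ∧ x < D.rank := fun x hx => hlK x (by simp [hx])
    have habK : ∀ x ∈ a ++ b, x ∈ K ∧ x < D.rank := fun x hx => by
      rcases List.mem_append.1 hx with h | h <;> exact hlK x (by simp [h])
    obtain ⟨hjK, hj⟩ := hlK j (by simp)
    have hbp : wl T b (sim D i) = sim D j := by
      have := G.wl_ng hb' hp
      rw [hb] at this
      rw [← G.ng_ng (G.wl_lt hb' hp), ← this, G.ng_ng (G.sim_lt hj)]
    set ε : F := (el T b (sim D i) : F) with hε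
    have hε0 : ε ≠ 0 := by
      rcases el_eq_or (T := T) b (sim D i) with h | h <;> simp [hε, h]
    have he : G.nl F b * G.ni F i * (G.nl F b)⁻¹ = G.Hg F (sim D j) ε * G.ni F j := by
      rw [Good.ni, G.nl_conj_Ng hb' hp, hbp, mul_one, G.Ng_sim_eq hj]
    set m := G.ni F j * (G.nl F b * G.ni F i * (G.nl F b)⁻¹) with hm
    have hmK : m ∈ G.HSub F K := by
      have e : m = (G.ni F j * G.Hg F (sim D j) ε * (G.ni F j)⁻¹) *
          (G.ni F j * G.ni F j) := by rw [hm, he]; group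
      rw [e, G.ni_sq_eq' hj]
      exact mul_mem (G.ni_conj_HSub hjK hj (G.Hg_mem_HSub hjK hj hε0))
        (G.Hg_mem_HSub hjK hj (neg_ne_zero.2 one_ne_zero))
    have e : G.nl F ((a ++ j :: b) ++ [i]) =
        (G.nl F a * m * (G.nl F a)⁻¹) * G.nl F (a ++ b) := by
      simp only [hm, G.nl_append, G.nl_cons, G.nl_nil]; group
    have hH := G.nl_conj_HSub haK hmK
    have hrep : G.Rep F (G.nl F ((a ++ j :: b) ++ [i])) (a ++ b) :=
      ⟨ha.append hb', by rw [e, mul_inv_cancel_right]; exact G.HSub_le K hH⟩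
    have hid' : ∀ x < D.rank, npos D ≤ wl T (a ++ b) (sim D x) := fun x hx => by
      rw [← G.act_unique (G.act_nl (F := F) hl) (G.rep_act hrep) (G.sim_lt hx)]
      exact hid x hx
    have hlen : (a ++ b).length < k := by subst hk; simp
    rw [e]
    exact mul_mem hH (ih _ hlen rfl habK hid')

/-- Elements of `H` in the group generated by some fundamental `n`'s. -/
theorem closure_ni_inf_diag {K : Set ℕ} {g : GL D.Idx F}
    (hg : g ∈ Subgroup.closure {g | ∃ j ∈ K, j < D.rank ∧ g = G.ni F j})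
    (hd : g ∈ D.diagonalSubgroup F) : g ∈ G.HSub F K := by
  obtain ⟨h, hh, l, hl, rfl⟩ := G.exists_word_mul hg
  have hl' : IsW D l := fun x hx => (hl x hx).2
  have hd' : G.nl F l ∈ D.diagonalSubgroup F := by
    simpa using mul_mem (inv_mem (G.HSub_le K hh)) hd
  refine mul_mem hh (G.nl_mem_HSub _ rfl hl fun i hi => ?_)
  rw [G.act_unique (G.act_nl (F := F) hl') (G.act_diag hd') (G.sim_lt hi)]
  exact G.sim_pos hi

theorem k_wl_out {i : ℕ} (hi : i < D.rank) : ∀ {l : List ℕ}, IsW D l → (∀ j ∈ l, j ≠ i) →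
    ∀ {s : ℕ}, s < D.nroots → T.k i (wl T l s) = T.k i s
  | [], _, _, _, _ => rfl
  | j :: l, hl, hne, s, hs => by
    simp only [wl]
    rw [G.k_w hl.tail.1 (G.wl_lt hl.tail.2 hs) hi, if_neg (Ne.symm (hne j List.mem_cons_self)),
      sub_zero, k_wl_out hi hl.tail.2 (fun x hx => hne x (List.mem_cons_of_mem _ hx)) hs]

/-- The longest word sends fundamental roots to negatives of fundamental roots. -/
theorem longest_sim (hS : chkSign D T = true) {l : List ℕ} (hl : IsW D l)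
    (hpn : ∀ r < D.nroots, npos D ≤ r → wl T l r < npos D)
    (hnp : ∀ r < D.nroots, r < npos D → npos D ≤ wl T l r) {i : ℕ} (hi : i < D.rank) :
    ∃ j < D.rank, wl T l (sim D i) = ng D (sim D j) := by
  have hp := G.sim_lt hi
  have hll : ∀ s < D.nroots, wl T l (wl T l s) = s := by
    intro s hs
    rw [← wl_append]
    refine G.wl_eq_self_of_pos (hl.append hl) (fun x hx => ?_) hs
    rw [wl_append]
    exact hnp _ (G.wl_lt hl (G.sim_lt hx)) (hpn _ (G.sim_lt hx) (G.sim_pos hx))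
  set a := wl T l (sim D i) with ha
  have hlt : a < D.nroots := G.wl_lt hl hp
  have hneg : a < npos D := hpn _ hp (G.sim_pos hi)
  set r := ng D a with hr
  have hrlt : r < D.nroots := G.ng_lt hlt
  have hrp : npos D ≤ r := (G.ng_pos_iff hlt).2 hneg
  have himg : wl T l r = ng D (sim D i) := by
    rw [hr, G.wl_ng hl hlt, ha, hll _ hp]
  obtain ⟨x, hx, hcx⟩ : ∃ x < D.rank, T.k x r ≠ 0 := by
    by_contra hcon
    push Not at hcon
    refine G.ng_ne hrlt (G.eq_of_k_eq (G.ng_lt hrlt) hrlt fun y hy => ?_)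
    rw [G.k_ng hrlt hy, hcon y hy, neg_zero]
  refine ⟨x, hx, ?_⟩
  have hc0 : ∀ c < D.rank, 0 ≤ T.k c r := fun c hc => k_nonneg hS hrlt hrp hc
  have hle : ∀ y < D.rank, ∀ c < D.rank, T.k c r * T.k y (wl T l (sim D c)) ≤ 0 := fun y hy c hc =>
    mul_nonpos_of_nonneg_of_nonpos (hc0 c hc)
      (G.k_nonpos hS (G.wl_lt hl (G.sim_lt hc)) (hpn _ (G.sim_lt hc) (G.sim_pos hc)) hy)
  have hxlt := G.wl_lt hl (G.sim_lt hx)
  have hterm : ∀ y < D.rank, (if y = i then -1 else 0) ≤ T.k x r * T.k y (wl T l (sim D x)) := by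
    intro y hy
    have h1 := G.k_wl_sum hl (x := y) hrlt hy
    rw [himg, G.k_ng hp hy, G.k_sim hi hy, ← Finset.add_sum_erase _ _ (Finset.mem_range.2 hx)] at h1
    have h2 : ∑ c ∈ (Finset.range D.rank).erase x, T.k c r * T.k y (wl T l (sim D c)) ≤ 0 :=
      Finset.sum_nonpos fun c hc => hle y hy c (Finset.mem_range.1 (Finset.mem_of_mem_erase hc))
    split_ifs at h1 ⊢ <;> omega
  have hzero : ∀ y < D.rank, y ≠ i → T.k y (wl T l (sim D x)) = 0 := by
    intro y hy hne
    have h1 := hterm y hy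
    rw [if_neg hne] at h1
    have h2 := le_antisymm (hle y hy x hx) h1
    exact (mul_eq_zero.1 h2).resolve_left hcx
  have hi0 : T.k i (wl T l (sim D x)) ≠ 0 := fun h0 =>
    G.ng_ne hxlt (G.eq_of_k_eq (G.ng_lt hxlt) hxlt fun y hy => by
      rw [G.k_ng hxlt hy]
      by_cases hne : y = i
      · rw [hne, h0, neg_zero]
      · rw [hzero y hy hne, neg_zero])
  have h1 := hterm i hi
  rw [if_pos rfl] at h1
  have h3 := G.k_nonpos hS hxlt (hpn _ (G.sim_lt hx) (G.sim_pos hx)) hi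
  have h4 : 1 ≤ T.k x r := by have := hc0 x hx; omega
  have h5 : T.k i (wl T l (sim D x)) = -1 := by nlinarith [show T.k i (wl T l (sim D x)) ≤ -1 by omega]
  have h6 : wl T l (sim D x) = ng D (sim D i) :=
    G.eq_of_k_eq hxlt (G.ng_lt hp) fun y hy => by
      rw [G.k_ng hp hy, G.k_sim hi hy]
      by_cases hne : y = i
      · rw [if_pos hne, hne, h5]
      · rw [if_neg hne, hzero y hy hne, neg_zero]
  have h7 : r = sim D x := G.wl_injective hl hrlt (G.sim_lt hx) (himg.trans h6.symm)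
  rw [← h7, hr, G.ng_ng hlt]

theorem Ng_ng_eq {j : ℕ} (hj : j < D.rank) {t : F} (ht : t ≠ 0) :
    ∃ h ∈ D.diagonalSubgroup F, G.Ng F (ng D (sim D j)) t = G.ni F j * h := by
  refine ⟨G.Hg F (sim D j) (-t), G.Hg_mem (G.sim_lt hj) (neg_ne_zero.2 ht), ?_⟩
  have h1 := G.ni_conj_Ng (F := F) hj (G.sim_lt hj) (-t)
  rw [G.w_sim hj, G.eta_sim hj, Int.cast_neg, Int.cast_one, neg_mul_neg, one_mul, G.Ng_sim_eq hj] at h1
  rw [← h1]; group

/-- The subgroup of a fundamental root as a homomorphism from the units. -/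
def hHom (F : Type*) [Field F] (i : Fin D.rank) : Fˣ →* ↥(D.group F) where
  toFun x := ⟨G.Hg F (sim D i.val) (x : F), G.Hg_mem_group (G.sim_lt i.isLt) _⟩
  map_one' := Subtype.ext (by simp [G.Hg_one' (G.sim_lt i.isLt)])
  map_mul' a b := Subtype.ext (by
    simp [G.Hg_mul (G.sim_lt i.isLt) a.ne_zero b.ne_zero])

theorem hHom_val (i : Fin D.rank) (x : Fˣ) :
    ((G.hHom F i x : ↥(D.group F)) : GL D.Idx F) = G.Hg F (sim D i.val) (x : F) := rfl

theorem Hg_eq_torHom (i : Fin D.rank) (x : Fˣ) :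
    G.Hg F (sim D i.val) (x : F) = G.torHom F (Pi.mulSingle i x) := by
  refine Units.ext ?_
  rw [G.torHom_val, G.Hg_eq (G.sim_lt i.isLt) x.ne_zero]
  refine dmat_congr fun s _ => ?_
  rw [G.P_sim i.isLt, tor, Finset.prod_eq_single i.val]
  · simp [extOne, i.isLt]
  · intro m hm hne
    have hne' : (⟨m, Finset.mem_range.1 hm⟩ : Fin D.rank) ≠ i := fun e => hne (congrArg Fin.val e)
    simp [extOne, Finset.mem_range.1 hm, Pi.mulSingle_eq_of_ne hne']
  · simp [i.isLt]

theorem injective_torHom [Fintype F] {U V Ui Vi : List (List ℤ)} {d : List ℕ}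
    (h : chkSmith D T U V Ui Vi d = true)
    (hgcd : ∀ a < D.rank, Nat.gcd (Fintype.card F - 1) (d.getD a 0) = 1) :
    Function.Injective (G.torHom F) := by
  classical
  have h1 := G.card_diag h (F := F)
  rw [Finset.prod_eq_one fun a ha => hgcd a (Finset.mem_range.1 ha), one_mul, ← G.torHom_range] at h1
  rw [← MonoidHom.ker_eq_bot_iff, Subgroup.eq_bot_iff_card]
  have h2 := Subgroup.card_mul_index (G.torHom F).ker
  rw [Subgroup.index_ker, h1, Nat.card_pi, Finset.prod_const, Finset.card_univ, Fintype.card_fin,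
    Nat.card_units, Nat.card_eq_fintype_card (α := F)] at h2
  exact mul_eq_right₀ (pow_ne_zero _ (by have := Fintype.one_lt_card (α := F); omega)) |>.1 h2

open Cfsg.Agent.Lib.Modular in
/-- The split BN datum. -/
theorem exists_bnData [Fintype F] (hP : chkPar D T = true) (p : ℕ) [hpf : Fact p.Prime] [CharP F p]
    (hinj : Function.Injective (G.torHom F)) :
    Nonempty (BNData ↥(D.group F) p (Fintype.card F) D.rank) := by
  classical
  have hS : chkSign D T = true := by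
    simp only [chkPar, Bool.and_eq_true] at hP; exact hP.1
  obtain ⟨l0, hl0, hpn, hnp⟩ := G.exists_longest
  have hdle : D.diagonalSubgroup F ≤ D.group F := fun x hx =>
    G.borel_le_group (Subgroup.mem_sup_right hx)
  have hn0n0 : G.nl F l0 * G.nl F l0 ∈ D.diagonalSubgroup F := by
    rw [← G.nl_append]
    refine G.nl_mem_diag_of_pos _ rfl (hl0.append hl0) fun i hi => ?_
    rw [wl_append]
    exact hnp _ (G.wl_lt hl0 (G.sim_lt hi)) (hpn _ (G.sim_lt hi) (G.sim_pos hi))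
  have hflip : ∀ u ∈ D.posUnipotent F, G.nl F l0 * u * (G.nl F l0)⁻¹ ∈ D.negUnipotent F := by
    intro u hu
    have h' : D.posUnipotent F ≤ (D.negUnipotent F).comap (MulAut.conj (G.nl F l0)).toMonoidHom :=
      G.posUnipotent_le_of fun r hr hp t => by
        simpa [G.nl_conj_X hl0 hr] using G.X_mem_negUnipotent (G.wl_lt hl0 hr) (hpn r hr hp) _
    simpa using h' hu
  have hflip' : ∀ u ∈ D.negUnipotent F, G.nl F l0 * u * (G.nl F l0)⁻¹ ∈ D.posUnipotent F := by
    intro u hu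
    have h' : D.negUnipotent F ≤ (D.posUnipotent F).comap (MulAut.conj (G.nl F l0)).toMonoidHom :=
      G.negUnipotent_le_of fun r hr hn t => by
        simpa [G.nl_conj_X hl0 hr] using G.X_mem_posUnipotent (G.wl_lt hl0 hr) (hnp r hr hn) _
    simpa using h' hu
  have hTU : ∀ t ∈ D.diagonalSubgroup F, ∀ u ∈ D.posUnipotent F, t * u * t⁻¹ ∈ D.posUnipotent F :=
    fun t ht u hu => (Subgroup.mem_normalizer_iff.1 (G.diag_normalizes_pos ht) u).1 hu
  have hkeep : ∀ {i : ℕ}, i < D.rank → ∀ v ∈ D.posUnipotent F,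
      G.ni F i * v * (G.ni F i)⁻¹ ∈ D.posUnipotent F → v ∈ G.USub F (keepSet D T [i]) := by
    intro i hi v hv hnv
    obtain ⟨a, ha, t, rfl⟩ := G.exists_keep_X hi hv
    have h1 : G.ni F i * G.X F (sim D i) t * (G.ni F i)⁻¹ ∈ D.posUnipotent F := by
      have e : G.ni F i * G.X F (sim D i) t * (G.ni F i)⁻¹ =
          (G.ni F i * a * (G.ni F i)⁻¹)⁻¹ * (G.ni F i * (a * G.X F (sim D i) t) * (G.ni F i)⁻¹) := by
        group
      rw [e]
      exact mul_mem (inv_mem (G.USub_le_pos _ (G.ni_conj_up hi ha))) hnv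
    rw [G.ni_conj_X hi (G.sim_lt hi), G.w_sim hi, G.eta_sim hi, Int.cast_neg, Int.cast_one,
      neg_one_mul] at h1
    have hneg : ng D (sim D i) < npos D := by
      have := G.even_n; have := G.sim_pos hi; have := G.sim_lt hi; unfold ng; omega
    have h2 := Subgroup.mem_bot.1 (G.borel_inf_neg (F := F) ▸ Subgroup.mem_inf.2
      ⟨Subgroup.mem_sup_left h1, G.X_mem_negUnipotent (G.ng_lt (G.sim_lt hi)) hneg _⟩)
    rw [G.X_eq_one_iff (G.ng_lt (G.sim_lt hi)), neg_eq_zero] at h2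
    rw [h2, G.X_zero, mul_one]
    exact ha
  let Gr : Subgroup (GL D.Idx F) := D.group F
  let Tt : Subgroup ↥(D.group F) := (D.diagonalSubgroup F).subgroupOf (D.group F)
  let nn : Fin D.rank → ↥(D.group F) := fun i => ⟨G.ni F i.val, G.ni_mem_group i.isLt⟩
  let e : ∀ i, Fˣ ≃* ↥((G.hHom F i).range) := fun i => MonoidHom.ofInjective (f := G.hHom F i) (by
    intro a b h
    have h1 := congrArg (fun z : ↥(D.group F) => (z : GL D.Idx F)) h
    simp only [G.hHom_val, G.Hg_eq_torHom] at h1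
    exact Pi.mulSingle_injective i (hinj h1))
  let φ : (Fin D.rank → Fˣ) →* ↥Tt :=
    { toFun := fun c => ⟨⟨G.torHom F c, hdle (G.torHom_range (F := F) ▸ ⟨c, rfl⟩)⟩,
        show G.torHom F c ∈ D.diagonalSubgroup F from G.torHom_range (F := F) ▸ ⟨c, rfl⟩⟩
      map_one' := Subtype.ext (Subtype.ext (map_one _))
      map_mul' := fun a b => Subtype.ext (Subtype.ext (map_mul _ a b)) }
  have hφ : Function.Bijective φ := by
    refine ⟨fun a b h => hinj (congrArg (fun z : ↥Tt => ((z : ↥(D.group F)) : GL D.Idx F)) h),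
      fun t => ?_⟩
    have h : ((t : ↥(D.group F)) : GL D.Idx F) ∈ (G.torHom F).range := by
      rw [G.torHom_range]; exact t.2
    obtain ⟨c, hc⟩ := h
    exact ⟨c, Subtype.ext (Subtype.ext hc)⟩
  refine ⟨{
    U := (D.posUnipotent F).subgroupOf (D.group F)
    Um := (D.negUnipotent F).subgroupOf (D.group F)
    T := Tt
    N := (D.monomialSubgroup F).subgroupOf (D.group F)
    X := fun i => (D.rootSubgroup F (sim D i.val)).subgroupOf (D.group F)
    H := fun i => (G.hHom F i).range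
    n := nn
    n0 := ⟨G.nl F l0, G.monomial_le_group (G.nl_mem_monomial hl0)⟩
    hU := ?_
    hTcomm := fun a ha b hb => Subtype.ext (G.diagonal_comm ha hb)
    gen := ?_
    disjoint := ?_
    T_norm := fun t ht u hu => hTU _ ht _ hu
    T_X := ?_
    N_norm := fun m hm t ht =>
      (Subgroup.mem_normalizer_iff.1 (G.monomial_le_normalizer hm) _).1 ht
    T_le := fun x hx => diagonal_le_monomial (D := D) hx
    n_mem := fun i => G.ni_mem_monomial i.isLt
    n0_mem := G.nl_mem_monomial hl0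
    n_sq := fun i => G.ni_sq i.isLt
    n0_sq := hn0n0
    n0_flip := fun u hu => hflip _ hu
    n0_flip' := fun u hu => hflip' _ hu
    n0_simple := ?_
    X_le := ?_
    decomp := ?_
    X_conj := ?_
    Xm := ?_
    dich := ?_
    split := ?_
    bruhat := ?_
    card_X := ?_
    H_le := ?_
    comm_H := ?_
    tri := ?_
    rad := ?_
    rk1 := ?_
    tor := (MulEquiv.piCongrRight e).symm.trans (MulEquiv.ofBijective φ hφ)
    tor_single := ?_
    span_le := ?_ }⟩
  · -- `U` is a `p`-group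
    obtain ⟨f, -, hf⟩ := FiniteField.card F p
    refine IsPGroup.of_card (n := (f : ℕ) * (D.nroots / 2)) ?_
    rw [Nat.card_congr (Subgroup.subgroupOfEquivOfLe
      (G.posUnipotent_le_of fun r hr _ t => G.X_mem_group hr t)).toEquiv, G.card_pos, hf, ← pow_mul]
  · -- generation
    set K := Subgroup.closure ((((D.posUnipotent F).subgroupOf (D.group F) : Subgroup _) :
      Set ↥(D.group F)) ∪ Tt ∪ Set.range nn)
    rw [eq_top_iff]
    have h1 : D.group F ≤ K.map (D.group F).subtype := by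
      refine le_of_eq_of_le G.borel_sup_monomial.symm ?_
      rw [G.monomial_eq]
      refine sup_le (sup_le ?_ ?_) (sup_le ?_ ((Subgroup.closure_le _).2 ?_))
      · exact fun x hx => ⟨⟨x, G.borel_le_group (Subgroup.mem_sup_left hx)⟩,
          Subgroup.subset_closure (Or.inl (Or.inl hx)), rfl⟩
      · exact fun x hx => ⟨⟨x, hdle hx⟩, Subgroup.subset_closure (Or.inl (Or.inr hx)), rfl⟩
      · exact fun x hx => ⟨⟨x, hdle hx⟩, Subgroup.subset_closure (Or.inl (Or.inr hx)), rfl⟩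
      · rintro x ⟨i, hi, rfl⟩
        exact ⟨nn ⟨i, hi⟩, Subgroup.subset_closure (Or.inr ⟨_, rfl⟩), rfl⟩
    intro x _
    obtain ⟨y, hy, e'⟩ := h1 x.2
    rwa [← Subtype.ext (a1 := y) e']
  · rw [eq_bot_iff]
    rintro x ⟨hx, hx'⟩
    exact Subgroup.mem_bot.2 (Subtype.ext (Subgroup.mem_bot.1
      (G.borel_inf_neg (F := F) ▸ Subgroup.mem_inf.2 ⟨Subgroup.mem_sup_left hx, hx'⟩)))
  · intro i t ht u hu
    obtain ⟨c, hc, ec⟩ := G.exists_tor (show (t : GL D.Idx F) ∈ D.diagonalSubgroup F from ht)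
    obtain ⟨s, hs⟩ := G.mem_rootSubgroup.1 (show (u : GL D.Idx F) ∈ _ from hu)
    refine G.mem_rootSubgroup.2 ⟨tor D T c (sim D i.val) * s, ?_⟩
    simp only [Subgroup.subtype_apply, Subgroup.coe_mul, InvMemClass.coe_inv]
    rw [hs, G.diag_conj_X ec (G.isChar_tor fun m _ => hc m) (G.sim_lt i.isLt)]
  · intro i
    obtain ⟨j, hj, hji⟩ := G.longest_sim hS hl0 hpn hnp i.isLt
    set ν := G.nl F l0 with hν
    have hε : ((el T l0 (sim D i.val) : ℤ) : F) * 1 ≠ 0 := by
      rcases el_eq_or (T := T) l0 (sim D i.val) with h | h <;> simp [h]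
    obtain ⟨h, hh, he⟩ := G.Ng_ng_eq (F := F) hj hε
    have hconj : ν * G.ni F i.val * ν⁻¹ = G.ni F j * h := by
      rw [hν, Good.ni, G.nl_conj_Ng hl0 (G.sim_lt i.isLt), hji]; exact he
    have ht : (G.ni F j)⁻¹ * (ν * ν)⁻¹ * G.ni F j * h * (ν * ν) ∈ D.diagonalSubgroup F := by
      have h1 := (Subgroup.mem_normalizer_iff.1 (G.monomial_le_normalizer
        (inv_mem (G.ni_mem_monomial (F := F) hj))) _).1 (inv_mem hn0n0)
      rw [inv_inv] at h1
      exact mul_mem (mul_mem h1 hh) hn0n0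
    refine ⟨⟨j, hj⟩, ⟨_, hdle ht⟩, ht, Subtype.ext ?_⟩
    show ν⁻¹ * G.ni F i.val * ν = G.ni F j * _
    have e1 : ν⁻¹ * G.ni F i.val * ν = (ν * ν)⁻¹ * (ν * G.ni F i.val * ν⁻¹) * (ν * ν) := by group
    rw [e1, hconj]
    group
  · intro i x hx
    obtain ⟨t, ht⟩ := G.mem_rootSubgroup.1 (show (x : GL D.Idx F) ∈ _ from hx)
    show (x : GL D.Idx F) ∈ D.posUnipotent F
    rw [ht]
    exact G.X_mem_posUnipotent (G.sim_lt i.isLt) (G.sim_pos i.isLt) t
  · intro i u hu
    obtain ⟨a, ha, t, hat⟩ := G.exists_keep_X i.isLt (inv_mem (show (u : GL D.Idx F) ∈ _ from hu))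
    refine ⟨⟨G.X F (sim D i.val) (-t), G.X_mem_group (G.sim_lt i.isLt) _⟩,
      G.mem_rootSubgroup.2 ⟨_, rfl⟩,
      ⟨a⁻¹, G.borel_le_group (Subgroup.mem_sup_left (inv_mem (G.USub_le_pos _ ha)))⟩,
      inv_mem (G.USub_le_pos _ ha), G.USub_le_pos _ (G.ni_conj_up i.isLt (inv_mem ha)),
      Subtype.ext ?_⟩
    show (u : GL D.Idx F) = G.X F (sim D i.val) (-t) * a⁻¹
    rw [← inv_inv (u : GL D.Idx F), hat, mul_inv_rev, G.X_inv]
  · intro i x hx v hv hnv
    have h1 := hkeep i.isLt _ hv hnv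
    have h2 := (Subgroup.mem_normalizer_iff.1 (G.up_normal i.isLt (Subgroup.mem_sup_left hx)) _).1 h1
    exact G.USub_le_pos _ (G.ni_conj_up i.isLt h2)
  · intro i x hx
    obtain ⟨t, ht⟩ := G.mem_rootSubgroup.1 (show (x : GL D.Idx F) ∈ _ from hx)
    have hneg : ng D (sim D i.val) < npos D := by
      have := G.even_n; have := G.sim_pos i.isLt; have := G.sim_lt i.isLt; unfold ng; omega
    show G.ni F i.val * (x : GL D.Idx F) * (G.ni F i.val)⁻¹ ∈ D.negUnipotent F
    rw [ht, G.ni_conj_X i.isLt (G.sim_lt i.isLt), G.w_sim i.isLt]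
    exact G.X_mem_negUnipotent (G.ng_lt (G.sim_lt i.isLt)) hneg _
  · intro m hm i
    obtain ⟨l, hl⟩ := G.exists_rep (show (m : GL D.Idx F) ∈ _ from hm)
    have hp := G.sim_lt i.isLt
    have hlt := G.wl_lt hl.1.reverse hp
    have hX : ∀ x : ↥(D.group F), (x : GL D.Idx F) ∈ D.rootSubgroup F (sim D i.val) →
        (∃ s : F, (m : GL D.Idx F)⁻¹ * x * m = G.X F (wl T l.reverse (sim D i.val)) s) ∧
        ∃ s : F, (m : GL D.Idx F)⁻¹ * (G.ni F i.val * x * (G.ni F i.val)⁻¹) * m =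
          G.X F (ng D (wl T l.reverse (sim D i.val))) s := by
      intro x hx
      obtain ⟨t, ht⟩ := G.mem_rootSubgroup.1 hx
      rw [ht, G.ni_conj_X i.isLt hp, G.w_sim i.isLt, ← G.wl_ng hl.1.reverse hp]
      exact ⟨G.act_inv_X hl hp t, G.act_inv_X hl (G.ng_lt hp) _⟩
    by_cases hpos : npos D ≤ wl T l.reverse (sim D i.val)
    · refine Or.inl fun x hx => ?_
      obtain ⟨⟨s, hs⟩, ⟨s', hs'⟩⟩ := hX x hx
      constructor
      · show (m : GL D.Idx F)⁻¹ * x * m ∈ D.posUnipotent F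
        rw [hs]; exact G.X_mem_posUnipotent hlt hpos _
      · show (m : GL D.Idx F)⁻¹ * (G.ni F i.val * x * (G.ni F i.val)⁻¹) * m ∈ D.negUnipotent F
        rw [hs']
        exact G.X_mem_negUnipotent (G.ng_lt hlt) (by have := G.even_n; unfold ng; omega) _
    · refine Or.inr fun x hx => ?_
      obtain ⟨⟨s, hs⟩, ⟨s', hs'⟩⟩ := hX x hx
      constructor
      · show (m : GL D.Idx F)⁻¹ * x * m ∈ D.negUnipotent F
        rw [hs]; exact G.X_mem_negUnipotent hlt (by omega) _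
      · show (m : GL D.Idx F)⁻¹ * (G.ni F i.val * x * (G.ni F i.val)⁻¹) * m ∈ D.posUnipotent F
        rw [hs']
        exact G.X_mem_posUnipotent (G.ng_lt hlt) ((G.ng_pos_iff hlt).2 (by omega)) _
  · intro m hm u hu
    obtain ⟨l, hl⟩ := G.exists_rep (show (m : GL D.Idx F) ∈ _ from hm)
    obtain ⟨a, ha, c, hc, hac⟩ := G.exists_split_pos l (show (u : GL D.Idx F) ∈ _ from hu)
    exact ⟨⟨a, G.borel_le_group (Subgroup.mem_sup_left (G.USub_le_pos _ ha))⟩,
      ⟨c, G.borel_le_group (Subgroup.mem_sup_left (G.USub_le_pos _ hc))⟩,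
      Subtype.ext hac, G.USub_le_pos _ ha, G.USub_le_pos _ hc,
      G.keep_conj hl.1 (G.rep_act hl) ha, G.flip_conj hl.1 (G.rep_act hl) hc⟩
  · intro a ha b hb t ht hm
    set ν := G.nl F l0 with hν
    set m : GL D.Idx F := (a : GL D.Idx F) * b * t with hmdef
    have hu : ν⁻¹ * (b : GL D.Idx F) * ν ∈ D.posUnipotent F := by
      have := hTU _ (inv_mem hn0n0) _
        (hflip' _ (show (b : GL D.Idx F) ∈ D.negUnipotent F from hb))
      convert this using 1
      group
    have hmon : m * (t : GL D.Idx F)⁻¹ * ν ∈ D.monomialSubgroup F :=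
      mul_mem (mul_mem hm (inv_mem (diagonal_le_monomial (D := D) ht))) (G.nl_mem_monomial hl0)
    have h1 := G.normal_form_coset (b := (a : GL D.Idx F)⁻¹) (b' := 1) (n := m * (t : GL D.Idx F)⁻¹ * ν)
      (n' := ν) (u := 1) (u' := ν⁻¹ * (b : GL D.Idx F) * ν)
      (Subgroup.mem_sup_left (inv_mem ha)) (one_mem _) hmon (G.nl_mem_monomial hl0) (one_mem _) hu
      (by rw [hmdef]; group)
    have h2 := (Subgroup.mem_normalizer_iff.1
      (G.monomial_le_normalizer (G.nl_mem_monomial (F := F) hl0)) _).1 h1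
    rw [← hν] at h2
    have h3 : m * (t : GL D.Idx F)⁻¹ ∈ D.diagonalSubgroup F := by
      convert inv_mem h2 using 1
      group
    have h4 := mul_mem h3 (show (t : GL D.Idx F) ∈ D.diagonalSubgroup F from ht)
    rwa [inv_mul_cancel_right] at h4
  · intro i
    rw [Nat.card_congr (Subgroup.subgroupOfEquivOfLe
      (show D.rootSubgroup F (sim D i.val) ≤ D.group F from fun g hg => by
        obtain ⟨t, rfl⟩ := G.mem_rootSubgroup.1 hg
        exact G.X_mem_group (G.sim_lt i.isLt) t)).toEquiv, ← Nat.card_eq_fintype_card]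
    refine (Nat.card_eq_of_bijective (fun t : F => (⟨G.X F (sim D i.val) t,
      G.mem_rootSubgroup.2 ⟨t, rfl⟩⟩ : ↥(D.rootSubgroup F (sim D i.val))))
      ⟨fun a b h => G.X_injective (G.sim_lt i.isLt) (congrArg Subtype.val h), fun g => ?_⟩).symm
    obtain ⟨t, ht⟩ := G.mem_rootSubgroup.1 g.2
    exact ⟨t, Subtype.ext ht.symm⟩
  · rintro i _ ⟨x, rfl⟩
    exact G.Hg_mem (G.sim_lt i.isLt) x.ne_zero
  · intro i t ht
    obtain ⟨x, hx, ex⟩ := G.ni_conj_torus i.isLt (show (t : GL D.Idx F) ∈ _ from ht)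
    refine ⟨Units.mk0 x hx, Subtype.ext ?_⟩
    show G.Hg F (sim D i.val) x = G.ni F i.val * (t : GL D.Idx F) * (G.ni F i.val)⁻¹ * (t : GL D.Idx F)⁻¹
    rw [ex, G.diagonal_comm (show (t : GL D.Idx F) ∈ D.diagonalSubgroup F from ht) (G.Hg_mem (G.sim_lt i.isLt) hx), mul_inv_cancel_right]
  · intro a ha b hb t ht h
    have h' : (a : GL D.Idx F) * b * t = 1 := congrArg Subtype.val h
    have e1 : (b : GL D.Idx F) = (a : GL D.Idx F)⁻¹ * (t : GL D.Idx F)⁻¹ := by
      calc (b : GL D.Idx F) = (a : GL D.Idx F)⁻¹ * ((a : GL D.Idx F) * b * t) * (t : GL D.Idx F)⁻¹ := by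
            group
        _ = _ := by rw [h', mul_one]
    have hb1 : (b : GL D.Idx F) = 1 := Subgroup.mem_bot.1 (G.borel_inf_neg (F := F) ▸
      Subgroup.mem_inf.2 ⟨e1 ▸ mul_mem (Subgroup.mem_sup_left (inv_mem ha))
        (Subgroup.mem_sup_right (inv_mem ht)), hb⟩)
    rw [hb1, mul_one] at h'
    have ha1 : (a : GL D.Idx F) = 1 := Subgroup.mem_bot.1 (G.pos_inf_diag (F := F) ▸
      Subgroup.mem_inf.2 ⟨ha, (eq_inv_of_mul_eq_one_left h') ▸ inv_mem ht⟩)
    exact ⟨Subtype.ext ha1, Subtype.ext hb1⟩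
  · intro K i hiK m hm x hx
    have hm' : (m : GL D.Idx F) ∈ Subgroup.closure
        {g | ∃ j ∈ (Fin.val '' K), j < D.rank ∧ g = G.ni F j} := by
      have hle : Subgroup.closure (nn '' K) ≤ (Subgroup.closure
          {g | ∃ j ∈ (Fin.val '' K), j < D.rank ∧ g = G.ni F j}).comap (D.group F).subtype := by
        refine (Subgroup.closure_le _).2 ?_
        rintro _ ⟨j, hj, rfl⟩
        exact Subgroup.subset_closure ⟨j.val, ⟨j, hj, rfl⟩, j.isLt, rfl⟩
      exact hle hm
    obtain ⟨h, hh, l, hl, e1⟩ := G.exists_word_mul hm'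
    have hl' : IsW D l := fun y hy => (hl y hy).2
    have hrep : G.Rep F (m : GL D.Idx F) l :=
      ⟨hl', by rw [e1, mul_inv_cancel_right]; exact G.HSub_le _ hh⟩
    obtain ⟨t, ht⟩ := G.mem_rootSubgroup.1 (show (x : GL D.Idx F) ∈ _ from hx)
    obtain ⟨s, hs⟩ := G.act_inv_X hrep (G.sim_lt i.isLt) t
    show (m : GL D.Idx F)⁻¹ * (x : GL D.Idx F) * m ∈ D.posUnipotent F
    rw [ht, hs]
    have hlt := G.wl_lt hl'.reverse (G.sim_lt i.isLt)
    refine G.X_mem_posUnipotent hlt ?_ s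
    by_contra hneg
    have h1 := G.k_nonpos hS hlt (Nat.lt_of_not_le hneg) i.isLt
    rw [G.k_wl_out i.isLt hl'.reverse (fun y hy hyi => ?_) (G.sim_lt i.isLt),
      G.k_sim i.isLt i.isLt, if_pos rfl] at h1
    · omega
    · obtain ⟨z, hz, hzy⟩ := (hl y (List.mem_reverse.1 hy)).1
      exact hiK (Fin.ext (hzy.trans hyi) ▸ hz)
  · intro i
    have hp := G.sim_lt i.isLt
    let fx : Fˣ → {x : ↥((D.rootSubgroup F (sim D i.val)).subgroupOf (D.group F)) // x ≠ 1} :=
      fun t => ⟨⟨⟨G.X F (sim D i.val) (t : F), G.X_mem_group hp _⟩,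
        G.mem_rootSubgroup.2 ⟨_, rfl⟩⟩, fun h => t.ne_zero ((G.X_eq_one_iff hp _).1
          (congrArg (fun z : ↥((D.rootSubgroup F (sim D i.val)).subgroupOf (D.group F)) =>
            ((z : ↥(D.group F)) : GL D.Idx F)) h))⟩
    have hfx : Function.Bijective fx := by
      constructor
      · intro a b h
        exact Units.ext (G.X_injective hp (congrArg (fun z : {x : ↥((D.rootSubgroup F
          (sim D i.val)).subgroupOf (D.group F)) // x ≠ 1} =>
            ((z.1 : ↥(D.group F)) : GL D.Idx F)) h))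
      · rintro ⟨x, hx⟩
        obtain ⟨t, ht⟩ := G.mem_rootSubgroup.1 (show ((x : ↥(D.group F)) : GL D.Idx F) ∈ _ from x.2)
        have ht0 : t ≠ 0 := fun h0 => hx (Subtype.ext (Subtype.ext (by simpa [h0, G.X_zero] using ht)))
        exact ⟨Units.mk0 t ht0, Subtype.ext (Subtype.ext (Subtype.ext ht.symm))⟩
    refine ⟨((Equiv.ofBijective fx hfx).symm.trans ((Equiv.neg Fˣ).trans (e i).toEquiv)),
      Equiv.bijective _, fun x => ?_⟩
    obtain ⟨t, rfl⟩ := hfx.2 x
    have hs : (Equiv.ofBijective fx hfx).symm (fx t) = t := Equiv.ofBijective_symm_apply_apply fx hfx t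
    simp only [Equiv.trans_apply, hs]
    set a : F := (t : F)⁻¹ with ha
    set ν := G.ni F i.val with hν
    set s : GL D.Idx F := ν * ν with hsdef
    have hnn : s ∈ D.diagonalSubgroup F := G.ni_sq i.isLt
    obtain ⟨c, hc, ec⟩ := G.exists_tor (inv_mem hnn)
    have hb : s⁻¹ * G.X F (sim D i.val) (-a) * s =
        G.X F (sim D i.val) (tor D T c (sim D i.val) * -a) := by
      have := G.diag_conj_X ec (G.isChar_tor fun m _ => hc m) hp (-a)
      simpa using this
    refine ⟨⟨G.X F (sim D i.val) (-a), G.X_mem_group hp _⟩, G.mem_rootSubgroup.2 ⟨_, rfl⟩,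
      ⟨G.X F (sim D i.val) (tor D T c (sim D i.val) * -a), G.X_mem_group hp _⟩,
      G.mem_rootSubgroup.2 ⟨_, rfl⟩, Subtype.ext ?_⟩
    show ν * G.X F (sim D i.val) (t : F) * ν = G.X F (sim D i.val) (-a) * ν *
      G.Hg F (sim D i.val) ((-t : Fˣ) : F) * G.X F (sim D i.val) (tor D T c (sim D i.val) * -a)
    have e1 : ν * G.X F (sim D i.val) (t : F) * ν⁻¹ = G.X F (ng D (sim D i.val)) (-(t : F)) := by
      rw [hν, G.ni_conj_X i.isLt hp, G.w_sim i.isLt, G.eta_sim i.isLt, Int.cast_neg, Int.cast_one,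
        neg_one_mul]
    have e2 : G.X F (ng D (sim D i.val)) (-(t : F)) =
        G.X F (sim D i.val) (-a) * G.Ng F (sim D i.val) a * G.X F (sim D i.val) (-a) := by
      rw [Good.Ng, ha, inv_inv, ← mul_assoc, ← mul_assoc, G.X_add, neg_add_cancel, G.X_zero,
        one_mul, mul_assoc, G.X_add, add_neg_cancel, G.X_zero, mul_one]
    have ha0 : a ≠ 0 := inv_ne_zero t.ne_zero
    have e3 : ν⁻¹ * G.Hg F (sim D i.val) a * ν = G.Hg F (sim D i.val) (t : F) := by
      have h1 := G.ni_conj_Hg (F := F) i.isLt hp t.ne_zero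
      rw [G.w_sim i.isLt] at h1
      have h2 : G.Hg F (ng D (sim D i.val)) (t : F) = G.Hg F (sim D i.val) a := by
        refine Units.ext ?_
        rw [G.Hg_eq (G.ng_lt hp) t.ne_zero, G.Hg_eq hp ha0]
        exact dmat_congr fun s _ => by rw [G.P_ng hp, ha, inv_zpow, zpow_neg]
      rw [← h2, ← h1, ← hν]; group
    have e4 : ν * G.X F (sim D i.val) (t : F) * ν = G.X F (sim D i.val) (-a) * ν *
        ((ν⁻¹ * G.Hg F (sim D i.val) a * ν) * s) * (s⁻¹ * G.X F (sim D i.val) (-a) * s) := by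
      calc ν * G.X F (sim D i.val) (t : F) * ν = (ν * G.X F (sim D i.val) (t : F) * ν⁻¹) * s := by
            rw [hsdef]; group
        _ = _ := by rw [e1, e2, G.Ng_sim_eq i.isLt, ← hν]; group
    rw [e4, e3, hb, hsdef, hν, G.ni_sq_eq' i.isLt, G.Hg_mul hp t.ne_zero (neg_ne_zero.2 one_ne_zero)]
    congr 3
    simp
  · intro i h
    obtain ⟨x, rfl⟩ := (e i).surjective h
    have e1 : (MulEquiv.piCongrRight e).symm (Pi.mulSingle i (e i x)) = Pi.mulSingle i x := by
      rw [MulEquiv.symm_apply_eq]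
      funext j
      by_cases hj : j = i
      · subst hj; simp
      · simp [Pi.mulSingle_eq_of_ne hj]
    rw [MulEquiv.trans_apply, e1]
    exact Subtype.ext (G.Hg_eq_torHom i x).symm
  · intro K g hg
    obtain ⟨hg1, hg2⟩ := Subgroup.mem_inf.1 hg
    have hm' : (g : GL D.Idx F) ∈ Subgroup.closure
        {g | ∃ j ∈ (Fin.val '' K), j < D.rank ∧ g = G.ni F j} := by
      have hle : Subgroup.closure (nn '' K) ≤ (Subgroup.closure
          {g | ∃ j ∈ (Fin.val '' K), j < D.rank ∧ g = G.ni F j}).comap (D.group F).subtype := by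
        refine (Subgroup.closure_le _).2 ?_
        rintro _ ⟨j, hj, rfl⟩
        exact Subgroup.subset_closure ⟨j.val, ⟨j, hj, rfl⟩, j.isLt, rfl⟩
      exact hle hg1
    have h1 := G.closure_ni_inf_diag hm' hg2
    have hle : G.HSub F (Fin.val '' K) ≤
        (⨆ j ∈ K, (G.hHom F j).range).map (D.group F).subtype := by
      refine (Subgroup.closure_le _).2 ?_
      rintro _ ⟨_, ⟨j, hj, rfl⟩, -, x, hx, rfl⟩
      exact ⟨G.hHom F j (Units.mk0 x hx),
        Subgroup.mem_iSup_of_mem j (Subgroup.mem_iSup_of_mem hj ⟨_, rfl⟩), rfl⟩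
    obtain ⟨y, hy, ey⟩ := hle h1
    rwa [← Subtype.ext (a1 := y) ey]

/-- Steinberg's count of the classes of elements of order prime to the characteristic. -/
theorem card_ss_classes [Fintype F] (hP : chkPar D T = true) (p : ℕ) [Fact p.Prime] [CharP F p]
    (hinj : Function.Injective (G.torHom F)) :
    Nat.card {c : ConjClasses ↥(D.group F) // ∃ g : ↥(D.group F), ConjClasses.mk g = c ∧
      (orderOf g).Coprime p} = Fintype.card F ^ D.rank := by
  classical
  obtain ⟨B⟩ := G.exists_bnData hP p hinj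
  obtain ⟨f, -, hf⟩ := FiniteField.card F p
  exact B.card_regular_classes f.pos hf

end Good

end Cfsg.Agent.Lib.Chev
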