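import Cfsg.Agent.Lib.Chev.Table

/-! Root elements under ring maps. -/

set_option autoImplicit false

namespace Cfsg.Agent.Lib.Chev

open Cfsg.Lie

variable {D : ChevalleyDatum}

/-- A ring map carries root elements to root elements. -/
theorem x_map {F : Type*} [Field F] {K : Type*} [Field K] (f : F →+* K) (r : ℕ) (t : F) :
    (D.x F r t).map f = D.x K r (f t) := by
  unfold ChevalleyDatum.x
  split
  · rename_i hr
    ext row col
    simp only [Matrix.map_apply, ChevalleyDatum.xMat, Matrix.of_apply]
    rcases col with i | s
    · rcases row with j | u <;> simp only <;> split <;> simp
    · simp only
      split
      · rcases row with j | u <;> simp only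
        · simp
        · split <;> simp
      split
      · rcases row with j | u <;> simp only
        · simp
        · split
          · simp
          split <;> simp
      · rcases row with j | u <;> simp only
        · simp
        · rw [map_add]
          congr 1
          · split <;> simp
          · rw [map_list_sum, List.map_map]
            congr 1
            refine List.map_congr_left fun p _ => ?_
            simp
  · exact Matrix.map_one f f.map_zero f.map_one

end Cfsg.Agent.Lib.Chev
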