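import Cfsg.Agent.Lib.Chev.StData
import Cfsg.Agent.Lib.Chev.Map

/-!
Endomorphisms of the Chevalley groups coming from symmetries of the diagram, including the special
isogenies in characteristic two and three, and from the field.
-/

set_option autoImplicit false

namespace Cfsg.Agent.Lib.Chev

open Cfsg.Lie
open scoped Matrix

/-- A permutation of the roots with signs and exponents, in characteristic `p` (zero: any). -/
structure AutTab where
  p : ℕ
  ord : ℕ
  rhoL : List ℕ
  epsL : List ℤ
  exL : List ℕ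

namespace AutTab

variable (S : AutTab)

/-- Image of a root. -/
def rho (r : ℕ) : ℕ := S.rhoL.getD r 0

/-- Sign at a root. -/
def eps (r : ℕ) : ℤ := S.epsL.getD r 1

/-- Exponent at a root. -/
def ex (r : ℕ) : ℕ := S.exL.getD r 1

/-- Iterated image. -/
def iter : ℕ → ℕ → ℕ
  | 0, r => r
  | k + 1, r => S.rho (iter k r)

/-- Product of the exponents along an orbit segment. -/
def exProd : ℕ → ℕ → ℕ
  | 0, _ => 1
  | k + 1, r => exProd k r * S.ex (S.iter k r)

/-- Product of the signs along an orbit segment. -/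
def epsProd : ℕ → ℕ → ℤ
  | 0, _ => 1
  | k + 1, r => ipow (epsProd k r) (S.ex (S.iter k r)) * S.eps (S.iter k r)

variable (D : ChevalleyDatum) (T : Tables)

/-- Image of the terms of the commutator formula. -/
def lhsTerms (r s : ℕ) : List (ℕ × ℤ × ℕ × ℕ) :=
  ((T.terms r s).filter fun c => decide (c.2.1 % (S.p : ℤ) ≠ 0)).map fun c =>
    (S.rho c.1, (ipow (c.2.1 * ipow (-1) c.2.2.1) (S.ex c.1) * S.eps c.1) % (S.p : ℤ),
      c.2.2.1 * S.ex c.1, c.2.2.2 * S.ex c.1)

/-- The terms of the image pair. -/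
def rhsTerms (r s : ℕ) : List (ℕ × ℤ × ℕ × ℕ) :=
  ((T.terms (S.rho r) (S.rho s)).filter fun c => decide (c.2.1 % (S.p : ℤ) ≠ 0)).map fun c =>
    (c.1, (c.2.1 * ipow (-S.eps r) c.2.2.1 * ipow (S.eps s) c.2.2.2) % (S.p : ℤ),
      c.2.2.1 * S.ex r, c.2.2.2 * S.ex s)

/-- The roots of the terms pairwise commute. -/
def chkCommuting (L : List (ℕ × ℤ × ℕ × ℕ)) : Bool :=
  L.all fun x => L.all fun y => x.1 == y.1 || (decide (y.1 ≠ ng D x.1) &&
    (T.terms x.1 y.1).all fun c => c.2.1 % (S.p : ℤ) == 0)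

/-- The table defines an endomorphism. -/
def chk : Bool :=
  allLt D.nroots (fun r => decide (S.rho r < D.nroots) && (S.rho (ng D r) == ng D (S.rho r)) &&
    (S.eps r == 1 || S.eps r == -1) && (S.eps (ng D r) == S.eps r) && (S.ex (ng D r) == S.ex r) &&
    (S.ex r == 1 || (S.ex r == S.p && decide (1 < S.p))) && (S.iter S.ord r == r) &&
    (S.epsProd S.ord r == 1) && (S.exProd S.ord r == S.exProd S.ord 0)) &&
  decide (0 < S.ord) &&
  (S.p == 0 || S.p == 2 || S.p == 3) &&
  allLt D.nroots (fun r => allLt D.nroots fun s =>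
    s == r || s == ng D r || ((S.lhsTerms T r s).isPerm (S.rhsTerms T r s) &&
      S.chkCommuting D T (S.rhsTerms T r s)))

end AutTab

variable {D : ChevalleyDatum} {T : Tables} {K : Type*} [Field K]

namespace Good

variable (G : Good D T)
include G

/-- The facts in the check. -/
theorem aut_facts {S : AutTab} (h : S.chk D T = true) {r : ℕ} (hr : r < D.nroots) :
    S.rho r < D.nroots ∧ S.rho (ng D r) = ng D (S.rho r) ∧ (S.eps r = 1 ∨ S.eps r = -1) ∧
      S.eps (ng D r) = S.eps r ∧ S.ex (ng D r) = S.ex r ∧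
      (S.ex r = 1 ∨ (S.ex r = S.p ∧ 1 < S.p)) ∧ S.iter S.ord r = r ∧
      S.epsProd S.ord r = 1 ∧ S.exProd S.ord r = S.exProd S.ord 0 := by
  simp only [AutTab.chk, Bool.and_eq_true] at h
  have := allLt_eq_true h.1.1.1 r hr
  simp only [Bool.and_eq_true, Bool.or_eq_true, decide_eq_true_eq, beq_iff_eq] at this
  exact ⟨this.1.1.1.1.1.1.1.1, this.1.1.1.1.1.1.1.2, this.1.1.1.1.1.1.2, this.1.1.1.1.1.2,
    this.1.1.1.1.2, this.1.1.1.2, this.1.1.2, this.1.2, this.2⟩

omit G in
theorem aut_prime {S : AutTab} (h : S.chk D T = true) (h1 : 1 < S.p) : S.p.Prime := by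
  simp only [AutTab.chk, Bool.and_eq_true, Bool.or_eq_true, beq_iff_eq] at h
  rcases h.1.2 with (h2 | h2) | h2
  · omega
  · rw [h2]; exact Nat.prime_two
  · rw [h2]; exact Nat.prime_three

omit G in
theorem aut_ord_pos {S : AutTab} (h : S.chk D T = true) : 0 < S.ord := by
  simp only [AutTab.chk, Bool.and_eq_true, decide_eq_true_eq] at h
  exact h.1.1.2

omit G in
theorem cast_emod (K : Type*) [Field K] {p : ℕ} (hp : (p : K) = 0) (x : ℤ) :
    ((x % (p : ℤ) : ℤ) : K) = (x : K) := by
  have := congrArg (fun y : ℤ => (y : K)) (Int.emod_add_ediv_mul x p)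
  simpa [hp] using this

theorem aut_add {S : AutTab} (h : S.chk D T = true) (hp : (S.p : K) = 0) {r : ℕ}
    (hr : r < D.nroots) (t u : K) : (t + u) ^ S.ex r = t ^ S.ex r + u ^ S.ex r := by
  rcases (G.aut_facts h hr).2.2.2.2.2.1 with he | ⟨he, h1⟩
  · simp [he]
  · rw [he]
    haveI : Fact S.p.Prime := ⟨aut_prime h h1⟩
    haveI : CharP K S.p := (CharP.charP_iff_prime_eq_zero (aut_prime h h1)).2 hp
    exact add_pow_char t u S.p

/-- The value of a generator. -/
def autVal (S : AutTab) (K : Type*) [Field K] (r : ℕ) (t : K) : GL D.Idx K :=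
  G.X K (S.rho r) ((S.eps r : K) * t ^ S.ex r)

theorem aut_neg {S : AutTab} (h : S.chk D T = true) (hp : (S.p : K) = 0) {r : ℕ}
    (hr : r < D.nroots) (t : K) : (-t) ^ S.ex r = -(t ^ S.ex r) := by
  have h2 := G.aut_add h hp hr (-t) t
  rw [neg_add_cancel, zero_pow] at h2
  · exact eq_neg_of_add_eq_zero_left h2.symm
  · rcases (G.aut_facts h hr).2.2.2.2.2.1 with he | ⟨he, h1⟩ <;> omega

theorem autVal_nWord {S : AutTab} (h : S.chk D T = true) (hp : (S.p : K) = 0) {r : ℕ}
    (hr : r < D.nroots) (t : K) :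
    G.autVal S K r t * G.autVal S K (ng D r) (-t⁻¹) * G.autVal S K r t =
      G.Ng K (S.rho r) ((S.eps r : K) * t ^ S.ex r) := by
  obtain ⟨-, h2, h3, h4, h5, -⟩ := G.aut_facts h hr
  rw [autVal, autVal, h2, h4, h5, G.aut_neg h hp hr, inv_pow]
  have e : (S.eps r : K) * -(t ^ S.ex r)⁻¹ = -((S.eps r : K) * t ^ S.ex r)⁻¹ := by
    rcases h3 with e | e <;> simp [e]
  rw [e]
  rfl

theorem autVal_rels {S : AutTab} (h : S.chk D T = true) (hp : (S.p : K) = 0) :
    ∀ g ∈ D.steinbergRels K,
      FreeGroup.lift (fun p : Fin D.nroots × K => G.autVal S K p.1.val p.2) g = 1 := by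
  set f := fun p : Fin D.nroots × K => G.autVal S K p.1.val p.2 with hf
  have hX : ∀ r t, r < D.nroots → FreeGroup.lift f (D.stX r t) = G.autVal S K r t := by
    intro r t hr
    simp [ChevalleyDatum.stX, hr, hf]
  have hW : ∀ w : List (ℕ × K), (∀ p ∈ w, p.1 < D.nroots) →
      FreeGroup.lift f (D.stWord w) = (w.map fun p => G.autVal S K p.1 p.2).prod := by
    intro w hw
    rw [ChevalleyDatum.stWord, map_list_prod, List.map_map]
    congr 1
    exact List.map_congr_left fun p hp => hX p.1 p.2 (hw p hp)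
  intro g hg
  rcases hg with (⟨r, t, u, hr, rfl⟩ | ⟨r, s, t, u, hr, hs, h1, h2, rfl⟩) |
    ⟨r, t, u, hr, ht, hu, rfl⟩
  · simp only [map_mul, map_inv, hX _ _ hr, autVal, G.X_add, G.aut_add h hp hr, mul_add,
      mul_inv_cancel]
  · rw [G.neg_eq hr] at h2
    obtain ⟨hr', hnr, -⟩ := G.aut_facts h hr
    obtain ⟨hs', -⟩ := G.aut_facts h hs
    have hinj : ∀ x < D.nroots, ∀ y < D.nroots, S.rho x = S.rho y → x = y := by
      intro x hx y hy e
      have h0 := aut_ord_pos h
      obtain ⟨k, hk⟩ : ∃ k, S.ord = k + 1 := ⟨S.ord - 1, by omega⟩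
      have key : ∀ (k x : ℕ), S.iter (k + 1) x = S.iter k (S.rho x) := by
        intro k
        induction k with
        | zero => intro x; rfl
        | succ k ih => intro x; show S.rho (S.iter (k + 1) x) = _; rw [ih]; rfl
      have ex' := (G.aut_facts h hx).2.2.2.2.2.2.1
      have ey' := (G.aut_facts h hy).2.2.2.2.2.2.1
      rw [hk, key] at ex' ey'
      rw [← ex', ← ey', e]
    have hne : S.rho s ≠ S.rho r := fun e => h1 (hinj s hs r hr e)
    have hne' : S.rho s ≠ ng D (S.rho r) := fun e =>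
      h2 (hinj s hs _ (G.ng_lt hr) (e.trans hnr.symm))
    have hh := h
    simp only [AutTab.chk, Bool.and_eq_true] at hh
    have hpair := allLt_eq_true (allLt_eq_true hh.2 r hr) s hs
    simp only [Bool.or_eq_true, beq_iff_eq, h1, h2, false_or, Bool.and_eq_true,
      List.isPerm_iff] at hpair
    simp only [map_mul, map_inv, hX _ _ hr, hX _ _ hs]
    rw [mul_inv_eq_one, hW _ ?_, G.commWord_eq hr hs]
    swap
    · intro p hp'
      rw [G.commWord_eq hr hs] at hp'
      obtain ⟨⟨k, C, a, b⟩, hc, rfl⟩ := List.mem_map.1 hp'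
      exact (G.mem_terms hr hs hc).1
    have hc := G.commAt (S.rho r) (S.rho s) hr' hs' hne hne'
      ((S.eps r : K) * t ^ S.ex r) ((S.eps s : K) * u ^ S.ex s)
    rw [mul_assoc _ (G.autVal S K s u) _]
    show _ * (G.X K _ _ * G.X K _ _) = _
    rw [hc]
    show _ * (_ * _ * G.wordG _) = _
    rw [← mul_assoc, show G.autVal S K r t = G.X K (S.rho r) _ from rfl,
      show G.autVal S K s u = G.X K (S.rho s) _ from rfl]
    have e0 : ∀ a b w : GL D.Idx K, a⁻¹ * b⁻¹ * (b * a) * w = w := fun a b w => by group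
    rw [e0]
    -- compare the two products
    set f1 : ℕ × ℤ × ℕ × ℕ → GL D.Idx K := fun x =>
      G.X K x.1 ((x.2.1 : K) * t ^ x.2.2.1 * u ^ x.2.2.2) with hf1
    have hfilt : ∀ (L : List (ℕ × ℤ × ℕ × ℕ)) (φ : ℕ × ℤ × ℕ × ℕ → GL D.Idx K),
        (∀ c ∈ L, c.2.1 % (S.p : ℤ) = 0 → φ c = 1) →
        (L.map φ).prod = ((L.filter fun c => decide (c.2.1 % (S.p : ℤ) ≠ 0)).map φ).prod := by
      intro L φ hφ
      induction L with
      | nil => rfl
      | cons c L ih =>
        have ih' := ih fun c hc' => hφ c (List.mem_cons_of_mem _ hc')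
        by_cases hz : c.2.1 % (S.p : ℤ) = 0
        · rw [List.map_cons, List.prod_cons, hφ c (List.mem_cons_self ..) hz, one_mul,
            List.filter_cons, if_neg (by simpa using hz), ih']
        · rw [List.map_cons, List.prod_cons, List.filter_cons, if_pos (by simpa using hz),
            List.map_cons, List.prod_cons, ih']
    have hC0 : ∀ C : ℤ, C % (S.p : ℤ) = 0 → (C : K) = 0 := fun C hC => by
      rw [← cast_emod K hp C, hC, Int.cast_zero]
    have hl : ((cw T r s t u).map fun p => G.autVal S K p.1 p.2).prod =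
        ((S.lhsTerms T r s).map f1).prod := by
      rw [cw, List.map_map, hfilt, AutTab.lhsTerms, List.map_map]
      · congr 1
        refine List.map_congr_left fun c hc' => ?_
        obtain ⟨k, C, a, b⟩ := c
        simp only [Function.comp_apply, hf1, autVal]
        congr 1
        rw [cast_emod K hp, Int.cast_mul, ipow_eq, Int.cast_pow, Int.cast_mul, ipow_eq,
          Int.cast_pow, Int.cast_neg, Int.cast_one, neg_pow t, mul_pow, mul_pow, mul_pow, mul_pow,
          ← pow_mul, ← pow_mul, ← pow_mul]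
        ring
      · rintro ⟨k, C, a, b⟩ hc' hz
        have hk := (G.mem_terms hr hs hc').1
        simp only [Function.comp_apply, autVal]
        rw [hC0 C hz, zero_mul, zero_mul, zero_pow, mul_zero, G.X_zero]
        rcases (G.aut_facts h hk).2.2.2.2.2.1 with he | ⟨he, h1'⟩ <;> omega
    have hr2 : G.wordG (cw T (S.rho r) (S.rho s) ((S.eps r : K) * t ^ S.ex r)
        ((S.eps s : K) * u ^ S.ex s)) = ((S.rhsTerms T r s).map f1).prod := by
      rw [Good.wordG, cw, List.map_map, hfilt, AutTab.rhsTerms, List.map_map]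
      · congr 1
        refine List.map_congr_left fun c hc' => ?_
        obtain ⟨k, C, a, b⟩ := c
        simp only [Function.comp_apply, hf1]
        congr 1
        rw [cast_emod K hp, Int.cast_mul, Int.cast_mul, ipow_eq, ipow_eq, Int.cast_pow,
          Int.cast_pow, Int.cast_neg, ← neg_mul, mul_pow, mul_pow, ← pow_mul, ← pow_mul,
          mul_comm (S.ex r), mul_comm (S.ex s)]
        ring
      · rintro ⟨k, C, a, b⟩ - hz
        simp only [Function.comp_apply]
        rw [hC0 C hz, zero_mul, zero_mul, G.X_zero]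
    rw [hl, hr2]
    refine ((hpair.1.map f1).prod_eq' ?_).symm
    have hcomm := hpair.2
    simp only [AutTab.chkCommuting, List.all_eq_true] at hcomm
    refine List.pairwise_of_forall_mem_list ?_
    intro x hx y hy
    obtain ⟨cx, hcx, rfl⟩ := List.mem_map.1 hx
    obtain ⟨cy, hcy, rfl⟩ := List.mem_map.1 hy
    have hxy : ∀ cx ∈ S.rhsTerms T r s, cx.1 < D.nroots := by
      intro cx hcx
      simp only [AutTab.rhsTerms, List.mem_map, List.mem_filter] at hcx
      obtain ⟨⟨k, C, a, b⟩, ⟨hk, -⟩, rfl⟩ := hcx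
      exact (G.mem_terms hr' hs' hk).1
    replace hcx := (List.Perm.mem_iff hpair.1).1 hcx
    replace hcy := (List.Perm.mem_iff hpair.1).1 hcy
    have hc1 := hcomm cx hcx cy hcy
    simp only [Bool.or_eq_true, beq_iff_eq, Bool.and_eq_true, decide_eq_true_eq,
      List.all_eq_true] at hc1
    simp only [hf1]
    by_cases he : cx.1 = cy.1
    · rw [he, Commute, SemiconjBy, G.X_add, G.X_add, add_comm]
    · obtain ⟨hn, hz⟩ := hc1.resolve_left he
      have := G.commAt cx.1 cy.1 (hxy cx hcx) (hxy cy hcy) (Ne.symm he) hn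
        ((cx.2.1 : K) * t ^ cx.2.2.1 * u ^ cx.2.2.2) ((cy.2.1 : K) * t ^ cy.2.2.1 * u ^ cy.2.2.2)
      have hw : G.wordG (cw T cx.1 cy.1 ((cx.2.1 : K) * t ^ cx.2.2.1 * u ^ cx.2.2.2)
          ((cy.2.1 : K) * t ^ cy.2.2.1 * u ^ cy.2.2.2)) = 1 := by
        refine List.prod_eq_one fun z hz' => ?_
        simp only [cw, List.map_map, List.mem_map] at hz'
        obtain ⟨⟨k, C, a, b⟩, hc', rfl⟩ := hz'
        simp only [Function.comp_apply]
        rw [hC0 C (hz _ hc'), zero_mul, zero_mul, G.X_zero]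
      rw [hw, mul_one] at this
      exact this.symm
  · have hnw : ∀ t : K, FreeGroup.lift f (D.stWord (D.nWord r t)) =
        G.Ng K (S.rho r) ((S.eps r : K) * t ^ S.ex r) := by
      intro t
      rw [hW _ ?_, ← G.autVal_nWord h hp hr]
      · simp [ChevalleyDatum.nWord, G.neg_eq hr, mul_assoc]
      · intro p hp'
        simp [ChevalleyDatum.nWord, G.neg_eq hr] at hp'
        have := G.ng_lt hr
        rcases hp' with rfl | rfl | rfl <;> assumption
    obtain ⟨hr', -, he, -⟩ := G.aut_facts h hr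
    have hH : ∀ t : K, t ≠ 0 → FreeGroup.lift f (D.stH r t) =
        G.Hg K (S.rho r) (t ^ S.ex r) := by
      intro t ht
      have hε : (S.eps r : K) ≠ 0 := by rcases he with e | e <;> simp [e]
      have e2 : D.stH r t = D.stWord (D.nWord r t) * D.stWord (D.nWord r (-1 : K)) := by
        simp [ChevalleyDatum.stH, ChevalleyDatum.hWord, ChevalleyDatum.stWord]
      rw [e2, map_mul, hnw, hnw, G.aut_neg h hp hr, one_pow, mul_neg, mul_one]
      have e3 : G.Hg K (S.rho r) ((S.eps r : K) * t ^ S.ex r) *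
          (G.Hg K (S.rho r) (S.eps r : K))⁻¹ = G.Ng K (S.rho r) ((S.eps r : K) * t ^ S.ex r) *
            G.Ng K (S.rho r) (-(S.eps r : K)) := by
        rw [Good.Hg, Good.Hg, mul_inv_rev, G.Ng_inv _ (S.eps r : K)]
        group
      rw [← e3, mul_comm (S.eps r : K), ← G.Hg_mul hr' (pow_ne_zero _ ht) hε,
        mul_inv_cancel_right]
    simp only [map_mul, map_inv]
    rw [hH t ht, hH u hu, hH (t * u) (mul_ne_zero ht hu), mul_pow,
      G.Hg_mul hr' (pow_ne_zero _ ht) (pow_ne_zero _ hu), mul_inv_cancel]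

/-- The lifted endomorphism. -/
def autSt {S : AutTab} (h : S.chk D T = true) (hp : (S.p : K) = 0) :
    D.SteinbergGroup K →* GL D.Idx K :=
  PresentedGroup.toGroup (G.autVal_rels h hp)

theorem autSt_xb {S : AutTab} (h : S.chk D T = true) (hp : (S.p : K) = 0) {r : ℕ}
    (hr : r < D.nroots) (t : K) : G.autSt h hp (xb D K r t) = G.autVal S K r t := by
  show PresentedGroup.toGroup (G.autVal_rels h hp)
    (PresentedGroup.mk (D.steinbergRels K) (D.stX r t)) = _
  rw [ChevalleyDatum.stX, dif_pos hr]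
  exact PresentedGroup.toGroup.of (G.autVal_rels h hp)

theorem autSt_mem {S : AutTab} (h : S.chk D T = true) (hp : (S.p : K) = 0)
    (g : D.SteinbergGroup K) : G.autSt h hp g ∈ D.group K :=
  st_generated ((D.group K).comap (G.autSt h hp))
    (fun r hr t => by
      show G.autSt h hp (xb D K r t) ∈ D.group K
      rw [G.autSt_xb h hp hr]
      exact G.X_mem_group (G.aut_facts h hr).1 _) g

/-- The field endomorphism on the general linear group. -/
noncomputable def fieldMap (φ : K →+* K) : GL D.Idx K →* GL D.Idx K :=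
  Units.map (φ.mapMatrix : Matrix D.Idx D.Idx K →+* Matrix D.Idx D.Idx K).toMonoidHom

theorem fieldMap_X (φ : K →+* K) (r : ℕ) (t : K) :
    fieldMap (D := D) φ (G.X K r t) = G.X K r (φ t) := by
  refine G.eq_X_of_val ?_
  show (((G.X K r t : GL D.Idx K) : Matrix D.Idx D.Idx K)).map φ = _
  rw [G.X_val]
  exact x_map φ r t

omit G in
theorem fieldMap_injective (φ : K →+* K) : Function.Injective (fieldMap (D := D) φ) := by
  intro a b e
  refine Units.ext (Matrix.map_injective φ.injective ?_)
  exact congrArg Units.val e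

end Good

/-- The hypotheses under which a table gives an automorphism. -/
structure AutHyp (D : ChevalleyDatum) (T : Tables) (S : AutTab) (K : Type*) [Field K] : Prop where
  good : Good D T
  adj : chkAdj D T = true
  chk : S.chk D T = true
  cast : (S.p : K) = 0
  pos : 0 < D.nroots
  perf : ∀ r < D.nroots, ∀ x : K, ∃ y : K, y ^ S.ex r = x

namespace AutHyp

variable {S : AutTab} (A : AutHyp D T S K)
include A

theorem surj_aux : ∀ x ∈ D.group K, ∃ g, A.good.autSt A.chk A.cast g = x := by
  intro x hx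
  refine (A.good.group_le_of (K := (A.good.autSt A.chk A.cast).range) ?_) hx
  intro q hq v
  have hinv : ∃ r < D.nroots, S.rho r = q := by
    have h0 := Good.aut_ord_pos A.chk
    obtain ⟨k, hk⟩ : ∃ k, S.ord = k + 1 := ⟨S.ord - 1, by omega⟩
    have hlt : ∀ j, S.iter j q < D.nroots := by
      intro j
      induction j with
      | zero => exact hq
      | succ j ih => exact (A.good.aut_facts A.chk ih).1
    exact ⟨S.iter k q, hlt k, by
      have := (A.good.aut_facts A.chk hq).2.2.2.2.2.2.1; rw [hk] at this; exact this⟩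
  obtain ⟨r, hr, rfl⟩ := hinv
  obtain ⟨y, hy⟩ := A.perf r hr ((S.eps r : K) * v)
  refine ⟨xb D K r y, ?_⟩
  rw [A.good.autSt_xb A.chk A.cast hr, Good.autVal, hy, ← mul_assoc]
  congr 1
  rcases (A.good.aut_facts A.chk hr).2.2.1 with e | e <;> simp [e]

theorem exists_hom : ∃ α : ↥(D.group K) →* ↥(D.group K), Function.Surjective α ∧
    ∀ x, α (A.good.theta K x) = ⟨A.good.autSt A.chk A.cast x, A.good.autSt_mem A.chk A.cast x⟩ := by
  set f : D.SteinbergGroup K →* ↥(D.group K) :=
    (A.good.autSt A.chk A.cast).codRestrict _ (A.good.autSt_mem A.chk A.cast) with hf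
  have hfs : Function.Surjective f := fun y => by
    obtain ⟨g, hg⟩ := A.surj_aux y.1 y.2
    exact ⟨g, Subtype.ext hg⟩
  have hker : (A.good.theta K).ker ≤ f.ker := by
    intro z hz
    rw [A.good.theta_ker A.adj] at hz
    have : f z ∈ Subgroup.center ↥(D.group K) := by
      refine Subgroup.mem_center_iff.2 fun y => ?_
      obtain ⟨x, rfl⟩ := hfs y
      rw [← map_mul, ← map_mul, Subgroup.mem_center_iff.1 hz x]
    rw [A.good.center_group_eq_bot, Subgroup.mem_bot] at this
    exact MonoidHom.mem_ker.2 this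
  set α := (A.good.theta K).liftOfSurjective A.good.theta_surjective ⟨f, hker⟩
  have hα : ∀ x, α (A.good.theta K x) = f x := fun x =>
    MonoidHom.liftOfRightInverse_comp_apply _ _ _ _ x
  refine ⟨α, fun y => ?_, hα⟩
  obtain ⟨x, rfl⟩ := hfs y
  exact ⟨_, hα x⟩

/-- The endomorphism of the Chevalley group. -/
noncomputable def alpha : ↥(D.group K) →* ↥(D.group K) := Classical.choose A.exists_hom

theorem alpha_surjective : Function.Surjective A.alpha := (Classical.choose_spec A.exists_hom).1

theorem alpha_X {r : ℕ} (hr : r < D.nroots) {g : ↥(D.group K)} {t : K}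
    (hg : (g : GL D.Idx K) = A.good.X K r t) :
    (A.alpha g : GL D.Idx K) = A.good.X K (S.rho r) ((S.eps r : K) * t ^ S.ex r) := by
  have e : g = A.good.theta K (xb D K r t) := Subtype.ext (hg.trans (A.good.th_xb hr t).symm)
  rw [e]
  show ((A.alpha (A.good.theta K (xb D K r t)) : ↥(D.group K)) : GL D.Idx K) = _
  rw [show A.alpha = Classical.choose A.exists_hom from rfl,
    (Classical.choose_spec A.exists_hom).2]
  exact A.good.autSt_xb A.chk A.cast hr t

theorem alpha_iterate (k : ℕ) {r : ℕ} (hr : r < D.nroots) (g : ↥(D.group K)) (t : K)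
    (hg : (g : GL D.Idx K) = A.good.X K r t) :
    S.iter k r < D.nroots ∧ ((A.alpha^[k] g : ↥(D.group K)) : GL D.Idx K) =
      A.good.X K (S.iter k r) ((S.epsProd k r : K) * t ^ S.exProd k r) := by
  induction k with
  | zero => exact ⟨hr, by simpa [AutTab.iter, AutTab.epsProd, AutTab.exProd] using hg⟩
  | succ k ih =>
    obtain ⟨hk, e⟩ := ih
    refine ⟨(A.good.aut_facts A.chk hk).1, ?_⟩
    rw [Function.iterate_succ_apply', A.alpha_X hk e]
    congr 1
    simp only [AutTab.epsProd, AutTab.exProd, ipow_eq]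
    push_cast
    rw [mul_pow, ← pow_mul]
    ring

theorem alpha_injective : Function.Injective A.alpha := by
  set E := S.exProd S.ord 0 with hE
  refine (injective_iff_map_eq_one _).2 fun g hg => ?_
  have hfix : ∀ r < D.nroots, ∀ t : K, ∀ x : ↥(D.group K), (x : GL D.Idx K) = A.good.X K r t →
      ((A.alpha^[S.ord] x : ↥(D.group K)) : GL D.Idx K) = A.good.X K r (t ^ E) := by
    intro r hr t x hx
    obtain ⟨-, e⟩ := A.alpha_iterate S.ord hr x t hx
    obtain ⟨-, -, -, -, -, -, h7, h8, h9⟩ := A.good.aut_facts A.chk hr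
    rwa [h7, h8, h9, Int.cast_one, one_mul, ← hE] at e
  -- the power map is a ring endomorphism
  have hE0 : 0 < E := by
    have : ∀ k r, r < D.nroots → S.iter k r < D.nroots ∧ 0 < S.exProd k r := by
      intro k r hr
      induction k with
      | zero => exact ⟨hr, Nat.one_pos⟩
      | succ k ih =>
        refine ⟨(A.good.aut_facts A.chk ih.1).1, Nat.mul_pos ih.2 ?_⟩
        rcases (A.good.aut_facts A.chk ih.1).2.2.2.2.2.1 with he | ⟨he, h1⟩ <;> omega
    exact (this S.ord 0 A.pos).2
  have hadd : ∀ x y : K, (x + y) ^ E = x ^ E + y ^ E := by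
    intro x y
    have h0 := A.pos
    have : ∀ k, S.iter k 0 < D.nroots ∧
        ∀ x y : K, (x + y) ^ S.exProd k 0 = x ^ S.exProd k 0 + y ^ S.exProd k 0 := by
      intro k
      induction k with
      | zero => exact ⟨h0, fun x y => by simp [AutTab.exProd]⟩
      | succ k ih =>
        refine ⟨(A.good.aut_facts A.chk ih.1).1, fun x y => ?_⟩
        simp only [AutTab.exProd, pow_mul]
        rw [ih.2, A.good.aut_add A.chk A.cast ih.1]
    exact (this S.ord).2 x y
  let φ : K →+* K :=
    { toFun := fun x => x ^ E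
      map_one' := one_pow E
      map_mul' := fun x y => mul_pow x y E
      map_zero' := zero_pow hE0.ne'
      map_add' := hadd }
  have hiter : ∀ x : ↥(D.group K),
      ((A.alpha^[S.ord] x : ↥(D.group K)) : GL D.Idx K) = Good.fieldMap (D := D) φ (x : GL D.Idx K) := by
    have hhom : ∀ k, ∃ f : ↥(D.group K) →* ↥(D.group K), ∀ x, f x = A.alpha^[k] x := by
      intro k
      induction k with
      | zero => exact ⟨MonoidHom.id _, fun x => rfl⟩
      | succ k ih =>
        obtain ⟨f, hf⟩ := ih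
        exact ⟨A.alpha.comp f, fun x => by
          rw [Function.iterate_succ_apply', ← hf]; rfl⟩
    obtain ⟨f, hf⟩ := hhom S.ord
    intro x
    obtain ⟨y, rfl⟩ := A.good.theta_surjective x
    rw [← hf]
    show ((D.group K).subtype.comp (f.comp (A.good.theta K))) y =
      ((Good.fieldMap (D := D) φ).comp (A.good.th K)) y
    refine Good.st_generated (MonoidHom.eqLocus ((D.group K).subtype.comp (f.comp (A.good.theta K)))
      ((Good.fieldMap (D := D) φ).comp (A.good.th K))) (fun r hr t => ?_) y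
    show ((f (A.good.theta K (xb D K r t)) : ↥(D.group K)) : GL D.Idx K) =
      Good.fieldMap (D := D) φ (A.good.th K (xb D K r t))
    rw [hf, hfix r hr t _ (A.good.th_xb hr t), A.good.th_xb hr, A.good.fieldMap_X]
    rfl
  have h1 : A.alpha^[S.ord] g = 1 := by
    obtain ⟨k, hk⟩ : ∃ k, S.ord = k + 1 := ⟨S.ord - 1, by have := Good.aut_ord_pos A.chk; omega⟩
    rw [hk, Function.iterate_succ_apply, hg]
    clear hk
    induction k with
    | zero => rfl
    | succ k ih => rw [Function.iterate_succ_apply, map_one]; exact ih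
  have h2 := hiter g
  rw [h1] at h2
  exact Subtype.ext (Good.fieldMap_injective φ (h2.symm.trans (map_one _).symm))

/-- The automorphism. -/
noncomputable def alphaEquiv : ↥(D.group K) ≃* ↥(D.group K) :=
  MulEquiv.ofBijective A.alpha ⟨A.alpha_injective, A.alpha_surjective⟩

theorem alphaEquiv_val {r : ℕ} (hr : r < D.nroots) {g : ↥(D.group K)} {t : K}
    (hg : ((g : GL D.Idx K) : Matrix D.Idx D.Idx K) = D.x K r t) :
    ((A.alphaEquiv g : GL D.Idx K) : Matrix D.Idx D.Idx K) =
      D.x K (S.rho r) ((S.eps r : K) * t ^ S.ex r) :=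
  (congrArg Units.val (A.alpha_X hr (A.good.eq_X_of_val hg))).trans (A.good.X_val _ _)

end AutHyp

end Cfsg.Agent.Lib.Chev

namespace Cfsg.Agent.Lib.Chev

open Cfsg.Lie

variable {D : ChevalleyDatum} {T : Tables} {K : Type*} [Field K]

/-- The action on the fundamental roots and their negatives, as a check. -/
def chkSimples (D : ChevalleyDatum) (S : AutTab) (l : List (ℕ × ℕ)) : Bool :=
  allLt D.rank fun i => decide ((l.getD i (0, 1)).1 < D.rank) &&
    (S.rho (sim D i) == sim D (l.getD i (0, 1)).1) && (S.eps (sim D i) == 1) &&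
    (S.ex (sim D i) == (l.getD i (0, 1)).2)

theorem AutHyp.graph {S : AutTab} (A : AutHyp D T S K) {l : List (ℕ × ℕ)}
    (h : chkSimples D S l = true) :
    ∃ α : ↥(D.group K) ≃* ↥(D.group K), ∀ (g : ↥(D.group K)) (i : ℕ) (t : K), i < D.rank →
      (((g : GL D.Idx K) : Matrix D.Idx D.Idx K) = D.x K (D.simple i) t →
        ((α g : GL D.Idx K) : Matrix D.Idx D.Idx K) =
          D.x K (D.simple (l.getD i (0, 1)).1) (t ^ (l.getD i (0, 1)).2)) ∧
      (((g : GL D.Idx K) : Matrix D.Idx D.Idx K) = D.x K (D.neg (D.simple i)) t →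
        ((α g : GL D.Idx K) : Matrix D.Idx D.Idx K) =
          D.x K (D.neg (D.simple (l.getD i (0, 1)).1)) (t ^ (l.getD i (0, 1)).2)) := by
  refine ⟨A.alphaEquiv, fun g i t hi => ?_⟩
  have h0 := allLt_eq_true h i hi
  simp only [Bool.and_eq_true, beq_iff_eq, decide_eq_true_eq] at h0
  obtain ⟨⟨⟨hj, h1⟩, h2⟩, h3⟩ := h0
  simp only [A.good.simple_eq]
  constructor
  · intro hg
    rw [A.alphaEquiv_val (A.good.sim_lt hi) hg, h1, h2, h3, Int.cast_one, one_mul]
  · intro hg
    obtain ⟨-, f1, -, f2, f3, -⟩ := A.good.aut_facts A.chk (A.good.sim_lt hi)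
    rw [A.good.neg_eq (A.good.sim_lt hi)] at hg
    rw [A.alphaEquiv_val (A.good.ng_lt (A.good.sim_lt hi)) hg, f1, f2, f3, h1, h2, h3,
      A.good.neg_eq (A.good.sim_lt hj), Int.cast_one, one_mul]

end Cfsg.Agent.Lib.Chev
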