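import Cfsg.Agent.Lib.Chev.StAut

/-!
The tables of the graph automorphisms and special isogenies.
-/

set_option autoImplicit false
set_option maxRecDepth 100000

namespace Cfsg.Agent.Lib.Chev

open Cfsg.Lie

/-- The table of the symmetry of E6. -/
def autE6 : AutTab where
  p := 0
  ord := 2
  rhoL := [0, 1, 2, 5, 16, 3, 6, 17, 8, 19, 22, 11, 26, 30, 33, 35, 4, 7, 18, 9, 20, 23, 10, 21, 24, 25, 12, 27, 31, 34, 13, 28, 32, 14, 29, 15, 56, 42, 57, 39, 43, 58, 37, 40, 44, 59, 46, 47, 50, 61, 48, 51, 62, 53, 64, 67, 36, 38, 41, 45, 60, 49, 52, 63, 54, 65, 68, 55, 66, 69, 70, 71]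
  exL := [1, 1, 1, 1, 1, 1, 1, 1, 1, 1, 1, 1, 1, 1, 1, 1, 1, 1, 1, 1, 1, 1, 1, 1, 1, 1, 1, 1, 1, 1, 1, 1, 1, 1, 1, 1, 1, 1, 1, 1, 1, 1, 1, 1, 1, 1, 1, 1, 1, 1, 1, 1, 1, 1, 1, 1, 1, 1, 1, 1, 1, 1, 1, 1, 1, 1, 1, 1, 1, 1, 1, 1]
  epsL := [1, 1, 1, 1, -1, 1, 1, -1, 1, -1, -1, 1, -1, 1, -1, 1, -1, -1, 1, -1, 1, 1, -1, 1, 1, 1, -1, 1, -1, 1, 1, -1, 1, -1, 1, 1, 1, 1, -1, 1, -1, 1, 1, -1, 1, -1, 1, 1, 1, -1, 1, 1, -1, 1, -1, -1, 1, -1, 1, -1, 1, -1, -1, 1, -1, 1, 1, -1, 1, 1, 1, 1]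

theorem autE6_chk : autE6.chk chevE6 tabE6 = true := by decide +kernel

theorem autE6_hyp (K : Type*) [Field K] (hp : ((0 : ℕ) : K) = 0)
    (hperf : ∀ r < chevE6.nroots, ∀ x : K, ∃ y : K, y ^ autE6.ex r = x) :
    AutHyp chevE6 tabE6 autE6 K :=
  ⟨goodE6, adjE6, autE6_chk, hp, by decide, hperf⟩

/-- The table of the symmetry of D4a. -/
def autD4a : AutTab where
  p := 0
  ord := 3
  rhoL := [0, 1, 6, 2, 7, 10, 3, 8, 4, 9, 11, 5, 18, 12, 14, 19, 15, 20, 13, 16, 21, 17, 22, 23]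
  exL := [1, 1, 1, 1, 1, 1, 1, 1, 1, 1, 1, 1, 1, 1, 1, 1, 1, 1, 1, 1, 1, 1, 1, 1]
  epsL := [1, 1, -1, 1, -1, 1, -1, 1, -1, 1, 1, 1, 1, 1, 1, -1, 1, -1, 1, -1, 1, -1, 1, 1]

theorem autD4a_chk : autD4a.chk chevD4 tabD4 = true := by decide +kernel

theorem autD4a_hyp (K : Type*) [Field K] (hp : ((0 : ℕ) : K) = 0)
    (hperf : ∀ r < chevD4.nroots, ∀ x : K, ∃ y : K, y ^ autD4a.ex r = x) :
    AutHyp chevD4 tabD4 autD4a K :=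
  ⟨goodD4, adjD4, autD4a_chk, hp, by decide, hperf⟩

/-- The table of the symmetry of D4b. -/
def autD4b : AutTab where
  p := 0
  ord := 3
  rhoL := [0, 1, 3, 6, 8, 11, 2, 4, 7, 9, 5, 10, 13, 18, 14, 16, 19, 21, 12, 15, 17, 20, 22, 23]
  exL := [1, 1, 1, 1, 1, 1, 1, 1, 1, 1, 1, 1, 1, 1, 1, 1, 1, 1, 1, 1, 1, 1, 1, 1]
  epsL := [1, 1, 1, -1, -1, 1, -1, -1, 1, 1, 1, 1, 1, 1, 1, 1, -1, -1, 1, -1, -1, 1, 1, 1]

theorem autD4b_chk : autD4b.chk chevD4 tabD4 = true := by decide +kernel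

theorem autD4b_hyp (K : Type*) [Field K] (hp : ((0 : ℕ) : K) = 0)
    (hperf : ∀ r < chevD4.nroots, ∀ x : K, ∃ y : K, y ^ autD4b.ex r = x) :
    AutHyp chevD4 tabD4 autD4b K :=
  ⟨goodD4, adjD4, autD4b_chk, hp, by decide, hperf⟩

/-- The table of the symmetry of B2. -/
def autB2 : AutTab where
  p := 2
  ord := 2
  rhoL := [1, 0, 3, 2, 5, 4, 7, 6]
  exL := [1, 2, 2, 1, 1, 2, 2, 1]
  epsL := [1, 1, 1, 1, 1, 1, 1, 1]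

theorem autB2_chk : autB2.chk chevB2 tabB2 = true := by decide +kernel

theorem autB2_hyp (K : Type*) [Field K] (hp : ((2 : ℕ) : K) = 0)
    (hperf : ∀ r < chevB2.nroots, ∀ x : K, ∃ y : K, y ^ autB2.ex r = x) :
    AutHyp chevB2 tabB2 autB2 K :=
  ⟨goodB2, adjB2, autB2_chk, hp, by decide, hperf⟩

/-- The table of the symmetry of F4. -/
def autF4 : AutTab where
  p := 2
  ord := 2
  rhoL := [3, 7, 8, 0, 9, 11, 18, 1, 2, 4, 15, 5, 16, 21, 23, 10, 12, 19, 6, 17, 22, 13, 20, 14, 33, 27, 34, 25, 30, 41, 28, 35, 37, 24, 26, 31, 42, 32, 43, 45, 46, 29, 36, 38, 47, 39, 40, 44]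
  exL := [1, 1, 1, 2, 1, 1, 1, 2, 2, 2, 2, 2, 2, 2, 2, 1, 1, 1, 2, 2, 2, 1, 1, 1, 1, 1, 1, 2, 2, 2, 1, 1, 1, 2, 2, 2, 2, 2, 2, 2, 2, 1, 1, 1, 2, 1, 1, 1]
  epsL := [1, 1, 1, 1, 1, 1, 1, 1, 1, 1, 1, 1, 1, 1, 1, 1, 1, 1, 1, 1, 1, 1, 1, 1, 1, 1, 1, 1, 1, 1, 1, 1, 1, 1, 1, 1, 1, 1, 1, 1, 1, 1, 1, 1, 1, 1, 1, 1]

theorem autF4_chk : autF4.chk chevF4 tabF4 = true := by decide +kernel

theorem autF4_hyp (K : Type*) [Field K] (hp : ((2 : ℕ) : K) = 0)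
    (hperf : ∀ r < chevF4.nroots, ∀ x : K, ∃ y : K, y ^ autF4.ex r = x) :
    AutHyp chevF4 tabF4 autF4 K :=
  ⟨goodF4, adjF4, autF4_chk, hp, by decide, hperf⟩

/-- The table of the symmetry of G2. -/
def autG2 : AutTab where
  p := 3
  ord := 2
  rhoL := [2, 3, 0, 1, 5, 4, 7, 6, 10, 11, 8, 9]
  exL := [1, 1, 3, 3, 3, 1, 1, 3, 3, 3, 1, 1]
  epsL := [1, 1, 1, 1, 1, 1, 1, 1, 1, 1, 1, 1]

theorem autG2_chk : autG2.chk chevG2 tabG2 = true := by decide +kernel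

theorem autG2_hyp (K : Type*) [Field K] (hp : ((3 : ℕ) : K) = 0)
    (hperf : ∀ r < chevG2.nroots, ∀ x : K, ∃ y : K, y ^ autG2.ex r = x) :
    AutHyp chevG2 tabG2 autG2 K :=
  ⟨goodG2, adjG2, autG2_chk, hp, by decide, hperf⟩

end Cfsg.Agent.Lib.Chev
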