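import Cfsg.Agent.Lib.Chev.Borel
import Cfsg.Prelude.Def_LieExceptional

/-!
The (B,N)-pair of a Chevalley group.
-/

set_option autoImplicit false

namespace Cfsg.Agent.Lib.Chev

open Cfsg.Lie
open scoped Matrix Pointwise

variable {D : ChevalleyDatum} {T : Tables} {F : Type*} [Field F]

/-- The set of the fundamental `n`'s inside the group. -/
def niSet (D : ChevalleyDatum) (F : Type*) [Field F] : Set ↥(D.group F) :=
  {n | ∃ i < D.rank, ((n : GL D.Idx F) : Matrix D.Idx D.Idx F) = D.nMat F (D.simple i) 1}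

namespace Good

variable (G : Good D T)
include G

theorem flip_single_le {i : ℕ} (hi : i < D.rank) :
    G.USub F (flipSet D T [i]) ≤ D.rootSubgroup F (sim D i) := by
  refine G.USub_le_of fun q hq hp hqS t => ?_
  by_cases hne : q = sim D i
  · exact G.mem_rootSubgroup.2 ⟨t, by rw [hne]⟩
  · have h1 : npos D ≤ T.w i q := (G.keep_single_iff hi hq hp).2 hne
    have h2 : T.w i q < npos D := hqS
    omega

theorem exists_keep_X {i : ℕ} (hi : i < D.rank) {u : GL D.Idx F} (hu : u ∈ D.posUnipotent F) :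
    ∃ a ∈ G.USub F (keepSet D T [i]), ∃ t : F, u = a * G.X F (sim D i) t := by
  obtain ⟨a, ha, b, hb, rfl⟩ := G.exists_split_pos [i] hu
  obtain ⟨t, rfl⟩ := G.mem_rootSubgroup.1 (G.flip_single_le hi hb)
  exact ⟨a, ha, t, rfl⟩

theorem act_inv_X {g : GL D.Idx F} {l : List ℕ} (h : G.Rep F g l) {p : ℕ} (hp : p < D.nroots)
    (t : F) : ∃ s : F, g⁻¹ * G.X F p t * g = G.X F (wl T l.reverse p) s := by
  have hq := G.wl_lt h.1.reverse hp
  obtain ⟨-, c, hc, e⟩ := G.rep_act h _ hq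
  refine ⟨c⁻¹ * t, ?_⟩
  have h1 := e (c⁻¹ * t)
  rw [G.wl_wl_reverse h.1 hp, mul_inv_cancel_left₀ hc] at h1
  rw [← h1]; group

theorem Ng_sim_eq {i : ℕ} (hi : i < D.rank) (a : F) :
    G.Ng F (sim D i) a = G.Hg F (sim D i) a * G.ni F i := by
  rw [Good.Hg, mul_assoc]
  conv_lhs => rw [← mul_one (G.Ng F (sim D i) a)]
  congr 1
  rw [Good.ni, eq_comm, mul_eq_one_iff_eq_inv, G.Ng_inv]

/-- The double coset condition. -/
theorem mul_union {i : ℕ} (hi : i < D.rank) {n : GL D.Idx F} (hn : n ∈ D.monomialSubgroup F)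
    {b : GL D.Idx F} (hb : b ∈ D.borelSubgroup F) :
    (∃ a ∈ D.borelSubgroup F, ∃ c ∈ D.borelSubgroup F, G.ni F i * b * n = a * (G.ni F i * n) * c) ∨
      ∃ a ∈ D.borelSubgroup F, ∃ c ∈ D.borelSubgroup F, G.ni F i * b * n = a * n * c := by
  obtain ⟨u, hu, h, hh, rfl⟩ := G.mem_borel.1 hb
  obtain ⟨u', hu', t, rfl⟩ := G.exists_keep_X hi hu
  obtain ⟨l, hl⟩ := G.exists_rep hn
  have hp := G.sim_lt hi
  set ν := G.ni F i with hν
  have ha0 : ν * u' * ν⁻¹ ∈ D.borelSubgroup F :=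
    Subgroup.mem_sup_left (G.USub_le_pos _ (G.ni_conj_up hi hu'))
  have hc0 : n⁻¹ * h * n ∈ D.borelSubgroup F := by
    have := (Subgroup.mem_normalizer_iff.1 (G.monomial_le_normalizer (inv_mem hn)) h).1 hh
    rw [inv_inv] at this
    exact Subgroup.mem_sup_right this
  have key : ν * (u' * G.X F (sim D i) t * h) * n =
      (ν * u' * ν⁻¹) * (ν * G.X F (sim D i) t * n) * (n⁻¹ * h * n) := by group
  rw [key]
  by_cases hq : npos D ≤ wl T l.reverse (sim D i)
  · left
    obtain ⟨s, hs⟩ := G.act_inv_X hl hp t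
    refine ⟨ν * u' * ν⁻¹, ha0, G.X F (wl T l.reverse (sim D i)) s * (n⁻¹ * h * n), mul_mem
      (Subgroup.mem_sup_left (G.X_mem_posUnipotent (G.wl_lt hl.1.reverse hp) hq s)) hc0, ?_⟩
    rw [← hs]; group
  by_cases ht : t = 0
  · left
    refine ⟨ν * u' * ν⁻¹, ha0, n⁻¹ * h * n, hc0, ?_⟩
    rw [ht, G.X_zero]; group
  right
  have hl' : G.Rep F (ν * n) ([i] ++ l) := G.rep_mul (G.rep_ni hi) hl
  obtain ⟨s, hs⟩ := G.act_inv_X hl' hp (-t⁻¹)
  have hroot : wl T ([i] ++ l).reverse (sim D i) = ng D (wl T l.reverse (sim D i)) := by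
    rw [List.reverse_append, wl_append, List.reverse_singleton]
    simp only [wl]
    rw [G.w_sim hi, G.wl_ng hl.1.reverse hp]
  have hX : G.X F (wl T ([i] ++ l).reverse (sim D i)) s ∈ D.borelSubgroup F := by
    rw [hroot]
    exact Subgroup.mem_sup_left (G.X_mem_posUnipotent (G.ng_lt (G.wl_lt hl.1.reverse hp))
      ((G.ng_pos_iff (G.wl_lt hl.1.reverse hp)).2 (Nat.lt_of_not_le hq)) s)
  set a := t⁻¹ with hadef
  have e1 : ν * G.X F (sim D i) t * ν⁻¹ = G.X F (ng D (sim D i)) (-t) := by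
    rw [hν, G.ni_conj_X hi hp, G.w_sim hi, G.eta_sim hi, Int.cast_neg, Int.cast_one, neg_one_mul]
  have e2 : G.X F (ng D (sim D i)) (-t) =
      G.X F (sim D i) (-a) * G.Ng F (sim D i) a * G.X F (sim D i) (-a) := by
    rw [Good.Ng, hadef, inv_inv, ← mul_assoc, ← mul_assoc, G.X_add, neg_add_cancel, G.X_zero,
      one_mul, mul_assoc, G.X_add, add_neg_cancel, G.X_zero, mul_one]
  have e3 : ν * G.X F (sim D i) t * n = (G.X F (sim D i) (-a) * G.Hg F (sim D i) a * (ν * ν)) * n *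
      ((ν * n)⁻¹ * G.X F (sim D i) (-a) * (ν * n)) := by
    calc ν * G.X F (sim D i) t * n = (ν * G.X F (sim D i) t * ν⁻¹) * (ν * n) := by group
      _ = _ := by rw [e1, e2, G.Ng_sim_eq hi, ← hν]; group
  refine ⟨(ν * u' * ν⁻¹) * (G.X F (sim D i) (-a) * G.Hg F (sim D i) a * (ν * ν)), mul_mem ha0
    (mul_mem (mul_mem (Subgroup.mem_sup_left (G.X_mem_posUnipotent hp (G.sim_pos hi) _))
      (Subgroup.mem_sup_right (G.Hg_mem hp (inv_ne_zero ht))))
      (Subgroup.mem_sup_right (G.ni_sq hi))),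
    G.X F (wl T ([i] ++ l).reverse (sim D i)) s * (n⁻¹ * h * n), mul_mem hX hc0, ?_⟩
  rw [e3, ← hs, hadef]; group

theorem ni_conj_ne {i : ℕ} (hi : i < D.rank) :
    ∃ b ∈ D.borelSubgroup F, G.ni F i * b * G.ni F i ∉ D.borelSubgroup F := by
  have hp := G.sim_lt hi
  refine ⟨G.X F (sim D i) 1, Subgroup.mem_sup_left (G.X_mem_posUnipotent hp (G.sim_pos hi) 1),
    fun h => ?_⟩
  have h2 : (G.ni F i * G.ni F i)⁻¹ ∈ D.borelSubgroup F :=
    Subgroup.mem_sup_right (inv_mem (G.ni_sq hi))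
  have h3 := mul_mem h h2
  have e : G.ni F i * G.X F (sim D i) 1 * G.ni F i * (G.ni F i * G.ni F i)⁻¹ =
      G.ni F i * G.X F (sim D i) 1 * (G.ni F i)⁻¹ := by group
  rw [e, G.ni_conj_X hi hp, G.w_sim hi] at h3
  have hneg : ng D (sim D i) < npos D := by
    have := G.even_n; have := G.sim_pos hi; unfold ng; omega
  have h4 := Subgroup.mem_bot.1 (G.borel_inf_neg (F := F) ▸
    Subgroup.mem_inf.2 ⟨h3, G.X_mem_negUnipotent (G.ng_lt hp) hneg _⟩)
  rw [G.X_eq_one_iff (G.ng_lt hp), G.eta_sim hi] at h4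
  simp at h4

theorem ni_inj {i j : ℕ} (hi : i < D.rank) (hj : j < D.rank)
    (h : (G.ni F i)⁻¹ * G.ni F j ∈ D.borelSubgroup F) : i = j := by
  by_contra hne
  have hr := G.rep_mul (G.rep_ni_inv (F := F) hi) (G.rep_ni hj)
  have hp := G.sim_lt hi
  have h1 := G.borel_monomial_fix h hr hp
  have hij : sim D i ≠ sim D j := by
    intro e
    have h2 := G.k_sim hi hi
    rw [e, G.k_sim hj hi] at h2
    simp [hne] at h2
  have h2 : npos D ≤ T.w j (sim D i) := (G.keep_single_iff hj hp (G.sim_pos hi)).2 hij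
  simp only [List.singleton_append, wl] at h1
  have h3 : T.w j (sim D i) = ng D (sim D i) := by
    conv_rhs => rw [← G.w_sim hi, ← h1]
    rw [h1]
    have := congrArg (T.w i) h1
    rw [G.w_w hi (G.w_lt hj hp), G.w_sim hi] at this
    rw [G.w_sim hi]; exact this
  rw [h3] at h2
  have := G.even_n; have := G.sim_pos hi
  unfold ng at h2; omega

theorem mem_niSet {x : ↥(D.group F)} :
    x ∈ niSet D F ↔ ∃ i < D.rank, (x : GL D.Idx F) = G.ni F i := by
  constructor
  · rintro ⟨i, hi, e⟩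
    exact ⟨i, hi, Units.ext (by rw [e, G.simple_eq, ← G.Ng_val (G.sim_lt hi)]; rfl)⟩
  · rintro ⟨i, hi, e⟩
    exact ⟨i, hi, by rw [e, G.simple_eq, ← G.Ng_val (G.sim_lt hi)]; rfl⟩

/-- The (B,N)-pair. -/
noncomputable def bnPair (F : Type*) [Field F] : Cfsg.BNPair ↥(D.group F) where
  B := (D.borelSubgroup F).subgroupOf (D.group F)
  N := (D.monomialSubgroup F).subgroupOf (D.group F)
  S := niSet D F
  sup_eq_top := by
    refine Subgroup.map_injective (D.group F).subtype_injective ?_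
    rw [Subgroup.map_sup, Subgroup.subgroupOf_map_subtype, Subgroup.subgroupOf_map_subtype,
      inf_eq_left.2 G.borel_le_group, inf_eq_left.2 G.monomial_le_group, G.borel_sup_monomial,
      ← MonoidHom.range_eq_map, Subgroup.range_subtype]
  conj_mem := by
    rintro n hn t ⟨htB, htN⟩
    have ht : (t : GL D.Idx F) ∈ D.diagonalSubgroup F := by
      rw [← G.borel_inf_monomial]; exact ⟨htB, htN⟩
    exact Subgroup.mem_sup_right
      ((Subgroup.mem_normalizer_iff.1 (G.monomial_le_normalizer hn) _).1 ht)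
  subset := by
    intro x hx
    obtain ⟨i, hi, e⟩ := G.mem_niSet.1 hx
    show (x : GL D.Idx F) ∈ D.monomialSubgroup F
    rw [e]; exact G.ni_mem_monomial hi
  sq_mem := by
    intro x hx
    obtain ⟨i, hi, e⟩ := G.mem_niSet.1 hx
    show ((x * x : ↥(D.group F)) : GL D.Idx F) ∈ D.borelSubgroup F
    rw [Subgroup.coe_mul, e]; exact Subgroup.mem_sup_right (G.ni_sq hi)
  inj := by
    intro x hx y hy h
    obtain ⟨i, hi, ex⟩ := G.mem_niSet.1 hx
    obtain ⟨j, hj, ey⟩ := G.mem_niSet.1 hy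
    have h' : (x : GL D.Idx F)⁻¹ * (y : GL D.Idx F) ∈ D.borelSubgroup F := h
    rw [ex, ey] at h'
    exact Subtype.ext (by rw [ex, ey, G.ni_inj hi hj h'])
  closure_sup := by
    refine Subgroup.map_injective (D.group F).subtype_injective ?_
    rw [← Subgroup.inf_subgroupOf_right (D.borelSubgroup F), Subgroup.map_sup,
      MonoidHom.map_closure, Subgroup.subgroupOf_map_subtype]
    have e : (D.group F).subtype '' niSet D F = {g | ∃ i < D.rank, g = G.ni F i} := by
      ext g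
      constructor
      · rintro ⟨x, hx, rfl⟩
        obtain ⟨i, hi, e⟩ := G.mem_niSet.1 hx
        exact ⟨i, hi, e⟩
      · rintro ⟨i, hi, rfl⟩
        exact ⟨⟨G.ni F i, G.ni_mem_group hi⟩, G.mem_niSet.2 ⟨i, hi, rfl⟩, rfl⟩
    have e2 : Subgroup.map (D.group F).subtype
        (((D.borelSubgroup F ⊓ D.group F).subgroupOf (D.group F)) ⊓
          (D.monomialSubgroup F).subgroupOf (D.group F)) = D.diagonalSubgroup F := by
      rw [Subgroup.map_inf _ _ _ (D.group F).subtype_injective, Subgroup.subgroupOf_map_subtype,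
        Subgroup.subgroupOf_map_subtype, inf_eq_left.2 G.borel_le_group,
        inf_eq_left.2 G.borel_le_group, inf_eq_left.2 G.monomial_le_group, G.borel_inf_monomial]
    rw [e, e2, inf_eq_left.2 G.monomial_le_group, G.monomial_eq, sup_comm]
  mul_mem_union := by
    intro x hx n hn b hb
    obtain ⟨i, hi, e⟩ := G.mem_niSet.1 hx
    rcases G.mul_union hi hn hb with ⟨a, ha, c, hc, he⟩ | ⟨a, ha, c, hc, he⟩
    · refine Or.inl (DoubleCoset.mem_doubleCoset.2 ⟨⟨a, G.borel_le_group ha⟩, ha,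
        ⟨c, G.borel_le_group hc⟩, hc, Subtype.ext ?_⟩)
      simpa [e] using he
    · refine Or.inr (DoubleCoset.mem_doubleCoset.2 ⟨⟨a, G.borel_le_group ha⟩, ha,
        ⟨c, G.borel_le_group hc⟩, hc, Subtype.ext ?_⟩)
      simpa [e] using he
  conj_ne := by
    intro x hx he
    obtain ⟨i, hi, e⟩ := G.mem_niSet.1 hx
    obtain ⟨b, hb, hnot⟩ := G.ni_conj_ne (F := F) hi
    apply hnot
    have hmem : x * ⟨b, G.borel_le_group hb⟩ * x ∈
        (((D.borelSubgroup F).subgroupOf (D.group F)) : Set ↥(D.group F)) := by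
      rw [← he]; exact ⟨⟨b, G.borel_le_group hb⟩, hb, rfl⟩
    have h2 : ((x * ⟨b, G.borel_le_group hb⟩ * x : ↥(D.group F)) : GL D.Idx F) ∈
        D.borelSubgroup F := hmem
    simpa [e] using h2

theorem borel_union_subgroup {i : ℕ} (hi : i < D.rank) :
    ∃ P : Subgroup (GL D.Idx F), (P : Set (GL D.Idx F)) =
      (D.borelSubgroup F : Set (GL D.Idx F)) ∪
        DoubleCoset.doubleCoset (G.ni F i) (D.borelSubgroup F : Set (GL D.Idx F))
          (D.borelSubgroup F) := by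
  set ν := G.ni F i with hν
  set B := D.borelSubgroup F with hB
  have hsq : ν * ν ∈ B := Subgroup.mem_sup_right (G.ni_sq hi)
  have hmul : ∀ b ∈ B, ν * b * ν ∈ B ∨ ν * b * ν ∈ DoubleCoset.doubleCoset ν (B : Set _) B := by
    intro b hb
    rcases G.mul_union hi (G.ni_mem_monomial hi) hb with ⟨a, ha, c, hc, he⟩ | ⟨a, ha, c, hc, he⟩
    · exact Or.inl (he ▸ mul_mem (mul_mem ha hsq) hc)
    · exact Or.inr (DoubleCoset.mem_doubleCoset.2 ⟨a, ha, c, hc, he⟩)
  refine ⟨{ carrier := (B : Set (GL D.Idx F)) ∪ DoubleCoset.doubleCoset ν (B : Set _) B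
            one_mem' := Or.inl (one_mem B)
            mul_mem' := ?_
            inv_mem' := ?_ }, rfl⟩
  · rintro x y (hx | hx) (hy | hy)
    · exact Or.inl (mul_mem hx hy)
    · obtain ⟨a, ha, c, hc, rfl⟩ := DoubleCoset.mem_doubleCoset.1 hy
      exact Or.inr (DoubleCoset.mem_doubleCoset.2 ⟨x * a, mul_mem hx ha, c, hc, by group⟩)
    · obtain ⟨a, ha, c, hc, rfl⟩ := DoubleCoset.mem_doubleCoset.1 hx
      exact Or.inr (DoubleCoset.mem_doubleCoset.2 ⟨a, ha, c * y, mul_mem hc hy, by group⟩)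
    · obtain ⟨a, ha, c, hc, rfl⟩ := DoubleCoset.mem_doubleCoset.1 hx
      obtain ⟨a', ha', c', hc', rfl⟩ := DoubleCoset.mem_doubleCoset.1 hy
      have e : a * ν * c * (a' * ν * c') = a * (ν * (c * a') * ν) * c' := by group
      rw [e]
      rcases hmul _ (mul_mem hc ha') with h | h
      · exact Or.inl (mul_mem (mul_mem ha h) hc')
      · obtain ⟨p, hp, r, hr, e2⟩ := DoubleCoset.mem_doubleCoset.1 h
        rw [e2]
        exact Or.inr (DoubleCoset.mem_doubleCoset.2
          ⟨a * p, mul_mem ha hp, r * c', mul_mem hr hc', by group⟩)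
  · rintro x (hx | hx)
    · have hx' : x ∈ B := hx
      exact Or.inl (inv_mem hx')
    · obtain ⟨a, ha, c, hc, rfl⟩ := DoubleCoset.mem_doubleCoset.1 hx
      refine Or.inr (DoubleCoset.mem_doubleCoset.2 ⟨c⁻¹, inv_mem hc, (ν * ν)⁻¹ * a⁻¹,
        mul_mem (inv_mem hsq) (inv_mem ha), by group⟩)

end Good

end Cfsg.Agent.Lib.Chev
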