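import Cfsg.Agent.Lib.Chev.Closed

/-!
The Borel subgroup: intersections with the opposite unipotent group and with `N`.
-/

set_option autoImplicit false

namespace Cfsg.Agent.Lib.Chev

open Cfsg.Lie
open scoped Matrix Pointwise

variable {D : ChevalleyDatum} {T : Tables} {F : Type*} [Field F]

namespace Good

variable (G : Good D T)
include G

theorem diag_normalizes (S : Set ℕ) : D.diagonalSubgroup F ≤
    Subgroup.normalizer (G.USub F S : Set (GL D.Idx F)) := by
  have h1 : ∀ h ∈ D.diagonalSubgroup F, ∀ x ∈ G.USub F S, h * x * h⁻¹ ∈ G.USub F S :=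
    fun h hh x hx => G.act_conj_USub (G.act_diag hh)
      (fun q hq hp hqS t => G.X_mem_USub hq hp hqS t) hx
  intro h hh
  rw [Subgroup.mem_normalizer_iff]
  refine fun x => ⟨h1 h hh x, fun hx => ?_⟩
  have := h1 h⁻¹ (inv_mem hh) _ hx
  simpa [mul_assoc] using this

theorem diag_normalizes_pos : D.diagonalSubgroup F ≤
    Subgroup.normalizer (D.posUnipotent F : Set (GL D.Idx F)) := by
  rw [← G.USub_univ]; exact G.diag_normalizes _

theorem diag_normalizes_neg : D.diagonalSubgroup F ≤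
    Subgroup.normalizer (D.negUnipotent F : Set (GL D.Idx F)) := by
  have h1 : ∀ h ∈ D.diagonalSubgroup F, ∀ x ∈ D.negUnipotent F, h * x * h⁻¹ ∈ D.negUnipotent F := by
    intro h hh x hx
    have h' : D.negUnipotent F ≤ (D.negUnipotent F).comap (MulAut.conj h).toMonoidHom := by
      refine G.negUnipotent_le_of fun r hr hn t => ?_
      obtain ⟨-, c, -, e⟩ := G.act_diag hh r hr
      simpa [e t] using G.X_mem_negUnipotent hr hn (c * t)
    simpa using h' hx
  intro h hh
  rw [Subgroup.mem_normalizer_iff]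
  refine fun x => ⟨h1 h hh x, fun hx => ?_⟩
  have := h1 h⁻¹ (inv_mem hh) _ hx
  simpa [mul_assoc] using this

theorem mem_borel {g : GL D.Idx F} :
    g ∈ D.borelSubgroup F ↔ ∃ u ∈ D.posUnipotent F, ∃ h ∈ D.diagonalSubgroup F, g = u * h := by
  have e := Subgroup.coe_mul_of_right_le_normalizer_left (D.posUnipotent F) (D.diagonalSubgroup F)
    G.diag_normalizes_pos
  rw [← SetLike.mem_coe, ChevalleyDatum.borelSubgroup, e, Set.mem_mul]
  constructor
  · rintro ⟨u, hu, h, hh, rfl⟩; exact ⟨u, hu, h, hh, rfl⟩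
  · rintro ⟨u, hu, h, hh, rfl⟩; exact ⟨u, hu, h, hh, rfl⟩

theorem mem_negBorel {g : GL D.Idx F} :
    g ∈ D.negUnipotent F ⊔ D.diagonalSubgroup F ↔
      ∃ v ∈ D.negUnipotent F, ∃ h ∈ D.diagonalSubgroup F, g = v * h := by
  have e := Subgroup.coe_mul_of_right_le_normalizer_left (D.negUnipotent F) (D.diagonalSubgroup F)
    G.diag_normalizes_neg
  rw [← SetLike.mem_coe, e, Set.mem_mul]
  constructor
  · rintro ⟨u, hu, h, hh, rfl⟩; exact ⟨u, hu, h, hh, rfl⟩
  · rintro ⟨u, hu, h, hh, rfl⟩; exact ⟨u, hu, h, hh, rfl⟩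

omit G in
theorem lev_le_or (x y : D.Idx) : lev D (cd D x) < lev D (cd D y) + 1 ∨
    lev D (cd D y) < lev D (cd D x) := by omega

theorem pos_diag_entry {u : GL D.Idx F} (hu : u ∈ D.posUnipotent F) (x : D.Idx) :
    (u : Matrix D.Idx D.Idx F) x x = 1 := by
  have := G.pos_raises hu x x (by omega)
  rw [Matrix.sub_apply, Matrix.one_apply_eq, sub_eq_zero] at this
  exact this

theorem diag_offdiag {h : GL D.Idx F} (hh : h ∈ D.diagonalSubgroup F) {x y : D.Idx} (hxy : x ≠ y) :
    (h : Matrix D.Idx D.Idx F) x y = 0 := by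
  obtain ⟨c, -, e⟩ := G.exists_tor hh
  rw [e, dmat, Matrix.diagonal_apply_ne _ hxy]

theorem pos_inf_diag : D.posUnipotent F ⊓ D.diagonalSubgroup F = ⊥ := by
  rw [eq_bot_iff]
  rintro g ⟨hu, hh⟩
  rw [Subgroup.mem_bot]
  refine Units.ext (Matrix.ext fun x y => ?_)
  by_cases hxy : x = y
  · subst hxy; rw [G.pos_diag_entry hu, Units.val_one, Matrix.one_apply_eq]
  · rw [G.diag_offdiag hh hxy, Units.val_one, Matrix.one_apply_ne hxy]

theorem borel_raises {g : GL D.Idx F} (hg : g ∈ D.borelSubgroup F) :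
    Raises (lev D) (g : Matrix D.Idx D.Idx F) 0 := by
  obtain ⟨u, hu, h, hh, rfl⟩ := G.mem_borel.1 hg
  have h1 : Raises (lev D) (u : Matrix D.Idx D.Idx F) 0 := by
    have := ((G.pos_raises hu).mono (Nat.zero_le 1)).add raises_one
    simpa using this
  have h2 : Raises (lev D) (h : Matrix D.Idx D.Idx F) 0 := fun x y hxy =>
    G.diag_offdiag hh (by rintro rfl; omega)
  rw [Units.val_mul]
  exact h1.mul h2

theorem borel_inf_neg : D.borelSubgroup F ⊓ D.negUnipotent F = ⊥ := by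
  rw [eq_bot_iff]
  rintro g ⟨hb, hv⟩
  rw [Subgroup.mem_bot]
  refine Units.ext (Matrix.ext fun x y => sub_eq_zero.1 ?_)
  rw [Units.val_one, ← Matrix.sub_apply]
  have hl := G.lev_le (cd D x)
  have hl' := G.lev_le (cd D y)
  by_cases hlt : lev D (cd D x) < lev D (cd D y)
  · rw [Matrix.sub_apply, G.borel_raises hb x y (by omega), Matrix.one_apply_ne, sub_zero]
    rintro rfl; omega
  · exact G.neg_raises hv x y (by simp only [levNeg]; omega)

theorem borel_inf_negBorel :
    D.borelSubgroup F ⊓ (D.negUnipotent F ⊔ D.diagonalSubgroup F) = D.diagonalSubgroup F := by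
  refine le_antisymm ?_ (le_inf le_sup_right le_sup_right)
  rintro g ⟨hb, hvh⟩
  obtain ⟨v, hv, h, hh, rfl⟩ := G.mem_negBorel.1 hvh
  have hvb : v ∈ D.borelSubgroup F := by
    have h' : h⁻¹ ∈ D.borelSubgroup F := Subgroup.mem_sup_right (inv_mem hh)
    have := mul_mem hb h'
    simpa using this
  have : v = 1 := Subgroup.mem_bot.1 (G.borel_inf_neg (F := F) ▸ Subgroup.mem_inf.2 ⟨hvb, hv⟩)
  rwa [this, one_mul]

theorem nl_bas : ∀ {l : List ℕ}, IsW D l → ∀ {r : ℕ}, r < D.nroots →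
    (G.nl F l : Matrix D.Idx D.Idx F) *ᵥ bas D F r = (el T l r : F) • bas D F (wl T l r)
  | [], _, _, _ => by simp [Good.nl, el, wl]
  | i :: l, hl, r, hr => by
    rw [G.nl_cons, Units.val_mul, ← Matrix.mulVec_mulVec, nl_bas hl.tail.2 hr, Matrix.mulVec_smul,
      G.ni_bas_root hl.tail.1 (G.wl_lt hl.tail.2 hr), smul_smul]
    simp [el, wl, mul_comm]

theorem rep_bas {g : GL D.Idx F} {l : List ℕ} (h : G.Rep F g l) {r : ℕ} (hr : r < D.nroots) :
    ∃ c : F, (g : Matrix D.Idx D.Idx F) *ᵥ bas D F r = c • bas D F (wl T l r) := by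
  obtain ⟨χ, -, e⟩ := G.exists_tor h.2
  have e2 : (g : Matrix D.Idx D.Idx F) = dmat D (tor D T χ) * (G.nl F l : Matrix D.Idx D.Idx F) := by
    rw [← e, ← Units.val_mul]; congr 1; group
  refine ⟨(el T l r : F) * tor D T χ (wl T l r), ?_⟩
  rw [e2, ← Matrix.mulVec_mulVec, G.nl_bas h.1 hr, Matrix.mulVec_smul,
    dmat_bas_root _ (G.wl_lt h.1 hr), smul_smul]

theorem borel_monomial_fix {g : GL D.Idx F} (hb : g ∈ D.borelSubgroup F) {l : List ℕ}
    (h : G.Rep F g l) {r : ℕ} (hr : r < D.nroots) : wl T l r = r := by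
  by_contra hne
  obtain ⟨u, hu, d, hd, rfl⟩ := G.mem_borel.1 hb
  obtain ⟨c, hc⟩ := G.rep_bas h hr
  obtain ⟨χ, hχ, e⟩ := G.exists_tor hd
  let x : D.Idx := Sum.inr ⟨r, hr⟩
  have h1 : ((u * d : GL D.Idx F) : Matrix D.Idx D.Idx F) x x = 0 := by
    rw [entry_eq ((u * d : GL D.Idx F) : Matrix D.Idx D.Idx F) x x]
    show (((u * d : GL D.Idx F) : Matrix D.Idx D.Idx F) *ᵥ bas D F r) x = 0
    rw [hc, Pi.smul_apply, bas_apply_eq_zero (fun e => hne e.symm), smul_zero]
  rw [Units.val_mul, e, dmat, Matrix.mul_diagonal, G.pos_diag_entry hu, one_mul] at h1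
  exact (G.isChar_tor fun i _ => hχ i).ne_zero hr (by simpa [x] using h1)

theorem borel_inf_monomial :
    D.borelSubgroup F ⊓ D.monomialSubgroup F = D.diagonalSubgroup F := by
  refine le_antisymm ?_ (le_inf le_sup_right diagonal_le_monomial)
  rintro g ⟨hb, hn⟩
  obtain ⟨l, hl⟩ := G.exists_rep hn
  exact G.mem_diag_of_act_id hn (G.rep_act hl) fun s hs => G.borel_monomial_fix hb hl hs

theorem pos_inf_monomial : D.posUnipotent F ⊓ D.monomialSubgroup F = ⊥ := by
  rw [eq_bot_iff, ← G.pos_inf_diag (F := F)]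
  rintro g ⟨hu, hn⟩
  refine ⟨hu, ?_⟩
  rw [← G.borel_inf_monomial (F := F)]
  exact ⟨Subgroup.mem_sup_left hu, hn⟩

theorem exists_n0 : ∃ n ∈ D.monomialSubgroup F,
    (D.posUnipotent F).map (MulAut.conj n).toMonoidHom = D.negUnipotent F := by
  obtain ⟨l, hl, hpn, -⟩ := G.exists_longest
  refine ⟨G.nl F l, G.nl_mem_monomial hl, le_antisymm ?_ ?_⟩
  · rw [Subgroup.map_le_iff_le_comap]
    refine G.posUnipotent_le_of fun r hr hp t => ?_
    simpa [G.nl_conj_X hl hr] using G.X_mem_negUnipotent (G.wl_lt hl hr) (hpn r hr hp) _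
  · refine G.negUnipotent_le_of fun r hr hn t => ?_
    have hs := G.wl_lt hl.reverse hr
    have hsp : npos D ≤ wl T l.reverse r := by
      by_contra hcon
      have h1 := hpn _ (G.ng_lt hs) ((G.ng_pos_iff hs).2 (by omega))
      rw [G.wl_ng hl hs, G.wl_wl_reverse hl hr] at h1
      have := G.even_n
      unfold ng at h1; omega
    refine ⟨G.X F (wl T l.reverse r) ((el T l (wl T l.reverse r) : F) * t),
      G.X_mem_posUnipotent hs hsp _, ?_⟩
    show G.nl F l * _ * (G.nl F l)⁻¹ = _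
    rw [G.nl_conj_X hl hs, G.wl_wl_reverse hl hr, ← mul_assoc, ← Int.cast_mul, el_mul_self,
      Int.cast_one, one_mul]

/-- An element of `B` whose conjugates by `G` stay in `B` is trivial. -/
theorem eq_one_of_conj_mem {g : GL D.Idx F}
    (h : ∀ x ∈ D.group F, x * g * x⁻¹ ∈ D.borelSubgroup F) : g = 1 := by
  obtain ⟨n, hn, hmap⟩ := G.exists_n0 (F := F)
  have diag : ∀ g : GL D.Idx F, (∀ x ∈ D.group F, x * g * x⁻¹ ∈ D.borelSubgroup F) →
      g ∈ D.diagonalSubgroup F := by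
    intro g h
    have hg : g ∈ D.borelSubgroup F := by simpa using h 1 (one_mem _)
    obtain ⟨u, hu, d, hd, rfl⟩ := G.mem_borel.1 hg
    have hd' : n * d * n⁻¹ ∈ D.diagonalSubgroup F :=
      (Subgroup.mem_normalizer_iff.1 (G.monomial_le_normalizer hn) d).1 hd
    have h1 : n * u * n⁻¹ ∈ D.negUnipotent F := by rw [← hmap]; exact ⟨u, hu, rfl⟩
    have h2 : n * u * n⁻¹ ∈ D.borelSubgroup F := by
      have := mul_mem (h n (G.monomial_le_group hn))
        (show (n * d * n⁻¹)⁻¹ ∈ D.borelSubgroup F from Subgroup.mem_sup_right (inv_mem hd'))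
      have e : n * (u * d) * n⁻¹ * (n * d * n⁻¹)⁻¹ = n * u * n⁻¹ := by group
      rw [e] at this; exact this
    have h3 : n * u * n⁻¹ = 1 :=
      Subgroup.mem_bot.1 (G.borel_inf_neg (F := F) ▸ Subgroup.mem_inf.2 ⟨h2, h1⟩)
    rw [conj_eq_one_iff] at h3
    rwa [h3, one_mul]
  have hd := diag g h
  obtain ⟨c, hc, e⟩ := G.exists_tor hd
  have hχ := G.isChar_tor (c := c) fun i _ => hc i
  have hone : ∀ r < D.nroots, npos D ≤ r → tor D T c r = 1 := by
    intro r hr hp
    have hx := diag (G.X F r 1 * g * (G.X F r 1)⁻¹) fun x hx => by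
      have := h (x * G.X F r 1) (mul_mem hx (G.X_mem_group hr 1))
      simpa [mul_assoc] using this
    have h1 : G.X F r 1 * G.X F r (-tor D T c r) ∈ D.diagonalSubgroup F := by
      have e2 : G.X F r 1 * g * (G.X F r 1)⁻¹ * g⁻¹ = G.X F r 1 * G.X F r (-tor D T c r) := by
        rw [mul_assoc _ g, mul_assoc, G.X_inv, G.diag_conj_X e hχ hr, mul_neg_one]
      rw [← e2]
      exact mul_mem hx (inv_mem hd)
    rw [G.X_add] at h1
    have h2 := Subgroup.mem_bot.1 (G.pos_inf_diag (F := F) ▸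
      Subgroup.mem_inf.2 ⟨G.X_mem_posUnipotent hr hp _, h1⟩)
    rw [G.X_eq_one_iff hr] at h2
    exact (sub_eq_zero.1 (by rw [sub_eq_add_neg]; exact h2)).symm
  refine Units.ext ?_
  rw [e, Units.val_one, ← dmat_one]
  refine dmat_congr fun s hs => ?_
  by_cases hp : npos D ≤ s
  · exact hone s hs hp
  · have := hχ.neg s hs
    rwa [hone _ (G.ng_lt hs) ((G.ng_pos_iff hs).2 (by omega)), one_mul] at this

theorem normalCore_borel :
    ((D.borelSubgroup F).subgroupOf (D.group F)).normalCore = ⊥ := by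
  rw [eq_bot_iff]
  intro g hg
  rw [Subgroup.mem_bot]
  refine Subtype.ext (G.eq_one_of_conj_mem fun x hx => ?_)
  exact hg ⟨x, hx⟩

theorem borel_solvable : Group.IsSolvable ↥(D.borelSubgroup F) := by
  have hle : D.posUnipotent F ≤ D.borelSubgroup F := le_sup_left
  set K := (D.posUnipotent F).subgroupOf (D.borelSubgroup F) with hK
  have : K.Normal := by
    refine ⟨fun x hx g => ?_⟩
    have hg : (g : GL D.Idx F) ∈ Subgroup.normalizer (D.posUnipotent F : Set (GL D.Idx F)) :=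
      sup_le Subgroup.le_normalizer G.diag_normalizes_pos g.2
    exact (Subgroup.mem_normalizer_iff.1 hg _).1 hx
  have := G.pos_isNilpotent (F := F)
  have : Group.IsSolvable K := Group.isSolvable_of_surjective
    (f := (Subgroup.subgroupOfEquivOfLe hle).symm.toMonoidHom)
    (Subgroup.subgroupOfEquivOfLe hle).symm.surjective
  have : Group.IsSolvable (↥(D.borelSubgroup F) ⧸ K) := by
    refine Group.isSolvable_of_comm fun a b => ?_
    induction a using QuotientGroup.induction_on with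
    | _ a =>
    induction b using QuotientGroup.induction_on with
    | _ b =>
    obtain ⟨u, hu, h, hh, ea⟩ := G.mem_borel.1 a.2
    obtain ⟨u', hu', h', hh', eb⟩ := G.mem_borel.1 b.2
    let hA : ↥(D.borelSubgroup F) := ⟨h, Subgroup.mem_sup_right hh⟩
    let hB : ↥(D.borelSubgroup F) := ⟨h', Subgroup.mem_sup_right hh'⟩
    have key : ∀ (a : ↥(D.borelSubgroup F)) (u h : GL D.Idx F), u ∈ D.posUnipotent F →
        (a : GL D.Idx F) = u * h → ∀ hA : ↥(D.borelSubgroup F), (hA : GL D.Idx F) = h →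
        (QuotientGroup.mk a : ↥(D.borelSubgroup F) ⧸ K) = QuotientGroup.mk hA := by
      intro a u h hu e hA eA
      have : a = ⟨u, hle hu⟩ * hA := Subtype.ext (by rw [Subgroup.coe_mul, eA, e])
      rw [this, QuotientGroup.mk_mul, (QuotientGroup.eq_one_iff _).2 (show (⟨u, hle hu⟩ :
        ↥(D.borelSubgroup F)) ∈ K from hu), one_mul]
    rw [key a u h hu ea hA rfl, key b u' h' hu' eb hB rfl, ← QuotientGroup.mk_mul,
      ← QuotientGroup.mk_mul]
    congr 1
    exact Subtype.ext (G.diagonal_comm hh hh')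
  exact (Group.isSolvable_iff_subgroup_quotient K).2 ⟨inferInstance, inferInstance⟩

omit G in
theorem keep_single_iff (G : Good D T) {i q : ℕ} (hi : i < D.rank) (hq : q < D.nroots)
    (hp : npos D ≤ q) : q ∈ keepSet D T [i] ↔ q ≠ sim D i := by
  show npos D ≤ T.w i q ↔ _
  have he := G.even_n
  have hs := G.sim_pos hi
  constructor
  · rintro h rfl
    rw [G.w_sim hi] at h
    have := G.sim_lt hi
    unfold ng at h; omega
  · intro hne
    exact (G.pos_w hi hq hne (by have := G.sim_lt hi; unfold ng; omega)).1 hp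

theorem up_eq {i : ℕ} (hi : i < D.rank) :
    Subgroup.closure {g : GL D.Idx F | ∃ (s : ℕ) (t : F), D.IsPosRoot s ∧ s ≠ D.simple i ∧
      (g : Matrix D.Idx D.Idx F) = D.x F s t} = G.USub F (keepSet D T [i]) := by
  refine congrArg Subgroup.closure (Set.ext fun g => ?_)
  constructor
  · rintro ⟨s, t, hs, hne, e⟩
    obtain ⟨hs, hp⟩ := G.isPos_iff.1 hs
    exact ⟨s, t, hs, hp, (G.keep_single_iff hi hs hp).2 hne, G.eq_X_of_val e⟩
  · rintro ⟨s, t, hs, hp, hS, rfl⟩
    exact ⟨s, t, G.isPos_iff.2 ⟨hs, hp⟩, (G.keep_single_iff hi hs hp).1 hS, rfl⟩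

theorem ni_conj_up {i : ℕ} (hi : i < D.rank) {x : GL D.Idx F}
    (hx : x ∈ G.USub F (keepSet D T [i])) :
    G.ni F i * x * (G.ni F i)⁻¹ ∈ G.USub F (keepSet D T [i]) := by
  refine G.act_conj_USub (G.rep_act (G.rep_ni hi)) (fun q hq hp hqS t => ?_) hx
  exact G.X_mem_USub (G.w_lt hi hq) hqS (show npos D ≤ T.w i (T.w i q) by rwa [G.w_w hi hq]) t

theorem up_normal {i : ℕ} (hi : i < D.rank) :
    D.rootSubgroup F (sim D i) ⊔ D.rootSubgroup F (ng D (sim D i)) ≤
      Subgroup.normalizer (G.USub F (keepSet D T [i]) : Set (GL D.Idx F)) := by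
  set K := G.USub F (keepSet D T [i]) with hK
  have hp := G.sim_lt hi
  have hpp := G.sim_pos hi
  have hX : ∀ (t : F), ∀ x ∈ K, G.X F (sim D i) t * x * (G.X F (sim D i) t)⁻¹ ∈ K := by
    intro t x hx
    have h' : K ≤ K.comap (MulAut.conj (G.X F (sim D i) t)).toMonoidHom := by
      refine G.USub_le_of fun q hq hqp hqS u => ?_
      have hne := (G.keep_single_iff hi hq hqp).1 hqS
      have hne' : q ≠ ng D (sim D i) := by have := G.even_n; unfold ng; omega
      have e : G.X F (sim D i) t * G.X F q u * (G.X F (sim D i) t)⁻¹ =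
          G.X F q u * G.wordG (cw T (sim D i) q (-t) u) := by
        rw [mul_assoc, G.X_inv, G.commAt _ q hp hq hne hne' (-t) u, mul_assoc (G.X F (sim D i) (-t)),
          ← mul_assoc, G.X_add, add_neg_cancel, G.X_zero, one_mul]
      simp only [Subgroup.mem_comap, MulEquiv.coe_toMonoidHom, MulAut.conj_apply]
      rw [e]
      refine mul_mem (G.X_mem_USub hq hqp hqS u) (G.wordG_mem fun p hp' => ?_)
      simp only [cw, List.mem_map] at hp'
      obtain ⟨⟨j, C, a, b⟩, hc, rfl⟩ := hp'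
      obtain ⟨hj, h1, h2⟩ := G.terms_gt hp hq hpp hqp hc
      exact G.X_mem_USub (S := keepSet D T [i]) hj (by omega)
        ((G.keep_single_iff hi hj (by omega)).2 (by omega)) _
    simpa using h' hx
  have hN : ∀ x ∈ K, G.ni F i * x * (G.ni F i)⁻¹ ∈ K := fun x hx => G.ni_conj_up hi hx
  have hN' : G.ni F i ∈ Subgroup.normalizer (K : Set (GL D.Idx F)) := by
    rw [Subgroup.mem_normalizer_iff]
    refine fun x => ⟨hN x, fun h => ?_⟩
    have h2 := hN _ h
    obtain ⟨c, -, e⟩ := G.exists_tor (G.ni_sq hi : G.ni F i * G.ni F i ∈ D.diagonalSubgroup F)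
    have h3 : G.ni F i * G.ni F i * x * (G.ni F i * G.ni F i)⁻¹ ∈ K := by
      simpa [mul_assoc] using h2
    exact (Subgroup.mem_normalizer_iff.1 (G.diag_normalizes _ (G.ni_sq hi)) x).2 h3
  have hXn : ∀ t : F, G.X F (sim D i) t ∈ Subgroup.normalizer (K : Set (GL D.Idx F)) := by
    intro t
    rw [Subgroup.mem_normalizer_iff]
    refine fun x => ⟨hX t x, fun h => ?_⟩
    have := hX (-t) _ h
    rw [← G.X_inv] at this
    simpa [mul_assoc] using this
  refine sup_le ?_ ?_
  · intro g hg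
    obtain ⟨t, rfl⟩ := G.mem_rootSubgroup.1 hg
    exact hXn t
  · intro g hg
    obtain ⟨t, rfl⟩ := G.mem_rootSubgroup.1 hg
    have h := mul_mem (mul_mem hN' (hXn (-t))) (inv_mem hN')
    rwa [G.ni_conj_X hi hp, G.w_sim hi, G.eta_sim hi, Int.cast_neg, Int.cast_one, neg_mul_neg,
      one_mul] at h

theorem up_sup {i : ℕ} (hi : i < D.rank) :
    G.USub F (keepSet D T [i]) ⊔ D.rootSubgroup F (sim D i) = D.posUnipotent F := by
  refine le_antisymm (sup_le (G.USub_le_pos _) fun g hg => ?_)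
    (G.posUnipotent_le_of fun r hr hp t => ?_)
  · obtain ⟨t, rfl⟩ := G.mem_rootSubgroup.1 hg
    exact G.X_mem_posUnipotent (G.sim_lt hi) (G.sim_pos hi) t
  · by_cases hne : r = sim D i
    · exact Subgroup.mem_sup_right (G.mem_rootSubgroup.2 ⟨t, by rw [hne]⟩)
    · exact Subgroup.mem_sup_left (G.X_mem_USub hr hp ((G.keep_single_iff hi hr hp).2 hne) t)

end Good

end Cfsg.Agent.Lib.Chev
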