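import Cfsg.Agent.Lib.Chev.Subgroups

/-!
The homomorphism from `SL₂` onto the subgroup generated by an opposite pair of root subgroups.
-/

set_option autoImplicit false

namespace Cfsg.Agent.Lib.Chev

open Cfsg.Lie
open scoped Matrix

/-- Rank one relations in an abstract group. -/
structure RankOne (F : Type*) [Field F] (Q : Type*) [Group Q] where
  e : F → Q
  h : F → Q
  n : Q
  add : ∀ a b, e a * e b = e (a + b)
  h_mul : ∀ a b, a ≠ 0 → b ≠ 0 → h a * h b = h (a * b)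
  h_e : ∀ c t, c ≠ 0 → h c * e t * (h c)⁻¹ = e (c ^ 2 * t)
  n_h : ∀ c, c ≠ 0 → n * h c * n⁻¹ = h c⁻¹
  n_sq : n * n = h (-1)
  flip : ∀ t, t ≠ 0 → e t * (n * e t⁻¹ * n⁻¹) * e t = h t * n

namespace RankOne

variable {F : Type*} [Field F] {Q : Type*} [Group Q] (R : RankOne F Q)

theorem e_zero : R.e 0 = 1 := by
  have := R.add 0 0
  rw [add_zero] at this
  exact mul_eq_left.1 this

theorem h_one : R.h 1 = 1 := by
  have := R.h_mul 1 1 one_ne_zero one_ne_zero
  rw [mul_one] at this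
  exact mul_eq_left.1 this

theorem e_inv (t : F) : (R.e t)⁻¹ = R.e (-t) :=
  inv_eq_of_mul_eq_one_right (by rw [R.add, add_neg_cancel, R.e_zero])

theorem h_e' {c : F} (hc : c ≠ 0) (t : F) : R.h c * R.e t = R.e (c ^ 2 * t) * R.h c :=
  mul_inv_eq_iff_eq_mul.1 (R.h_e c t hc)

theorem n_h' {c : F} (hc : c ≠ 0) : R.n * R.h c = R.h c⁻¹ * R.n :=
  mul_inv_eq_iff_eq_mul.1 (R.n_h c hc)

/-- The normal forms. -/
def Normal (x : Q) : Prop :=
  (∃ a c, c ≠ 0 ∧ x = R.e a * R.h c) ∨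
    ∃ a c b, c ≠ 0 ∧ x = R.e a * R.n * R.h c * R.e b

theorem normal_e_mul (t : F) {x : Q} (hx : R.Normal x) : R.Normal (R.e t * x) := by
  rcases hx with ⟨a, c, hc, rfl⟩ | ⟨a, c, b, hc, rfl⟩
  · exact Or.inl ⟨t + a, c, hc, by rw [← mul_assoc, R.add]⟩
  · exact Or.inr ⟨t + a, c, b, hc, by simp only [← mul_assoc, R.add]⟩

theorem normal_h_mul {d : F} (hd : d ≠ 0) {x : Q} (hx : R.Normal x) : R.Normal (R.h d * x) := by
  rcases hx with ⟨a, c, hc, rfl⟩ | ⟨a, c, b, hc, rfl⟩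
  · exact Or.inl ⟨d ^ 2 * a, d * c, mul_ne_zero hd hc,
      by rw [← mul_assoc, R.h_e' hd, mul_assoc, R.h_mul d c hd hc]⟩
  · refine Or.inr ⟨d ^ 2 * a, d⁻¹ * c, b, mul_ne_zero (inv_ne_zero hd) hc, ?_⟩
    rw [← R.h_mul _ _ (inv_ne_zero hd) hc, ← mul_assoc (R.e (d ^ 2 * a) * R.n),
      mul_assoc (R.e (d ^ 2 * a)) R.n, R.n_h' (inv_ne_zero hd), inv_inv]
    simp only [← mul_assoc]
    rw [← R.h_e' hd]

theorem normal_n_mul {x : Q} (hx : R.Normal x) : R.Normal (R.n * x) := by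
  rcases hx with ⟨a, c, hc, rfl⟩ | ⟨a, c, b, hc, rfl⟩
  · refine Or.inr ⟨0, c, (c ^ 2)⁻¹ * a, hc, ?_⟩
    rw [R.e_zero, one_mul, mul_assoc R.n (R.h c), R.h_e' hc, ← mul_assoc (c ^ 2),
      mul_inv_cancel₀ (pow_ne_zero 2 hc), one_mul]
  · by_cases ha : a = 0
    · subst ha
      refine Or.inl ⟨(-1 * c) ^ 2 * b, -1 * c, by simpa using hc, ?_⟩
      rw [← R.h_e' (by simpa using hc : (-1 : F) * c ≠ 0), R.e_zero, one_mul,
        ← R.h_mul _ _ (neg_ne_zero.2 one_ne_zero) hc, ← R.n_sq]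
      simp only [mul_assoc]
    · have hd : a⁻¹ ≠ 0 := inv_ne_zero ha
      have h1 : R.n * R.e a * R.n⁻¹ = R.e (-a⁻¹) * (R.h a⁻¹ * R.n) * R.e (-a⁻¹) := by
        rw [← R.flip _ hd, inv_inv]
        simp only [← mul_assoc, R.add, neg_add_cancel, R.e_zero, one_mul]
        rw [mul_assoc _ (R.e a⁻¹), R.add, add_neg_cancel, R.e_zero, mul_one]
      have h2 : R.n * (R.e a * R.n * R.h c * R.e b) =
          (R.n * R.e a * R.n⁻¹) * (R.n * R.n) * R.h c * R.e b := by group
      rw [h2, h1, R.n_sq]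
      have h3 : R.e (-a⁻¹) * (R.h a⁻¹ * R.n) * R.e (-a⁻¹) * R.h (-1) * R.h c * R.e b =
          R.e (-a⁻¹) * (R.h a⁻¹ * (R.n * (R.e (-a⁻¹) * R.h (-1 * c) * R.e b))) := by
        rw [← R.h_mul _ _ (neg_ne_zero.2 one_ne_zero) hc]
        simp only [mul_assoc]
      have hc' : (-1 : F) * c ≠ 0 := by simpa using hc
      rw [h3]
      refine R.normal_e_mul _ (R.normal_h_mul hd ?_)
      refine Or.inr ⟨0, -1 * c, ((-1 * c) ^ 2)⁻¹ * (-a⁻¹) + b, hc', ?_⟩
      rw [R.e_zero, one_mul, ← R.add, ← mul_assoc (R.n * R.h (-1 * c)), mul_assoc R.n (R.h (-1 * c)),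
        R.h_e' hc', ← mul_assoc ((-1 * c) ^ 2), mul_inv_cancel₀ (pow_ne_zero 2 hc'), one_mul,
        ← mul_assoc R.n]

theorem normal_of_mem {x : Q} (hx : x ∈ Subgroup.closure (Set.range R.e ∪ {R.n})) :
    R.Normal x := by
  induction hx using Subgroup.closure_induction_left with
  | one => exact Or.inl ⟨0, 1, one_ne_zero, by rw [R.e_zero, R.h_one, mul_one]⟩
  | mul_left g hg y hy ih =>
    rcases hg with ⟨t, rfl⟩ | rfl
    · exact R.normal_e_mul t ih
    · exact R.normal_n_mul ih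
  | inv_mul_cancel g hg y hy ih =>
    rcases hg with ⟨t, rfl⟩ | rfl
    · rw [R.e_inv]; exact R.normal_e_mul _ ih
    · have e : R.n⁻¹ = R.n * (R.n * R.n)⁻¹ := by group
      have e2 : (R.h (-1))⁻¹ = R.h (-1) := inv_eq_of_mul_eq_one_right (by
        rw [R.h_mul _ _ (neg_ne_zero.2 one_ne_zero) (neg_ne_zero.2 one_ne_zero), neg_one_mul,
          neg_neg, R.h_one])
      rw [e, R.n_sq, e2, mul_assoc]
      exact R.normal_n_mul (R.normal_h_mul (neg_ne_zero.2 one_ne_zero) ih)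

end RankOne

variable {F : Type*} [Field F]

/-- Upper unitriangular. -/
def su (t : F) : Matrix.SpecialLinearGroup (Fin 2) F := ⟨!![1, t; 0, 1], by simp [Matrix.det_fin_two]⟩

/-- Lower unitriangular. -/
def sl (t : F) : Matrix.SpecialLinearGroup (Fin 2) F := ⟨!![1, 0; t, 1], by simp [Matrix.det_fin_two]⟩

theorem su_add (a b : F) : su a * su b = su (a + b) := by
  refine Subtype.ext ?_
  rw [Matrix.SpecialLinearGroup.coe_mul]
  simp [su, Matrix.mul_fin_two, add_comm]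

theorem sl_add (a b : F) : sl a * sl b = sl (a + b) := by
  refine Subtype.ext ?_
  rw [Matrix.SpecialLinearGroup.coe_mul]
  simp [sl, Matrix.mul_fin_two]

/-- The diagonal element. -/
def sd (c : F) : Matrix.SpecialLinearGroup (Fin 2) F :=
  su c * sl (-c⁻¹) * su c * (su (-1) * sl 1 * su (-1))

theorem sd_val {c : F} (hc : c ≠ 0) :
    (sd c : Matrix (Fin 2) (Fin 2) F) = !![c, 0; 0, c⁻¹] := by
  simp only [sd, Matrix.SpecialLinearGroup.coe_mul]
  simp [su, sl, Matrix.mul_fin_two]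
  field_simp
  simp [hc]

/-- The Weyl element. -/
def sn : Matrix.SpecialLinearGroup (Fin 2) F := su 1 * sl (-1) * su 1

theorem sn_val : ((sn : Matrix.SpecialLinearGroup (Fin 2) F) : Matrix (Fin 2) (Fin 2) F) =
    !![0, 1; -1, 0] := by
  simp only [sn, Matrix.SpecialLinearGroup.coe_mul]
  simp [su, sl, Matrix.mul_fin_two]

theorem sn_inv_val : (((sn : Matrix.SpecialLinearGroup (Fin 2) F)⁻¹ :
    Matrix.SpecialLinearGroup (Fin 2) F) : Matrix (Fin 2) (Fin 2) F) = !![0, -1; 1, 0] := by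
  rw [Matrix.SpecialLinearGroup.coe_inv, sn_val, Matrix.adjugate_fin_two_of]
  simp

theorem sd_inv_val {c : F} (hc : c ≠ 0) : (((sd c)⁻¹ : Matrix.SpecialLinearGroup (Fin 2) F) :
    Matrix (Fin 2) (Fin 2) F) = !![c⁻¹, 0; 0, c] := by
  rw [Matrix.SpecialLinearGroup.coe_inv, sd_val hc, Matrix.adjugate_fin_two_of]
  simp

namespace Good

variable {D : ChevalleyDatum} {T : Tables} (G : Good D T)
include G

theorem Ng_eq_Hg_mul (r : ℕ) (t : F) : G.Ng F r t = G.Hg F r t * G.Ng F r 1 := by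
  rw [Good.Hg, mul_assoc]
  conv_lhs => rw [← mul_one (G.Ng F r t)]
  congr 1
  rw [eq_comm, mul_eq_one_iff_eq_inv, G.Ng_inv]

/-- The rank one relations on the pairs. -/
def pairRel {r : ℕ} (hr : r < D.nroots) :
    RankOne F (Matrix.SpecialLinearGroup (Fin 2) F × GL D.Idx F) where
  e t := (su t, G.X F r t)
  h c := (sd c, G.Hg F r c)
  n := (sn, G.Ng F r 1)
  add a b := Prod.ext (su_add a b) (G.X_add r a b)
  h_mul a b ha hb := by
    refine Prod.ext (Subtype.ext ?_) (G.Hg_mul hr ha hb)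
    simp [sd_val ha, sd_val hb, sd_val (mul_ne_zero ha hb), Matrix.mul_fin_two, mul_comm]
  h_e c t hc := by
    refine Prod.ext (Subtype.ext ?_) ?_
    · simp only [Prod.fst_mul, Prod.fst_inv, Matrix.SpecialLinearGroup.coe_mul, sd_inv_val hc,
        sd_val hc]
      simp [su, Matrix.mul_fin_two]
      field_simp
      simp
    · show G.Hg F r c * G.X F r t * (G.Hg F r c)⁻¹ = _
      rw [G.Hg_conj_X hr hr hc, G.P_self hr, zpow_ofNat]
  n_h c hc := by
    refine Prod.ext (Subtype.ext ?_) ?_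
    · simp only [Prod.fst_mul, Prod.fst_inv, Matrix.SpecialLinearGroup.coe_mul, sn_inv_val,
        sn_val, sd_val hc, sd_val (inv_ne_zero hc)]
      simp [Matrix.mul_fin_two]
    · show G.Ng F r 1 * G.Hg F r c * (G.Ng F r 1)⁻¹ = G.Hg F r c⁻¹
      rw [G.Ng_inv, Good.Hg, ← mul_assoc, mul_assoc (G.Ng F r 1 * G.Ng F r c)]
      refine Units.ext ?_
      have h1 : (1 : F) ≠ 0 := one_ne_zero
      have h2 : (-1 : F) ≠ 0 := neg_ne_zero.2 h1
      simp only [Units.val_mul]
      rw [G.Ng_mul_Ng r hr h1 hc, G.Ng_mul_Ng r hr h2 h2, G.Hg_eq hr (inv_ne_zero hc), dmat_mul]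
      refine dmat_congr fun s _ => ?_
      rw [← mul_zpow]
      congr 1
      field_simp
  n_sq := by
    refine Prod.ext (Subtype.ext ?_) (Units.ext ?_)
    · simp [sn_val, sd_val (neg_ne_zero.2 (one_ne_zero : (1 : F) ≠ 0)), Matrix.mul_fin_two, inv_neg]
    · show ((G.Ng F r 1 * G.Ng F r 1 : GL D.Idx F) : Matrix D.Idx D.Idx F) = _
      rw [Units.val_mul, G.Ng_mul_Ng r hr one_ne_zero one_ne_zero,
        G.Hg_eq hr (neg_ne_zero.2 one_ne_zero)]
      simp
  flip t ht := by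
    refine Prod.ext (Subtype.ext ?_) ?_
    · simp only [Prod.fst_mul, Prod.fst_inv, Matrix.SpecialLinearGroup.coe_mul, sn_inv_val, sn_val,
        sd_val ht]
      simp [su, Matrix.mul_fin_two]
      field_simp
      simp [ht]
    · show G.X F r t * (G.Ng F r 1 * G.X F r t⁻¹ * (G.Ng F r 1)⁻¹) * G.X F r t = _
      rw [G.Ng_conj_X_self r hr]
      exact G.Ng_eq_Hg_mul r t

/-- The graph of the homomorphism from `SL₂`. -/
def graph {r : ℕ} (hr : r < D.nroots) :
    Subgroup (Matrix.SpecialLinearGroup (Fin 2) F × GL D.Idx F) :=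
  Subgroup.closure (Set.range (G.pairRel (F := F) hr).e ∪ {(G.pairRel hr).n})

theorem graph_fst_bijective {r : ℕ} (hr : r < D.nroots) :
    Function.Bijective ((MonoidHom.fst _ _).comp (G.graph (F := F) hr).subtype) := by
  constructor
  · rw [← MonoidHom.ker_eq_bot_iff, eq_bot_iff]
    rintro ⟨x, hx⟩ h1
    rw [Subgroup.mem_bot]
    have h1' : x.1 = 1 := h1
    refine Subtype.ext ?_
    rcases (G.pairRel hr).normal_of_mem hx with ⟨a, c, hc, rfl⟩ | ⟨a, c, b, hc, rfl⟩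
    · have h2 := congrArg Subtype.val h1'
      simp only [Prod.fst_mul, Matrix.SpecialLinearGroup.coe_mul, Matrix.SpecialLinearGroup.coe_one,
        pairRel, sd_val hc] at h2
      have h00 := congrFun (congrFun h2 0) 0
      have h01 := congrFun (congrFun h2 0) 1
      simp [su, Matrix.mul_fin_two] at h00 h01
      subst h00
      simp at h01
      subst h01
      show (G.pairRel hr).e 0 * (G.pairRel hr).h 1 = 1
      rw [(G.pairRel hr).e_zero, (G.pairRel hr).h_one, mul_one]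
    · exfalso
      have h2 := congrArg Subtype.val h1'
      simp only [Prod.fst_mul, Matrix.SpecialLinearGroup.coe_mul, Matrix.SpecialLinearGroup.coe_one,
        pairRel, sd_val hc, sn_val] at h2
      have h10 := congrFun (congrFun h2 1) 0
      simp [su, Matrix.mul_fin_two] at h10
      exact hc h10
  · intro g
    have hmem_e : ∀ t, ((G.pairRel hr).e t) ∈ G.graph (F := F) hr :=
      fun t => Subgroup.subset_closure (Or.inl ⟨t, rfl⟩)
    have hn : (G.pairRel (F := F) hr).n ∈ G.graph (F := F) hr := Subgroup.subset_closure (Or.inr rfl)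
    have hh : ∀ c : F, c ≠ 0 → (G.pairRel hr).h c ∈ G.graph (F := F) hr := fun c hc => by
      have := (G.pairRel (F := F) hr).flip c hc
      rw [eq_comm, ← eq_mul_inv_iff_mul_eq] at this
      rw [this]
      exact mul_mem (mul_mem (mul_mem (hmem_e _)
        (mul_mem (mul_mem hn (hmem_e _)) (inv_mem hn))) (hmem_e _)) (inv_mem hn)
    have hdet : (g : Matrix (Fin 2) (Fin 2) F) 0 0 * (g : Matrix (Fin 2) (Fin 2) F) 1 1 -
        (g : Matrix (Fin 2) (Fin 2) F) 0 1 * (g : Matrix (Fin 2) (Fin 2) F) 1 0 = 1 := by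
      rw [← Matrix.det_fin_two]; exact g.2
    by_cases h10 : (g : Matrix (Fin 2) (Fin 2) F) 1 0 = 0
    · have h00 : (g : Matrix (Fin 2) (Fin 2) F) 0 0 ≠ 0 := fun h => by simp [h, h10] at hdet
      refine ⟨⟨_, mul_mem (hmem_e ((g : Matrix (Fin 2) (Fin 2) F) 0 1 * (g : Matrix (Fin 2) (Fin 2) F) 0 0))
        (hh _ h00)⟩, Subtype.ext ?_⟩
      simp only [MonoidHom.coe_comp, Function.comp_apply, MonoidHom.coe_fst, Subgroup.subtype_apply,
        Prod.fst_mul, Matrix.SpecialLinearGroup.coe_mul, pairRel, sd_val h00]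
      ext i j
      fin_cases i <;> fin_cases j <;> simp [su, Matrix.mul_fin_two, h10, h00]
      rw [h10] at hdet
      simp at hdet
      field_simp
      linear_combination -hdet
    · refine ⟨⟨_, mul_mem (mul_mem (mul_mem
        (hmem_e ((g : Matrix (Fin 2) (Fin 2) F) 0 0 / (g : Matrix (Fin 2) (Fin 2) F) 1 0)) hn)
        (hh (-(g : Matrix (Fin 2) (Fin 2) F) 1 0) (neg_ne_zero.2 h10)))
        (hmem_e ((g : Matrix (Fin 2) (Fin 2) F) 1 1 / (g : Matrix (Fin 2) (Fin 2) F) 1 0))⟩,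
        Subtype.ext ?_⟩
      simp only [MonoidHom.coe_comp, Function.comp_apply, MonoidHom.coe_fst, Subgroup.subtype_apply,
        Prod.fst_mul, Matrix.SpecialLinearGroup.coe_mul, pairRel, sd_val (neg_ne_zero.2 h10), sn_val]
      ext i j
      fin_cases i <;> fin_cases j <;> simp [su, Matrix.mul_fin_two, h10]
      all_goals field_simp
      all_goals linear_combination hdet

/-- The homomorphism from `SL₂`. -/
noncomputable def phi {r : ℕ} (hr : r < D.nroots) :
    Matrix.SpecialLinearGroup (Fin 2) F →* GL D.Idx F :=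
  ((MonoidHom.snd _ _).comp (G.graph (F := F) hr).subtype).comp
    (MulEquiv.ofBijective _ (G.graph_fst_bijective (F := F) hr)).symm.toMonoidHom

theorem phi_of_mem {r : ℕ} (hr : r < D.nroots) {x : Matrix.SpecialLinearGroup (Fin 2) F × GL D.Idx F}
    (hx : x ∈ G.graph (F := F) hr) : G.phi hr x.1 = x.2 := by
  have : (MulEquiv.ofBijective _ (G.graph_fst_bijective (F := F) hr)).symm x.1 = ⟨x, hx⟩ := by
    rw [MulEquiv.symm_apply_eq]; rfl
  show ((MulEquiv.ofBijective _ (G.graph_fst_bijective (F := F) hr)).symm x.1).1.2 = x.2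
  rw [this]

theorem phi_su {r : ℕ} (hr : r < D.nroots) (t : F) : G.phi hr (su t) = G.X F r t :=
  G.phi_of_mem hr (x := (su t, G.X F r t)) (Subgroup.subset_closure (Or.inl ⟨t, rfl⟩))

theorem phi_sl {r : ℕ} (hr : r < D.nroots) (t : F) : G.phi hr (sl t) = G.X F (ng D r) t := by
  have h := G.phi_of_mem hr (x := (G.pairRel hr).n * (G.pairRel hr).e (-t) * ((G.pairRel (F := F) hr).n)⁻¹)
    (mul_mem (mul_mem (Subgroup.subset_closure (Or.inr rfl)) (Subgroup.subset_closure (Or.inl ⟨_, rfl⟩)))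
      (inv_mem (Subgroup.subset_closure (Or.inr rfl))))
  have e : sl t = ((G.pairRel hr).n * (G.pairRel hr).e (-t) * ((G.pairRel (F := F) hr).n)⁻¹).1 := by
    refine Subtype.ext ?_
    simp only [pairRel, Prod.fst_mul, Prod.fst_inv, Matrix.SpecialLinearGroup.coe_mul, sn_inv_val, sn_val]
    simp [su, sl, Matrix.mul_fin_two]
  rw [e, h]
  show G.Ng F r 1 * G.X F r (-t) * (G.Ng F r 1)⁻¹ = _
  rw [G.Ng_conj_X_self r hr, neg_neg]

theorem phi_range {r : ℕ} (hr : r < D.nroots) :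
    (G.phi (F := F) hr).range = D.rootSubgroup F r ⊔ D.rootSubgroup F (ng D r) := by
  apply le_antisymm
  · rintro g ⟨m, rfl⟩
    show ((MulEquiv.ofBijective _ (G.graph_fst_bijective (F := F) hr)).symm m).1.2 ∈ _
    have hmem := ((MulEquiv.ofBijective _ (G.graph_fst_bijective (F := F) hr)).symm m).2
    have hle : G.graph (F := F) hr ≤
        (D.rootSubgroup F r ⊔ D.rootSubgroup F (ng D r)).comap (MonoidHom.snd _ _) := by
      refine (Subgroup.closure_le _).2 ?_
      rintro x (⟨t, rfl⟩ | rfl)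
      · exact Subgroup.mem_sup_left (G.mem_rootSubgroup.2 ⟨t, rfl⟩)
      · exact mul_mem (mul_mem (Subgroup.mem_sup_left (G.mem_rootSubgroup.2 ⟨_, rfl⟩))
          (Subgroup.mem_sup_right (G.mem_rootSubgroup.2 ⟨_, rfl⟩)))
          (Subgroup.mem_sup_left (G.mem_rootSubgroup.2 ⟨_, rfl⟩))
    exact hle hmem
  · refine sup_le ?_ ?_
    · intro g hg
      obtain ⟨t, rfl⟩ := G.mem_rootSubgroup.1 hg
      exact ⟨su t, G.phi_su hr t⟩
    · intro g hg
      obtain ⟨t, rfl⟩ := G.mem_rootSubgroup.1 hg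
      exact ⟨sl t, G.phi_sl hr t⟩

end Good

end Cfsg.Agent.Lib.Chev
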