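import Cfsg.Agent.Lib.Chev.BN
import Cfsg.Agent.Lib.Chev.All

/-!
Root elements are commutators: certificates and their soundness.
-/

set_option autoImplicit false

namespace Cfsg.Agent.Lib.Chev

open Cfsg.Lie
open scoped Matrix commutatorElement

/-- One step of a certificate of perfectness. -/
inductive PStep
  | move (i r : ℕ)
  | single (a b m : ℕ)
  | pair (a b : ℕ)

/-- Whether all roots of a list of terms are known. -/
def allKnown (known : List ℕ) (l : List (ℕ × ℤ × ℕ × ℕ)) : Bool := l.all fun c => known.contains c.1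

/-- Run one step; `hasC` says that the field has more than two elements. -/
def pstep (D : ChevalleyDatum) (T : Tables) (hasC : Bool) (known : List ℕ) : PStep → Option ℕ
  | .move i r => if decide (i < D.rank) && decide (r < D.nroots) && known.contains r then
      some (T.w i r) else none
  | .single a b m =>
    match (T.terms a b).drop m with
    | (k, C, _, j) :: rest =>
      if decide (a < D.nroots) && decide (b < D.nroots) && decide (b ≠ a) && decide (b ≠ ng D a) &&
        decide (j = 1) && decide (C * C = 1) && allKnown known ((T.terms a b).take m) &&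
        allKnown known rest then some k else none
    | [] => none
  | .pair a b =>
    match T.terms a b with
    | (_, _, i1, j1) :: (k2, C2, i2, j2) :: rest =>
      if hasC && decide (a < D.nroots) && decide (b < D.nroots) && decide (b ≠ a) &&
        decide (b ≠ ng D a) && decide (i1 = 1) && decide (j1 = 1) && decide (i2 = 2) &&
        decide (j2 = 1) && decide (C2 * C2 = 1) && allKnown known rest then some k2 else none
    | _ => none

/-- Run a certificate. -/
def prun (D : ChevalleyDatum) (T : Tables) (hasC : Bool) : List PStep → List ℕ → Option (List ℕ)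
  | [], known => some known
  | s :: l, known =>
    match pstep D T hasC known s with
    | some k => prun D T hasC l (k :: known)
    | none => none

/-- The certificate reaches all fundamental roots. -/
def chkPerfect (D : ChevalleyDatum) (T : Tables) (hasC : Bool) (l : List PStep) : Bool :=
  match prun D T hasC l [] with
  | some known => allLt D.rank fun i => known.contains (sim D i)
  | none => false

variable {D : ChevalleyDatum} {T : Tables} {F : Type*} [Field F]

namespace Good

variable (G : Good D T)
include G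

theorem wordG_append (w w' : List (ℕ × F)) : G.wordG (w ++ w') = G.wordG w * G.wordG w' := by
  simp [Good.wordG]

theorem wordG_cons (p : ℕ × F) (w : List (ℕ × F)) : G.wordG (p :: w) = G.X F p.1 p.2 * G.wordG w := by
  simp [Good.wordG]

theorem wordG_cw_mem_commutator {a b : ℕ} (ha : a < D.nroots) (hb : b < D.nroots) (h1 : b ≠ a)
    (h2 : b ≠ ng D a) (t u : F) :
    G.wordG (cw T a b t u) ∈ ⁅D.group F, D.group F⁆ := by
  have e : G.wordG (cw T a b t u) = ⁅(G.X F b u)⁻¹, (G.X F a t)⁻¹⁆ := by
    have h := G.commAt a b ha hb h1 h2 t u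
    rw [commutatorElement_def, inv_inv, inv_inv, mul_assoc _ (G.X F b u), h]
    group
  rw [e]
  exact Subgroup.commutator_mem_commutator (inv_mem (G.X_mem_group hb u)) (inv_mem (G.X_mem_group ha t))

theorem X_mem_commutator_w {i r : ℕ} (hi : i < D.rank) (hr : r < D.nroots)
    (h : ∀ t : F, G.X F r t ∈ ⁅D.group F, D.group F⁆) (t : F) :
    G.X F (T.w i r) t ∈ ⁅D.group F, D.group F⁆ := by
  have hn := G.ni_mem_group (F := F) hi
  have h1 := h ((T.eta i r : F) * t)
  have e : G.X F (T.w i r) t = ⁅G.ni F i, G.X F r ((T.eta i r : F) * t)⁆ *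
      G.X F r ((T.eta i r : F) * t) := by
    rw [commutatorElement_def, inv_mul_cancel_right, G.ni_conj_X hi hr, ← mul_assoc, ← pow_two,
      G.eta_sq, one_mul]
  rw [e]
  exact mul_mem (Subgroup.commutator_mem_commutator hn (G.X_mem_group hr _)) h1

theorem wordG_known {known : List ℕ}
    (hk : ∀ k ∈ known, k < D.nroots ∧ ∀ t : F, G.X F k t ∈ ⁅D.group F, D.group F⁆)
    {l : List (ℕ × ℤ × ℕ × ℕ)} (hl : allKnown known l = true) (f : ℕ × ℤ × ℕ × ℕ → F) :
    G.wordG (l.map fun c => (c.1, f c)) ∈ ⁅D.group F, D.group F⁆ := by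
  refine G.wordG_mem fun p hp => ?_
  obtain ⟨c, hc, rfl⟩ := List.mem_map.1 hp
  have := List.all_eq_true.1 hl c hc
  exact (hk c.1 (by simpa using this)).2 _

theorem pstep_sound {hasC : Bool} (hC : hasC = true → ∃ c : F, c ≠ 0 ∧ c ≠ 1) {known : List ℕ}
    (hk : ∀ k ∈ known, k < D.nroots ∧ ∀ t : F, G.X F k t ∈ ⁅D.group F, D.group F⁆) {s : PStep}
    {k : ℕ} (h : pstep D T hasC known s = some k) :
    k < D.nroots ∧ ∀ t : F, G.X F k t ∈ ⁅D.group F, D.group F⁆ := by
  cases s with
  | move i r =>
    simp only [pstep, Option.ite_none_right_eq_some, Bool.and_eq_true, decide_eq_true_eq,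
      Option.some.injEq] at h
    obtain ⟨⟨⟨hi, hr⟩, hm⟩, rfl⟩ := h
    exact ⟨G.w_lt hi hr, G.X_mem_commutator_w hi hr (hk r (by simpa using hm)).2⟩
  | single a b m =>
    simp only [pstep] at h
    split at h
    case h_2 => simp at h
    case h_1 k' C i j rest hd =>
      simp only [Option.ite_none_right_eq_some, Bool.and_eq_true, decide_eq_true_eq,
        Option.some.injEq] at h
      obtain ⟨⟨⟨⟨⟨⟨⟨⟨ha, hb⟩, h1⟩, h2⟩, hj⟩, hCC⟩, hpre⟩, hpost⟩, rfl⟩ := h
      subst hj
      have hsplit : T.terms a b = (T.terms a b).take m ++ (k', C, i, 1) :: rest := by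
        rw [← hd, List.take_append_drop]
      have hmem : (k', C, i, 1) ∈ T.terms a b := by rw [hsplit]; simp
      refine ⟨(G.mem_terms ha hb hmem).1, fun v => ?_⟩
      have h3 := G.wordG_cw_mem_commutator (F := F) ha hb h1 h2 (-1) ((C : F) * v)
      rw [cw, hsplit, List.map_append, List.map_cons, G.wordG_append] at h3
      set f := fun c : ℕ × ℤ × ℕ × ℕ => ((c.2.1 : F) * (-(-1)) ^ c.2.2.1 * ((C : F) * v) ^ c.2.2.2)
      have h4 := G.wordG_known hk hpre f
      have h5 := G.wordG_known hk hpost f
      rw [Subgroup.mul_mem_cancel_left _ h4] at h3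
      rw [G.wordG_cons] at h3
      rw [Subgroup.mul_mem_cancel_right _ h5] at h3
      convert h3 using 2
      rw [neg_neg, one_pow, mul_one, pow_one, ← mul_assoc, ← Int.cast_mul, hCC, Int.cast_one, one_mul]
  | pair a b =>
    simp only [pstep] at h
    split at h
    case h_2 => simp at h
    case h_1 k1 C1 i1 j1 k2 C2 i2 j2 rest hd =>
      simp only [Option.ite_none_right_eq_some, Bool.and_eq_true, decide_eq_true_eq,
        Option.some.injEq] at h
      obtain ⟨⟨⟨⟨⟨⟨⟨⟨⟨⟨⟨hc, ha⟩, hb⟩, h1⟩, h2⟩, hi1⟩, hj1⟩, hi2⟩, hj2⟩, hCC⟩, hrest⟩, rfl⟩ := h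
      subst hi1 hj1 hi2 hj2
      obtain ⟨c, hc0, hc1⟩ := hC hc
      refine ⟨(G.mem_terms ha hb (C := C2) (a := 2) (b := 1) (by rw [hd]; simp)).1, fun v => ?_⟩
      have key : ∀ t u : F, G.X F k1 ((C1 : F) * -t * u) * G.X F k2 ((C2 : F) * t ^ 2 * u) ∈
          ⁅D.group F, D.group F⁆ := by
        intro t u
        have h3 := G.wordG_cw_mem_commutator (F := F) ha hb h1 h2 t u
        have h5 := G.wordG_known hk hrest
          (fun c => (c.2.1 : F) * (-t) ^ c.2.2.1 * u ^ c.2.2.2)
        rw [cw, hd] at h3
        simp only [List.map_cons, G.wordG_cons, pow_one, neg_sq] at h3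
        rw [← mul_assoc] at h3
        rwa [Subgroup.mul_mem_cancel_right _ h5] at h3
      set w := (C2 : F) * v / (c - 1) with hw
      have hm := mul_mem (inv_mem (key (-1) w)) (key (-c) (w / c))
      have e1 : (C1 : F) * -(-c) * (w / c) = (C1 : F) * w := by
        rw [neg_neg, mul_assoc, mul_div_cancel₀ _ hc0]
      rw [mul_inv_rev, e1, neg_neg, mul_one, mul_assoc, inv_mul_cancel_left, G.X_inv, G.X_add] at hm
      have hc1' : c - 1 ≠ 0 := sub_ne_zero.2 hc1
      have hC2 : (C2 : F) * C2 = 1 := by rw [← Int.cast_mul, hCC, Int.cast_one]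
      convert hm using 2
      rw [hw]
      field_simp
      linear_combination (v - v * c) * hC2

theorem prun_sound {hasC : Bool} (hC : hasC = true → ∃ c : F, c ≠ 0 ∧ c ≠ 1) :
    ∀ (l : List PStep) (known res : List ℕ),
    (∀ k ∈ known, k < D.nroots ∧ ∀ t : F, G.X F k t ∈ ⁅D.group F, D.group F⁆) →
    prun D T hasC l known = some res →
    ∀ k ∈ res, k < D.nroots ∧ ∀ t : F, G.X F k t ∈ ⁅D.group F, D.group F⁆ := by
  intro l
  induction l with
  | nil => intro known res hk h; simp only [prun, Option.some.injEq] at h; exact h ▸ hk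
  | cons s l ih =>
    intro known res hk h
    simp only [prun] at h
    split at h
    case h_2 => simp at h
    case h_1 k hs =>
      refine ih (k :: known) res (fun x hx => ?_) h
      rcases List.mem_cons.1 hx with rfl | hx
      · exact G.pstep_sound hC hk hs
      · exact hk x hx

theorem perfect {hasC : Bool} (hC : hasC = true → ∃ c : F, c ≠ 0 ∧ c ≠ 1) {l : List PStep}
    (h : chkPerfect D T hasC l = true) : commutator ↥(D.group F) = ⊤ := by
  unfold chkPerfect at h
  split at h
  case h_2 => simp at h
  case h_1 res hres =>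
    have hall := G.prun_sound hC l [] res (fun k hk => by simp at hk) hres
    have key : ∀ r < D.nroots, ∀ t : F, G.X F r t ∈ ⁅D.group F, D.group F⁆ := by
      refine G.root_induction (fun i hi t => ?_) fun i r hi hr ih t => G.X_mem_commutator_w hi hr ih t
      exact (hall _ (by simpa using allLt_eq_true h i hi)).2 t
    refine Subgroup.map_injective (D.group F).subtype_injective (le_antisymm ?_ ?_)
    · exact Subgroup.map_mono le_top
    · rw [commutator_def, Subgroup.map_commutator, ← MonoidHom.range_eq_map, Subgroup.range_subtype]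
      exact G.group_le_of key

end Good

theorem perfectG2 : chkPerfect chevG2 tabG2 true [.single 0 6 0, .move 0 1, .move 1 1, .move 1 5,
    .pair 2 10, .move 1 3, .move 0 4] = true := by decide +kernel

theorem perfectB2 : chkPerfect chevB2 tabB2 true [.pair 1 4, .move 0 0, .move 1 3, .single 0 5 0,
    .move 1 1, .move 0 2] = true := by decide +kernel

theorem perfectD4 : chkPerfect chevD4 tabD4 false [.single 0 14 0, .move 3 1, .move 2 2, .move 1 4,
    .move 0 5, .move 1 18, .move 0 19, .move 3 19, .move 0 20, .move 2 20, .move 0 22, .move 3 17,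
    .move 1 16, .move 1 15] = true := by decide +kernel

theorem perfectF4 : chkPerfect chevF4 tabF4 false [.single 0 24 0, .move 2 1, .move 1 2, .move 2 4,
    .move 3 5, .move 0 6, .move 1 17, .move 2 22, .move 3 22, .move 2 21, .move 3 23,
    .single 0 29 0, .move 0 3, .move 1 7, .move 2 8, .move 3 9, .move 1 10, .move 2 12, .move 1 13,
    .move 0 14, .move 1 33, .move 0 34] = true := by decide +kernel

theorem perfectE6 : chkPerfect chevE6 tabE6 false [.single 0 46 0, .move 3 1, .move 4 2, .move 5 3,
    .move 2 4, .move 3 7, .move 5 9, .move 1 8, .move 0 11, .move 5 26, .move 4 27, .move 3 28,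
    .move 2 29, .move 0 42, .move 3 42, .move 2 43, .move 4 43, .move 5 44, .move 2 45, .move 1 41,
    .move 3 41, .move 4 38, .move 5 38, .move 5 49, .move 4 48, .move 3 47, .move 2 57] = true := by
  decide +kernel

theorem perfectE7 : chkPerfect chevE7 tabE7 false [.single 0 93 0, .move 2 1, .move 3 2, .move 4 3,
    .move 5 4, .move 6 5, .move 1 6, .move 3 10, .move 6 13, .move 5 12, .move 2 11, .move 0 17,
    .move 5 33, .move 6 34, .move 4 35, .move 5 37, .move 3 38, .move 4 41, .move 2 42, .move 3 46,
    .move 1 47, .move 3 78, .move 1 79, .move 4 79, .move 5 80, .move 6 81, .move 2 82, .move 3 86,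
    .move 6 89, .move 5 88, .move 0 87, .move 3 103, .move 5 100, .move 1 101, .move 0 97,
    .move 5 76, .move 4 75, .move 3 74, .move 2 73, .move 0 52, .move 2 31, .move 3 31, .move 4 30,
    .move 5 29, .move 6 28, .move 1 27, .move 0 23, .move 2 39, .move 6 43, .move 1 44, .move 5 54,
    .move 3 55, .move 4 59, .move 5 66, .move 4 67, .move 6 67, .move 4 68, .move 5 65,
    .move 0 32] = true := by
  decide +kernel

theorem perfectE8 : chkPerfect chevE8 tabE8 false [.single 0 120 0, .move 6 1, .move 5 2, .move 4 3,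
    .move 3 4, .move 2 5, .move 1 6, .move 3 8, .move 4 9, .move 5 10, .move 6 11, .move 7 12,
    .move 0 13, .move 2 20, .move 7 25, .move 6 24, .move 5 23, .move 3 22, .move 1 26, .move 5 36,
    .move 6 37, .move 7 38, .move 4 39, .move 5 42, .move 7 44, .move 3 43, .move 5 49, .move 6 47,
    .move 2 46, .move 0 56, .move 6 78, .move 7 79, .move 5 80, .move 6 82, .move 4 83, .move 5 86,
    .move 3 87, .move 4 91, .move 2 92, .move 3 97, .move 1 98, .move 3 141, .move 1 142,
    .move 4 142, .move 5 143, .move 6 144, .move 7 145, .move 2 146, .move 3 151, .move 7 155,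
    .move 6 154, .move 5 153, .move 0 152, .move 3 174, .move 5 170, .move 6 171, .move 1 172,
    .move 0 167, .move 6 139, .move 5 138, .move 4 137, .move 3 136, .move 2 135, .move 0 104,
    .move 2 76, .move 3 76, .move 4 75, .move 5 74, .move 6 73, .move 7 72, .move 1 71, .move 0 66,
    .move 7 88, .move 2 89, .move 6 94, .move 1 95, .move 5 107, .move 3 108, .move 4 113,
    .move 5 126, .move 4 127, .move 6 127, .move 7 128, .move 4 129, .move 5 125, .move 6 122,
    .move 7 122, .move 0 77] = true := by
  decide +kernel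

end Cfsg.Agent.Lib.Chev
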