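import Cfsg.Agent.Lib.Chev.Steinberg
import Cfsg.Agent.Lib.Chev.All

/-!
Per-datum facts for Steinberg's presented group.
-/

set_option autoImplicit false

namespace Cfsg.Agent.Lib.Chev

open Cfsg.Lie

/-- An integral left inverse of the Cartan matrix. -/
def chkLinv (D : ChevalleyDatum) (T : Tables) (L : List (List ℤ)) : Bool :=
  allLt D.rank fun j => allLt D.rank fun i =>
    isum D.rank (fun a => ent L j a * T.A i (sim D a)) == if j = i then 1 else 0

theorem Good.torHom_injective {D : ChevalleyDatum} {T : Tables} (G : Good D T) {K : Type*}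
    [Field K] {L : List (List ℤ)} (h : chkLinv D T L = true) :
    Function.Injective (G.torHom K) := by
  refine (injective_iff_map_eq_one _).2 fun c hc => ?_
  have h1 := (G.mem_ker_torHom c).1 (MonoidHom.mem_ker.2 hc)
  have h2 := congrArg (monMap Kˣ (fun j i : Fin D.rank => ent L j i)) h1
  rw [monMap_comp, map_one] at h2
  rw [← h2]
  refine (monMap_one (fun j i => ?_) c).symm
  have := allLt_eq_true (allLt_eq_true h j j.isLt) i i.isLt
  simp only [beq_iff_eq, isum_eq, ← Fin.sum_univ_eq_sum_range] at this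
  simpa [Fin.ext_iff] using this

theorem adjG2 : chkAdj chevG2 tabG2 = true := by decide +kernel

theorem adjB2 : chkAdj chevB2 tabB2 = true := by decide +kernel

theorem adjD4 : chkAdj chevD4 tabD4 = true := by decide +kernel

theorem adjF4 : chkAdj chevF4 tabF4 = true := by decide +kernel

theorem adjE6 : chkAdj chevE6 tabE6 = true := by decide +kernel

theorem adjE7 : chkAdj chevE7 tabE7 = true := by decide +kernel

theorem adjE8 : chkAdj chevE8 tabE8 = true := by decide +kernel

theorem exists_good_adj {D : ChevalleyDatum}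
    (hD : D ∈ [chevG2, chevB2, chevD4, chevF4, chevE6, chevE7, chevE8]) :
    ∃ T, Good D T ∧ chkAdj D T = true := by
  simp only [List.mem_cons, List.not_mem_nil, or_false] at hD
  rcases hD with rfl | rfl | rfl | rfl | rfl | rfl | rfl
  exacts [⟨_, goodG2, adjG2⟩, ⟨_, goodB2, adjB2⟩, ⟨_, goodD4, adjD4⟩, ⟨_, goodF4, adjF4⟩,
    ⟨_, goodE6, adjE6⟩, ⟨_, goodE7, adjE7⟩, ⟨_, goodE8, adjE8⟩]

theorem linvG2 : chkLinv chevG2 tabG2 [[2, 1], [3, 2]] = true := by
  decide +kernel

theorem linvF4 : chkLinv chevF4 tabF4 [[2, 3, 2, 1], [3, 6, 4, 2], [4, 8, 6, 3], [2, 4, 3, 2]] = true := by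
  decide +kernel

theorem linvE8 : chkLinv chevE8 tabE8 [[4, 5, 7, 10, 8, 6, 4, 2], [5, 8, 10, 15, 12, 9, 6, 3], [7, 10, 14, 20, 16, 12, 8, 4], [10, 15, 20, 30, 24, 18, 12, 6], [8, 12, 16, 24, 20, 15, 10, 5], [6, 9, 12, 18, 15, 12, 8, 4], [4, 6, 8, 12, 10, 8, 6, 3], [2, 3, 4, 6, 5, 4, 3, 2]] = true := by
  decide +kernel

end Cfsg.Agent.Lib.Chev
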