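import Cfsg.Agent.Lib.Chev.Weyl

/-!
Subgroups attached to closed sets of positive roots.
-/

set_option autoImplicit false

namespace Cfsg.Agent.Lib.Chev

open Cfsg.Lie
open scoped Matrix

variable {D : ChevalleyDatum} {T : Tables} {F : Type*} [Field F]

/-- A set of roots closed under the terms of the commutator formula, among the positive roots. -/
def Closed (D : ChevalleyDatum) (T : Tables) (S : Set ℕ) : Prop :=
  ∀ r ∈ S, ∀ s ∈ S, r < D.nroots → s < D.nroots → npos D ≤ r → npos D ≤ s → s ≠ r →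
    ∀ c ∈ T.terms r s, c.1 ∈ S

/-- Positive roots kept positive by a word. -/
def keepSet (D : ChevalleyDatum) (T : Tables) (l : List ℕ) : Set ℕ := {q | npos D ≤ wl T l q}

/-- Positive roots made negative by a word. -/
def flipSet (D : ChevalleyDatum) (T : Tables) (l : List ℕ) : Set ℕ := {q | wl T l q < npos D}

namespace Good

variable (G : Good D T)
include G

theorem code_wl_term {l : List ℕ} (hl : IsW D l) {r s k a b : ℕ} {C : ℤ} (hr : r < D.nroots)
    (hs : s < D.nroots) (h : (k, C, a, b) ∈ T.terms r s) :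
    k < D.nroots ∧ (0 : ℤ) < a ∧ (0 : ℤ) < b ∧
      code D T (wl T l k) = (a : ℤ) * code D T (wl T l r) + (b : ℤ) * code D T (wl T l s) := by
  obtain ⟨hk, ha, hb, hlin⟩ := G.mem_terms hr hs h
  exact ⟨hk, by exact_mod_cast ha, by exact_mod_cast hb, code_lin (G.k_wl_lin hl hr hs hk hlin)⟩

theorem keep_closed {l : List ℕ} (hl : IsW D l) : Closed D T (keepSet D T l) := by
  intro r hrS s hsS hr hs _ _ _ c hc
  obtain ⟨k, C, a, b⟩ := c
  obtain ⟨hk, ha, hb, e⟩ := G.code_wl_term hl hr hs hc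
  have h1 := G.code_pos (G.wl_lt hl hr) hrS
  have h2 := G.code_pos (G.wl_lt hl hs) hsS
  exact G.pos_of_code_pos (G.wl_lt hl hk) (by rw [e]; positivity)

theorem flip_closed {l : List ℕ} (hl : IsW D l) : Closed D T (flipSet D T l) := by
  intro r hrS s hsS hr hs _ _ _ c hc
  obtain ⟨k, C, a, b⟩ := c
  obtain ⟨hk, ha, hb, e⟩ := G.code_wl_term hl hr hs hc
  have h1 := G.code_neg (G.wl_lt hl hr) hrS
  have h2 := G.code_neg (G.wl_lt hl hs) hsS
  by_contra h
  have h3 := G.code_pos (G.wl_lt hl hk) (Nat.le_of_not_lt h)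
  rw [e] at h3
  nlinarith

omit G in
theorem closed_univ : Closed D T Set.univ := fun _ _ _ _ _ _ _ _ _ _ _ => trivial

theorem closed_inter_ge {S : Set ℕ} (hS : Closed D T S) (k : ℕ) :
    Closed D T (S ∩ {q | k ≤ q}) := by
  intro r hrS s hsS hr hs hpr hps hne c hc
  obtain ⟨j, C, a, b⟩ := c
  refine ⟨hS r hrS.1 s hsS.1 hr hs hpr hps hne _ hc, ?_⟩
  have h1 := (G.terms_gt hr hs hpr hps hc).2.1
  have h2 : k ≤ r := hrS.2
  show k ≤ j
  omega

/-- The subgroup generated by the root subgroups of the positive roots in `S`. -/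
def USub (F : Type*) [Field F] (S : Set ℕ) : Subgroup (GL D.Idx F) :=
  Subgroup.closure {g | ∃ q t, q < D.nroots ∧ npos D ≤ q ∧ q ∈ S ∧ g = G.X F q t}

theorem X_mem_USub {S : Set ℕ} {q : ℕ} (hq : q < D.nroots) (hp : npos D ≤ q) (hS : q ∈ S) (t : F) :
    G.X F q t ∈ G.USub F S :=
  Subgroup.subset_closure ⟨q, t, hq, hp, hS, rfl⟩

theorem USub_le_of {S : Set ℕ} {K : Subgroup (GL D.Idx F)}
    (h : ∀ q, q < D.nroots → npos D ≤ q → q ∈ S → ∀ t : F, G.X F q t ∈ K) : G.USub F S ≤ K := by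
  refine (Subgroup.closure_le _).2 ?_
  rintro g ⟨q, t, hq, hp, hS, rfl⟩
  exact h q hq hp hS t

theorem USub_le_pos (S : Set ℕ) : G.USub F S ≤ D.posUnipotent F :=
  G.USub_le_of fun _ hq hp _ t => G.X_mem_posUnipotent hq hp t

theorem USub_mono {S S' : Set ℕ} (h : ∀ q, q < D.nroots → npos D ≤ q → q ∈ S → q ∈ S') :
    G.USub F S ≤ G.USub F S' :=
  G.USub_le_of fun q hq hp hS t => G.X_mem_USub hq hp (h q hq hp hS) t

theorem USub_univ : G.USub F Set.univ = D.posUnipotent F :=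
  le_antisymm (G.USub_le_pos _)
    (G.posUnipotent_le_of fun r hr hp t => G.X_mem_USub hr hp (Set.mem_univ r) t)

theorem USub_conj {S : Set ℕ} (hS : Closed D T S) {k q : ℕ} (hk : k < D.nroots)
    (hpk : npos D ≤ k) (hkS : k ∈ S) (hq : q < D.nroots) (hpq : npos D ≤ q) (hqS : q ∈ S)
    (hkq : k < q) (t u : F) :
    (G.X F k t)⁻¹ * G.X F q u * G.X F k t ∈ G.USub F (S ∩ {x | k + 1 ≤ x}) := by
  have hne : q ≠ ng D k := by have := G.even_n; unfold ng; omega
  rw [mul_assoc, G.commAt k q hk hq (by omega) hne t u, mul_assoc (G.X F k t), inv_mul_cancel_left]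
  refine mul_mem (G.X_mem_USub (S := S ∩ {x | k + 1 ≤ x}) hq hpq ⟨hqS, hkq⟩ u) (G.wordG_mem ?_)
  intro p hp
  simp only [cw, List.mem_map] at hp
  obtain ⟨⟨j, C, a, b⟩, hc, rfl⟩ := hp
  obtain ⟨hj, h1, h2⟩ := G.terms_gt hk hq hpk hpq hc
  exact G.X_mem_USub (S := S ∩ {x | k + 1 ≤ x}) hj (by omega)
    ⟨hS k hkS q hqS hk hq hpk hpq (by omega) _ hc, show k + 1 ≤ j by omega⟩ _

theorem USub_decomp {S : Set ℕ} (hS : Closed D T S) {k : ℕ} (hk : k < D.nroots)
    (hpk : npos D ≤ k) (hkS : k ∈ S) {g : GL D.Idx F} (hg : g ∈ G.USub F (S ∩ {x | k ≤ x})) :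
    ∃ t, ∃ h ∈ G.USub F (S ∩ {x | k + 1 ≤ x}), g = G.X F k t * h := by
  induction hg using Subgroup.closure_induction_left with
  | one => exact ⟨0, 1, one_mem _, by rw [G.X_zero, mul_one]⟩
  | mul_left x hx y _ ih =>
    obtain ⟨q, u, hq, hpq, ⟨hqS, hkq⟩, rfl⟩ := hx
    obtain ⟨t, h, hh, rfl⟩ := ih
    rcases Nat.eq_or_lt_of_le hkq with rfl | hlt
    · exact ⟨u + t, h, hh, by rw [← mul_assoc, G.X_add]⟩
    · exact ⟨t, _, mul_mem (G.USub_conj hS hk hpk hkS hq hpq hqS hlt t u) hh, by group⟩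
  | inv_mul_cancel x hx y _ ih =>
    obtain ⟨q, u, hq, hpq, ⟨hqS, hkq⟩, rfl⟩ := hx
    obtain ⟨t, h, hh, rfl⟩ := ih
    rw [G.X_inv]
    rcases Nat.eq_or_lt_of_le hkq with rfl | hlt
    · exact ⟨-u + t, h, hh, by rw [← mul_assoc, G.X_add]⟩
    · exact ⟨t, _, mul_mem (G.USub_conj hS hk hpk hkS hq hpq hqS hlt t (-u)) hh, by group⟩

theorem USub_exists_oprod {S : Set ℕ} (hS : Closed D T S) : ∀ (m k : ℕ), npos D ≤ k →
    k + m = D.nroots → ∀ g ∈ G.USub F (S ∩ {x | k ≤ x}),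
    ∃ t : ℕ → F, (∀ r, r ∉ S → t r = 0) ∧ g = G.oprod F k m t := by
  classical
  intro m
  induction m with
  | zero =>
    intro k _ hkm g hg
    have h0 : G.USub F (S ∩ {x | k ≤ x}) = ⊥ := by
      refine eq_bot_iff.2 (G.USub_le_of fun q hq _ hqS _ => ?_)
      have h' : k ≤ q := hqS.2
      omega
    rw [h0, Subgroup.mem_bot] at hg
    exact ⟨fun _ => 0, fun _ _ => rfl, by simp [hg, Good.oprod, Good.wordG]⟩
  | succ m ih =>
    intro k hk hkm g hg
    by_cases hkS : k ∈ S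
    · obtain ⟨t, h, hh, rfl⟩ := G.USub_decomp hS (by omega) hk hkS hg
      obtain ⟨f, hf, rfl⟩ := ih (k + 1) (by omega) (by omega) h hh
      refine ⟨Function.update f k t, fun r hr => ?_, ?_⟩
      · rw [Function.update_of_ne (fun e => hr (by rw [e]; exact hkS)), hf r hr]
      · rw [G.oprod_succ, Function.update_self, G.oprod_congr (t := Function.update f k t) (t' := f)
          fun r hr _ => Function.update_of_ne (by omega) _ _]
    · obtain ⟨f, hf, rfl⟩ := ih (k + 1) (by omega) (by omega) g (G.USub_mono (fun q _ _ hq => by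
        have h' : k ≤ q := hq.2
        refine ⟨hq.1, show k + 1 ≤ q from Nat.lt_of_le_of_ne h' ?_⟩
        rintro rfl
        exact hkS hq.1) hg)
      exact ⟨f, hf, by rw [G.oprod_succ, hf k hkS, G.X_zero, one_mul]⟩

theorem oprod_mem_USub {S : Set ℕ} {t : ℕ → F} (ht : ∀ r, r ∉ S → t r = 0) :
    G.oprod F (npos D) (npos D) t ∈ G.USub F S := by
  refine G.wordG_mem fun p hp => ?_
  obtain ⟨r, hr, rfl⟩ := List.mem_map.1 hp
  rw [List.mem_range'_1] at hr
  by_cases hrS : r ∈ S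
  · exact G.X_mem_USub (by have := G.even_n; omega) hr.1 hrS _
  · show G.X F r (t r) ∈ _
    rw [ht r hrS, G.X_zero]; exact one_mem _

theorem mem_USub_iff {S : Set ℕ} (hS : Closed D T S) {g : GL D.Idx F} :
    g ∈ G.USub F S ↔
      ∃ t : ℕ → F, (∀ r, r ∉ S → t r = 0) ∧ g = G.oprod F (npos D) (npos D) t := by
  refine ⟨fun hg => ?_, fun ⟨t, ht, e⟩ => e ▸ G.oprod_mem_USub ht⟩
  exact G.USub_exists_oprod hS (npos D) (npos D) le_rfl (by have := G.even_n; omega) g
    (G.USub_mono (S' := S ∩ {x | npos D ≤ x}) (fun q _ hp hq => ⟨hq, hp⟩) hg)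

theorem oprod_zero {k m : ℕ} {t : ℕ → F} (h : ∀ r, k ≤ r → r < k + m → t r = 0) :
    G.oprod F k m t = 1 := by
  refine List.prod_eq_one fun x hx => ?_
  obtain ⟨p, hp, rfl⟩ := List.mem_map.1 hx
  obtain ⟨r, hr, rfl⟩ := List.mem_map.1 hp
  rw [List.mem_range'_1] at hr
  simp only
  rw [h r hr.1 hr.2, G.X_zero]

theorem USub_disjoint {S S' : Set ℕ} (hS : Closed D T S) (hS' : Closed D T S')
    (h : ∀ q, q < D.nroots → npos D ≤ q → q ∈ S → q ∉ S') :
    G.USub F S ⊓ G.USub F S' = ⊥ := by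
  rw [eq_bot_iff]
  rintro g ⟨h1, h2⟩
  obtain ⟨t, ht, rfl⟩ := (G.mem_USub_iff hS).1 h1
  obtain ⟨t', ht', e⟩ := (G.mem_USub_iff hS').1 h2
  have he := G.even_n
  rw [Subgroup.mem_bot]
  refine G.oprod_zero fun r hr1 hr2 => ?_
  by_cases hrS : r ∈ S
  · rw [G.oprod_injective (npos D) (npos D) le_rfl (by omega) t t' e r hr1 hr2]
    exact ht' r (h r (by omega) hr1 hrS)
  · exact ht r hrS

theorem card_USub [Fintype F] {S : Finset ℕ} (hSp : ∀ q ∈ S, q < D.nroots ∧ npos D ≤ q)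
    (hS : Closed D T (S : Set ℕ)) :
    Nat.card (G.USub F (S : Set ℕ)) = Fintype.card F ^ S.card := by
  classical
  have he := G.even_n
  let e : (S → F) → G.USub F (S : Set ℕ) := fun f =>
    ⟨G.oprod F (npos D) (npos D) fun r => if h : r ∈ S then f ⟨r, h⟩ else 0,
      G.oprod_mem_USub fun r hr => by
        have hr' : r ∉ S := fun h => hr (Finset.mem_coe.2 h)
        simp [hr']⟩
  have hbij : Function.Bijective e := by
    constructor
    · intro f f' h
      funext ⟨r, hr⟩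
      have h2 := hSp r hr
      have := G.oprod_injective (npos D) (npos D) le_rfl (by omega) _ _ (congrArg Subtype.val h) r
        h2.2 (by omega)
      simpa [hr] using this
    · rintro ⟨g, hg⟩
      obtain ⟨t, ht, rfl⟩ := (G.mem_USub_iff hS).1 hg
      refine ⟨fun r => t r.1, Subtype.ext (G.oprod_congr fun r _ _ => ?_)⟩
      by_cases hr : r ∈ S
      · simp [hr]
      · have := ht r (fun h => hr (Finset.mem_coe.1 h))
        simp [hr, this]
  rw [← Nat.card_eq_of_bijective e hbij, Nat.card_eq_fintype_card, Fintype.card_fun,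
    Fintype.card_coe]

theorem X_conj_mem_tail {k q : ℕ} (hk : k < D.nroots) (hpk : npos D ≤ k) (hq : q < D.nroots)
    (hkq : k < q) (t u : F) :
    G.X F k t * G.X F q u * (G.X F k t)⁻¹ ∈ G.tailU F (k + 1) := by
  have h := G.tail_conj hk hpk hq hkq (-t) u
  rwa [G.X_inv, neg_neg, ← G.X_inv] at h

theorem tail_normalized {k : ℕ} (hk : k < D.nroots) (hpk : npos D ≤ k) (t : F) {g : GL D.Idx F}
    (hg : g ∈ G.tailU F (k + 1)) : G.X F k t * g * (G.X F k t)⁻¹ ∈ G.tailU F (k + 1) := by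
  have h : G.tailU F (k + 1) ≤ (G.tailU F (k + 1)).comap (MulAut.conj (G.X F k t)).toMonoidHom := by
    refine (Subgroup.closure_le _).2 ?_
    rintro x ⟨q, u, hq, hp, hkq, rfl⟩
    simpa using G.X_conj_mem_tail hk hpk hq (by omega) t u
  simpa using h hg

/-- Splitting of `U` along a word: roots kept positive, then roots made negative. -/
theorem exists_keep_flip {l : List ℕ} : ∀ (m k : ℕ), npos D ≤ k → k + m = D.nroots →
    ∀ g ∈ G.tailU F k, ∃ a ∈ G.USub F (keepSet D T l ∩ {x | k ≤ x}),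
      ∃ b ∈ G.USub F (flipSet D T l ∩ {x | k ≤ x}), g = a * b := by
  intro m
  induction m with
  | zero =>
    intro k _ hkm g hg
    rw [G.tail_bot (by omega), Subgroup.mem_bot] at hg
    exact ⟨1, one_mem _, 1, one_mem _, by simp [hg]⟩
  | succ m ih =>
    intro k hk hkm g hg
    obtain ⟨t, h, hh, rfl⟩ := G.tail_decomp (by omega) hk hg
    obtain ⟨a, ha, b, hb, rfl⟩ := ih (k + 1) (by omega) (by omega) h hh
    have mono : ∀ S : Set ℕ, G.USub F (S ∩ {x | k + 1 ≤ x}) ≤ G.USub F (S ∩ {x | k ≤ x}) := fun S =>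
      G.USub_mono fun q _ _ hq => ⟨hq.1, show k ≤ q from Nat.le_of_succ_le hq.2⟩
    by_cases hkp : npos D ≤ wl T l k
    · exact ⟨G.X F k t * a, mul_mem
        (G.X_mem_USub (S := keepSet D T l ∩ {x | k ≤ x}) (by omega) hk ⟨hkp, le_refl k⟩ t) (mono _ ha), b,
        mono _ hb, by group⟩
    · have ha' : a ∈ G.tailU F (k + 1) :=
        G.USub_le_of (fun q hq hp hqS u => G.X_mem_tail hq hp hqS.2 u) ha
      obtain ⟨a', ha'', b', hb', e⟩ :=
        ih (k + 1) (by omega) (by omega) _ (G.tail_normalized (by omega) hk t ha')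
      refine ⟨a', mono _ ha'', b' * G.X F k t * b, mul_mem (mul_mem (mono _ hb')
        (G.X_mem_USub (S := flipSet D T l ∩ {x | k ≤ x}) (by omega) hk
          ⟨Nat.lt_of_not_le hkp, le_refl k⟩ t)) (mono _ hb), ?_⟩
      calc G.X F k t * (a * b) = (G.X F k t * a * (G.X F k t)⁻¹) * G.X F k t * b := by group
        _ = a' * (b' * G.X F k t * b) := by rw [e]; group

theorem exists_split_pos (l : List ℕ) {g : GL D.Idx F} (hg : g ∈ D.posUnipotent F) :
    ∃ a ∈ G.USub F (keepSet D T l), ∃ b ∈ G.USub F (flipSet D T l), g = a * b := by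
  rw [← G.tail_npos] at hg
  obtain ⟨a, ha, b, hb, e⟩ := G.exists_keep_flip (l := l) (npos D) (npos D) le_rfl
    (by have := G.even_n; omega) g hg
  exact ⟨a, G.USub_mono (fun _ _ _ h => h.1) ha, b, G.USub_mono (fun _ _ _ h => h.1) hb, e⟩

/-- Conjugation by an element moving roots along `f` carries `USub S` into any group containing
the image root subgroups. -/
theorem act_conj_USub {g : GL D.Idx F} {f : ℕ → ℕ} (hg : G.Act F g f) {S : Set ℕ}
    {K : Subgroup (GL D.Idx F)}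
    (h : ∀ q, q < D.nroots → npos D ≤ q → q ∈ S → ∀ t : F, G.X F (f q) t ∈ K)
    {x : GL D.Idx F} (hx : x ∈ G.USub F S) : g * x * g⁻¹ ∈ K := by
  have h' : G.USub F S ≤ K.comap (MulAut.conj g).toMonoidHom := by
    refine G.USub_le_of fun q hq hp hqS t => ?_
    obtain ⟨-, c, -, e⟩ := hg q hq
    simpa [e t] using h q hq hp hqS (c * t)
  simpa using h' hx

theorem keep_conj {g : GL D.Idx F} {l : List ℕ} (hl : IsW D l) (hg : G.Act F g (wl T l))
    {x : GL D.Idx F} (hx : x ∈ G.USub F (keepSet D T l)) : g * x * g⁻¹ ∈ D.posUnipotent F :=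
  G.act_conj_USub hg (fun _ hq _ hqS t => G.X_mem_posUnipotent (G.wl_lt hl hq) hqS t) hx

theorem flip_conj {g : GL D.Idx F} {l : List ℕ} (hl : IsW D l) (hg : G.Act F g (wl T l))
    {x : GL D.Idx F} (hx : x ∈ G.USub F (flipSet D T l)) : g * x * g⁻¹ ∈ D.negUnipotent F :=
  G.act_conj_USub hg (fun _ hq _ hqS t => G.X_mem_negUnipotent (G.wl_lt hl hq) hqS t) hx

end Good

end Cfsg.Agent.Lib.Chev
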