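import Cfsg.Agent.Lib.Chev.Subgroups
import Cfsg.Agent.Lib.Chev.Map

/-!
Chevalley's commutator formula.

The formula is invariant under the fundamental reflections and, by the torus, follows from its
integral instance at parameters `1, 1`; the latter is checked for the finitely many pairs that no
reflection moves to an earlier case.
-/

set_option autoImplicit false

namespace Cfsg.Agent.Lib.Chev

open Cfsg.Lie
open scoped Matrix

variable {D : ChevalleyDatum} {T : Tables}

namespace Good

variable (G : Good D T)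
include G

theorem chRoot_some {r s m k : ℕ} (hr : r < D.nroots) (hs : s < D.nroots)
    (h : T.chRoot r s m = some k) :
    ∃ M, T.chM r s m = M ∧ (T.ch r s)[m - 1]? = some (k, M) ∧ k < D.nroots ∧
      ∀ i < D.rank, T.k i k = (((m - 1 : ℕ) : ℤ) + 1) * T.k i r + T.k i s := by
  unfold Tables.chRoot at h
  cases hget : (T.ch r s)[m - 1]? with
  | none => rw [hget] at h; simp at h
  | some e =>
    obtain ⟨k', M⟩ := e
    rw [hget] at h
    obtain rfl : k' = k := by simpa using h
    obtain ⟨hk, -, -, -, -, hlin, -⟩ := G.ch_entry hr hs hget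
    exact ⟨M, by simp [Tables.chM, hget], rfl, hk, hlin⟩

theorem chainRoot_eq {r s : ℕ} (hr : r < D.nroots) (hs : s < D.nroots) (m : ℕ) :
    D.chainRoot r s m = T.chRoot r s m := by
  unfold ChevalleyDatum.chainRoot Tables.chRoot
  rw [G.chainEntry_eq hr hs]

theorem chainM_eq {r s : ℕ} (hr : r < D.nroots) (hs : s < D.nroots) (m : ℕ) :
    D.chainM r s m = T.chM r s m := by
  unfold ChevalleyDatum.chainM Tables.chM
  rw [G.chainEntry_eq hr hs]

theorem commTerms_eq {r s : ℕ} (hr : r < D.nroots) (hs : s < D.nroots) :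
    D.commTerms r s = T.terms r s := by
  have hA : (T.chRoot r s 3).bind (fun k => D.chainRoot k s 1) =
      (T.chRoot r s 3).bind fun k => T.chRoot k s 1 := by
    cases h : T.chRoot r s 3 with
    | none => rfl
    | some k =>
      obtain ⟨M, -, -, hk, -⟩ := G.chRoot_some hr hs h
      exact G.chainRoot_eq hk hs 1
  have hB : (T.chRoot s r 3).bind (fun k => D.chainRoot k r 1) =
      (T.chRoot s r 3).bind fun k => T.chRoot k r 1 := by
    cases h : T.chRoot s r 3 with
    | none => rfl
    | some k =>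
      obtain ⟨M, -, -, hk, -⟩ := G.chRoot_some hs hr h
      exact G.chainRoot_eq hk hr 1
  have hC : ((T.chRoot r s 1).map fun k => D.chainM k r 2 / 3) =
      ((T.chRoot r s 1).map fun k => T.chM k r 2 / 3) ∧
      ((T.chRoot r s 1).map fun k => -2 * D.chainM k s 2 / 3) =
      ((T.chRoot r s 1).map fun k => -2 * T.chM k s 2 / 3) := by
    cases h : T.chRoot r s 1 with
    | none => exact ⟨rfl, rfl⟩
    | some k =>
      obtain ⟨M, -, -, hk, -⟩ := G.chRoot_some hr hs h
      simp [G.chainM_eq hk hr, G.chainM_eq hk hs]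
  unfold ChevalleyDatum.commTerms Tables.terms
  simp only [G.chainRoot_eq hr hs, G.chainRoot_eq hs hr, G.chainM_eq hr hs, G.chainM_eq hs hr,
    hA, hB, hC.1, hC.2]

theorem mem_terms {r s k a b : ℕ} {C : ℤ} (hr : r < D.nroots) (hs : s < D.nroots)
    (h : (k, C, a, b) ∈ T.terms r s) :
    k < D.nroots ∧ 0 < a ∧ 0 < b ∧ ∀ i < D.rank, T.k i k = (a : ℤ) * T.k i r + (b : ℤ) * T.k i s := by
  simp only [Tables.terms, List.mem_filterMap, List.mem_cons, List.not_mem_nil, or_false,
    Option.map_eq_some_iff] at h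
  obtain ⟨c, hc, k', hk', he⟩ := h
  simp only [Prod.mk.injEq] at he
  obtain ⟨rfl, hCe⟩ := he
  rcases hc with rfl | rfl | rfl | rfl | rfl | rfl | rfl <;> simp only [Prod.mk.injEq] at hCe
  all_goals obtain ⟨-, rfl, rfl⟩ := hCe
  all_goals simp only at hk'
  · obtain ⟨M, -, -, hk, hl⟩ := G.chRoot_some hr hs hk'
    exact ⟨hk, by norm_num, by norm_num, fun i hi => by rw [hl i hi]; push_cast; ring⟩
  · obtain ⟨M, -, -, hk, hl⟩ := G.chRoot_some hr hs hk'
    exact ⟨hk, by norm_num, by norm_num, fun i hi => by rw [hl i hi]; push_cast; ring⟩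
  · obtain ⟨M, -, -, hk, hl⟩ := G.chRoot_some hs hr hk'
    exact ⟨hk, by norm_num, by norm_num, fun i hi => by rw [hl i hi]; push_cast; ring⟩
  · obtain ⟨M, -, -, hk, hl⟩ := G.chRoot_some hr hs hk'
    exact ⟨hk, by norm_num, by norm_num, fun i hi => by rw [hl i hi]; push_cast; ring⟩
  · obtain ⟨M, -, -, hk, hl⟩ := G.chRoot_some hs hr hk'
    exact ⟨hk, by norm_num, by norm_num, fun i hi => by rw [hl i hi]; push_cast; ring⟩
  · rw [Option.bind_eq_some_iff] at hk'
    obtain ⟨q, hq, hk'⟩ := hk'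
    obtain ⟨M, -, -, hq', hlq⟩ := G.chRoot_some hr hs hq
    obtain ⟨M', -, -, hk, hl⟩ := G.chRoot_some hq' hs hk'
    exact ⟨hk, by norm_num, by norm_num,
      fun i hi => by rw [hl i hi, hlq i hi]; push_cast; ring⟩
  · rw [Option.bind_eq_some_iff] at hk'
    obtain ⟨q, hq, hk'⟩ := hk'
    obtain ⟨M, -, -, hq', hlq⟩ := G.chRoot_some hs hr hq
    obtain ⟨M', -, -, hk, hl⟩ := G.chRoot_some hq' hr hk'
    exact ⟨hk, by norm_num, by norm_num,
      fun i hi => by rw [hl i hi, hlq i hi]; push_cast; ring⟩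

theorem chRoot_w {i r s : ℕ} (hi : i < D.rank) (hr : r < D.nroots) (hs : s < D.nroots) (m : ℕ) :
    T.chRoot (T.w i r) (T.w i s) m = (T.chRoot r s m).map (T.w i) := by
  unfold Tables.chRoot
  rw [G.ch_equiv hi hr hs, List.getElem?_map, List.getElem?_zipIdx]
  cases (T.ch r s)[m - 1]? <;> simp

theorem chM_w {i r s : ℕ} (hi : i < D.rank) (hr : r < D.nroots) (hs : s < D.nroots) (m : ℕ) :
    T.chM (T.w i r) (T.w i s) m =
      T.eta i r ^ (m - 1 + 1) * T.eta i s * T.eta i ((T.chRoot r s m).getD 0) * T.chM r s m := by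
  unfold Tables.chM Tables.chRoot
  rw [G.ch_equiv hi hr hs, List.getElem?_map, List.getElem?_zipIdx]
  cases (T.ch r s)[m - 1]? <;> simp

/-- How a term is moved by a fundamental reflection. -/
def moveTerm (T : Tables) (i r s : ℕ) (c : ℕ × ℤ × ℕ × ℕ) : ℕ × ℤ × ℕ × ℕ :=
  (T.w i c.1, T.eta i r ^ c.2.2.1 * T.eta i s ^ c.2.2.2 * T.eta i c.1 * c.2.1, c.2.2.1, c.2.2.2)

theorem eta_pow_mul (i r : ℕ) (n : ℕ) : T.eta i r ^ n * T.eta i r ^ n = 1 := by
  rw [← mul_pow, Tables.eta_mul_self, one_pow]

theorem div_three {η x : ℤ} (hη : η = 1 ∨ η = -1) (hx : 3 ∣ x) : η * x / 3 = η * (x / 3) := by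
  rcases hη with rfl | rfl
  · simp
  · rw [neg_one_mul, neg_one_mul, Int.neg_ediv_of_dvd hx]

theorem eta_prod_or (i a b : ℕ) : T.eta i a * T.eta i b = 1 ∨ T.eta i a * T.eta i b = -1 := by
  rcases T.eta_eq_or i a with h | h <;> rcases T.eta_eq_or i b with h' | h' <;> simp [h, h']

theorem terms_w {i r s : ℕ} (hi : i < D.rank) (hr : r < D.nroots) (hs : s < D.nroots) :
    T.terms (T.w i r) (T.w i s) = (T.terms r s).map (moveTerm T i r s) := by
  have hwr := G.w_lt hi hr
  have hws := G.w_lt hi hs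
  have h6 : ((T.chRoot (T.w i r) (T.w i s) 3).bind fun k => T.chRoot k (T.w i s) 1) =
      ((T.chRoot r s 3).bind fun k => T.chRoot k s 1).map (T.w i) := by
    rw [G.chRoot_w hi hr hs]
    cases h : T.chRoot r s 3 with
    | none => rfl
    | some q =>
      obtain ⟨-, -, -, hq, -⟩ := G.chRoot_some hr hs h
      exact G.chRoot_w hi hq hs 1
  have h7 : ((T.chRoot (T.w i s) (T.w i r) 3).bind fun k => T.chRoot k (T.w i r) 1) =
      ((T.chRoot s r 3).bind fun k => T.chRoot k r 1).map (T.w i) := by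
    rw [G.chRoot_w hi hs hr]
    cases h : T.chRoot s r 3 with
    | none => rfl
    | some q =>
      obtain ⟨-, -, -, hq, -⟩ := G.chRoot_some hs hr h
      exact G.chRoot_w hi hq hr 1
  have o6 : ∀ k, ((T.chRoot r s 3).bind fun k => T.chRoot k s 1) = some k →
      ((T.chRoot (T.w i r) (T.w i s) 1).map fun q => T.chM q (T.w i r) 2 / 3).getD 0 =
      T.eta i r ^ 3 * T.eta i s ^ 2 * T.eta i k *
        ((T.chRoot r s 1).map fun q => T.chM q r 2 / 3).getD 0 := by
    intro k hk
    rw [Option.bind_eq_some_iff] at hk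
    obtain ⟨q, hq, hk⟩ := hk
    obtain ⟨Mq, -, hqe, hq', hlq⟩ := G.chRoot_some hr hs hq
    obtain ⟨-, -, -, hk', hlk⟩ := G.chRoot_some hq' hs hk
    have hlen : (T.ch r s).length = 3 := by
      have h1 := (List.getElem?_eq_some_iff.1 hqe).1
      have h2 := G.ch_length_le hr hs
      omega
    rw [G.chRoot_w hi hr hs]
    cases h1 : T.chRoot r s 1 with
    | none => simp
    | some u =>
      obtain ⟨-, -, -, hu, hlu⟩ := G.chRoot_some hr hs h1
      have hdvd : 3 ∣ T.chM u r 2 := by simpa [h1] using (G.ch_third hr hs hlen).1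
      simp only [Option.map_some, Option.getD_some, G.chM_w hi hu hr]
      cases h2 : T.chRoot u r 2 with
      | none =>
        have h0 : T.chM u r 2 = 0 := by
          unfold Tables.chM
          unfold Tables.chRoot at h2
          cases hget : (T.ch u r)[2 - 1]? <;> simp_all
        simp [h0]
      | some v =>
        obtain ⟨-, -, -, hv, hlv⟩ := G.chRoot_some hu hr h2
        have : v = k := G.eq_of_k_eq hv hk' fun j hj => by
          rw [hlv j hj, hlu j hj, hlk j hj, hlq j hj]; push_cast; ring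
        subst this
        rw [Option.getD_some, show T.eta i u ^ (2 - 1 + 1) = 1 by
          rw [pow_two]; exact T.eta_mul_self i u, one_mul, G.div_three (G.eta_prod_or i r v) hdvd]
        have e1 := T.eta_mul_self i r
        have e2 := T.eta_mul_self i s
        linear_combination (-(T.eta i r * T.eta i s ^ 2 * T.eta i v * (T.chM u r 2 / 3))) * e1
          + (-(T.eta i r * T.eta i v * (T.chM u r 2 / 3))) * e2
  have o7 : ∀ k, ((T.chRoot s r 3).bind fun k => T.chRoot k r 1) = some k →
      ((T.chRoot (T.w i r) (T.w i s) 1).map fun q => -2 * T.chM q (T.w i s) 2 / 3).getD 0 =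
      T.eta i r ^ 2 * T.eta i s ^ 3 * T.eta i k *
        ((T.chRoot r s 1).map fun q => -2 * T.chM q s 2 / 3).getD 0 := by
    intro k hk
    rw [Option.bind_eq_some_iff] at hk
    obtain ⟨q, hq, hk⟩ := hk
    obtain ⟨Mq, -, hqe, hq', hlq⟩ := G.chRoot_some hs hr hq
    obtain ⟨-, -, -, hk', hlk⟩ := G.chRoot_some hq' hr hk
    have hlen : (T.ch s r).length = 3 := by
      have h1 := (List.getElem?_eq_some_iff.1 hqe).1
      have h2 := G.ch_length_le hs hr
      omega
    rw [G.chRoot_w hi hr hs]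
    cases h1 : T.chRoot r s 1 with
    | none => simp
    | some u =>
      obtain ⟨-, -, -, hu, hlu⟩ := G.chRoot_some hr hs h1
      have hdvd : 3 ∣ T.chM u s 2 := by simpa [h1] using (G.ch_third hs hr hlen).2.2.1
      simp only [Option.map_some, Option.getD_some, G.chM_w hi hu hs]
      cases h2 : T.chRoot u s 2 with
      | none =>
        have h0 : T.chM u s 2 = 0 := by
          unfold Tables.chM
          unfold Tables.chRoot at h2
          cases hget : (T.ch u s)[2 - 1]? <;> simp_all
        simp [h0]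
      | some v =>
        obtain ⟨-, -, -, hv, hlv⟩ := G.chRoot_some hu hs h2
        have : v = k := G.eq_of_k_eq hv hk' fun j hj => by
          rw [hlv j hj, hlu j hj, hlk j hj, hlq j hj]; push_cast; ring
        subst this
        rw [Option.getD_some, show T.eta i u ^ (2 - 1 + 1) = 1 by
          rw [pow_two]; exact T.eta_mul_self i u, one_mul, mul_left_comm,
          G.div_three (G.eta_prod_or i s v) (dvd_mul_of_dvd_right hdvd (-2))]
        have e1 := T.eta_mul_self i r
        have e2 := T.eta_mul_self i s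
        linear_combination (-(T.eta i s ^ 3 * T.eta i v * (-2 * T.chM u s 2 / 3))) * e1
          + (-(T.eta i s * T.eta i v * (-2 * T.chM u s 2 / 3))) * e2
  unfold Tables.terms
  rw [List.map_filterMap]
  have step : ∀ (o o' : Option ℕ) (C C' : ℤ) (a b : ℕ), o' = o.map (T.w i) →
      (∀ k, o = some k → C' = T.eta i r ^ a * T.eta i s ^ b * T.eta i k * C) →
      o'.map (fun k => (k, C', a, b)) =
        (o.map fun k => (k, C, a, b)).map (moveTerm T i r s) := by
    intro o o' C C' a b ho hC
    subst ho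
    cases o with
    | none => rfl
    | some k => simp [moveTerm, ← hC k rfl]
  have e1 : ∀ k, T.chRoot r s 1 = some k → T.chM (T.w i r) (T.w i s) 1 =
      T.eta i r ^ 1 * T.eta i s ^ 1 * T.eta i k * T.chM r s 1 := fun k hk => by
    rw [G.chM_w hi hr hs, hk]; simp
  have e2 : ∀ k, T.chRoot r s 2 = some k → T.chM (T.w i r) (T.w i s) 2 =
      T.eta i r ^ 2 * T.eta i s ^ 1 * T.eta i k * T.chM r s 2 := fun k hk => by
    rw [G.chM_w hi hr hs, hk]; simp
  have e3 : ∀ k, T.chRoot s r 2 = some k → T.chM (T.w i s) (T.w i r) 2 =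
      T.eta i r ^ 1 * T.eta i s ^ 2 * T.eta i k * T.chM s r 2 := fun k hk => by
    rw [G.chM_w hi hs hr, hk]; simp [mul_comm]
  have e4 : ∀ k, T.chRoot r s 3 = some k → T.chM (T.w i r) (T.w i s) 3 =
      T.eta i r ^ 3 * T.eta i s ^ 1 * T.eta i k * T.chM r s 3 := fun k hk => by
    rw [G.chM_w hi hr hs, hk]; simp
  have e5 : ∀ k, T.chRoot s r 3 = some k → -T.chM (T.w i s) (T.w i r) 3 =
      T.eta i r ^ 1 * T.eta i s ^ 3 * T.eta i k * -T.chM s r 3 := fun k hk => by
    rw [G.chM_w hi hs hr, hk]; simp [mul_comm]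
  simp only [List.filterMap_cons, List.filterMap_nil]
  rw [step _ _ _ _ _ _ (G.chRoot_w hi hr hs 1) e1, step _ _ _ _ _ _ (G.chRoot_w hi hr hs 2) e2,
    step _ _ _ _ _ _ (G.chRoot_w hi hs hr 2) e3, step _ _ _ _ _ _ (G.chRoot_w hi hr hs 3) e4,
    step _ _ _ _ _ _ (G.chRoot_w hi hs hr 3) e5, step _ _ _ _ _ _ h6 o6,
    step _ _ _ _ _ _ h7 o7]

/-- A product of root elements in the general linear group. -/
def wordG {F : Type*} [Field F] (w : List (ℕ × F)) : GL D.Idx F :=
  (w.map fun p => G.X F p.1 p.2).prod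

theorem wordG_val {F : Type*} [Field F] (w : List (ℕ × F)) :
    ((G.wordG w : GL D.Idx F) : Matrix D.Idx D.Idx F) = D.wordMat F w := by
  induction w with
  | nil => simp [Good.wordG, ChevalleyDatum.wordMat]
  | cons p w ih =>
    simp only [Good.wordG, ChevalleyDatum.wordMat, List.map_cons, List.prod_cons, Units.val_mul] at ih ⊢
    rw [ih, G.X_val]

theorem wordG_mem {F : Type*} [Field F] {K : Subgroup (GL D.Idx F)} {w : List (ℕ × F)}
    (h : ∀ p ∈ w, G.X F p.1 p.2 ∈ K) : G.wordG w ∈ K := by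
  refine list_prod_mem fun x hx => ?_
  obtain ⟨p, hp, rfl⟩ := List.mem_map.1 hx
  exact h p hp

/-- The word on the right-hand side of the commutator formula. -/
def cw {F : Type*} [Field F] (T : Tables) (r s : ℕ) (t u : F) : List (ℕ × F) :=
  (T.terms r s).map fun c => (c.1, (c.2.1 : F) * (-t) ^ c.2.2.1 * u ^ c.2.2.2)

theorem commWord_eq {F : Type*} [Field F] {r s : ℕ} (hr : r < D.nroots) (hs : s < D.nroots)
    (t u : F) : D.commWord F r s t u = cw T r s t u := by
  rw [ChevalleyDatum.commWord, G.commTerms_eq hr hs]; rfl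

/-- The commutator formula for a pair, as a matrix identity. -/
def CommAt (F : Type*) [Field F] (r s : ℕ) : Prop :=
  ∀ t u : F, G.X F s u * G.X F r t = G.X F r t * G.X F s u * G.wordG (cw T r s t u)

theorem conj_wordG {F : Type*} [Field F] (g : GL D.Idx F) (f : ℕ → ℕ × F)
    (w : List (ℕ × F)) (h : ∀ p ∈ w, ∀ t, g * G.X F p.1 t * g⁻¹ = G.X F (f p.1).1 ((f p.1).2 * t)) :
    g * G.wordG w * g⁻¹ = G.wordG (w.map fun p => ((f p.1).1, (f p.1).2 * p.2)) := by
  induction w with
  | nil => simp [Good.wordG]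
  | cons p w ih =>
    have h1 := h p List.mem_cons_self p.2
    have h2 := ih fun q hq => h q (List.mem_cons_of_mem _ hq)
    simp only [Good.wordG, List.map_cons, List.prod_cons] at h2 ⊢
    rw [← h1, ← h2]
    group

theorem commAt_w {F : Type*} [Field F] {i r s : ℕ} (hi : i < D.rank) (hr : r < D.nroots)
    (hs : s < D.nroots) (h : G.CommAt F r s) : G.CommAt F (T.w i r) (T.w i s) := by
  intro t u
  set n := G.ni F i with hn
  have key := congrArg (fun g => n * g * n⁻¹) (h ((T.eta i r : F) * t) ((T.eta i s : F) * u))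
  have e : ∀ a b : GL D.Idx F, n * (a * b) * n⁻¹ = (n * a * n⁻¹) * (n * b * n⁻¹) := fun a b => by
    group
  rw [e, e, e, G.ni_conj_X hi hr, G.ni_conj_X hi hs, ← mul_assoc (T.eta i r : F),
    ← mul_assoc (T.eta i s : F), ← pow_two, ← pow_two, G.eta_sq, G.eta_sq, one_mul, one_mul] at key
  rw [key]
  congr 1
  rw [G.conj_wordG n (fun k => (T.w i k, (T.eta i k : F))) _ ?_]
  · congr 1
    simp only [cw, G.terms_w hi hr hs, List.map_map]
    refine List.map_congr_left fun c _ => ?_
    simp only [Function.comp_apply, moveTerm, Prod.mk.injEq, true_and]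
    push_cast
    rw [show -((T.eta i r : F) * t) = (T.eta i r : F) * -t by ring, mul_pow, mul_pow]
    ring
  · intro p hp v
    simp only [cw, List.mem_map] at hp
    obtain ⟨⟨k, C, a, b⟩, hc, rfl⟩ := hp
    exact G.ni_conj_X hi (G.mem_terms hr hs hc).1 v

theorem commAt_one {F : Type*} [Field F] {r s : ℕ} (hr : r < D.nroots) (hs : s < D.nroots)
    (h : chkCommAt D T r s = true) :
    G.X F s 1 * G.X F r 1 = G.X F r 1 * G.X F s 1 * G.wordG (cw T r s (1 : F) 1) := by
  simp only [chkCommAt, Bool.and_eq_true] at h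
  refine Units.ext ?_
  have key := G.wordMat_eq (F := F) (w := [(s, 1), (r, 1)])
    (w' := (r, 1) :: (s, 1) :: (T.terms r s).map fun c => (c.1, c.2.1 * ipow (-1) c.2.2.1))
    (by simp [hr, hs])
    (by
      intro p hp
      simp only [List.mem_cons, List.mem_map] at hp
      rcases hp with rfl | rfl | ⟨⟨k, C, a, b⟩, hc, rfl⟩
      · exact hr
      · exact hs
      · exact (G.mem_terms hr hs hc).1)
    (fun a ha => by have h' := allLt_eq_true h.2 a ha; exact h')
  simp only [castWord, ChevalleyDatum.wordMat, List.map_cons, List.map_nil, List.prod_cons,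
    List.prod_nil, mul_one, Int.cast_one, List.map_map] at key
  simp only [Units.val_mul, G.X_val, G.wordG_val, ChevalleyDatum.wordMat, cw, List.map_map]
  rw [key, mul_assoc]
  congr 2
  congr 1
  refine List.map_congr_left fun c _ => ?_
  simp [ipow_eq]

theorem commAt_of_chk_closed {F : Type*} [Field F] [IsAlgClosed F] {r s : ℕ} (hr : r < D.nroots)
    (hs : s < D.nroots) (h : chkCommAt D T r s = true) {t u : F} (ht : t ≠ 0) (hu : u ≠ 0) :
    G.X F s u * G.X F r t = G.X F r t * G.X F s u * G.wordG (cw T r s t u) := by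
  have hind := h
  simp only [chkCommAt, Bool.and_eq_true] at hind
  obtain ⟨i, hi, h1⟩ := anyLt_eq_true hind.1
  obtain ⟨j, hj, h1⟩ := anyLt_eq_true h1
  simp only [decide_eq_true_eq] at h1
  set d : ℤ := T.k i r * T.k j s - T.k j r * T.k i s with hd
  have root : ∀ v : F, v ≠ 0 → ∃ c : F, c ≠ 0 ∧ c ^ d = v := by
    intro v hv
    obtain ⟨c, hc⟩ := IsAlgClosed.exists_pow_nat_eq v (n := d.natAbs) (Int.natAbs_pos.2 h1)
    have hc0 : c ≠ 0 := fun h0 => hv (by rw [← hc, h0, zero_pow (Int.natAbs_ne_zero.2 h1)])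
    rcases Int.natAbs_eq d with e | e
    · exact ⟨c, hc0, by rw [e, zpow_natCast]; exact hc⟩
    · exact ⟨c⁻¹, inv_ne_zero hc0, by rw [e, zpow_neg, inv_zpow, inv_inv, zpow_natCast]; exact hc⟩
  obtain ⟨a, ha, hat⟩ := root t ht
  obtain ⟨b, hb, hbu⟩ := root u hu
  set f₁ : ℕ → ℤ := fun q => T.k j s * T.k i q - T.k i s * T.k j q with hf₁
  set f₂ : ℕ → ℤ := fun q => T.k i r * T.k j q - T.k j r * T.k i q with hf₂
  set χ : ℕ → F := fun q => a ^ f₁ q * b ^ f₂ q with hχdef
  have hlin : ∀ (k : ℕ) (m₁ m₂ : ℕ),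
      (∀ l < D.rank, T.k l k = (m₁ : ℤ) * T.k l r + (m₂ : ℤ) * T.k l s) →
      f₁ k = (m₁ : ℤ) * f₁ r + (m₂ : ℤ) * f₁ s ∧ f₂ k = (m₁ : ℤ) * f₂ r + (m₂ : ℤ) * f₂ s := by
    intro k m₁ m₂ hk
    simp only [hf₁, hf₂, hk i hi, hk j hj]
    constructor <;> ring
  have hχ : IsChar D T χ := by
    have c1 : IsChar D T fun q => a ^ f₁ q := G.isChar_zpow
      (fun q hq => by simp only [hf₁, G.k_ng hq hi, G.k_ng hq hj]; ring)
      (fun q q' m v M hq hq' hm => by
        obtain ⟨-, -, -, -, -, hk, -⟩ := G.ch_entry hq hq' hm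
        simp only [hf₁, hk i hi, hk j hj]; ring) ha
    have c2 : IsChar D T fun q => b ^ f₂ q := G.isChar_zpow
      (fun q hq => by simp only [hf₂, G.k_ng hq hi, G.k_ng hq hj]; ring)
      (fun q q' m v M hq hq' hm => by
        obtain ⟨-, -, -, -, -, hk, -⟩ := G.ch_entry hq hq' hm
        simp only [hf₂, hk i hi, hk j hj]; ring) hb
    exact ⟨fun q hq => by rw [hχdef]; linear_combination (b ^ f₂ (ng D q) * b ^ f₂ q) * c1.neg q hq + c2.neg q hq,
      fun q q' m v M hq hq' hm => by
        rw [hχdef]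
        simp only [c1.chain q q' m v M hq hq' hm, c2.chain q q' m v M hq hq' hm, mul_pow]
        ring⟩
  have hχr : χ r = t := by
    have e1 : f₁ r = d := by simp only [hf₁, hd]; ring
    have e2 : f₂ r = 0 := by simp only [hf₂]; ring
    simp [hχdef, e1, e2, hat]
  have hχs : χ s = u := by
    have e1 : f₁ s = 0 := by simp only [hf₁]; ring
    have e2 : f₂ s = d := by simp only [hf₂, hd] <;> ring
    simp [hχdef, e1, e2, hbu]
  let g : GL D.Idx F :=
    ⟨dmat D χ, dmat D fun q => (χ q)⁻¹,
      by rw [dmat_mul, ← dmat_one]; exact dmat_congr fun q hq => mul_inv_cancel₀ (hχ.ne_zero hq),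
      by rw [dmat_mul, ← dmat_one]; exact dmat_congr fun q hq => inv_mul_cancel₀ (hχ.ne_zero hq)⟩
  have hconj : ∀ q < D.nroots, ∀ v : F, g * G.X F q v * g⁻¹ = G.X F q (χ q * v) :=
    fun q hq v => G.diag_conj_X rfl hχ hq v
  have key := congrArg (fun x => g * x * g⁻¹) (G.commAt_one (F := F) hr hs h)
  have e : ∀ x y : GL D.Idx F, g * (x * y) * g⁻¹ = (g * x * g⁻¹) * (g * y * g⁻¹) := fun x y => by
    group
  rw [e, e, e, hconj r hr, hconj s hs, mul_one, mul_one, hχr, hχs,
    G.conj_wordG g (fun k => (k, χ k))] at key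
  · rw [key]
    congr 2
    simp only [cw, List.map_map]
    refine List.map_congr_left fun c hc => ?_
    obtain ⟨k, C, m₁, m₂⟩ := c
    obtain ⟨hk, -, -, hkl⟩ := G.mem_terms hr hs hc
    obtain ⟨l1, l2⟩ := hlin k m₁ m₂ hkl
    have hk' : χ k = t ^ m₁ * u ^ m₂ := by
      rw [← hχr, ← hχs, hχdef]
      simp only [l1, l2, zpow_add₀ ha, zpow_add₀ hb, mul_comm (m₁ : ℤ), mul_comm (m₂ : ℤ), zpow_mul,
        zpow_natCast]
      ring
    simp only [Function.comp_apply, Prod.mk.injEq, true_and, hk', one_pow, mul_one]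
    rw [neg_pow t]
    ring
  · intro p hp v
    simp only [cw, List.mem_map] at hp
    obtain ⟨⟨k, C, m₁, m₂⟩, hc, rfl⟩ := hp
    exact hconj k (G.mem_terms hr hs hc).1 v

theorem commAt_of_chk {F : Type*} [Field F] {r s : ℕ} (hr : r < D.nroots) (hs : s < D.nroots)
    (h : chkCommAt D T r s = true) : G.CommAt F r s := by
  intro t u
  have hzero : t = 0 ∨ u = 0 → G.wordG (cw T r s t u) = 1 := by
    intro h0
    refine List.prod_eq_one fun x hx => ?_
    simp only [cw, List.map_map, List.mem_map] at hx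
    obtain ⟨⟨k, C, a, b⟩, hc, rfl⟩ := hx
    obtain ⟨-, ha, hb, -⟩ := G.mem_terms hr hs hc
    have : (C : F) * (-t) ^ a * u ^ b = 0 := by
      rcases h0 with rfl | rfl
      · simp [zero_pow ha.ne']
      · simp [zero_pow hb.ne']
    simp only [Function.comp_apply]
    rw [this, G.X_zero]
  by_cases ht : t = 0
  · rw [hzero (Or.inl ht), ht, G.X_zero, mul_one, one_mul, mul_one]
  by_cases hu : u = 0
  · rw [hzero (Or.inr hu), hu, G.X_zero, one_mul, mul_one, mul_one]
  let f := algebraMap F (AlgebraicClosure F)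
  have hf : Function.Injective f := f.injective
  have h1 := G.commAt_of_chk_closed (F := AlgebraicClosure F) hr hs h (t := f t) (u := f u)
    ((map_ne_zero f).2 ht) ((map_ne_zero f).2 hu)
  refine Units.ext (Matrix.map_injective hf ?_)
  have h2 := congrArg Units.val h1
  have hw : ∀ w : List (ℕ × F), (D.wordMat F w).map f =
      D.wordMat (AlgebraicClosure F) (w.map fun p => (p.1, f p.2)) := by
    intro w
    induction w with
    | nil => simp [ChevalleyDatum.wordMat]
    | cons p w ih =>
      simp only [ChevalleyDatum.wordMat, List.map_cons, List.prod_cons] at ih ⊢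
      rw [Matrix.map_mul, ih, x_map]
  simp only [Units.val_mul, G.X_val, G.wordG_val, Matrix.map_mul, x_map, hw] at h2 ⊢
  rw [h2]
  congr 2
  simp only [cw, List.map_map]
  refine List.map_congr_left fun c _ => ?_
  simp

theorem exists_ascent_or_dominant {r : ℕ} :
    (∃ i < D.rank, r < T.w i r) ∨ anyLt D.rank (fun i => decide (r < T.w i r)) = false := by
  by_cases h : anyLt D.rank (fun i => decide (r < T.w i r)) = true
  · obtain ⟨i, hi, h'⟩ := anyLt_eq_true h
    exact Or.inl ⟨i, hi, by simpa using h'⟩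
  · exact Or.inr (by simpa using h)

theorem commAt {F : Type*} [Field F] : ∀ r s, r < D.nroots → s < D.nroots → s ≠ r → s ≠ ng D r →
    G.CommAt F r s := by
  intro r
  induction h : D.nroots - r using Nat.strong_induction_on generalizing r with
  | _ d ih =>
    intro s hr
    rcases G.exists_ascent_or_dominant (r := r) with ⟨i, hi, hlt⟩ | hdom
    · intro hs hne hne'
      have hwr := G.w_lt hi hr
      have hws := G.w_lt hi hs
      have h1 : T.w i s ≠ T.w i r := fun e => hne (by rw [← G.w_w hi hs, e, G.w_w hi hr])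
      have h2 : T.w i s ≠ ng D (T.w i r) := fun e => hne' (by
        rw [← G.w_w hi hs, e, G.w_ng hi hwr, G.w_w hi hr])
      have h3 := ih (D.nroots - T.w i r) (by omega) (T.w i r) rfl (T.w i s) hwr hws h1 h2
      have h4 := G.commAt_w hi hwr hws h3
      rwa [G.w_w hi hr, G.w_w hi hs] at h4
    · clear ih h
      induction s using Nat.strong_induction_on with
      | _ s ih' =>
        intro hs hne hne'
        have hc := allLt_eq_true G.comm r hr
        rw [hdom] at hc
        simp only [Bool.false_eq_true, if_false] at hc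
        have hc' := allLt_eq_true hc s hs
        rw [if_neg (by simp [hne, hne'])] at hc'
        by_cases hred : anyLt D.rank (fun i => (T.w i r == r) && decide (T.w i s < s)) = true
        · obtain ⟨i, hi, h'⟩ := anyLt_eq_true hred
          simp only [Bool.and_eq_true, beq_iff_eq, decide_eq_true_eq] at h'
          have hws := G.w_lt hi hs
          have h1 : T.w i s ≠ r := fun e => hne (by rw [← G.w_w hi hs, e, h'.1])
          have h2 : T.w i s ≠ ng D r := fun e => hne' (by
            rw [← G.w_w hi hs, e, G.w_ng hi hr, h'.1])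
          have h3 := G.commAt_w hi hr hws (ih' _ h'.2 hws h1 h2)
          rwa [h'.1, G.w_w hi hs] at h3
        · rw [if_neg hred] at hc'
          exact G.commAt_of_chk hr hs hc'

/-- Chevalley's commutator formula. -/
theorem x_comm {F : Type*} [Field F] {r s : ℕ} (hr : r < D.nroots) (hs : s < D.nroots)
    (hne : s ≠ r) (hne' : s ≠ ng D r) (t u : F) :
    D.x F s u * D.x F r t = D.x F r t * D.x F s u * D.wordMat F (D.commWord F r s t u) := by
  have h := congrArg Units.val (G.commAt r s hr hs hne hne' t u)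
  simp only [Units.val_mul, G.X_val, G.wordG_val] at h
  rw [G.commWord_eq hr hs]
  exact h

end Good

end Cfsg.Agent.Lib.Chev
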