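import Cfsg.Agent.Lib.Chev.BN
import Cfsg.Agent.Lib.Chev.Poincare
import Cfsg.Agent.Lib.BNPair.Weyl

/-!
The Weyl group `N / H` as a Coxeter group.
-/

set_option autoImplicit false

namespace Cfsg.Agent.Lib.Chev

open Cfsg.Lie
open scoped Matrix

section comap

open Cfsg.Agent.Lib.BNPair

variable {W : Type*} [Group W] {B B' : Type*}

/-- Exchange data with relabelled generators. -/
def exchangeComap (E : ExchangeData W B) (e : B' ≃ B) : ExchangeData W B' where
  gen i := E.gen (e i)
  len := E.len
  sq i := E.sq (e i)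
  ne_one i := E.ne_one (e i)
  gen_inj := fun _ _ h => e.injective (E.gen_inj h)
  len_one := E.len_one
  exists_word w := by
    obtain ⟨ω, h1, h2⟩ := E.exists_word w
    refine ⟨ω.map e.symm, by rw [List.length_map]; exact h1, ?_⟩
    rw [List.map_map, ← h2]
    congr 2
    funext i
    simp
  len_le ω := by
    have := E.len_le (ω.map e)
    rw [List.map_map, List.length_map] at this
    exact this
  len_mul_ne i w := E.len_mul_ne (e i) w
  exch ω i hl hlt := by
    have e1 : (ω.map fun i => E.gen (e i)) = (ω.map e).map E.gen := by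
      rw [List.map_map]; rfl
    obtain ⟨j, hj, hje⟩ := E.exch (ω.map e) (e i)
      (by rw [← e1, List.length_map]; exact hl) (by rw [← e1, List.length_map]; exact hlt)
    refine ⟨j, by simpa using hj, ?_⟩
    have e2 : ((ω.eraseIdx j).map fun i => E.gen (e i)) = ((ω.map e).eraseIdx j).map E.gen := by
      rw [List.eraseIdx_map, List.map_map]; rfl
    rw [e1, e2]
    exact hje

end comap

/-- A word acts trivially on the fundamental roots. -/
def chkId (D : ChevalleyDatum) (T : Tables) (w : List ℕ) : Bool :=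
  allLt D.rank fun c => wl T w (sim D c) == sim D c

/-- A word has order `m` on the roots. -/
def chkOrd (D : ChevalleyDatum) (T : Tables) (w : List ℕ) (m : ℕ) : Bool :=
  decide (0 < m) && w.all (fun i => decide (i < D.rank)) &&
    allLt m (fun k => decide (k = 0) || !chkId D T (List.replicate k w).flatten) &&
    chkId D T (List.replicate m w).flatten

/-- The orders of the products of two fundamental reflections are those of the matrix. -/
def chkCox (D : ChevalleyDatum) (T : Tables) {m : ℕ} (M : CoxeterMatrix (Fin m)) : Bool :=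
  allLt m fun i => allLt m fun j =>
    if h : i < m ∧ j < m then chkOrd D T [i, j] (M ⟨i, h.1⟩ ⟨j, h.2⟩) else false

variable {D : ChevalleyDatum} {T : Tables} {F : Type*} [Field F]

namespace Good

variable (G : Good D T)
include G

/-- The Weyl group of the (B,N)-pair. -/
abbrev W0 (F : Type*) [Field F] : Type _ := BNPair.Weyl (G.bnPair F)

instance weyl_normal_inst :
    (((G.bnPair F).B ⊓ (G.bnPair F).N).subgroupOf (G.bnPair F).N).Normal :=
  BNPair.weyl_normal (G.bnPair F)

/-- The identification of `N` inside the group with `N`. -/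
noncomputable def toN (F : Type*) [Field F] : ↥(D.monomialSubgroup F) →* ↥(G.bnPair F).N :=
  (Subgroup.subgroupOfEquivOfLe (G.monomial_le_group (F := F))).symm.toMonoidHom

/-- The projection of `N` onto `N / H`. -/
noncomputable def proj (F : Type*) [Field F] : ↥(D.monomialSubgroup F) →* G.W0 F :=
  (QuotientGroup.mk' _).comp (G.toN F)

theorem proj_eq_one {n : ↥(D.monomialSubgroup F)} :
    G.proj F n = 1 ↔ (n : GL D.Idx F) ∈ D.diagonalSubgroup F := by
  show QuotientGroup.mk (G.toN F n) = (1 : G.W0 F) ↔ _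
  rw [QuotientGroup.eq_one_iff, Subgroup.mem_subgroupOf, Subgroup.mem_inf]
  constructor
  · rintro ⟨h, -⟩
    rw [← G.borel_inf_monomial]
    exact Subgroup.mem_inf.2 ⟨h, n.2⟩
  · intro h
    exact ⟨Subgroup.mem_sup_right h, n.2⟩

theorem proj_surjective : Function.Surjective (G.proj F) := by
  intro w
  induction w using QuotientGroup.induction_on with
  | _ n => exact ⟨Subgroup.subgroupOfEquivOfLe (G.monomial_le_group (F := F)) n,
      congrArg QuotientGroup.mk ((Subgroup.subgroupOfEquivOfLe _).symm_apply_apply n)⟩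

/-- The element of `N` of a word. -/
def nlN (F : Type*) [Field F] {l : List ℕ} (hl : IsW D l) : ↥(D.monomialSubgroup F) :=
  ⟨G.nl F l, G.nl_mem_monomial hl⟩

theorem proj_nl_eq_one {l : List ℕ} (hl : IsW D l) :
    G.proj F (G.nlN F hl) = 1 ↔ chkId D T l = true := by
  rw [G.proj_eq_one]
  constructor
  · intro h
    have key : ∀ c < D.rank, wl T l (sim D c) = sim D c := fun c hc =>
      G.act_unique (G.act_nl (F := F) hl) (G.act_diag h) (G.sim_lt hc)
    unfold chkId
    have : ∀ n f, (∀ c < n, f c = true) → allLt n f = true := by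
      intro n f
      induction n with
      | zero => intro _; rfl
      | succ n ih => intro hf; simp [allLt, hf n (Nat.lt_succ_self n), ih fun c hc => hf c (by omega)]
    exact this _ _ fun c hc => by simp [key c hc]
  · intro h
    refine G.nl_mem_diag_of_pos _ rfl hl fun c hc => ?_
    have := allLt_eq_true h c hc
    rw [beq_iff_eq] at this
    rw [this]; exact G.sim_pos hc

theorem proj_pow {l : List ℕ} (hl : IsW D l) (k : ℕ) :
    ∃ hk : IsW D (List.replicate k l).flatten,
      G.proj F (G.nlN F hl) ^ k = G.proj F (G.nlN F hk) := by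
  refine ⟨fun i hi => ?_, ?_⟩
  · obtain ⟨l', hl', hi'⟩ := List.mem_flatten.1 hi
    exact hl i (List.eq_of_mem_replicate hl' ▸ hi')
  · rw [← map_pow]
    congr 1
    refine Subtype.ext ?_
    rw [SubmonoidClass.coe_pow]
    show G.nl F l ^ k = G.nl F (List.replicate k l).flatten
    induction k with
    | zero => simp [G.nl_nil]
    | succ k ih => rw [pow_succ', ih, List.replicate_succ, List.flatten_cons, G.nl_append]

theorem orderOf_proj {l : List ℕ} {m : ℕ} (h : chkOrd D T l m = true) :
    ∃ hl : IsW D l, orderOf (G.proj F (G.nlN F hl)) = m := by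
  simp only [chkOrd, Bool.and_eq_true, decide_eq_true_eq, List.all_eq_true] at h
  obtain ⟨⟨⟨hm, hl⟩, hlt⟩, hid⟩ := h
  refine ⟨hl, (orderOf_eq_iff hm).2 ⟨?_, fun k hk hk0 => ?_⟩⟩
  · obtain ⟨hk', e⟩ := G.proj_pow (F := F) hl m
    rw [e, G.proj_nl_eq_one]
    exact hid
  · obtain ⟨hk', e⟩ := G.proj_pow (F := F) hl k
    rw [e, Ne, G.proj_nl_eq_one]
    have := allLt_eq_true hlt k hk
    simp only [Bool.or_eq_true, decide_eq_true_eq, Bool.not_eq_true'] at this
    rcases this with h | h
    · omega
    · simp [h]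

/-- The fundamental `n`'s index the distinguished generators. -/
noncomputable def sEquiv (F : Type*) [Field F] : Fin D.rank ≃ (G.bnPair F).S :=
  Equiv.ofBijective
    (fun i => ⟨⟨G.ni F i.val, G.ni_mem_group i.isLt⟩, G.mem_niSet.2 ⟨i.val, i.isLt, rfl⟩⟩) (by
    constructor
    · intro i j h
      have e : G.ni F i.val = G.ni F j.val := congrArg (fun x => (x.1.1 : GL D.Idx F)) h
      exact Fin.ext (G.ni_inj i.isLt j.isLt (by rw [e, inv_mul_cancel]; exact one_mem _))
    · rintro ⟨x, hx⟩
      obtain ⟨i, hi, e⟩ := G.mem_niSet.1 hx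
      exact ⟨⟨i, hi⟩, Subtype.ext (Subtype.ext e.symm)⟩)

/-- The exchange data on the numbers of the fundamental roots. -/
noncomputable def exch (F : Type*) [Field F] : BNPair.ExchangeData (G.W0 F) (Fin D.rank) :=
  exchangeComap (BNPair.exchangeData (G.bnPair F)) (G.sEquiv F)

theorem exch_gen (i : Fin D.rank) :
    (G.exch F).gen i = G.proj F ⟨G.ni F i.val, G.ni_mem_monomial i.isLt⟩ := rfl

theorem cmatrix_eq {M : CoxeterMatrix (Fin D.rank)} (h : chkCox D T M = true) :
    (G.exch F).cmatrix = M := by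
  ext i j
  rw [BNPair.ExchangeData.cmatrix_apply]
  have h1 := allLt_eq_true (allLt_eq_true h i i.isLt) j j.isLt
  rw [dif_pos ⟨i.isLt, j.isLt⟩] at h1
  obtain ⟨hl, e⟩ := G.orderOf_proj (F := F) h1
  rw [← e, G.exch_gen, G.exch_gen, ← map_mul]
  congr 2
  refine Subtype.ext ?_
  show G.ni F i.val * G.ni F j.val = G.nl F [i.val, j.val]
  simp [Good.nl]

/-- The isomorphism with the Coxeter group. -/
theorem exists_coxeter_equiv {m : ℕ} (hm : D.rank = m) {M : CoxeterMatrix (Fin m)}
    (h : chkCox D T M = true) :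
    ∃ ψ : G.W0 F ≃* M.Group, ∀ (i : Fin m) (hi : i.val < D.rank),
      ψ (G.proj F ⟨G.ni F i.val, G.ni_mem_monomial hi⟩) = M.simple i := by
  subst hm
  have hM := G.cmatrix_eq (F := F) h
  subst hM
  refine ⟨(MulEquiv.ofBijective (G.exch F).toW (G.exch F).toW_bijective).symm, fun i hi => ?_⟩
  rw [MulEquiv.symm_apply_eq]
  exact ((G.exch F).toW_simple i).symm

theorem coxeter_hom {m : ℕ} (hm : D.rank = m) {M : CoxeterMatrix (Fin m)}
    (h : chkCox D T M = true) :
    ∃ φ : ↥(D.monomialSubgroup F) →* M.Group, Function.Surjective φ ∧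
      φ.ker = (D.diagonalSubgroup F).subgroupOf (D.monomialSubgroup F) ∧
      ∀ (i : Fin m) (g : ↥(D.monomialSubgroup F)),
        ((g : GL D.Idx F) : Matrix D.Idx D.Idx F) = D.nMat F (D.simple i) 1 → φ g = M.simple i := by
  obtain ⟨ψ, hψ⟩ := G.exists_coxeter_equiv (F := F) hm h
  refine ⟨ψ.toMonoidHom.comp (G.proj F), ψ.surjective.comp G.proj_surjective, ?_, fun i g hg => ?_⟩
  · ext g
    rw [MonoidHom.mem_ker, Subgroup.mem_subgroupOf, ← G.proj_eq_one]
    exact ⟨fun e => ψ.injective (e.trans ψ.map_one.symm), fun e => by simp [e]⟩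
  · have hi : i.val < D.rank := hm ▸ i.isLt
    have eg : g = ⟨G.ni F i.val, G.ni_mem_monomial hi⟩ := by
      refine Subtype.ext (Units.ext ?_)
      rw [hg, G.simple_eq, ← G.Ng_val (G.sim_lt hi)]; rfl
    rw [eg]
    exact hψ i hi

/-- The order of the Weyl group. -/
theorem card_W0 : Nat.card (G.W0 F) = (wset D T D.rank).card := by
  classical
  choose lr hlr using fun n : ↥(D.monomialSubgroup F) => G.exists_rep n.2
  let Φ : ↥(D.monomialSubgroup F) → ↥(wset D T D.rank) := fun n =>
    ⟨G.wfun (hlr n).1, mem_wset.2 ⟨lr n, (hlr n).1, G.isFun_wfun _⟩⟩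
  have hiff : ∀ n n', Φ n = Φ n' ↔ G.proj F n = G.proj F n' := by
    intro n n'
    have e : G.proj F n = G.proj F n' ↔ (n'⁻¹ * n : GL D.Idx F) ∈ D.diagonalSubgroup F := by
      have := G.proj_eq_one (n := n'⁻¹ * n)
      rw [map_mul, map_inv, inv_mul_eq_one] at this
      rw [eq_comm]
      simpa using this
    constructor
    · intro h
      rw [e]
      have hs : ∀ s < D.nroots, wl T (lr n) s = wl T (lr n') s := fun s hs =>
        congrArg Fin.val (congrFun (congrArg Subtype.val h) ⟨s, hs⟩)
      obtain ⟨l', hl'⟩ := G.exists_rep (inv_mem n'.2)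
      refine G.mem_diag_of_act_id (mul_mem (inv_mem n'.2) n.2)
        (G.act_mul (G.rep_act hl') (G.rep_act (hlr n))) fun s hs' => ?_
      have h2 := G.act_mul (G.rep_act hl') (G.rep_act (hlr n'))
      rw [inv_mul_cancel] at h2
      have h3 := G.act_unique h2 (G.act_diag (one_mem _)) hs'
      simp only [Function.comp_apply, id] at h3 ⊢
      rw [hs s hs']; exact h3
    · intro h
      rw [e] at h
      refine Subtype.ext (funext fun s => Fin.ext ?_)
      have h2 := G.act_mul (G.rep_act (hlr n')) (G.act_diag h)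
      simp only [InvMemClass.coe_inv, mul_inv_cancel_left] at h2
      exact G.act_unique (G.rep_act (hlr n)) h2 s.isLt
  let Ψ : G.W0 F → ↥(wset D T D.rank) := fun w => Φ (Function.surjInv G.proj_surjective w)
  have hΨ : Function.Bijective Ψ := by
    constructor
    · intro w w' h
      have := (hiff _ _).1 h
      rwa [Function.surjInv_eq G.proj_surjective, Function.surjInv_eq G.proj_surjective] at this
    · rintro ⟨f, hf⟩
      obtain ⟨l, hl, hfl⟩ := mem_wset.1 hf
      refine ⟨G.proj F (G.nlN F hl), ?_⟩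
      have h1 : Φ (Function.surjInv G.proj_surjective (G.proj F (G.nlN F hl))) = Φ (G.nlN F hl) :=
        (hiff _ _).2 (Function.surjInv_eq _ _)
      refine h1.trans (Subtype.ext (funext fun s => Fin.ext ?_))
      rw [hfl s]
      exact G.act_unique (G.rep_act (hlr (G.nlN F hl))) (G.act_nl hl) s.isLt
  rw [Nat.card_eq_of_bijective Ψ hΨ, Nat.card_eq_fintype_card, Fintype.card_coe]

theorem card_coxeter {m : ℕ} (hm : D.rank = m) {M : CoxeterMatrix (Fin m)}
    (h : chkCox D T M = true) : Nat.card M.Group = pW D T D.rank 1 := by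
  obtain ⟨ψ, -⟩ := G.exists_coxeter_equiv (F := ℚ) hm h
  rw [← Nat.card_congr ψ.toEquiv, G.card_W0, pW]
  simp

theorem orderOf_coxeter {m : ℕ} (hm : D.rank = m) {M : CoxeterMatrix (Fin m)}
    (h : chkCox D T M = true) {k : ℕ} (hk : chkOrd D T (List.range m) k = true) :
    orderOf ((List.finRange m).map M.simple).prod = k := by
  obtain ⟨ψ, hψ⟩ := G.exists_coxeter_equiv (F := ℚ) hm h
  obtain ⟨hl, e⟩ := G.orderOf_proj (F := ℚ) hk
  rw [← e, ← ψ.orderOf_eq (G.proj ℚ (G.nlN ℚ hl))]
  congr 1
  have hfun : (List.finRange m).map M.simple = (List.finRange m).map fun i : Fin m =>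
      ψ (G.proj ℚ ⟨G.ni ℚ i.val, G.ni_mem_monomial (hm ▸ i.isLt)⟩) :=
    List.map_congr_left fun i _ => (hψ i (hm ▸ i.isLt)).symm
  rw [hfun, show ((List.finRange m).map fun i : Fin m =>
      ψ (G.proj ℚ ⟨G.ni ℚ i.val, G.ni_mem_monomial (hm ▸ i.isLt)⟩)) =
      ((List.finRange m).map fun i : Fin m =>
        (⟨G.ni ℚ i.val, G.ni_mem_monomial (hm ▸ i.isLt)⟩ : ↥(D.monomialSubgroup ℚ))).map
        (ψ.toMonoidHom.comp (G.proj ℚ)) by rw [List.map_map]; rfl, ← map_list_prod]
  show ψ (G.proj ℚ _) = ψ _
  congr 2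
  refine Subtype.ext ?_
  rw [SubmonoidClass.coe_list_prod, List.map_map]
  show ((List.finRange m).map fun i : Fin m => G.ni ℚ i.val).prod = G.nl ℚ (List.range m)
  rw [Good.nl, ← List.map_coe_finRange_eq_range, List.map_map]
  rfl

end Good

end Cfsg.Agent.Lib.Chev
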