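import Cfsg.Agent.Lib.Chev.PoinPoly
import Cfsg.Agent.Lib.Chev.DataB2

/-! Coset representatives along the chain of parabolic subgroups of the Weyl group of type B2. -/

set_option autoImplicit false
set_option maxRecDepth 100000

namespace Cfsg.Agent.Lib.Chev

open Cfsg.Lie

def cosB2_0 : List Coset := [
  ⟨[5,4],0,0,0,0,[1]⟩,
  ⟨[2,7],0,0,5,1,[0]⟩]

def cosB2_1 : List Coset := [
  ⟨[5,4],0,0,0,0,[4,1]⟩,
  ⟨[6,3],0,1,4,1,[2,0]⟩,
  ⟨[6,0],1,0,6,2,[1,3]⟩,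
  ⟨[5,0],2,1,7,3,[4,2]⟩]

theorem poinB2 : chkPoin chevB2 tabB2 [cosB2_0, cosB2_1] [2, 4] = true := by
  decide +kernel

end Cfsg.Agent.Lib.Chev
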