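import Cfsg.Agent.Lib.Chev.PoinPoly
import Cfsg.Agent.Lib.Chev.DataD4

/-! Coset representatives along the chain of parabolic subgroups of the Weyl group of type D4. -/

set_option autoImplicit false
set_option maxRecDepth 100000

namespace Cfsg.Agent.Lib.Chev

open Cfsg.Lie

def cosD4_0 : List Coset := [
  ⟨[18,14,13,12],0,0,0,0,[1]⟩,
  ⟨[5,19,13,12],0,0,18,1,[0]⟩]

def cosD4_1 : List Coset := [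
  ⟨[18,14,13,12],0,0,0,0,[3,1]⟩,
  ⟨[19,9,16,15],0,1,14,1,[2,0]⟩,
  ⟨[14,4,21,20],1,0,19,2,[1,3]⟩]

def cosD4_2 : List Coset := [
  ⟨[18,14,13,12],0,0,0,0,[4,5,1]⟩,
  ⟨[18,16,10,12],0,2,13,1,[4,2,0]⟩,
  ⟨[19,13,7,15],1,1,16,2,[3,1,5]⟩,
  ⟨[14,13,2,20],2,0,21,3,[2,4,5]⟩]

def cosD4_3 : List Coset := [
  ⟨[18,14,13,12],0,0,0,0,[8,9,10,1]⟩,
  ⟨[18,15,13,11],0,3,12,1,[8,2,10,0]⟩,
  ⟨[19,12,16,8],1,1,15,2,[3,1,4,9]⟩,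
  ⟨[14,12,21,3],2,0,20,3,[2,8,5,9]⟩,
  ⟨[21,12,14,6],2,2,17,3,[5,10,2,9]⟩,
  ⟨[16,12,19,1],3,2,17,4,[4,6,3,9]⟩,
  ⟨[13,15,18,0],5,1,22,5,[10,5,8,7]⟩,
  ⟨[13,14,18,0],6,3,23,6,[10,9,8,6]⟩]

theorem poinD4 : chkPoin chevD4 tabD4 [cosD4_0, cosD4_1, cosD4_2, cosD4_3] [2, 4, 4, 6] = true := by
  decide +kernel

end Cfsg.Agent.Lib.Chev
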