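import Cfsg.Agent.Lib.Chev.PoinPoly
import Cfsg.Agent.Lib.Chev.DataE6

/-! Coset representatives along the chain of parabolic subgroups of the Weyl group of type E6. -/

set_option autoImplicit false
set_option maxRecDepth 100000

namespace Cfsg.Agent.Lib.Chev

open Cfsg.Lie

def cosE6_0 : List Coset := [
  ⟨[56,46,42,39,37,36],0,0,0,0,[1]⟩,
  ⟨[15,46,57,39,37,36],0,0,56,1,[0]⟩]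

def cosE6_1 : List Coset := [
  ⟨[56,46,42,39,37,36],0,0,0,0,[2,1]⟩,
  ⟨[56,25,42,47,37,36],0,1,46,1,[2,0]⟩]

def cosE6_2 : List Coset := [
  ⟨[56,46,42,39,37,36],0,0,0,0,[3,4,1]⟩,
  ⟨[57,46,29,43,37,36],0,2,42,1,[2,4,0]⟩,
  ⟨[42,46,14,58,37,36],1,0,57,2,[1,4,3]⟩]

def cosE6_3 : List Coset := [
  ⟨[56,46,42,39,37,36],0,0,0,0,[10,11,12,1]⟩,
  ⟨[56,47,43,32,40,36],0,3,39,1,[10,2,3,0]⟩,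
  ⟨[56,39,50,24,48,36],1,1,47,2,[10,1,4,11]⟩,
  ⟨[57,50,39,28,44,36],1,2,43,2,[5,4,1,12]⟩,
  ⟨[57,43,47,21,51,36],2,2,43,3,[6,3,2,7]⟩,
  ⟨[42,61,39,13,59,36],3,0,58,3,[3,6,10,12]⟩,
  ⟨[42,58,47,10,62,36],4,0,58,4,[4,5,10,8]⟩,
  ⟨[58,42,46,21,53,36],4,3,50,4,[8,12,11,4]⟩,
  ⟨[43,57,46,10,64,36],6,3,50,5,[7,12,9,6]⟩,
  ⟨[39,56,46,10,67,36],8,2,61,6,[11,12,8,10]⟩]

def cosE6_4 : List Coset := [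
  ⟨[56,46,42,39,37,36],0,0,0,0,[16,17,18,19,1]⟩,
  ⟨[56,46,42,40,34,38],0,4,37,1,[16,17,18,2,0]⟩,
  ⟨[56,47,43,37,31,41],1,3,40,2,[16,3,4,1,19]⟩,
  ⟨[56,39,50,37,23,49],2,1,48,3,[16,2,5,17,19]⟩,
  ⟨[57,50,39,37,27,45],2,2,44,3,[6,5,2,18,19]⟩,
  ⟨[57,43,47,37,20,52],3,2,44,4,[7,4,3,8,19]⟩,
  ⟨[42,61,39,37,12,60],4,0,59,4,[4,7,16,18,19]⟩,
  ⟨[42,58,47,37,9,63],5,0,59,5,[5,6,16,9,19]⟩,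
  ⟨[58,42,46,40,18,54],5,3,51,5,[9,18,17,5,10]⟩,
  ⟨[43,57,46,40,7,65],7,3,51,6,[8,18,11,7,12]⟩,
  ⟨[59,42,46,39,18,55],8,4,53,6,[12,18,17,19,8]⟩,
  ⟨[39,56,46,44,4,68],9,2,62,7,[17,18,9,16,13]⟩,
  ⟨[44,57,46,39,7,66],9,4,53,7,[10,18,13,19,9]⟩,
  ⟨[40,56,46,43,4,69],11,4,53,8,[17,18,12,14,11]⟩,
  ⟨[37,56,47,42,4,70],13,3,64,9,[17,15,19,13,16]⟩,
  ⟨[37,56,39,42,4,71],14,1,67,10,[17,14,19,18,16]⟩]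

def cosE6_5 : List Coset := [
  ⟨[56,46,42,39,37,36],0,0,0,0,[27,28,29,30,31,1]⟩,
  ⟨[56,46,42,39,38,35],0,5,36,1,[27,28,29,30,2,0]⟩,
  ⟨[56,46,42,40,36,33],1,4,38,2,[27,28,29,3,1,31]⟩,
  ⟨[56,47,43,37,36,30],2,3,41,3,[27,4,5,2,30,31]⟩,
  ⟨[56,39,50,37,36,22],3,1,49,4,[27,3,6,28,30,31]⟩,
  ⟨[57,50,39,37,36,26],3,2,45,4,[7,6,3,29,30,31]⟩,
  ⟨[57,43,47,37,36,19],4,2,45,5,[8,5,4,9,30,31]⟩,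
  ⟨[42,61,39,37,36,11],5,0,60,5,[5,8,27,29,30,31]⟩,
  ⟨[42,58,47,37,36,8],6,0,60,6,[6,7,27,10,30,31]⟩,
  ⟨[58,42,46,40,36,17],6,3,52,6,[10,29,28,6,11,31]⟩,
  ⟨[43,57,46,40,36,6],8,3,52,7,[9,29,12,8,13,31]⟩,
  ⟨[59,42,46,39,38,16],9,4,54,7,[13,29,28,30,9,14]⟩,
  ⟨[39,56,46,44,36,3],10,2,63,8,[28,29,10,27,15,31]⟩,
  ⟨[44,57,46,39,38,5],10,4,54,8,[11,29,15,30,10,16]⟩,
  ⟨[60,42,46,39,37,16],11,5,55,8,[16,29,28,30,31,11]⟩,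
  ⟨[40,56,46,43,38,2],12,4,54,9,[28,29,13,17,12,18]⟩,
  ⟨[45,57,46,39,37,5],13,5,55,9,[14,29,18,30,31,13]⟩,
  ⟨[37,56,47,42,41,1],15,3,65,10,[28,19,30,15,27,20]⟩,
  ⟨[41,56,46,43,37,2],15,5,55,10,[28,29,16,20,31,15]⟩,
  ⟨[37,56,39,42,49,0],17,1,68,11,[28,17,30,29,27,21]⟩,
  ⟨[38,56,47,42,40,1],17,5,55,11,[28,21,30,18,22,17]⟩,
  ⟨[38,56,39,42,48,0],19,5,55,12,[28,20,30,29,23,19]⟩,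
  ⟨[36,56,48,42,39,1],20,4,66,12,[28,23,30,31,20,27]⟩,
  ⟨[36,56,40,42,47,0],21,4,66,13,[28,22,30,24,21,27]⟩,
  ⟨[36,56,37,43,46,0],23,3,69,14,[28,31,25,23,29,27]⟩,
  ⟨[36,57,37,39,46,0],24,2,70,15,[26,31,24,30,29,27]⟩,
  ⟨[36,42,37,39,46,0],25,0,71,16,[25,31,28,30,29,27]⟩]

theorem poinE6 : chkPoin chevE6 tabE6 [cosE6_0, cosE6_1, cosE6_2, cosE6_3, cosE6_4, cosE6_5] [2, 5, 6, 8, 9, 12] = true := by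
  decide +kernel

end Cfsg.Agent.Lib.Chev
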