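import Cfsg.Agent.Lib.Chev.PoinPoly
import Cfsg.Agent.Lib.Chev.DataF4

/-! Coset representatives along the chain of parabolic subgroups of the Weyl group of type F4. -/

set_option autoImplicit false
set_option maxRecDepth 100000

namespace Cfsg.Agent.Lib.Chev

open Cfsg.Lie

def cosF4_0 : List Coset := [
  ⟨[33,27,25,24],0,0,0,0,[1]⟩,
  ⟨[14,34,25,24],0,0,33,1,[0]⟩]

def cosF4_1 : List Coset := [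
  ⟨[33,27,25,24],0,0,0,0,[3,1]⟩,
  ⟨[34,20,30,24],0,1,27,1,[2,0]⟩,
  ⟨[27,13,41,24],1,0,34,2,[1,3]⟩]

def cosF4_2 : List Coset := [
  ⟨[33,27,25,24],0,0,0,0,[8,9,1]⟩,
  ⟨[33,28,22,26],0,2,25,1,[8,2,0]⟩,
  ⟨[34,28,17,31],1,1,28,2,[3,1,4]⟩,
  ⟨[27,35,6,42],2,0,35,3,[2,8,5]⟩,
  ⟨[35,27,17,32],2,2,30,3,[5,9,2]⟩,
  ⟨[28,34,6,43],3,2,30,4,[4,6,3]⟩,
  ⟨[28,33,6,45],5,1,37,5,[9,5,7]⟩,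
  ⟨[27,33,6,46],6,2,41,6,[9,8,6]⟩]

def cosF4_3 : List Coset := [
  ⟨[33,27,25,24],0,0,0,0,[24,25,26,1]⟩,
  ⟨[33,27,26,23],0,3,24,1,[24,25,2,0]⟩,
  ⟨[33,28,24,21],1,2,26,2,[24,3,1,26]⟩,
  ⟨[34,28,24,16],2,1,29,3,[4,2,5,26]⟩,
  ⟨[27,35,24,5],3,0,36,4,[3,24,6,26]⟩,
  ⟨[35,27,26,15],3,2,31,4,[6,25,3,7]⟩,
  ⟨[28,34,26,4],4,2,31,5,[5,8,4,9]⟩,
  ⟨[36,27,25,15],5,3,32,5,[9,25,26,5]⟩,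
  ⟨[28,33,31,2],6,1,38,6,[25,6,10,11]⟩,
  ⟨[29,34,25,4],6,3,32,6,[7,11,26,6]⟩,
  ⟨[27,33,32,1],8,2,42,7,[25,24,8,12]⟩,
  ⟨[29,33,30,2],8,3,32,7,[25,9,13,8]⟩,
  ⟨[27,33,32,0],10,3,47,8,[25,24,14,10]⟩,
  ⟨[29,33,30,1],11,2,47,8,[25,15,11,14]⟩,
  ⟨[28,33,31,0],12,2,32,9,[25,16,12,13]⟩,
  ⟨[29,34,25,1],13,1,39,9,[17,13,26,16]⟩,
  ⟨[28,34,26,0],14,1,39,10,[18,14,19,15]⟩,
  ⟨[36,27,25,1],15,0,40,10,[15,25,26,18]⟩,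
  ⟨[35,27,26,0],16,0,40,11,[16,25,20,17]⟩,
  ⟨[27,35,24,0],16,2,43,11,[20,24,16,26]⟩,
  ⟨[34,28,24,0],18,2,43,12,[19,21,18,26]⟩,
  ⟨[33,28,24,0],20,1,44,13,[24,20,22,26]⟩,
  ⟨[33,27,26,0],21,2,45,14,[24,25,21,23]⟩,
  ⟨[33,27,25,1],22,3,46,15,[24,25,26,22]⟩]

theorem poinF4 : chkPoin chevF4 tabF4 [cosF4_0, cosF4_1, cosF4_2, cosF4_3] [2, 6, 8, 12] = true := by
  decide +kernel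

end Cfsg.Agent.Lib.Chev
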