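import Cfsg.Agent.Lib.Chev.Table
import Cfsg.Prelude.Def_ChevG2

/-! Packed tables of type G2, and their verification. -/

set_option autoImplicit false
set_option maxRecDepth 100000

namespace Cfsg.Agent.Lib.Chev

open Cfsg.Lie

def tabG2 : Tables where
  chainT := (.node 0x67000000000047000000000039000000000000000000000029000000000000000000000000000000000000000000000000000000000000000000000000 (.node 0x77000000000000000000000057000000000000000000000039000000000000000000000019000000000000000000000000000000000000000000000000000000000000 (.node 0x67008900a900000000000000000065008a0000000000000000000000650019003700590000000000000000001b0036000000000000000000000015000000000000000000000000 (.node 0xbb000000b500a600000000000000b900a9009700000000000000000000000000000000006b0000006b004a006700470037000000000000 .leaf .leaf) (.node 0xb70000000000000000000000a7000000000099000000000079000000000000 .leaf .leaf)) (.node 0xb9000000000000000000000000000000000089000000000000000000000000000000000000000000000047000000000000000000000000000000000017000000000000 (.node 0xc50000000000b5000000000000000000000000000000c5009a000000bb008600000000000000c70099005900b900870049 .leaf .leaf) .leaf)) (.node 0x27005700970019004900870000000000000000002b005a00000015004600000000000000000000000000000000002b00000000001b000000000000000000000000000000000000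 (.node 0x79009700a90000007b009600000000007500000000000000000000000000270039004900000000000000000025003a000000000025000000000000000000000000 (.node 0xcb000000000000000000cb00aa00000000000000c700a7008700000000007b000000000000000000750056000000000000007900590037 .leaf .leaf) .leaf) (.node 0xc9000000000000000000000000000000000099000000000000000000000000000000000000000000000057000000000000000000000000000000000027 (.node 0xc70000000000000000000000a7000000000000000000000089000000000000000000000069 .leaf .leaf) .leaf)))
  coefP := [
    0xbba998877655,
    0xa99989787776]
  coP := [
    0x99a998877677,
    0xa9bb89785576]
  cartP := [
    0x8b97a5b69758,
    0x97897a697897]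
  reflP := [
    0x16000d00110012000900140002000f00040007000b0000,
    0x1500160012000f0010000b000d00060009000400000003]

theorem basicG2 : chkBasic chevG2 tabG2 = true := by decide +kernel
theorem chainG2 : chkChain chevG2 tabG2 = true := by decide +kernel
theorem reflG2 : chkRefl chevG2 tabG2 = true := by decide +kernel
theorem equivG2 : chkEquiv chevG2 tabG2 = true := by decide +kernel
theorem ncolsG2 : chkN chevG2 tabG2 = true := by decide +kernel
theorem commG2 : chkComm chevG2 tabG2 = true := by decide +kernel

theorem goodG2 : Good chevG2 tabG2 := ⟨basicG2, chainG2, reflG2, equivG2, ncolsG2, commG2⟩

end Cfsg.Agent.Lib.Chev
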