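import Cfsg.Agent.Lib.Chev.PoinPoly
import Cfsg.Agent.Lib.Chev.DataG2

/-! Coset representatives along the chain of parabolic subgroups of the Weyl group of type G2. -/

set_option autoImplicit false
set_option maxRecDepth 100000

namespace Cfsg.Agent.Lib.Chev

open Cfsg.Lie

def cosG2_0 : List Coset := [
  ⟨[7,6],0,0,0,0,[1]⟩,
  ⟨[4,10],0,0,7,1,[0]⟩]

def cosG2_1 : List Coset := [
  ⟨[7,6],0,0,0,0,[6,1]⟩,
  ⟨[8,5],0,1,6,1,[2,0]⟩,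
  ⟨[9,1],1,0,8,2,[1,3]⟩,
  ⟨[9,0],2,1,11,3,[4,2]⟩,
  ⟨[8,0],3,0,9,4,[3,5]⟩,
  ⟨[7,1],4,1,10,5,[6,4]⟩]

theorem poinG2 : chkPoin chevG2 tabG2 [cosG2_0, cosG2_1] [2, 6] = true := by
  decide +kernel

end Cfsg.Agent.Lib.Chev
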