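import Cfsg.Agent.Lib.Chev.Coxeter
import Cfsg.Agent.Lib.Chev.PoinG2
import Cfsg.Agent.Lib.Chev.PoinB2
import Cfsg.Agent.Lib.Chev.PoinD4
import Cfsg.Agent.Lib.Chev.PoinF4
import Cfsg.Agent.Lib.Chev.PoinE6
import Cfsg.Agent.Lib.Chev.PoinE7
import Cfsg.Agent.Lib.Chev.PoinE8

/-!
The Coxeter matrices of the tabulated data and the orders of their Weyl groups.
-/

set_option autoImplicit false
set_option maxRecDepth 100000

namespace Cfsg.Agent.Lib.Chev

open Cfsg.Lie

theorem coxG2 : chkCox chevG2 tabG2 CoxeterMatrix.G₂ = true := by decide +kernel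
theorem coxB2 : chkCox chevB2 tabB2 (CoxeterMatrix.B 2) = true := by decide +kernel
theorem coxD4 : chkCox chevD4 tabD4 coxeterD4 = true := by decide +kernel
theorem coxF4 : chkCox chevF4 tabF4 CoxeterMatrix.F₄ = true := by decide +kernel
theorem coxE6 : chkCox chevE6 tabE6 CoxeterMatrix.E₆ = true := by decide +kernel
theorem coxE7 : chkCox chevE7 tabE7 CoxeterMatrix.E₇ = true := by decide +kernel
theorem coxE8 : chkCox chevE8 tabE8 CoxeterMatrix.E₈ = true := by decide +kernel

variable {D : ChevalleyDatum} {T : Tables}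

theorem Good.pW_one (G : Good D T) {Cs : List (List Coset)} {degs : List ℕ}
    (h : chkPoin D T Cs degs = true) :
    pW D T D.rank 1 = ((List.range D.rank).map fun k => (Cs.getD k []).length).prod := by
  simp only [chkPoin, Bool.and_eq_true] at h
  obtain ⟨⟨hS, hsteps⟩, -⟩ := h
  have key : ∀ k, k ≤ D.rank →
      pW D T k 1 = ((List.range k).map fun k => (Cs.getD k []).length).prod := by
    intro k
    induction k with
    | zero => intro _; rw [G.pW_zero]; simp
    | succ k ih =>
      intro hk
      rw [G.pW_succ hS (allLt_eq_true hsteps k hk) 1, ih (by omega), List.range_succ,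
        List.map_append, List.prod_append]
      simp [mul_comm]
  exact key _ le_rfl

end Cfsg.Agent.Lib.Chev
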