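import Cfsg.Agent.Lib.Chev.LieData
import Cfsg.Agent.Lib.Chev.TorusCard
import Cfsg.Agent.Lib.BNPair.DefectZero
import Cfsg.Agent.Lib.BNPair.DefectZeroModel

/-!
The characters of defect zero of a Chevalley group in its own characteristic.
-/

set_option autoImplicit false
set_option linter.unusedSectionVars false

namespace Cfsg.Agent.Lib.Chev

open Cfsg.Lie
open Cfsg.Agent.Lib
open Cfsg.Agent.Lib.BNPair (LieData)
open scoped Classical

variable {D : ChevalleyDatum} {T : Tables} {F : Type*} [Field F] [Fintype F]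

namespace Good

variable (G : Good D T)
include G

/-- The root element of a simple root, inside the group. -/
def xs (i : Fin D.rank) (t : F) : ↥(D.group F) :=
  ⟨G.X F (sim D i.val) t, G.borel_le_group
    (Subgroup.mem_sup_left (G.X_mem_posUnipotent (G.sim_lt i.isLt) (G.sim_pos i.isLt) t))⟩

theorem xs_mem (i : Fin D.rank) (t : F) :
    G.xs i t ∈ (D.posUnipotent F).subgroupOf (D.group F) :=
  G.X_mem_posUnipotent (G.sim_lt i.isLt) (G.sim_pos i.isLt) t

theorem xs_add (i : Fin D.rank) (t u : F) : G.xs i t * G.xs i u = G.xs i (t + u) :=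
  Subtype.ext (G.X_add _ t u)

theorem diag_comm {a b : GL D.Idx F} (ha : a ∈ D.diagonalSubgroup F)
    (hb : b ∈ D.diagonalSubgroup F) : a * b = b * a := by
  rw [← G.torHom_range] at ha hb
  obtain ⟨c, rfl⟩ := ha
  obtain ⟨d, rfl⟩ := hb
  rw [← map_mul, ← map_mul, mul_comm]

/-- In a module of defect zero, the line of fixed vectors of the maximal unipotent subgroup has
trivial torus action and is not fixed by any fundamental `n`. -/
theorem defectZero_line (hP : chkPar D T = true) (p : ℕ) [Fact p.Prime] [CharP F p]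
    [Fintype ↥(D.group F)] {k : Type*} [Field k] [CharP k p] {V : Type*} [AddCommGroup V]
    [Module k V] [FiniteDimensional k V] [Nontrivial V] (ρ : ↥(D.group F) →* Module.End k V)
    {c : k} (hc : c ≠ 0)
    (hschur : ∀ (f : Module.Dual k V) (x v : V),
      ∑ g, f (ρ g⁻¹ x) • ρ g v = (c * f v) • x) :
    ∃ v : V, v ≠ 0 ∧ (∀ u ∈ (D.posUnipotent F).subgroupOf (D.group F), ρ u v = v) ∧
      (∀ x : V, (∀ u ∈ (D.posUnipotent F).subgroupOf (D.group F), ρ u x = x) →
        ∃ a : k, x = a • v) ∧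
      (∀ h : ↥(D.group F), (h : GL D.Idx F) ∈ D.diagonalSubgroup F → ρ h v = v) ∧
      (∀ i : Fin D.rank, ρ ((G.sEquiv F i : (G.bnPair F).S) : ↥(D.group F)) v ≠ v) ∧
      ∃ z : V, BNPair.DefectZero.sumOp ρ ((D.posUnipotent F).subgroupOf (D.group F)) z ≠ 0 := by
  have L := G.lieData (F := F) hP p
  set U := (D.posUnipotent F).subgroupOf (D.group F) with hU
  obtain ⟨w₀, h₀, -⟩ := L.top
  set n : (G.bnPair F).N := Quotient.out w₀ with hn
  have hn0 : (QuotientGroup.mk n : G.W0 F) = w₀ := Quotient.out_eq w₀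
  have hab : ∀ a ∈ (G.bnPair F).B ⊓ (G.bnPair F).N, ∀ b ∈ (G.bnPair F).B ⊓ (G.bnPair F).N,
      a * b = b * a := by
    intro a ha b hb
    rw [G.torus_eq] at ha hb
    exact Subtype.ext (G.diag_comm ha hb)
  obtain ⟨v, hv0, hvW, hline, hTv⟩ := BNPair.DefectZero.rankOne ρ L Fintype.one_lt_card hab hc
    hschur n (hn0.symm ▸ h₀)
  -- the torus acts on the line by a character
  have hth : ∀ h : ↥(D.group F), ∃ a : k,
      (h : GL D.Idx F) ∈ D.diagonalSubgroup F → ρ h v = a • v := by
    intro h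
    by_cases hh : (h : GL D.Idx F) ∈ D.diagonalSubgroup F
    · obtain ⟨a, ha⟩ := hline _ (BNPair.DefectZero.rho_B_mem_fixed ρ L
        (show h ∈ (G.bnPair F).B from Subgroup.mem_sup_right hh) hvW)
      exact ⟨a, fun _ => ha⟩
    · exact ⟨0, fun h' => absurd h' hh⟩
  choose θ hθ using hth
  have hθmul : ∀ a b : ↥(D.group F), (a : GL D.Idx F) ∈ D.diagonalSubgroup F →
      (b : GL D.Idx F) ∈ D.diagonalSubgroup F → θ (a * b) = θ a * θ b := by
    intro a b ha hb
    apply smul_left_injective k hv0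
    show θ (a * b) • v = (θ a * θ b) • v
    rw [← hθ _ (mul_mem ha hb), BNPair.DefectZero.rho_mul, hθ b hb, map_smul, hθ a ha, smul_smul,
      mul_comm]
  have hθ1 : θ 1 = 1 := by
    apply smul_left_injective k hv0
    show θ 1 • v = (1 : k) • v
    rw [← hθ 1 (one_mem (D.diagonalSubgroup F)), BNPair.DefectZero.rho_one, one_smul]
  have hθne : ∀ a : ↥(D.group F), (a : GL D.Idx F) ∈ D.diagonalSubgroup F → θ a ≠ 0 := by
    intro a ha h
    have := hθmul a⁻¹ a (inv_mem ha) ha
    rw [inv_mul_cancel, hθ1, h, mul_zero] at this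
    exact one_ne_zero this
  -- the simple reflections
  have key : ∀ i : Fin D.rank,
      ρ ((G.sEquiv F i : (G.bnPair F).S) : ↥(D.group F)) v ≠ v ∧
      (∀ u : F, u ≠ 0 → θ ⟨G.Hg F (sim D i.val) u, G.Hg_mem_group (G.sim_lt i.isLt) u⟩ = 1) ∧
      ∀ h : ↥(D.group F), (h : GL D.Idx F) ∈ D.diagonalSubgroup F →
        θ (((G.sEquiv F i : (G.bnPair F).S) : ↥(D.group F))⁻¹ * h *
          ((G.sEquiv F i : (G.bnPair F).S) : ↥(D.group F))) = θ h := by
    intro i
    have hp := G.sim_lt i.isLt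
    set ν : ↥(D.group F) := ((G.sEquiv F i : (G.bnPair F).S) : ↥(D.group F)) with hν
    have hν2 : ((ν * ν : ↥(D.group F)) : GL D.Idx F) ∈ D.diagonalSubgroup F := G.ni_sq i.isLt
    have hνn : (ν : GL D.Idx F) ∈ Subgroup.normalizer (D.diagonalSubgroup F : Set (GL D.Idx F)) :=
      G.ni_normalizer i.isLt
    have hνd : ∀ h : ↥(D.group F), (h : GL D.Idx F) ∈ D.diagonalSubgroup F →
        ((ν⁻¹ * h * ν : ↥(D.group F)) : GL D.Idx F) ∈ D.diagonalSubgroup F := by
      intro h hh
      have := (Subgroup.mem_normalizer_iff.1 (inv_mem hνn) _).1 hh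
      rw [inv_inv] at this
      exact this
    -- the sum over the cell
    set z : V := ∑ t : F, ρ (G.xs i t * ν) v with hz
    have hzW : ∀ u ∈ U, ρ u z = z := by
      intro u hu
      have hb : ∀ t : F, ∃ t' : F, ∃ a : ↥(D.group F), ν⁻¹ * a * ν ∈ U ∧
          u * G.xs i t = G.xs i t' * a := by
        intro t
        have hmem : u * G.xs i t ∈ U := mul_mem hu (G.xs_mem i t)
        obtain ⟨a, ha, t', hat⟩ := G.exists_keep_X i.isLt
          (inv_mem (hmem : ((u * G.xs i t : ↥(D.group F)) : GL D.Idx F) ∈ D.posUnipotent F))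
        have hapos : a⁻¹ ∈ D.posUnipotent F := inv_mem (G.USub_le_pos _ ha)
        refine ⟨-t', ⟨a⁻¹, G.borel_le_group (Subgroup.mem_sup_left hapos)⟩, ?_, Subtype.ext ?_⟩
        · show (G.ni F i.val)⁻¹ * a⁻¹ * G.ni F i.val ∈ D.posUnipotent F
          have h1 := G.USub_le_pos _ (G.ni_conj_up i.isLt (inv_mem ha))
          have hd : (G.ni F i.val * G.ni F i.val)⁻¹ ∈
              Subgroup.normalizer (D.posUnipotent F : Set (GL D.Idx F)) :=
            G.diag_normalizes_pos (inv_mem (G.ni_sq i.isLt))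
          have := (Subgroup.mem_normalizer_iff.1 hd _).1 h1
          simpa [mul_assoc] using this
        · show (u : GL D.Idx F) * G.X F (sim D i.val) t = G.X F (sim D i.val) (-t') * a⁻¹
          rw [← G.X_inv, ← mul_inv_rev, ← hat, inv_inv]; rfl
      choose σt at' hat hueq using hb
      have hσ : Function.Injective σt := by
        intro t t' he
        by_contra hne
        apply G.ni_inv_conj_not_borel i.isLt (sub_ne_zero.2 (Ne.symm hne) : t' - t ≠ 0)
        have h1 : (at' t)⁻¹ * at' t' = G.xs i (-t + t') := by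
          have e1 := hueq t
          have e2 := hueq t'
          rw [← he] at e2
          have e3 : at' t = (G.xs i (σt t))⁻¹ * (u * G.xs i t) := by rw [e1]; group
          have e4 : at' t' = (G.xs i (σt t))⁻¹ * (u * G.xs i t') := by rw [e2]; group
          have e5 : (G.xs i t)⁻¹ = G.xs i (-t) := Subtype.ext (G.X_inv _ t)
          rw [e3, e4, ← G.xs_add, ← e5]; group
        have h2 : ν⁻¹ * ((at' t)⁻¹ * at' t') * ν ∈ U := by
          have := mul_mem (inv_mem (hat t)) (hat t')
          convert this using 1; group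
        rw [h1, neg_add_eq_sub] at h2
        exact Subgroup.mem_sup_left h2
      rw [hz, map_sum]
      refine Fintype.sum_equiv (Equiv.ofBijective σt (Finite.injective_iff_bijective.1 hσ)) _ _
        fun t => ?_
      show ρ u (ρ (G.xs i t * ν) v) = ρ (G.xs i (σt t) * ν) v
      rw [← BNPair.DefectZero.rho_mul, ← mul_assoc, hueq]
      have e : G.xs i (σt t) * at' t * ν = G.xs i (σt t) * ν * (ν⁻¹ * at' t * ν) := by group
      rw [e, BNPair.DefectZero.rho_mul, hvW _ (hat t)]
    obtain ⟨lam, hlam⟩ := hline z hzW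
    -- `lam` is not zero
    have hlam0 : lam ≠ 0 := by
      intro h0
      rw [h0, zero_smul] at hlam
      apply hTv
      obtain ⟨l, hl⟩ := G.exists_rep
        (show ((BNPair.wrep (G.bnPair F) w₀ : ↥(D.group F)) : GL D.Idx F) ∈ D.monomialSubgroup F
          from BNPair.wrep_mem (G.bnPair F) w₀)
      have hneg := G.desc_neg hl (i := i) (h₀ (G.sEquiv F i))
      set n' : ↥(D.group F) := (n : ↥(D.group F)) * ν⁻¹ with hn'
      have hconj : ∀ t : F, n' * G.xs i t * n'⁻¹ ∈ U := by
        intro t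
        obtain ⟨s, hs⟩ := G.act_inv_X (F := F) (G.rep_ni i.isLt) hp t
        have hwl : wl T [i.val].reverse (sim D i.val) = ng D (sim D i.val) := by
          simp [wl, G.w_sim i.isLt]
        rw [hwl] at hs
        obtain ⟨-, c', -, hc'⟩ := G.rep_act hl _ (G.ng_lt hp)
        show (n' : GL D.Idx F) * G.X F (sim D i.val) t * (n' : GL D.Idx F)⁻¹ ∈ D.posUnipotent F
        have e : (n' : GL D.Idx F) * G.X F (sim D i.val) t * (n' : GL D.Idx F)⁻¹ =
            ((BNPair.wrep (G.bnPair F) w₀ : ↥(D.group F)) : GL D.Idx F) *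
              ((G.ni F i.val)⁻¹ * G.X F (sim D i.val) t * G.ni F i.val) *
              ((BNPair.wrep (G.bnPair F) w₀ : ↥(D.group F)) : GL D.Idx F)⁻¹ := by
          show ((BNPair.wrep (G.bnPair F) w₀ : ↥(D.group F)) : GL D.Idx F) * (G.ni F i.val)⁻¹ * _ *
            (((BNPair.wrep (G.bnPair F) w₀ : ↥(D.group F)) : GL D.Idx F) * (G.ni F i.val)⁻¹)⁻¹ = _
          group
        rw [e, hs, hc']
        refine G.X_mem_posUnipotent (G.wl_lt hl.1 (G.ng_lt hp)) ?_ _
        rw [G.wl_ng hl.1 hp]
        exact (G.ng_pos_iff (G.wl_lt hl.1 hp)).2 hneg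
      let φ : Multiplicative F →* ↥(D.group F) :=
        (MulAut.conj n').toMonoidHom.comp
          { toFun := fun t : Multiplicative F => G.xs (F := F) i (Multiplicative.toAdd t)
            map_one' := Subtype.ext (G.X_zero _)
            map_mul' := fun a b => (G.xs_add i (Multiplicative.toAdd a) (Multiplicative.toAdd b)).symm }
      have hφinj : Function.Injective φ := fun a b h => by
        have h1 := congrArg Subtype.val ((MulAut.conj n').injective h)
        exact Multiplicative.toAdd.injective (G.X_injective (F := F) hp h1)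
      refine BNPair.DefectZero.sumOp_eq_zero_of_le ρ (K := φ.range)
        (by rintro _ ⟨t, rfl⟩; exact hconj _) ?_
      rw [BNPair.DefectZero.sumOp_apply]
      have hsum : ∑ y : φ.range, ρ (y : ↥(D.group F)) (ρ (n : ↥(D.group F)) v) =
          ∑ t : F, ρ n' (ρ (G.xs i t * ν) v) := by
        refine (Fintype.sum_equiv (Multiplicative.ofAdd.trans
          (MonoidHom.ofInjective hφinj).toEquiv) _ _ fun t => ?_).symm
        show ρ n' (ρ (G.xs i t * ν) v) = ρ (n' * G.xs i t * n'⁻¹) (ρ (n : ↥(D.group F)) v)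
        rw [← BNPair.DefectZero.rho_mul, ← BNPair.DefectZero.rho_mul, hn']
        group
      refine ((Finset.sum_congr (by ext; simp) fun _ _ => rfl).trans hsum).trans ?_
      rw [← map_sum, ← hz, hlam, map_zero]
    -- the torus invariance
    have hinv : ∀ h : ↥(D.group F), (h : GL D.Idx F) ∈ D.diagonalSubgroup F →
        θ (ν⁻¹ * h * ν) = θ h := by
      intro h hh
      have hsig : ∀ t : F, ∃ t' : F, h * G.xs i t * h⁻¹ = G.xs i t' := by
        intro t
        obtain ⟨c', hc', he⟩ := G.exists_tor hh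
        exact ⟨_, Subtype.ext (G.diag_conj_X he (G.isChar_tor fun j _ => hc' j) hp t)⟩
      choose σt hσt using hsig
      have hσ : Function.Injective σt := by
        intro t t' he
        have h1 := hσt t
        rw [he, ← hσt t'] at h1
        exact G.X_injective hp (congrArg Subtype.val (mul_left_cancel (mul_right_cancel h1)))
      have h1 : ρ h z = θ (ν⁻¹ * h * ν) • z := by
        rw [hz, map_sum, Finset.smul_sum]
        refine Fintype.sum_equiv (Equiv.ofBijective σt (Finite.injective_iff_bijective.1 hσ)) _ _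
          fun t => ?_
        show ρ h (ρ (G.xs i t * ν) v) = θ (ν⁻¹ * h * ν) • ρ (G.xs i (σt t) * ν) v
        rw [← map_smul (ρ (G.xs i (σt t) * ν)), ← hθ _ (hνd h hh), ← hσt,
          ← BNPair.DefectZero.rho_mul, ← BNPair.DefectZero.rho_mul]
        group
      rw [hlam, map_smul, hθ h hh, smul_smul, smul_smul] at h1
      exact (mul_left_cancel₀ hlam0 ((smul_left_injective k hv0 h1).trans (mul_comm _ _))).symm
    -- the vanishing of the square at the origin
    have hq0 : (Fintype.card F : k) = 0 := by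
      obtain ⟨f, -, hf⟩ := FiniteField.card F p
      rw [hf, Nat.cast_pow, CharP.cast_eq_zero, zero_pow (PNat.ne_zero f)]
    refine ⟨fun hfix => hlam0 ?_, ?_, hinv⟩
    · apply smul_left_injective k hv0
      show lam • v = (0 : k) • v
      rw [← hlam, hz, zero_smul]
      simp only [BNPair.DefectZero.rho_mul, hfix, hvW _ (G.xs_mem i _)]
      rw [Finset.sum_const, Finset.card_univ, ← Nat.cast_smul_eq_nsmul k, hq0, zero_smul]
    let H : F → ↥(D.group F) := fun u => ⟨G.Hg F (sim D i.val) u, G.Hg_mem_group hp u⟩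
    have hHd : ∀ u : F, u ≠ 0 → ((H u : ↥(D.group F)) : GL D.Idx F) ∈ D.diagonalSubgroup F :=
      fun u hu => G.Hg_mem hp hu
    -- the rank one relation
    have hterm : ∀ s t : F, t ≠ 0 → ρ (G.xs i s * ν) (ρ (G.xs i t * ν) v) =
        (θ (ν * ν) * θ (H t⁻¹)) • ρ (G.xs i (s - t⁻¹) * ν) v := by
      intro s t ht
      have e1 : ν * G.xs i t * ν =
          G.xs i (-t⁻¹) * H t⁻¹ * ν * G.xs i (-t⁻¹) * (ν * ν) := by
        apply Subtype.ext
        show G.ni F i.val * G.X F (sim D i.val) t * G.ni F i.val =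
          G.X F (sim D i.val) (-t⁻¹) * G.Hg F (sim D i.val) t⁻¹ * G.ni F i.val *
            G.X F (sim D i.val) (-t⁻¹) * (G.ni F i.val * G.ni F i.val)
        rw [mul_assoc (G.X F (sim D i.val) (-t⁻¹)) (G.Hg F (sim D i.val) t⁻¹),
          ← G.Ng_sim_eq i.isLt, Good.Ng, inv_inv]
        have h2 := G.ni_conj_X (F := F) i.isLt hp t
        rw [G.w_sim i.isLt, G.eta_sim i.isLt, Int.cast_neg, Int.cast_one, neg_one_mul,
          mul_inv_eq_iff_eq_mul] at h2
        rw [h2, ← G.X_inv (sim D i.val) t⁻¹]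
        group
      rw [← BNPair.DefectZero.rho_mul,
        show G.xs i s * ν * (G.xs i t * ν) = G.xs i s * (ν * G.xs i t * ν) by group, e1]
      have e2 : G.xs i s * (G.xs i (-t⁻¹) * H t⁻¹ * ν * G.xs i (-t⁻¹) * (ν * ν)) =
          (G.xs i (s - t⁻¹) * ν) * ((ν⁻¹ * H t⁻¹ * ν) * (G.xs i (-t⁻¹) * (ν * ν))) := by
        rw [sub_eq_add_neg, ← G.xs_add]; group
      have e3 : ρ (G.xs i (-t⁻¹) * (ν * ν)) v = θ (ν * ν) • v := by
        rw [BNPair.DefectZero.rho_mul, hθ _ hν2, map_smul, hvW _ (G.xs_mem i _)]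
      have e4 : ρ (ν⁻¹ * H t⁻¹ * ν) v = θ (H t⁻¹) • v := by
        rw [hθ _ (hνd _ (hHd _ (inv_ne_zero ht))), hinv _ (hHd _ (inv_ne_zero ht))]
      rw [e2, BNPair.DefectZero.rho_mul ρ (G.xs i (s - t⁻¹) * ν),
        BNPair.DefectZero.rho_mul ρ (ν⁻¹ * H t⁻¹ * ν), e3, map_smul, e4, smul_smul, map_smul]
    set Sθ : k := ∑ t ∈ Finset.univ.erase (0 : F), θ (ν * ν) * θ (H t⁻¹) with hS
    have hsq : lam = Sθ := by
      apply mul_left_cancel₀ hlam0
      apply smul_left_injective k hv0
      show (lam * lam) • v = (lam * Sθ) • v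
      calc (lam * lam) • v = ∑ t : F, ∑ s : F, ρ (G.xs i s * ν) (ρ (G.xs i t * ν) v) := by
            rw [Finset.sum_comm]
            simp only [← map_sum, ← hz, hlam, map_smul, ← Finset.smul_sum, ← smul_smul]
        _ = ∑ t ∈ Finset.univ.erase (0 : F), ∑ s : F,
              ρ (G.xs i s * ν) (ρ (G.xs i t * ν) v) := by
            refine (Finset.sum_erase _ ?_).symm
            have e : ∀ s : F, ρ (G.xs i s * ν) (ρ (G.xs i 0 * ν) v) = θ (ν * ν) • v := by
              intro s
              rw [show G.xs i 0 = (1 : ↥(D.group F)) from Subtype.ext (G.X_zero _), one_mul,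
                ← BNPair.DefectZero.rho_mul, mul_assoc, BNPair.DefectZero.rho_mul, hθ _ hν2,
                map_smul, hvW _ (G.xs_mem i s)]
            rw [Finset.sum_congr rfl fun s _ => e s, Finset.sum_const, Finset.card_univ,
              ← Nat.cast_smul_eq_nsmul k, hq0, zero_smul]
        _ = ∑ t ∈ Finset.univ.erase (0 : F), (θ (ν * ν) * θ (H t⁻¹)) • z := by
            refine Finset.sum_congr rfl fun t ht => ?_
            rw [hz, Finset.smul_sum]
            exact Fintype.sum_equiv (Equiv.subRight t⁻¹) _ _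
              fun s => hterm s t (Finset.ne_of_mem_erase ht)
        _ = (lam * Sθ) • v := by
            rw [← Finset.sum_smul, ← hS, hlam, smul_smul, mul_comm]
    intro u hu
    by_contra hne
    apply hlam0
    rw [hsq, hS, ← Finset.mul_sum]
    refine mul_eq_zero.2 (Or.inr ?_)
    have hmul : ∀ a b : F, a ≠ 0 → b ≠ 0 → θ (H (a * b)) = θ (H a) * θ (H b) := by
      intro a b ha hb
      rw [← hθmul _ _ (hHd a ha) (hHd b hb)]
      exact congrArg θ (Subtype.ext (G.Hg_mul hp ha hb).symm)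
    have hsum : θ (H u) * ∑ t ∈ Finset.univ.erase (0 : F), θ (H t⁻¹) =
        ∑ t ∈ Finset.univ.erase (0 : F), θ (H t⁻¹) := by
      rw [Finset.mul_sum]
      refine Finset.sum_nbij' (fun t => u⁻¹ * t) (fun t => u * t) ?_ ?_ ?_ ?_ ?_
      · intro t ht; simp [hu, Finset.ne_of_mem_erase ht]
      · intro t ht; simp [hu, Finset.ne_of_mem_erase ht]
      · intro t _; field_simp
      · intro t _; field_simp
      · intro t ht
        rw [← hmul u t⁻¹ hu (inv_ne_zero (Finset.ne_of_mem_erase ht)), mul_inv, inv_inv]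
    by_contra hne0
    exact hne ((mul_eq_right₀ hne0).1 hsum)
  refine ⟨v, hv0, hvW, fun x hx => hline x hx, fun h hh => ?_, fun i => (key i).1, ⟨_, hTv⟩⟩
  have hθconj : ∀ (i : Fin D.rank) (a : ↥(D.group F)), (a : GL D.Idx F) ∈ D.diagonalSubgroup F →
      θ (((G.sEquiv F i : (G.bnPair F).S) : ↥(D.group F)) * a *
        (((G.sEquiv F i : (G.bnPair F).S) : ↥(D.group F)))⁻¹) = θ a := by
    intro i a ha
    set ν : ↥(D.group F) := ((G.sEquiv F i : (G.bnPair F).S) : ↥(D.group F))
    have := (key i).2.2 (ν * a * ν⁻¹)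
      ((Subgroup.mem_normalizer_iff.1 (G.ni_normalizer i.isLt) _).1 ha)
    rw [show ν⁻¹ * (ν * a * ν⁻¹) * ν = a by group] at this
    exact this.symm
  have hroot : ∀ r, r < D.nroots → ∀ t : F, t ≠ 0 →
      ∀ hm : G.Hg F r t ∈ D.group F, ρ ⟨G.Hg F r t, hm⟩ v = v := by
    refine G.root_induction (fun j hj t ht hm => ?_) (fun j r hj hr ih t ht hm => ?_)
    · rw [hθ _ (G.Hg_mem (G.sim_lt hj) ht)]
      exact (congrArg (· • v) ((key ⟨j, hj⟩).2.1 t ht)).trans (one_smul k v)
    · set ν : ↥(D.group F) := ((G.sEquiv F ⟨j, hj⟩ : (G.bnPair F).S) : ↥(D.group F)) with hν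
      set a : ↥(D.group F) := ⟨G.Hg F r t, G.Hg_mem_group hr t⟩ with ha
      have e : (⟨G.Hg F (T.w j r) t, hm⟩ : ↥(D.group F)) = ν * a * ν⁻¹ :=
        Subtype.ext (G.ni_conj_Hg hj hr ht).symm
      -- move the torus element across the reflection
      obtain ⟨hfix, -⟩ := key ⟨j, hj⟩
      rw [e]
      have hinv : θ (ν * a * ν⁻¹) = θ a := hθconj ⟨j, hj⟩ a (G.Hg_mem hr ht)
      have had : ((ν * a * ν⁻¹ : ↥(D.group F)) : GL D.Idx F) ∈ D.diagonalSubgroup F := by
        rw [← e]; exact G.Hg_mem (G.w_lt hj hr) ht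
      rw [hθ _ had, hinv, ← hθ a (G.Hg_mem hr ht)]
      exact ih t ht _
  suffices hall : ∀ g ∈ D.diagonalSubgroup F, ∀ hm : g ∈ D.group F, ρ ⟨g, hm⟩ v = v from
    hall _ hh h.2
  intro g hg
  induction hg using Subgroup.closure_induction with
  | mem x hx =>
    obtain ⟨r, t, hr, ht, hx⟩ := hx
    obtain rfl : x = G.Hg F r t := Units.ext (hx.trans (G.Hg_val hr t).symm)
    exact hroot r hr t ht
  | one => exact fun hm => BNPair.DefectZero.rho_one ρ v
  | mul a b ha hb iha ihb =>
    intro hm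
    have ha' : a ∈ D.group F := G.borel_le_group (Subgroup.mem_sup_right ha)
    have hb' : b ∈ D.group F := G.borel_le_group (Subgroup.mem_sup_right hb)
    rw [show (⟨a * b, hm⟩ : ↥(D.group F)) = ⟨a, ha'⟩ * ⟨b, hb'⟩ from rfl,
      BNPair.DefectZero.rho_mul, ihb hb', iha ha']
  | inv a ha iha =>
    intro hm
    have ha' : a ∈ D.group F := G.borel_le_group (Subgroup.mem_sup_right ha)
    conv_lhs => rw [← iha ha']
    rw [← BNPair.DefectZero.rho_mul,
      show (⟨a⁻¹, hm⟩ : ↥(D.group F)) * ⟨a, ha'⟩ = 1 from Subtype.ext (inv_mul_cancel a),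
      BNPair.DefectZero.rho_one]

end Good

end Cfsg.Agent.Lib.Chev
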