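import Cfsg.Agent.Lib.Chev.RadicalCent

/-!
Iterated cores of two adjacent conjugates of the maximal parabolic of `E₈(2)` at the branch node.
-/

set_option autoImplicit false
set_option maxRecDepth 100000
set_option linter.unusedSectionVars false

namespace Cfsg.Agent.Lib.Chev.EightCores

open Cfsg.Lie
open Cfsg.Agent.Lib.Chev
open scoped Matrix

abbrev K2 : Type := ZMod 2

/-- The level of a root: its coefficient at the branch node. -/
def lev (q : ℕ) : ℤ := tabE8.k 3 q

/-- Words whose images cover the unipotent radical. -/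
def cover : List (List ℕ) := [[], [4, 2, 1], [4, 5, 2, 0], [4, 5, 6, 1], [4, 5, 6, 7, 2], [2, 1, 0], [4], [1], [2], [2, 0], [2, 1], [4, 1], [4, 2], [4, 5], [4, 2, 0], [4, 5, 1], [4, 5, 2], [4, 5, 6], [4, 2, 1, 0], [4, 5, 2, 1], [4, 5, 6, 2], [4, 5, 6, 7], [4, 5, 2, 1, 0], [4, 5, 6, 2, 0], [4, 5, 6, 2, 1], [4, 5, 6, 7, 1], [4, 5, 6, 2, 1, 0], [4, 5, 6, 7, 2, 0], [4, 5, 6, 7, 2, 1], [4, 5, 6, 7, 2, 1, 0]]

/-- The longest word of the Levi factor. -/
def long : List ℕ := [4, 5, 6, 7, 4, 5, 6, 4, 5, 4, 0, 2, 1, 0]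

def thr (m : ℤ) : ℤ := if m = 1 then 0 else m

def chkWords : Bool :=
  (long :: cover).all fun v => v.all fun j => decide (j < 8) && !(j == 3)

def chkDescend : Bool :=
  allLt 240 fun q => decide (q < 120) || decide (lev q < 1) ||
    cover.any fun v => decide (lev (tabE8.w 3 (wl tabE8 v q)) < thr (lev q))

def chkShift : Bool :=
  allLt 240 fun q => decide (q < 120) || decide (lev q < 2) ||
    (decide (120 ≤ tabE8.w 3 q) && decide (lev q ≤ lev (tabE8.w 3 q) + 1))

def chkLong : Bool :=
  allLt 240 fun q => decide (q < 120) || decide (1 ≤ lev q) || decide (wl tabE8 long q < 120)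

def chkSep : Bool :=
  allLt 8 fun i => allLt 240 fun q => q == sim chevE8 i || !(allLt 240 fun r =>
    decide (r < 120) || !(lev r == 1) || (isum 8 fun j => tabE8.c q j * tabE8.A j r) == tabE8.A i r)

def chkTop : Bool :=
  allLt 240 fun q => decide (lev q ≤ 6)

theorem words_ok : chkWords = true := by decide +kernel
theorem descend_ok : chkDescend = true := by decide +kernel
theorem shift_ok : chkShift = true := by decide +kernel
theorem long_ok : chkLong = true := by decide +kernel
theorem sep_ok : chkSep = true := by decide +kernel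
theorem top_ok : chkTop = true := by decide +kernel

end Cfsg.Agent.Lib.Chev.EightCores
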