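import Cfsg.Agent.Lib.Chev.E8CoresSets

/-!
The iterated cores of the branch parabolic of `E₈(2)` and its conjugate by the branch reflection.
-/

set_option autoImplicit false
set_option maxRecDepth 100000
set_option linter.unusedSectionVars false

namespace Cfsg.Agent.Lib.Chev.EightCores

open Cfsg.Lie
open Cfsg.Agent.Lib.Chev
open scoped Matrix

theorem n3_inv : n3⁻¹ = n3 := inv_eq_of_mul_eq_one_right n3_sq

theorem scalar_one {c : K2} (h : c ≠ 0) : c = 1 := by revert h; revert c; decide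

theorem PP_le_GG : PP ≤ GG := G8.parabolic_le_group parE8 J4

theorem allLt_intro8 : ∀ {n : ℕ} {f : ℕ → Bool}, (∀ i < n, f i = true) → allLt n f = true
  | 0, _, _ => rfl
  | n + 1, _, h => by
    rw [allLt, Bool.and_eq_true]
    exact ⟨h n (Nat.lt_succ_self n), allLt_intro8 fun i hi => h i (Nat.lt_succ_of_lt hi)⟩

theorem isW8 {v : List ℕ} (hv : ∀ j ∈ v, j < 8 ∧ j ≠ 3) : IsW chevE8 v := fun j hj => (hv j hj).1

theorem cover_words {v : List ℕ} (hv : v ∈ long :: cover) : ∀ j ∈ v, j < 8 ∧ j ≠ 3 := by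
  intro j hj
  have h := List.all_eq_true.1 (List.all_eq_true.1 words_ok v hv) j hj
  simp only [Bool.and_eq_true, decide_eq_true_eq, Bool.not_eq_true', beq_eq_false_iff_ne] at h
  exact h

theorem shift {q : ℕ} (hq : q < 240) (hp : 120 ≤ q) (h : 2 ≤ lev q) :
    120 ≤ tabE8.w 3 q ∧ lev q ≤ lev (tabE8.w 3 q) + 1 := by
  have h0 := allLt_eq_true shift_ok q hq
  simp only [Bool.or_eq_true, Bool.and_eq_true, decide_eq_true_eq] at h0
  rcases h0 with (h1 | h1) | h1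
  · omega
  · omega
  · exact h1

theorem n3_not_mem : n3 ∉ PP := by
  intro hn
  have hlt : sim chevE8 3 < 240 := G8.sim_lt three
  have hX : G8.X K2 (sim chevE8 3) 1 ∈ Z 1 := G8.X_mem_USub hlt (G8.sim_pos three)
    (show (1 : ℤ) ≤ tabE8.k 3 (sim chevE8 3) by rw [G8.k_sim three three, if_pos rfl]) _
  exact G8.ni_conj_not_borel three one_ne_zero
    (Subgroup.mem_sup_left (Z_le_pos 1 (Z_normal le_rfl hn hX)))

/-- A `PP`-invariant subgroup of level `m` which the branch reflection does not lower too far lies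
in level `m + 1`. -/
theorem descend {K : Subgroup (GL chevE8.Idx K2)}
    (hK : ∀ p ∈ PP, ∀ y ∈ K, p * y * p⁻¹ ∈ K) {m : ℤ} (hm : 1 ≤ m) (hKZ : K ≤ Z m)
    (hKS : ∀ y ∈ K, y ∈ G8.USub K2 {q | thr m ≤ lev (tabE8.w 3 q)}) : K ≤ Z (m + 1) := by
  intro y hy
  have hthr : 0 ≤ thr m := by unfold thr; split <;> omega
  have hcS : Closed chevE8 tabE8 {q | thr m ≤ lev (tabE8.w 3 q)} :=
    closed_lev (l := [3]) (isW_single three) hthr
  have hcL : Closed chevE8 tabE8 (Lset m) := closed_Lset (by omega)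
  obtain ⟨-, hmem⟩ := USub_inter_list hcL
    (fun v => {r | thr m ≤ lev (wl tabE8 (3 :: v) r)}) (hKZ hy) cover (fun v hv => by
      have hvw := cover_words (List.mem_cons_of_mem _ hv)
      have hl : IsW chevE8 v := isW8 hvw
      have hl3 : IsW chevE8 (3 :: v) := by
        intro j hj
        rcases List.mem_cons.1 hj with rfl | hj
        · exact three
        · exact hl j hj
      refine ⟨closed_lev hl3 hthr, ?_⟩
      have hrw : ∀ j ∈ v.reverse, j < 8 ∧ j ≠ 3 := fun j hj => hvw j (List.mem_reverse.1 hj)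
      set p := G8.nl K2 v.reverse with hp
      have hpP : p ∈ PP := nl_mem_PP hrw
      have hy' : p⁻¹ * y * p ∈ K := by
        have := hK _ (inv_mem hpP) y hy
        rwa [inv_inv] at this
      have hin := USub_inter hcL hcS (hKZ hy') (hKS _ hy')
      have hact := G8.rep_act (F := K2) (G8.rep_nl (l := v.reverse) (isW8 hrw))
      have hz : p * (p⁻¹ * y * p) * p⁻¹ ∈
          G8.USub K2 {r | thr m ≤ lev (wl tabE8 (3 :: v) r)} := by
        refine G8.act_conj_USub hact (fun q hq hpq hqS t => ?_) hin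
        have h1 : m ≤ lev q := hqS.1
        have hl' : lev (wl tabE8 v.reverse q) = lev q := lev_wl hrw hq
        have hlt : wl tabE8 v.reverse q < chevE8.nroots := G8.wl_lt (isW8 hrw) hq
        refine G8.X_mem_USub hlt (by rw [npos8]; exact pos_of_lev hlt (by omega)) ?_ t
        show thr m ≤ lev (tabE8.w 3 (wl tabE8 v (wl tabE8 v.reverse q)))
        rw [G8.wl_wl_reverse hl hq]
        exact hqS.2
      have e : p * (p⁻¹ * y * p) * p⁻¹ = y := by group
      rwa [e] at hz)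
  refine G8.USub_mono (fun q hq hpq hqS => ?_) hmem
  have h1 : m ≤ lev q := hqS.1
  show m + 1 ≤ lev q
  by_contra hn
  have he : lev q = m := by omega
  have hd := allLt_eq_true descend_ok q hq
  simp only [Bool.or_eq_true, decide_eq_true_eq, List.any_eq_true] at hd
  rw [npos8] at hpq
  rcases hd with (hd | hd) | ⟨v, hv, hd⟩
  · omega
  · omega
  · have h2 : thr m ≤ lev (tabE8.w 3 (wl tabE8 v q)) := hqS.2 v hv
    rw [he] at hd
    omega

theorem step {K : Subgroup (GL chevE8.Idx K2)} (hK : ∀ p ∈ PP, ∀ y ∈ K, p * y * p⁻¹ ∈ K)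
    {m : ℤ} (hm : 2 ≤ m) (hKZ : K ≤ Z m) (hn : ∀ y ∈ K, n3 * y * n3⁻¹ ∈ Z m) :
    K ≤ Z (m + 1) := by
  refine descend hK (by omega) hKZ fun y hy => ?_
  have hact := G8.rep_act (F := K2) (G8.rep_ni three)
  have hz : n3 * (n3 * y * n3⁻¹) * n3⁻¹ ∈
      G8.USub K2 {q | thr m ≤ lev (tabE8.w 3 q)} := by
    refine G8.act_conj_USub hact (fun q hq hpq hqS t => ?_) (hn y hy)
    have h1 : m ≤ lev q := hqS
    rw [npos8] at hpq
    obtain ⟨h2, h3⟩ := shift hq hpq (by omega)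
    refine G8.X_mem_USub (G8.wl_lt (isW_single three) hq) (by rw [npos8]; exact h2) ?_ t
    show thr m ≤ lev (tabE8.w 3 (wl tabE8 [3] q))
    have e : tabE8.w 3 (wl tabE8 [3] q) = q := G8.w_w three hq
    rw [e]
    unfold thr
    rw [if_neg (by omega)]
    exact h1
  have e : n3 * (n3 * y * n3⁻¹) * n3⁻¹ = y := by
    calc n3 * (n3 * y * n3⁻¹) * n3⁻¹ = (n3 * n3) * y * (n3 * n3)⁻¹ := by group
      _ = y := by rw [n3_sq, one_mul, inv_one, mul_one]
  rwa [e] at hz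

theorem flip_three {q : ℕ} (hq : q < 240) (hp : 120 ≤ q) (h : tabE8.w 3 q < 120) :
    q = sim chevE8 3 := by
  by_contra hne
  have hne2 : q ≠ ng chevE8 (sim chevE8 3) := by
    have h1 : 120 ≤ sim chevE8 3 := G8.sim_pos three
    have h2 : sim chevE8 3 < 240 := G8.sim_lt three
    simp only [ng, nroots8]
    omega
  have := (G8.pos_w three hq hne hne2).1 (by rw [npos8]; exact hp)
  rw [npos8] at this
  omega

theorem step_one {K : Subgroup (GL chevE8.Idx K2)} (hK : ∀ p ∈ PP, ∀ y ∈ K, p * y * p⁻¹ ∈ K)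
    (hKZ : K ≤ Z 1) (hn : ∀ y ∈ K, n3 * y * n3⁻¹ ∈ PP) : K ≤ Z 2 := by
  have h2 : K ≤ Z (1 + 1) := descend hK le_rfl hKZ fun y hy => by
    obtain ⟨a, ha, b, hb, rfl⟩ := G8.exists_split_pos [3] (Z_le_pos 1 (hKZ hy))
    have hflip : G8.USub K2 (flipSet chevE8 tabE8 [3]) ≤
        chevE8.rootSubgroup K2 (sim chevE8 3) := G8.USub_le_of fun q hq hpq hqS t =>
      G8.mem_rootSubgroup.2 ⟨t, by rw [flip_three hq hpq hqS]⟩
    obtain ⟨t, rfl⟩ := G8.mem_rootSubgroup.1 (hflip hb)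
    have hkeep : n3 * a * n3⁻¹ ∈ PP :=
      pos_le_PP (G8.keep_conj (isW_single three) (G8.rep_act (G8.rep_ni three)) ha)
    have ht : t = 0 := by
      by_contra hne
      have h1 : n3 * G8.X K2 (sim chevE8 3) t * n3⁻¹ ∈ PP := by
        have := mul_mem (inv_mem hkeep) (hn _ hy)
        have e : (n3 * a * n3⁻¹)⁻¹ * (n3 * (a * G8.X K2 (sim chevE8 3) t) * n3⁻¹) =
            n3 * G8.X K2 (sim chevE8 3) t * n3⁻¹ := by group
        rwa [e] at this
      rw [n3_conj (G8.sim_lt three), G8.w_sim three, G8.eta_sim three] at h1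
      have hs : ((-1 : ℤ) : K2) * t = -1⁻¹ := by simp [scalar_one hne]
      rw [hs] at h1
      have hpX : G8.X K2 (sim chevE8 3) 1 ∈ PP :=
        pos_le_PP (G8.X_mem_posUnipotent (G8.sim_lt three) (G8.sim_pos three) _)
      exact n3_not_mem (mul_mem (mul_mem hpX h1) hpX)
    subst ht
    rw [G8.X_zero, mul_one]
    refine G8.USub_mono (fun q hq hpq hqS => ?_) ha
    have h1 : 120 ≤ tabE8.w 3 q := hqS
    show thr 1 ≤ lev (tabE8.w 3 q)
    unfold thr
    rw [if_pos rfl]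
    exact lev_nonneg (G8.wl_lt (isW_single three) hq) h1
  exact le_trans h2 (le_of_eq (by norm_num))

/-! ### Elements centralising the first layer -/

/-- The tail of the first layer from `r` on. -/
def Aset (r : ℕ) : Set ℕ := {q | 1 ≤ lev q ∧ (r ≤ q ∨ 2 ≤ lev q)}

noncomputable def Wt (r : ℕ) : Subgroup (GL chevE8.Idx K2) := G8.USub K2 (Aset r)

theorem closed_ge (k : ℕ) : Closed chevE8 tabE8 {q | k ≤ q} := by
  intro r hrS s _ hr hs hpr hps _ c hc
  obtain ⟨i, C, a, b⟩ := c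
  obtain ⟨-, h1, -⟩ := G8.terms_gt hr hs hpr hps hc
  have : k ≤ r := hrS
  show k ≤ i
  omega

theorem closed_Aset (r : ℕ) : Closed chevE8 tabE8 (Aset r) := by
  intro x hxS y hyS hx hy _ _ _ c hc
  obtain ⟨k, C, a, b⟩ := c
  obtain ⟨hk, ha, hb, hlin⟩ := G8.mem_terms hx hy hc
  have e : lev k = (a : ℤ) * lev x + (b : ℤ) * lev y := hlin 3 three
  have h1 : 1 ≤ lev x := hxS.1
  have h2 : 1 ≤ lev y := hyS.1
  have ha' : (1 : ℤ) ≤ a := by exact_mod_cast ha
  have hb' : (1 : ℤ) ≤ b := by exact_mod_cast hb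
  have h3 : 2 ≤ lev k := by rw [e]; nlinarith
  exact ⟨le_trans (by norm_num) h3, Or.inr h3⟩

theorem Wt_le_pos (r : ℕ) : Wt r ≤ chevE8.posUnipotent K2 := G8.USub_le_pos _

theorem Wt_le_one (r : ℕ) : Wt r ≤ Z 1 := G8.USub_mono fun _ _ _ h => h.1

theorem Z_two_le_Wt (r : ℕ) : Z 2 ≤ Wt r :=
  G8.USub_mono fun q _ _ h => ⟨le_trans (by norm_num) (show (2 : ℤ) ≤ lev q from h), Or.inr h⟩

theorem Wt_anti {r r' : ℕ} (h : r ≤ r') : Wt r' ≤ Wt r :=
  G8.USub_mono fun _ _ _ hq => ⟨hq.1, hq.2.imp (fun h' => le_trans h h') id⟩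

theorem X_mem {S : Set ℕ} (hS : Closed chevE8 tabE8 S) {q : ℕ} (hq : q < 240) {c : K2} (hc : c ≠ 0)
    (h : G8.X K2 q c ∈ G8.USub K2 S) : 120 ≤ q ∧ q ∈ S := by
  have hp : 120 ≤ q := by
    by_contra hn
    have h4 := Subgroup.mem_bot.1 (G8.borel_inf_neg (F := K2) ▸
      Subgroup.mem_inf.2 ⟨Subgroup.mem_sup_left (G8.USub_le_pos _ h),
        G8.X_mem_negUnipotent hq (by rw [npos8]; omega) c⟩)
    exact hc ((G8.X_eq_one_iff hq c).1 h4)
  refine ⟨hp, ?_⟩
  by_contra hqS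
  have h1 : G8.X K2 q c ∈ G8.USub K2 {p | p = q} :=
    G8.X_mem_USub hq (by rw [npos8]; exact hp) (show q ∈ {p | p = q} from rfl) c
  have h2 := G8.USub_disjoint (F := K2) hS (closed_single q) (fun p _ _ hpS hpq => hqS (hpq ▸ hpS))
  exact hc ((G8.X_eq_one_iff hq c).1 (Subgroup.mem_bot.1 (h2 ▸ Subgroup.mem_inf.2 ⟨h, h1⟩)))

theorem pos_lead {e : GL chevE8.Idx K2} (he : e ∈ chevE8.posUnipotent K2) {q : ℕ} (hq : q < 240)
    (hl : 1 ≤ lev q) (c : K2) :
    (G8.X K2 q c)⁻¹ * (e * G8.X K2 q c * e⁻¹) ∈ Wt (q + 1) := by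
  have hp : 120 ≤ q := pos_of_lev hq (by omega)
  have hX : G8.X K2 q c ∈ Z 1 := G8.X_mem_USub hq (by rw [npos8]; exact hp) hl c
  have h1 : (G8.X K2 q c)⁻¹ * (e * G8.X K2 q c * e⁻¹) ∈ G8.USub K2 (Lset 1) :=
    mul_mem (inv_mem hX) (Z_normal le_rfl (pos_le_PP he) hX)
  have htail : G8.tailU K2 (q + 1) ≤ G8.USub K2 {p | q + 1 ≤ p} :=
    (Subgroup.closure_le _).2 (by
      rintro g ⟨p, t, hp1, hp2, hp3, rfl⟩
      exact G8.X_mem_USub hp1 hp2 hp3 t)
  have h2 := htail (G8.lead_conj he hq (by rw [npos8]; exact hp) c)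
  exact G8.USub_mono (S' := Aset (q + 1)) (fun p _ _ h => ⟨h.1, Or.inl h.2⟩)
    (USub_inter (closed_Lset (by norm_num)) (closed_ge _) h1 h2)

theorem pos_Wt {e : GL chevE8.Idx K2} (he : e ∈ chevE8.posUnipotent K2) {r : ℕ}
    {w : GL chevE8.Idx K2} (hw : w ∈ Wt r) : e * w * e⁻¹ ∈ Wt r := by
  have h : Wt r ≤ (Wt r).comap (MulAut.conj e).toMonoidHom := by
    refine G8.USub_le_of fun q hq hpq hqS t => ?_
    show e * G8.X K2 q t * e⁻¹ ∈ Wt r
    rcases hqS.2 with h | h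
    · have h1 := pos_lead he hq hqS.1 t
      have e1 : e * G8.X K2 q t * e⁻¹ =
          G8.X K2 q t * ((G8.X K2 q t)⁻¹ * (e * G8.X K2 q t * e⁻¹)) := by group
      rw [e1]
      exact mul_mem (G8.X_mem_USub hq hpq hqS t) (Wt_anti (by omega) h1)
    · exact Z_two_le_Wt r (Z_normal (by norm_num) (pos_le_PP he) (G8.X_mem_USub hq hpq h t))
  simpa using h hw

theorem P_wl {a b : ℕ} (ha : a < 240) (hb : b < 240) : ∀ {v : List ℕ}, IsW chevE8 v →
    P chevE8 tabE8 (wl tabE8 v a) (wl tabE8 v b) = P chevE8 tabE8 a b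
  | [], _ => rfl
  | i :: v, hv => by
    show P chevE8 tabE8 (tabE8.w i (wl tabE8 v a)) (tabE8.w i (wl tabE8 v b)) = _
    rw [G8.P_w hv.tail.1 (G8.wl_lt hv.tail.2 ha) (G8.wl_lt hv.tail.2 hb)]
    exact P_wl ha hb hv.tail.2

theorem P_sim {i : ℕ} (hi : i < chevE8.rank) (r : ℕ) :
    P chevE8 tabE8 (sim chevE8 i) r = tabE8.A i r := by
  unfold P
  rw [Finset.sum_eq_single i]
  · rw [G8.c_sim hi hi, if_pos rfl, one_mul]
  · intro j hj hne
    rw [G8.c_sim hi (Finset.mem_range.1 hj), if_neg hne, zero_mul]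
  · intro h
    exact absurd (Finset.mem_range.2 hi) h

/-- Elements of the parabolic acting trivially on the first layer are unipotent. -/
theorem inU {x : GL chevE8.Idx K2} (hx : x ∈ PP)
    (hc : ∀ u ∈ Z 1, x * u * x⁻¹ * u⁻¹ ∈ Z 2) : x ∈ chevE8.posUnipotent K2 := by
  obtain ⟨b, hb, n, l, hl, u, hu, rfl⟩ := G8.exists_normal_form (F := K2) (PP_le_GG hx)
  have hb' := borel_eq hb
  have hu' : u ∈ chevE8.posUnipotent K2 := G8.USub_le_pos _ hu
  have hW : ∀ {r : ℕ} {w : GL chevE8.Idx K2}, w ∈ Wt r →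
      (b * n * u) * w * (b * n * u)⁻¹ ∈ Wt r := by
    intro r w hw
    have h1 := mul_mem (Z_two_le_Wt r (hc w (Wt_le_one r hw))) hw
    rwa [inv_mul_cancel_right] at h1
  have fixed : ∀ r < 240, lev r = 1 → wl tabE8 l r = r := by
    intro r hr hlev
    have hrp : 120 ≤ r := pos_of_lev hr (by omega)
    have hrA : r ∈ Aset r := ⟨le_of_eq hlev.symm, Or.inl le_rfl⟩
    have hrn : r ∉ Aset (r + 1) := fun h => by rcases h.2 with h | h <;> omega
    set Xr := G8.X K2 r 1 with hXr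
    have hXW : Xr ∈ Wt r := G8.X_mem_USub hr (by rw [npos8]; exact hrp) hrA _
    -- membership in the coset `Xr * Wt (r + 1)` survives conjugation
    have hcpos : ∀ e ∈ chevE8.posUnipotent K2, ∀ y, Xr⁻¹ * y ∈ Wt (r + 1) →
        Xr⁻¹ * (e * y * e⁻¹) ∈ Wt (r + 1) := by
      intro e he y hy
      have h1 := mul_mem (pos_lead he hr (le_of_eq hlev.symm) (1 : K2)) (pos_Wt he hy)
      have e1 : (G8.X K2 r 1)⁻¹ * (e * G8.X K2 r 1 * e⁻¹) * (e * (Xr⁻¹ * y) * e⁻¹) =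
          Xr⁻¹ * (e * y * e⁻¹) := by rw [hXr]; group
      rwa [e1] at h1
    have h0 : Xr⁻¹ * Xr ∈ Wt (r + 1) := by rw [inv_mul_cancel]; exact one_mem _
    have h1 := hcpos _ (inv_mem hu') _ h0
    have hy1 : u⁻¹ * Xr * u⁻¹⁻¹ ∈ Z 1 :=
      Z_normal le_rfl (pos_le_PP (inv_mem hu')) (Wt_le_one r hXW)
    have h2 : Xr⁻¹ * ((b * n * u) * (u⁻¹ * Xr * u⁻¹⁻¹) * (b * n * u)⁻¹) ∈ Wt (r + 1) := by
      set y1 := u⁻¹ * Xr * u⁻¹⁻¹ with hy1def
      set x := b * n * u with hxdef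
      have hz := Z_normal (m := 2) (by norm_num) (pos_le_PP (inv_mem (Wt_le_pos r hXW)))
        (hc y1 hy1)
      have h3 := mul_mem (Z_two_le_Wt (r + 1) hz) h1
      have e1 : Xr⁻¹ * (x * y1 * x⁻¹ * y1⁻¹) * Xr⁻¹⁻¹ * (Xr⁻¹ * y1) =
          Xr⁻¹ * (x * y1 * x⁻¹) := by group
      rwa [e1] at h3
    have h3 := hcpos _ (inv_mem hb') _ h2
    have e3 : b⁻¹ * ((b * n * u) * (u⁻¹ * Xr * u⁻¹⁻¹) * (b * n * u)⁻¹) * b⁻¹⁻¹ = n * Xr * n⁻¹ := by
      group
    rw [e3] at h3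
    obtain ⟨-, c, hc0, hact⟩ := (G8.rep_act hl) r hr
    rw [hXr, hact 1, mul_one] at h3
    by_contra hne
    have hlt : wl tabE8 l r < 240 := G8.wl_lt hl.1 hr
    have h4 := mul_mem hXW (Wt_anti (Nat.le_succ r) h3)
    rw [hXr, mul_inv_cancel_left] at h4
    obtain ⟨hp', hA'⟩ := X_mem (closed_Aset r) hlt hc0 h4
    have hA1 : wl tabE8 l r ∈ Aset (r + 1) := ⟨hA'.1, hA'.2.imp (fun h => by omega) id⟩
    have h5 : G8.X K2 (wl tabE8 l r) c ∈ Wt (r + 1) :=
      G8.X_mem_USub hlt (by rw [npos8]; exact hp') hA1 c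
    have h6 := inv_mem (mul_mem h3 (inv_mem h5))
    rw [mul_inv_cancel_right, inv_inv] at h6
    exact hrn (X_mem (closed_Aset (r + 1)) hr one_ne_zero h6).2
  have hsim : ∀ i < chevE8.rank, wl tabE8 l (sim chevE8 i) = sim chevE8 i := by
    intro i hi
    have hlt : wl tabE8 l (sim chevE8 i) < 240 := G8.wl_lt hl.1 (G8.sim_lt hi)
    have h := allLt_eq_true (allLt_eq_true sep_ok i hi) _ hlt
    simp only [Bool.or_eq_true, beq_iff_eq, Bool.not_eq_true'] at h
    refine h.resolve_right fun hf => ?_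
    have ht : (allLt 240 fun r => decide (r < 120) || !(lev r == 1) ||
        (isum 8 fun j => tabE8.c (wl tabE8 l (sim chevE8 i)) j * tabE8.A j r) ==
          tabE8.A i r) = true := by
      refine allLt_intro8 fun r hr => ?_
      simp only [Bool.or_eq_true, decide_eq_true_eq, Bool.not_eq_true', beq_eq_false_iff_ne,
        beq_iff_eq]
      by_cases hlev : lev r = 1
      · refine Or.inr ?_
        rw [isum_eq]
        have h1 := P_wl (G8.sim_lt hi) hr hl.1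
        rw [fixed r hr hlev, P_sim hi] at h1
        exact h1
      · exact Or.inl (Or.inr hlev)
    rw [ht] at hf
    exact Bool.noConfusion hf
  have hn1 : n = 1 := by
    rw [rep_eq hl]
    exact diag_trivial (G8.nl_mem_diag_of_pos l.length rfl hl.1 fun i hi => by
      rw [hsim i hi]; exact G8.sim_pos hi)
  rw [hn1, mul_one]
  exact mul_mem hb' hu'

/-- The first core. -/
theorem core_zero {K : Subgroup (GL chevE8.Idx K2)} (hK : ∀ p ∈ PP, ∀ y ∈ K, p * y * p⁻¹ ∈ K)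
    (hKP : K ≤ PP) (hn : ∀ y ∈ K, n3 * y * n3⁻¹ ∈ PP) : K ≤ Z 2 := by
  have hL : K ⊓ Z 1 ≤ Z 2 :=
    step_one (fun p hp y hy => ⟨hK p hp y hy.1, Z_normal le_rfl hp hy.2⟩) inf_le_right
      fun y hy => hn y hy.1
  have hpos : K ≤ chevE8.posUnipotent K2 := fun y hy => inU (hKP hy) fun u hu => hL (Subgroup.mem_inf.2 ⟨by
      have h1 : u * y⁻¹ * u⁻¹ ∈ K := hK u (Z_le_PP 1 hu) _ (inv_mem hy)
      have e : y * u * y⁻¹ * u⁻¹ = y * (u * y⁻¹ * u⁻¹) := by group
      rw [e]; exact mul_mem hy h1,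
    mul_mem (Z_normal le_rfl (hKP hy) hu) (inv_mem hu)⟩)
  refine step_one hK (fun y hy => ?_) hn
  obtain ⟨a, ha, b, hb, rfl⟩ := G8.exists_split_pos long (hpos hy)
  have hw : ∀ j ∈ long, j < 8 ∧ j ≠ 3 := cover_words List.mem_cons_self
  have hact := G8.rep_act (F := K2) (G8.rep_nl (l := long) (isW8 hw))
  have h1 := hpos (hK _ (nl_mem_PP hw) _ hy)
  have ha' := G8.keep_conj (isW8 hw) hact ha
  have hb' : G8.nl K2 long * b * (G8.nl K2 long)⁻¹ ∈ chevE8.posUnipotent K2 := by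
    have h2 := mul_mem (inv_mem ha') h1
    have e : (G8.nl K2 long * a * (G8.nl K2 long)⁻¹)⁻¹ *
        (G8.nl K2 long * (a * b) * (G8.nl K2 long)⁻¹) =
        G8.nl K2 long * b * (G8.nl K2 long)⁻¹ := by group
    rwa [e] at h2
  have hb1 : G8.nl K2 long * b * (G8.nl K2 long)⁻¹ = 1 :=
    Subgroup.mem_bot.1 (G8.borel_inf_neg (F := K2) ▸
      Subgroup.mem_inf.2 ⟨Subgroup.mem_sup_left hb', G8.flip_conj (isW8 hw) hact hb⟩)
  rw [conj_eq_one_iff] at hb1
  rw [hb1, mul_one]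
  refine G8.USub_mono (fun q hq hpq hqS => ?_) ha
  have h2 : 120 ≤ wl tabE8 long q := hqS
  show (1 : ℤ) ≤ lev q
  have h3 := allLt_eq_true long_ok q hq
  simp only [Bool.or_eq_true, decide_eq_true_eq] at h3
  rw [npos8] at hpq
  omega

/-- A normal subgroup of the group inside the parabolic is trivial. -/
theorem core_bot {K : Subgroup (GL chevE8.Idx K2)} (hK : ∀ p ∈ GG, ∀ y ∈ K, p * y * p⁻¹ ∈ K)
    (hKP : K ≤ PP) : K = ⊥ := by
  have hn : ∀ y ∈ K, n3 * y * n3⁻¹ ∈ K := hK n3 n3_mem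
  have hP : ∀ p ∈ PP, ∀ y ∈ K, p * y * p⁻¹ ∈ K := fun p hp => hK p (PP_le_GG hp)
  have key : ∀ k : ℕ, K ≤ Z ((k : ℤ) + 2) := by
    intro k
    induction k with
    | zero => simpa using core_zero hP hKP fun y hy => hKP (hn y hy)
    | succ k ih =>
      exact le_trans (step hP (by omega) ih fun y hy => ih (hn y hy))
        (le_of_eq (congrArg Z (by push_cast; ring)))
  rw [eq_bot_iff, ← Z_seven]
  exact le_trans (key 5) (le_of_eq (by norm_num))

end Cfsg.Agent.Lib.Chev.EightCores
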