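import Cfsg.Agent.Lib.Chev.E8CoresData

/-!
The levels of the unipotent radical of the parabolic at the branch node of `E₈(2)`.
-/

set_option autoImplicit false
set_option maxRecDepth 100000
set_option linter.unusedSectionVars false

namespace Cfsg.Agent.Lib.Chev.EightCores

open Cfsg.Lie
open Cfsg.Agent.Lib.Chev
open scoped Matrix

theorem G8 : Good chevE8 tabE8 := goodE8

theorem nroots8 : chevE8.nroots = 240 := rfl
theorem rank8 : chevE8.rank = 8 := rfl
theorem npos8 : npos chevE8 = 120 := rfl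

theorem three : 3 < chevE8.rank := by rw [rank8]; norm_num

/-- The group. -/
noncomputable def GG : Subgroup (GL chevE8.Idx K2) := chevE8.group K2

/-- The nodes of the Levi factor. -/
def J4 : Set ℕ := {j | j < 8 ∧ j ≠ 3}

/-- The parabolic. -/
noncomputable def PP : Subgroup (GL chevE8.Idx K2) := chevE8.parabolicSubgroup K2 J4

/-- The roots of level at least `m`. -/
def Lset (m : ℤ) : Set ℕ := {q | m ≤ lev q}

/-- The filtration. -/
noncomputable def Z (m : ℤ) : Subgroup (GL chevE8.Idx K2) := G8.USub K2 (Lset m)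

theorem diag_trivial {g : GL chevE8.Idx K2} (hg : g ∈ chevE8.diagonalSubgroup K2) : g = 1 := by
  refine Subgroup.mem_bot.1 (G8.diagonal_le_of (K := ⊥) (fun r _ t ht => ?_) hg)
  have h1 : t = 1 := by revert ht; revert t; decide
  rw [h1, Subgroup.mem_bot, Good.Hg, ← G8.Ng_inv, mul_inv_cancel]

theorem borel_eq {g : GL chevE8.Idx K2} (hg : g ∈ chevE8.borelSubgroup K2) :
    g ∈ chevE8.posUnipotent K2 := by
  obtain ⟨u, hu, h, hh, rfl⟩ := G8.mem_borel.1 hg
  rwa [diag_trivial hh, mul_one]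

theorem rep_eq {g : GL chevE8.Idx K2} {l : List ℕ} (h : G8.Rep K2 g l) : g = G8.nl K2 l :=
  mul_inv_eq_one.1 (diag_trivial h.2)

/-- The branch reflection. -/
noncomputable def n3 : GL chevE8.Idx K2 := G8.ni K2 3

theorem n3_sq : n3 * n3 = 1 := diag_trivial (G8.ni_sq three)

theorem n3_mem : n3 ∈ GG := G8.ni_mem_group three

theorem n3_conj {q : ℕ} (hq : q < 240) (t : K2) :
    n3 * G8.X K2 q t * n3⁻¹ = G8.X K2 (tabE8.w 3 q) ((tabE8.eta 3 q : K2) * t) :=
  G8.ni_conj_X three hq t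

theorem mem_J4 {j : ℕ} : j ∈ J4 ↔ j < 8 ∧ j ≠ 3 := Iff.rfl

theorem pos_of_lev {q : ℕ} (hq : q < 240) (h : 0 < lev q) : 120 ≤ q := by
  by_contra hn
  have := G8.k_nonpos (G8.par_sign parE8) (s := q) (x := 3) hq (by rw [npos8]; omega) three
  exact absurd this (not_le.2 h)

theorem lev_nonneg {q : ℕ} (hq : q < 240) (hp : 120 ≤ q) : 0 ≤ lev q :=
  Good.k_nonneg (G8.par_sign parE8) (s := q) (x := 3) hq (by rw [npos8]; omega) three

theorem lev_le_six {q : ℕ} (hq : q < 240) : lev q ≤ 6 :=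
  of_decide_eq_true (allLt_eq_true top_ok q hq)

/-- Words in the Levi nodes preserve levels. -/
theorem lev_wl : ∀ {v : List ℕ}, (∀ j ∈ v, j < 8 ∧ j ≠ 3) → ∀ {q : ℕ}, q < 240 →
    lev (wl tabE8 v q) = lev q
  | [], _, _, _ => rfl
  | j :: v, hv, q, hq => by
    have hj := hv j List.mem_cons_self
    have hv' : ∀ i ∈ v, i < 8 ∧ i ≠ 3 := fun i hi => hv i (List.mem_cons_of_mem _ hi)
    have hlt : wl tabE8 v q < chevE8.nroots :=
      G8.wl_lt (fun i hi => (hv' i hi).1) hq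
    show tabE8.k 3 (tabE8.w j (wl tabE8 v q)) = lev q
    rw [G8.k_w (show j < chevE8.rank from hj.1) hlt three, if_neg (fun e => hj.2 e.symm), sub_zero]
    exact lev_wl hv' hq

theorem nl_mem_PP : ∀ {v : List ℕ}, (∀ j ∈ v, j < 8 ∧ j ≠ 3) → G8.nl K2 v ∈ PP
  | [], _ => by rw [G8.nl_nil]; exact one_mem _
  | j :: v, hv => by
    rw [G8.nl_cons]
    exact mul_mem (G8.ni_mem_parabolic (J := J4) (hv j List.mem_cons_self)
      (hv j List.mem_cons_self).1) (nl_mem_PP fun i hi => hv i (List.mem_cons_of_mem _ hi))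

theorem closed_lev {l : List ℕ} (hl : IsW chevE8 l) {m : ℤ} (hm : 0 ≤ m) :
    Closed chevE8 tabE8 {q | m ≤ lev (wl tabE8 l q)} := by
  intro r hrS s hsS hr hs _ _ _ c hc
  obtain ⟨k, C, a, b⟩ := c
  obtain ⟨hk, ha, hb, hlin⟩ := G8.mem_terms hr hs hc
  have e := G8.k_wl_lin hl hr hs hk hlin 3 three
  show m ≤ tabE8.k 3 (wl tabE8 l k)
  have h1 : m ≤ tabE8.k 3 (wl tabE8 l r) := hrS
  have h2 : m ≤ tabE8.k 3 (wl tabE8 l s) := hsS
  have ha' : (1 : ℤ) ≤ a := by exact_mod_cast ha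
  have hb' : (0 : ℤ) ≤ b := by exact_mod_cast (Nat.zero_le b)
  rw [e]; nlinarith

theorem closed_Lset {m : ℤ} (hm : 0 ≤ m) : Closed chevE8 tabE8 (Lset m) :=
  closed_lev (l := []) isW_nil hm

theorem closed_inter {A B : Set ℕ} (hA : Closed chevE8 tabE8 A) (hB : Closed chevE8 tabE8 B) :
    Closed chevE8 tabE8 (A ∩ B) :=
  fun r hr s hs h1 h2 h3 h4 h5 c hc =>
    ⟨hA r hr.1 s hs.1 h1 h2 h3 h4 h5 c hc, hB r hr.2 s hs.2 h1 h2 h3 h4 h5 c hc⟩

theorem closed_single (a : ℕ) : Closed chevE8 tabE8 {q | q = a} :=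
  fun r hr s hs _ _ _ _ hne => absurd (Eq.trans hs (Eq.symm hr)) hne

theorem USub_inter {A B : Set ℕ} (hA : Closed chevE8 tabE8 A) (hB : Closed chevE8 tabE8 B)
    {x : GL chevE8.Idx K2} (h1 : x ∈ G8.USub K2 A) (h2 : x ∈ G8.USub K2 B) :
    x ∈ G8.USub K2 (A ∩ B) := by
  obtain ⟨t, ht, rfl⟩ := (G8.mem_USub_iff hA).1 h1
  obtain ⟨t', ht', e⟩ := (G8.mem_USub_iff hB).1 h2
  have key : ∀ r, 120 ≤ r → r < 240 → r ∉ A ∩ B → t r = 0 := by
    intro r hr1 hr2 hr
    by_cases hrA : r ∈ A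
    · rw [G8.oprod_injective (npos chevE8) (npos chevE8) le_rfl (by rw [npos8, nroots8]) t t' e r
        (by rw [npos8]; exact hr1) (by rw [npos8]; omega)]
      exact ht' r fun hrB => hr ⟨hrA, hrB⟩
    · exact ht r hrA
  refine G8.wordG_mem fun p hp => ?_
  obtain ⟨r, hr, rfl⟩ := List.mem_map.1 hp
  rw [List.mem_range'_1, npos8] at hr
  by_cases hrS : r ∈ A ∩ B
  · exact G8.X_mem_USub (show r < 240 by omega) (by rw [npos8]; omega) hrS _
  · show G8.X K2 r (t r) ∈ _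
    rw [key r hr.1 (by omega) hrS, G8.X_zero]; exact one_mem _

theorem USub_inter_list {A : Set ℕ} (hA : Closed chevE8 tabE8 A) (B : List ℕ → Set ℕ)
    {x : GL chevE8.Idx K2} (h1 : x ∈ G8.USub K2 A) :
    ∀ vs : List (List ℕ), (∀ v ∈ vs, Closed chevE8 tabE8 (B v) ∧ x ∈ G8.USub K2 (B v)) →
      Closed chevE8 tabE8 {q | q ∈ A ∧ ∀ v ∈ vs, q ∈ B v} ∧
        x ∈ G8.USub K2 {q | q ∈ A ∧ ∀ v ∈ vs, q ∈ B v}
  | [], _ => by
    have e : {q | q ∈ A ∧ ∀ v ∈ ([] : List (List ℕ)), q ∈ B v} = A := by ext q; simp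
    rw [e]; exact ⟨hA, h1⟩
  | v :: vs, h => by
    obtain ⟨hc, hx⟩ := USub_inter_list hA B h1 vs fun w hw => h w (List.mem_cons_of_mem _ hw)
    obtain ⟨hcv, hxv⟩ := h v List.mem_cons_self
    have e : {q | q ∈ A ∧ ∀ w ∈ v :: vs, q ∈ B w} = {q | q ∈ A ∧ ∀ w ∈ vs, q ∈ B w} ∩ B v := by
      ext q
      simp only [Set.mem_setOf_eq, Set.mem_inter_iff, List.mem_cons, forall_eq_or_imp]
      tauto
    rw [e]; exact ⟨closed_inter hc hcv, USub_inter hc hcv hx hxv⟩

theorem Z_mono {m m' : ℤ} (h : m ≤ m') : Z m' ≤ Z m :=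
  G8.USub_mono fun _ _ _ hq => le_trans h hq

theorem Z_le_pos (m : ℤ) : Z m ≤ chevE8.posUnipotent K2 := G8.USub_le_pos _

theorem pos_le_PP : chevE8.posUnipotent K2 ≤ PP :=
  le_trans le_sup_left le_sup_left

theorem Z_le_PP (m : ℤ) : Z m ≤ PP := le_trans (Z_le_pos m) pos_le_PP

theorem Z_seven : Z 7 = ⊥ := by
  refine eq_bot_iff.2 (G8.USub_le_of fun q hq _ hqS t => ?_)
  have h1 : (7 : ℤ) ≤ lev q := hqS
  have h2 := lev_le_six hq
  omega

theorem radical_Z : chevE8.unipotentRadical K2 J4 = Z 1 := by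
  rw [G8.radical_eq parE8]
  refine le_antisymm (G8.USub_mono fun q hq hp h => ?_) (G8.USub_mono fun q hq hp h => ?_)
  · show (1 : ℤ) ≤ lev q
    by_contra hn
    refine h ((G8.inRootSub_iff parE8).2 ⟨hq, fun i hi hiJ => ?_⟩)
    have hi3 : i = 3 := by
      by_contra hne
      exact hiJ ⟨hi, hne⟩
    subst hi3
    have := lev_nonneg hq (by rw [npos8] at hp; exact hp)
    show lev q = 0
    omega
  · intro hin
    have h0 : lev q = 0 := ((G8.inRootSub_iff parE8).1 hin).2 3 three fun h3 => h3.2 rfl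
    have h1 : (1 : ℤ) ≤ lev q := h
    omega

/-- The parabolic normalises every level. -/
theorem Z_normal {m : ℤ} (hm : 1 ≤ m) {g : GL chevE8.Idx K2} (hg : g ∈ PP) {x : GL chevE8.Idx K2}
    (hx : x ∈ Z m) : g * x * g⁻¹ ∈ Z m := by
  let N : Subgroup (GL chevE8.Idx K2) := Subgroup.normalizer (Z m : Set (GL chevE8.Idx K2))
  have mem : ∀ {y : GL chevE8.Idx K2}, (∀ z ∈ Z m, y * z * y⁻¹ ∈ Z m) →
      (∀ z ∈ Z m, y⁻¹ * z * y ∈ Z m) → y ∈ N := fun {y} h1 h2 => by
    refine Subgroup.mem_normalizer_iff.2 fun z => ⟨h1 z, fun hz => ?_⟩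
    have := h2 _ hz
    simpa [mul_assoc] using this
  have hX : ∀ k < 240, 120 ≤ k → ∀ t : K2, G8.X K2 k t ∈ N := by
    intro k hk hpk
    have key : ∀ t : K2, ∀ z ∈ Z m, G8.X K2 k t * z * (G8.X K2 k t)⁻¹ ∈ Z m := by
      intro t z hz
      have hle : Z m ≤ (Z m).comap (MulAut.conj (G8.X K2 k t)).toMonoidHom := by
        refine G8.USub_le_of fun q hq hpq hqS u => ?_
        show G8.X K2 k t * G8.X K2 q u * (G8.X K2 k t)⁻¹ ∈ Z m
        by_cases hqk : q = k
        · subst hqk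
          rw [G8.X_inv, G8.X_add, G8.X_add]
          exact G8.X_mem_USub hq hpq hqS _
        · have hne : q ≠ ng chevE8 k := by
            rw [npos8] at hpq
            simp only [ng, nroots8]; omega
          have h := G8.commAt k q (show k < 240 from hk) hq hqk hne (-t) u
          have e : G8.X K2 k t * G8.X K2 q u * (G8.X K2 k t)⁻¹ =
              G8.X K2 q u * G8.wordG (Good.cw tabE8 k q (-t) u) := by
            rw [mul_assoc, G8.X_inv, h, mul_assoc (G8.X K2 k (-t)), ← mul_assoc, G8.X_add,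
              add_neg_cancel, G8.X_zero, one_mul]
          rw [e]
          refine mul_mem (G8.X_mem_USub hq hpq hqS u) (G8.wordG_mem fun p hp => ?_)
          obtain ⟨⟨i, C, a, b⟩, hc, rfl⟩ := List.mem_map.1 hp
          obtain ⟨hi, ha, hb, hlin⟩ := G8.mem_terms (show k < 240 from hk) hq hc
          have hl : m ≤ lev i := by
            have e3 : lev i = (a : ℤ) * lev k + (b : ℤ) * lev q := hlin 3 three
            have h1 : m ≤ lev q := hqS
            have h2 := lev_nonneg hk hpk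
            have hb' : (1 : ℤ) ≤ b := by exact_mod_cast hb
            have ha' : (0 : ℤ) ≤ a := by exact_mod_cast (Nat.zero_le a)
            rw [e3]; nlinarith
          exact G8.X_mem_USub hi (by rw [npos8]; exact pos_of_lev hi (by omega)) hl _
      simpa using hle hz
    intro t
    refine mem (key t) fun z hz => ?_
    have := key (-t) z hz
    rwa [← G8.X_inv, inv_inv] at this
  have hni : ∀ j, j < 8 → j ≠ 3 → ∀ z ∈ Z m, G8.ni K2 j * z * (G8.ni K2 j)⁻¹ ∈ Z m := by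
    intro j hj hj3 z hz
    refine G8.act_conj_USub (G8.rep_act (G8.rep_ni (show j < chevE8.rank from hj))) (fun q hq _ hqS t => ?_) hz
    have hv : ∀ i ∈ [j], i < 8 ∧ i ≠ 3 := by simpa using ⟨hj, hj3⟩
    have h1 : m ≤ lev q := hqS
    have h2 := lev_wl hv hq
    exact G8.X_mem_USub (G8.wl_lt (isW_single hj) hq)
      (by rw [npos8]; exact pos_of_lev (G8.wl_lt (isW_single hj) hq) (by omega))
      (show m ≤ lev (wl tabE8 [j] q) by omega) t
  have hle : PP ≤ N := by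
    refine sup_le (fun b hb => ?_) ((Subgroup.closure_le _).2 ?_)
    · exact (G8.posUnipotent_le_of (K := N) fun r hr hp t => hX r hr (by rw [npos8] at hp; exact hp) t)
        (borel_eq hb)
    · rintro y ⟨j, hjJ, hj, e⟩
      have e' : y = G8.ni K2 j := Units.ext (by rw [e, G8.simple_eq, ← G8.Ng_val (G8.sim_lt hj)]; rfl)
      obtain ⟨hj8, hj3⟩ := hjJ
      rw [e']
      refine mem (hni j hj8 hj3) fun z hz => ?_
      have hsq : G8.ni K2 j * G8.ni K2 j = 1 := diag_trivial (G8.ni_sq hj)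
      have hinv : (G8.ni K2 j)⁻¹ = G8.ni K2 j := inv_eq_of_mul_eq_one_right hsq
      have := hni j hj8 hj3 z hz
      rw [hinv] at this ⊢
      exact this
  exact (Subgroup.mem_normalizer_iff.1 (hle hg) x).1 hx

end Cfsg.Agent.Lib.Chev.EightCores
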