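import Cfsg.Agent.Lib.Chev.RootElem

/-!
The sparse integral evaluator computes products of root elements over any field.
-/

set_option autoImplicit false

namespace Cfsg.Agent.Lib.Chev

open Cfsg.Lie
open scoped Matrix

variable {D : ChevalleyDatum} {T : Tables} {F : Type*} [Field F]

theorem vecOf_apply (v : List (ℕ × ℤ)) (x : D.Idx) : vecOf D F v x = (coef v (cd D x) : F) := by
  induction v with
  | nil => simp [vecOf, coef]
  | cons p v ih =>
    simp only [vecOf, List.map_cons, List.sum_cons, Pi.add_apply, Pi.smul_apply] at ih ⊢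
    rw [ih, coef]
    by_cases h : p.1 = cd D x
    · simp [bas, h]
    · simp [bas, h, Ne.symm h]

theorem vecOf_eq_of_eqVec {u v : List (ℕ × ℤ)} (h : eqVec u v = true) :
    vecOf D F u = vecOf D F v := by
  funext x
  rw [vecOf_apply, vecOf_apply]
  by_cases hx : cd D x ∈ u.map Prod.fst ++ v.map Prod.fst
  · have := List.all_eq_true.1 h _ hx
    rw [beq_iff_eq] at this
    rw [this]
  · rw [List.mem_append, not_or] at hx
    have key : ∀ w : List (ℕ × ℤ), cd D x ∉ w.map Prod.fst → coef w (cd D x) = 0 := by
      intro w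
      induction w with
      | nil => intro _; rfl
      | cons p w ih =>
        intro hp
        simp only [List.map_cons, List.mem_cons, not_or] at hp
        rw [coef, if_neg (Ne.symm hp.1), ih hp.2, zero_add]
    rw [key u hx.1, key v hx.2]

theorem vecOf_singleton (a : ℕ) (c : ℤ) : vecOf D F [(a, c)] = (c : F) • bas D F a := by
  simp [vecOf]

theorem vecOf_cons (p : ℕ × ℤ) (v : List (ℕ × ℤ)) :
    vecOf D F (p :: v) = (p.2 : F) • bas D F p.1 + vecOf D F v := by simp [vecOf]

theorem vecOf_append (u v : List (ℕ × ℤ)) :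
    vecOf D F (u ++ v) = vecOf D F u + vecOf D F v := by simp [vecOf]

/-- Cast the parameters of an integral word. -/
def castWord (F : Type*) [Field F] (w : List (ℕ × ℤ)) : List (ℕ × F) :=
  w.map fun p => (p.1, (p.2 : F))

/-- All codes of a sparse vector are in range. -/
def InRange (D : ChevalleyDatum) (v : List (ℕ × ℤ)) : Prop :=
  ∀ p ∈ v, p.1 < D.nroots + D.rank

namespace Good

variable (G : Good D T)
include G

theorem xcol_spec {r a : ℕ} (hr : r < D.nroots) (ha : a < D.nroots + D.rank) (c : ℤ) :
    InRange D (xcol D T r c a) ∧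
      vecOf D F (xcol D T r c a) = D.x F r (c : F) *ᵥ bas D F a := by
  rcases code_cases D ha with ⟨i, hi, rfl⟩ | ha'
  · have hge : D.nroots ≤ D.nroots + i := Nat.le_add_right _ _
    rw [xcol, if_pos hge]
    refine ⟨fun p hp => ?_, ?_⟩
    · simp at hp; rcases hp with rfl | rfl <;> simp <;> omega
    · simp [vecOf, G.x_bas_h hr hi]
  · rw [xcol, if_neg (by omega)]
    by_cases h1 : a = r
    · subst h1
      rw [if_pos rfl]
      refine ⟨fun p hp => ?_, ?_⟩
      · simp at hp; subst hp; simp; omega
      · simp [vecOf, G.x_bas_self hr]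
    rw [if_neg h1]
    by_cases h2 : a = ng D r
    · subst h2
      rw [if_pos rfl]
      refine ⟨fun p hp => ?_, ?_⟩
      · simp at hp
        rcases hp with rfl | rfl | ⟨i, hi, rfl⟩ <;> simp <;> omega
      · rw [G.x_bas_ng hr, vecOf_cons, vecOf_cons, vecOf, List.map_map]
        have : (List.map ((fun p : ℕ × ℤ => (p.2 : F) • bas D F p.1) ∘
            fun i => (D.nroots + i, T.c r i * c)) (List.range D.rank)).sum =
              (c : F) • hvec D T F r := by
          rw [hvec, Finset.smul_sum, ← List.sum_toFinset _ List.nodup_range]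
          refine Finset.sum_congr (by ext; simp) fun i _ => ?_
          simp [smul_smul, mul_comm]
        rw [this]
        push_cast
        rw [pow_two, one_smul]
        abel
    rw [if_neg h2]
    refine ⟨fun p hp => ?_, ?_⟩
    · simp only [List.mem_cons, List.mem_map] at hp
      rcases hp with rfl | ⟨⟨⟨u, M⟩, m⟩, hq, rfl⟩
      · exact ha
      · have := (G.ch_entry hr ha' (List.mk_mem_zipIdx_iff_getElem?.1 hq)).1
        simp; omega
    · rw [G.x_bas_other hr ha' h1 h2, vecOf_cons, vecOf, chVec, List.map_map]
      simp only [Int.cast_one, one_smul, add_right_inj]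
      congr 1
      refine List.map_congr_left fun q _ => ?_
      simp [ipow_eq]

theorem applyX_spec {r : ℕ} (hr : r < D.nroots) (c : ℤ) :
    ∀ v, InRange D v → InRange D (applyX D T r c v) ∧
      vecOf D F (applyX D T r c v) = D.x F r (c : F) *ᵥ vecOf D F v := by
  intro v
  induction v with
  | nil => intro _; exact ⟨by simp [InRange, applyX], by simp [applyX, vecOf]⟩
  | cons p v ih =>
    intro hv
    obtain ⟨h1, h2⟩ := ih fun q hq => hv q (List.mem_cons_of_mem _ hq)
    obtain ⟨h3, h4⟩ := G.xcol_spec (F := F) hr (hv p List.mem_cons_self) c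
    have e : applyX D T r c (p :: v) =
        (if p.2 = 0 then [] else (xcol D T r c p.1).map fun q => (q.1, p.2 * q.2)) ++
          applyX D T r c v := by simp [applyX]
    rw [e, vecOf_cons, Matrix.mulVec_add, Matrix.mulVec_smul, ← h2, vecOf_append]
    constructor
    · intro q hq
      rcases List.mem_append.1 hq with hq | hq
      · split at hq
        · simp at hq
        · obtain ⟨q', hq', rfl⟩ := List.mem_map.1 hq
          exact h3 q' hq'
      · exact h1 q hq
    · congr 1
      rw [← h4]
      split
      · rename_i h0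
        simp [h0, vecOf]
      · simp only [vecOf, List.map_map, List.smul_sum]
        congr 1
        refine List.map_congr_left fun q _ => ?_
        simp [smul_smul]

theorem applyWord_spec : ∀ (w : List (ℕ × ℤ)), (∀ p ∈ w, p.1 < D.nroots) →
    ∀ v, InRange D v → InRange D (applyWord D T w v) ∧
      vecOf D F (applyWord D T w v) = D.wordMat F (castWord F w) *ᵥ vecOf D F v := by
  intro w
  induction w with
  | nil =>
    intro _ v hv
    exact ⟨hv, by simp [applyWord, castWord, ChevalleyDatum.wordMat]⟩
  | cons p w ih =>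
    intro hw v hv
    obtain ⟨h1, h2⟩ := ih (fun q hq => hw q (List.mem_cons_of_mem _ hq)) v hv
    obtain ⟨h3, h4⟩ := G.applyX_spec (F := F) (hw p List.mem_cons_self) p.2 _ h1
    refine ⟨h3, ?_⟩
    show vecOf D F (applyX D T p.1 p.2 (applyWord D T w v)) = _
    rw [h4, h2, Matrix.mulVec_mulVec]
    simp [castWord, ChevalleyDatum.wordMat]

theorem wordMat_bas {w : List (ℕ × ℤ)} (hw : ∀ p ∈ w, p.1 < D.nroots) {a : ℕ}
    (ha : a < D.nroots + D.rank) {v : List (ℕ × ℤ)}
    (h : eqVec (applyWord D T w [(a, 1)]) v = true) :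
    D.wordMat F (castWord F w) *ᵥ bas D F a = vecOf D F v := by
  have hr : InRange D [(a, 1)] := fun p hp => by simp at hp; subst hp; exact ha
  have h1 := (G.applyWord_spec (F := F) w hw [(a, 1)] hr).2
  rw [vecOf_eq_of_eqVec h] at h1
  rw [h1, vecOf_singleton]
  simp

/-- A word identity checked over the integers holds over every field. -/
theorem wordMat_eq {w w' : List (ℕ × ℤ)} (hw : ∀ p ∈ w, p.1 < D.nroots)
    (hw' : ∀ p ∈ w', p.1 < D.nroots)
    (h : ∀ a < D.nroots + D.rank,
      eqVec (applyWord D T w [(a, 1)]) (applyWord D T w' [(a, 1)]) = true) :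
    D.wordMat F (castWord F w) = D.wordMat F (castWord F w') := by
  refine ext_bas fun a ha => ?_
  have hr : InRange D [(a, 1)] := fun p hp => by simp at hp; subst hp; exact ha
  rw [G.wordMat_bas hw ha (h a ha)]
  rw [(G.applyWord_spec (F := F) w' hw' [(a, 1)] hr).2, vecOf_singleton]
  simp

end Good

end Cfsg.Agent.Lib.Chev
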