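import Cfsg.Agent.Lib.Chev.Table

/-!
Consequences of the checks on the tables, in a form convenient for proofs.
-/

set_option autoImplicit false

namespace Cfsg.Agent.Lib.Chev

open Cfsg.Lie

variable {D : ChevalleyDatum} {T : Tables}

theorem getD_toList {α : Type*} (a : Array α) (i : ℕ) (d : α) : a.getD i d = a.toList.getD i d := by
  rcases Nat.lt_or_ge i a.size with h | h
  · simp [Array.getD_eq_getD_getElem?, List.getD_eq_getElem?_getD, h]
  · simp [Array.getD_eq_getD_getElem?, List.getD_eq_getElem?_getD, h]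

theorem walk_spec (v : ℕ) : ∀ (fuel s : ℕ) (l : List (ℕ × Array (ℕ × ℤ))), walk v fuel s l = true →
    (∀ e ∈ l, s ≤ e.1 ∧ e.1 < s + fuel) ∧
    ∀ t, s ≤ t → t < s + fuel →
      (field v 48 t = 0 ∧ l.filter (fun e => e.1 = t) = []) ∨
      (field v 48 t ≠ 0 ∧ ∃ a : Array (ℕ × ℤ), a.toList = dec (field v 48 t) ∧
        l.filter (fun e => e.1 = t) = [(t, a)]) := by
  intro fuel
  induction fuel with
  | zero =>
    intro s l h
    simp only [walk, List.isEmpty_iff] at h
    subst h
    exact ⟨by simp, fun t h1 h2 => absurd h2 (by omega)⟩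
  | succ fuel ih =>
    intro s l h
    cases l with
    | nil =>
      simp only [walk, Bool.and_eq_true, beq_iff_eq] at h
      obtain ⟨-, h2⟩ := ih (s + 1) [] h.2
      refine ⟨by simp, fun t h1 h2' => ?_⟩
      rcases Nat.eq_or_lt_of_le h1 with rfl | h3
      · exact Or.inl ⟨h.1, by simp⟩
      · exact h2 t h3 (by omega)
    | cons e l =>
      simp only [walk] at h
      by_cases he : e.1 = s
      · rw [if_pos he] at h
        simp only [Bool.and_eq_true, beq_iff_eq, bne_iff_ne] at h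
        obtain ⟨hlo, hsp⟩ := ih (s + 1) l h.2
        constructor
        · intro x hx
          rcases List.mem_cons.1 hx with rfl | hx
          · omega
          · have := hlo x hx; omega
        intro t h1 h2
        rcases Nat.eq_or_lt_of_le h1 with rfl | h3
        · refine Or.inr ⟨h.1.2, e.2, h.1.1.symm, ?_⟩
          rw [List.filter_cons_of_pos (by simpa using he)]
          rw [List.filter_eq_nil_iff.2 (fun x hx => by
            have := hlo x hx; simp; omega)]
          rw [← he]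
        · rw [List.filter_cons_of_neg (by simp; omega)]
          exact hsp t h3 (by omega)
      · rw [if_neg he] at h
        simp only [Bool.and_eq_true, beq_iff_eq] at h
        obtain ⟨hlo, hsp⟩ := ih (s + 1) (e :: l) h.2
        constructor
        · intro x hx
          have := hlo x hx; omega
        intro t h1 h2
        rcases Nat.eq_or_lt_of_le h1 with rfl | h3
        · refine Or.inl ⟨h.1, List.filter_eq_nil_iff.2 fun x hx => ?_⟩
          have := hlo x hx; simp; omega
        · exact hsp t h3 (by omega)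

theorem walkRows_spec : ∀ (rows : List (Array (ℕ × Array (ℕ × ℤ)))) (r0 : ℕ),
    walkRows D T r0 rows = true → ∀ j, j < rows.length →
      walk (T.chainT.get (r0 + j)) D.nroots 0 (rows.getD j #[]).toList = true := by
  intro rows
  induction rows with
  | nil => intro _ _ j hj; simp at hj
  | cons row rows ih =>
    intro r0 h j hj
    simp only [walkRows, Bool.and_eq_true] at h
    cases j with
    | zero => simpa using h.1
    | succ j =>
      have := ih (r0 + 1) h.2 j (by simpa using hj)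
      rw [List.getD_cons_succ, show r0 + (j + 1) = r0 + 1 + j by omega]
      exact this

/-- The `r`-row of the chain table as a list. -/
def row (D : ChevalleyDatum) (r : ℕ) : List (ℕ × Array (ℕ × ℤ)) := (D.chain.toList.getD r #[]).toList

/-- Everything `chkBasic` says. -/
structure BasicFacts (D : ChevalleyDatum) (T : Tables) : Prop where
  two_npos : 2 * npos D = D.nroots
  negIdx : D.negIdx.toList = (List.range D.nroots).map (ng D)
  cartan : D.cartanSR.toList.map Array.toList =
    (List.range D.rank).map fun i => (List.range D.nroots).map fun r => T.A i r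
  coroot : D.coroot.toList.map Array.toList =
    (List.range D.nroots).map fun r => (List.range D.rank).map fun i => T.c r i
  chain_length : D.chain.toList.length = D.nroots
  rows : walkRows D T 0 D.chain.toList = true
  pos : ∀ r < D.nroots, (D.IsPosRoot r ↔ npos D ≤ r) ∧ (D.IsNegRoot r ↔ r < npos D)
  code_lt : ∀ r < D.nroots - 1, code D T r < code D T (r + 1)
  simples : ∀ i < D.rank, sim D i < D.nroots ∧ npos D ≤ sim D i ∧
    (∀ j < D.rank, T.k j (sim D i) = (if j = i then 1 else 0) ∧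
      T.c (sim D i) j = if j = i then 1 else 0) ∧
    T.A i (sim D i) = 2 ∧ T.w i (sim D i) = ng D (sim D i) ∧ T.eta i (sim D i) = -1
  A_linear : ∀ i < D.rank, ∀ s < D.nroots,
    T.A i s = ∑ j ∈ Finset.range D.rank, T.k j s * T.A i (sim D j)
  neg_coef : ∀ r < D.nroots, ∀ i < D.rank, T.k i (ng D r) = - T.k i r ∧ T.c (ng D r) i = - T.c r i

theorem Good.basicFacts (G : Good D T) : BasicFacts D T := by
  have h := G.basic
  simp only [chkBasic, Bool.and_eq_true, beq_iff_eq, decide_eq_true_eq] at h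
  obtain ⟨⟨⟨⟨⟨⟨⟨⟨⟨⟨⟨h1, h2⟩, h3⟩, h4⟩, h5⟩, h6⟩, h7⟩, h8⟩, h9⟩, h10⟩, h11⟩, h12⟩ := h
  refine ⟨h1, h3, h4, h5, h6, h7, fun r hr => ?_, fun r hr => ?_, fun i hi => ?_, fun i hi s hs => ?_,
    fun r hr i hi => ?_⟩
  · have := allLt_eq_true h8 r hr
    simpa [Bool.and_eq_true] using this
  · simpa using allLt_eq_true h9 r hr
  · have := allLt_eq_true h10 i hi
    simp only [Bool.and_eq_true, beq_iff_eq, decide_eq_true_eq] at this
    obtain ⟨⟨⟨⟨⟨a1, a2⟩, a3⟩, a4⟩, a5⟩, a6⟩ := this
    refine ⟨a1, a2, fun j hj => ?_, a4, a5, a6⟩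
    have := allLt_eq_true a3 j hj
    simpa [Bool.and_eq_true] using this
  · have := allLt_eq_true (allLt_eq_true h11 i hi) s hs
    rw [← isum_eq]
    simpa using this
  · have := allLt_eq_true (allLt_eq_true h12 r hr) i hi
    simpa [Bool.and_eq_true] using this

namespace Good

variable (G : Good D T)
include G

theorem even_n : 2 * npos D = D.nroots := G.basicFacts.two_npos

theorem ng_lt {r : ℕ} (hr : r < D.nroots) : ng D r < D.nroots := by unfold ng; omega

theorem ng_ng {r : ℕ} (hr : r < D.nroots) : ng D (ng D r) = r := by unfold ng; omega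

theorem ng_ne {r : ℕ} (hr : r < D.nroots) : ng D r ≠ r := by
  have := G.even_n; unfold ng; omega

theorem ng_pos_iff {r : ℕ} (hr : r < D.nroots) : npos D ≤ ng D r ↔ r < npos D := by
  have := G.even_n; unfold ng; omega

theorem negIdx_getD {r : ℕ} (hr : r < D.nroots) : D.negIdx.getD r 0 = ng D r := by
  rw [getD_toList, G.basicFacts.negIdx, List.getD_eq_getElem?_getD]
  simp [hr]

theorem neg_eq {r : ℕ} (hr : r < D.nroots) : D.neg r = ng D r := G.negIdx_getD hr

theorem simple_eq (i : ℕ) : D.simple i = sim D i := rfl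

theorem sim_lt {i : ℕ} (hi : i < D.rank) : sim D i < D.nroots := (G.basicFacts.simples i hi).1

theorem sim_pos {i : ℕ} (hi : i < D.rank) : npos D ≤ sim D i := (G.basicFacts.simples i hi).2.1

theorem k_sim {i j : ℕ} (hi : i < D.rank) (hj : j < D.rank) :
    T.k j (sim D i) = if j = i then 1 else 0 := ((G.basicFacts.simples i hi).2.2.1 j hj).1

theorem c_sim {i j : ℕ} (hi : i < D.rank) (hj : j < D.rank) :
    T.c (sim D i) j = if j = i then 1 else 0 := ((G.basicFacts.simples i hi).2.2.1 j hj).2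

theorem A_sim {i : ℕ} (hi : i < D.rank) : T.A i (sim D i) = 2 := (G.basicFacts.simples i hi).2.2.2.1

theorem w_sim {i : ℕ} (hi : i < D.rank) : T.w i (sim D i) = ng D (sim D i) :=
  (G.basicFacts.simples i hi).2.2.2.2.1

theorem eta_sim {i : ℕ} (hi : i < D.rank) : T.eta i (sim D i) = -1 :=
  (G.basicFacts.simples i hi).2.2.2.2.2

theorem k_ng {r i : ℕ} (hr : r < D.nroots) (hi : i < D.rank) : T.k i (ng D r) = - T.k i r :=
  (G.basicFacts.neg_coef r hr i hi).1

theorem c_ng {r i : ℕ} (hr : r < D.nroots) (hi : i < D.rank) : T.c (ng D r) i = - T.c r i :=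
  (G.basicFacts.neg_coef r hr i hi).2

theorem A_linear {i s : ℕ} (hi : i < D.rank) (hs : s < D.nroots) :
    T.A i s = ∑ j ∈ Finset.range D.rank, T.k j s * T.A i (sim D j) :=
  G.basicFacts.A_linear i hi s hs

theorem A_ng {r i : ℕ} (hr : r < D.nroots) (hi : i < D.rank) : T.A i (ng D r) = - T.A i r := by
  rw [G.A_linear hi (G.ng_lt hr), G.A_linear hi hr, ← Finset.sum_neg_distrib]
  refine Finset.sum_congr rfl fun j hj => ?_
  rw [G.k_ng hr (Finset.mem_range.1 hj), neg_mul]

theorem isPos_iff {r : ℕ} : D.IsPosRoot r ↔ r < D.nroots ∧ npos D ≤ r :=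
  ⟨fun h => ⟨h.1, (G.basicFacts.pos r h.1).1.1 h⟩, fun h => (G.basicFacts.pos r h.1).1.2 h.2⟩

theorem isNeg_iff {r : ℕ} : D.IsNegRoot r ↔ r < D.nroots ∧ r < npos D :=
  ⟨fun h => ⟨h.1, (G.basicFacts.pos r h.1).2.1 h⟩, fun h => (G.basicFacts.pos r h.1).2.2 h.2⟩

theorem posRoots_eq : D.posRoots = (List.range D.nroots).filter fun r => decide (npos D ≤ r) := by
  unfold ChevalleyDatum.posRoots
  refine List.filter_congr fun r hr => ?_
  have := List.mem_range.1 hr
  simp [G.isPos_iff, this]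

theorem cartan_eq {i r : ℕ} (hi : i < D.rank) (hr : r < D.nroots) : D.cartan i r = T.A i r := by
  unfold ChevalleyDatum.cartan
  have h := congrArg (fun L => (L.getD i []).getD r 0) G.basicFacts.cartan
  simp only [List.getD_eq_getElem?_getD, List.getElem?_map, List.getElem?_range hi,
    Option.map_some, Option.getD_some, List.getElem?_range hr] at h
  rw [getD_toList, getD_toList, List.getD_eq_getElem?_getD, List.getD_eq_getElem?_getD, ← h]
  cases D.cartanSR.toList[i]? <;> simp

theorem coroot_eq {r i : ℕ} (hr : r < D.nroots) (hi : i < D.rank) :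
    (D.coroot.getD r #[]).getD i 0 = T.c r i := by
  have h := congrArg (fun L => (L.getD r []).getD i 0) G.basicFacts.coroot
  simp only [List.getD_eq_getElem?_getD, List.getElem?_map, List.getElem?_range hr,
    Option.map_some, Option.getD_some, List.getElem?_range hi] at h
  rw [getD_toList, getD_toList, List.getD_eq_getElem?_getD, List.getD_eq_getElem?_getD, ← h]
  cases D.coroot.toList[r]? <;> simp

theorem code_strictMono {r s : ℕ} (hrs : r < s) (hs : s < D.nroots) : code D T r < code D T s := by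
  induction s with
  | zero => omega
  | succ s ih =>
    have h := G.basicFacts.code_lt s (by omega)
    rcases Nat.lt_succ_iff_lt_or_eq.1 hrs with h' | rfl
    · exact lt_trans (ih h' (by omega)) h
    · exact h

/-- Roots are determined by their coefficients. -/
theorem eq_of_k_eq {r s : ℕ} (hr : r < D.nroots) (hs : s < D.nroots)
    (h : ∀ i < D.rank, T.k i r = T.k i s) : r = s := by
  have hc : code D T r = code D T s := by
    unfold code
    have key : ∀ (l : List ℕ) (a : ℤ), (∀ i ∈ l, T.k i r = T.k i s) →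
        l.foldl (fun a i => a * 16 + T.k i r) a = l.foldl (fun a i => a * 16 + T.k i s) a := by
      intro l
      induction l with
      | nil => intros; rfl
      | cons i l ih =>
        intro a hl
        simp only [List.foldl_cons, hl i List.mem_cons_self]
        exact ih _ fun j hj => hl j (List.mem_cons_of_mem _ hj)
    exact key _ 0 fun i hi => h i (List.mem_range.1 hi)
  rcases lt_trichotomy r s with h' | h' | h'
  · exact absurd hc (G.code_strictMono h' hs).ne
  · exact h'
  · exact absurd hc (G.code_strictMono h' hr).ne'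

theorem row_spec {r : ℕ} (hr : r < D.nroots) :
    (∀ e ∈ row D r, e.1 < D.nroots) ∧ ∀ s < D.nroots,
      (T.ch r s = [] ∧ (row D r).filter (fun e => e.1 = s) = []) ∨
      (field (T.chainT.get r) 48 s ≠ 0 ∧ ∃ a : Array (ℕ × ℤ), a.toList = T.ch r s ∧
        (row D r).filter (fun e => e.1 = s) = [(s, a)]) := by
  have h := walkRows_spec D.chain.toList 0 G.basicFacts.rows r (by rw [G.basicFacts.chain_length]; exact hr)
  rw [Nat.zero_add] at h
  obtain ⟨hlo, hsp⟩ := walk_spec _ _ _ _ h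
  refine ⟨fun e he => by have := (hlo e he).2; omega, fun s hs => ?_⟩
  rcases hsp s (Nat.zero_le _) (by omega) with ⟨h0, hf⟩ | ⟨h0, a, ha, hf⟩
  · exact Or.inl ⟨by rw [Tables.ch, h0]; rfl, hf⟩
  · exact Or.inr ⟨h0, a, ha, hf⟩

theorem chainEntry_eq {r s : ℕ} (hr : r < D.nroots) (hs : s < D.nroots) :
    D.chainEntry r s = T.ch r s := by
  unfold ChevalleyDatum.chainEntry
  rw [getD_toList, ← List.head?_filter]
  rcases (G.row_spec hr).2 s hs with ⟨h0, hf⟩ | ⟨-, a, ha, hf⟩
  · have hf' : (D.chain.toList.getD r #[]).toList.filter (fun e => decide (e.1 = s)) = [] := hf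
    rw [hf', h0]; rfl
  · have hf' : (D.chain.toList.getD r #[]).toList.filter (fun e => decide (e.1 = s)) = [(s, a)] := hf
    rw [hf']; exact ha

theorem chainCoeff_eq {r s : ℕ} (u : ℕ) (hr : r < D.nroots) (hs : s < D.nroots) :
    D.chainCoeff r s u =
      ((T.ch r s).zipIdx.filter (fun q => q.1.1 = u)).map fun q => (q.2 + 1, q.1.2) := by
  unfold ChevalleyDatum.chainCoeff
  rw [getD_toList]
  rcases (G.row_spec hr).2 s hs with ⟨h0, hf⟩ | ⟨-, a, ha, hf⟩
  · have hf' : (D.chain.toList.getD r #[]).toList.filter (fun e => decide (e.1 = s)) = [] := hf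
    rw [hf', h0]; rfl
  · have hf' : (D.chain.toList.getD r #[]).toList.filter (fun e => decide (e.1 = s)) = [(s, a)] := hf
    rw [hf', List.flatMap_cons, List.flatMap_nil, List.append_nil, ← ha]

theorem ch_mem_row {r s : ℕ} (hr : r < D.nroots) (hs : s < D.nroots) (h : T.ch r s ≠ []) :
    ∃ a : Array (ℕ × ℤ), (s, a) ∈ row D r ∧ a.toList = T.ch r s := by
  rcases (G.row_spec hr).2 s hs with ⟨h0, -⟩ | ⟨-, a, ha, hf⟩
  · exact absurd h0 h
  · exact ⟨a, List.mem_of_mem_filter (hf ▸ List.mem_singleton_self _), ha⟩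

theorem chkEntry_of_ne {r s : ℕ} (hr : r < D.nroots) (hs : s < D.nroots) (h : T.ch r s ≠ []) :
    chkEntry D T r s (T.ch r s) = true := by
  obtain ⟨a, ha, ha'⟩ := G.ch_mem_row hr hs h
  have h1 := List.all_eq_true.1 (allLt_eq_true G.chain r hr) _ ha
  rwa [ha'] at h1

theorem ch_valid {r s : ℕ} (hr : r < D.nroots) (hs : s < D.nroots) (h : T.ch r s ≠ []) :
    s ≠ r ∧ s ≠ ng D r ∧ (T.ch r s).length ≤ 3 ∧ T.ch s r ≠ [] := by
  have h1 := G.chkEntry_of_ne hr hs h
  simp only [chkEntry, Bool.and_eq_true, decide_eq_true_eq] at h1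
  exact ⟨h1.1.1.1.1.1.2, h1.1.1.1.1.2, h1.1.1.1.2, h1.1.1.2⟩

theorem ch_self {r : ℕ} (hr : r < D.nroots) : T.ch r r = [] := by
  by_contra h
  exact (G.ch_valid hr hr h).1 rfl

theorem ch_ng {r : ℕ} (hr : r < D.nroots) : T.ch r (ng D r) = [] := by
  by_contra h
  exact (G.ch_valid hr (G.ng_lt hr) h).2.1 rfl

theorem ch_length_le {r s : ℕ} (hr : r < D.nroots) (hs : s < D.nroots) :
    (T.ch r s).length ≤ 3 := by
  by_cases h : T.ch r s = []
  · simp [h]
  · exact (G.ch_valid hr hs h).2.2.1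

/-- The `m`-th entry of a chain. -/
theorem ch_entry {r s m u : ℕ} {M : ℤ} (hr : r < D.nroots) (hs : s < D.nroots)
    (hm : (T.ch r s)[m]? = some (u, M)) :
    u < D.nroots ∧ u ≠ r ∧ u ≠ ng D r ∧ (npos D ≤ r → s < u) ∧ (r < npos D → u < s) ∧
      (∀ i < D.rank, T.k i u = ((m : ℤ) + 1) * T.k i r + T.k i s) ∧
      (T.ch r u).length + (m + 1) = (T.ch r s).length ∧
      ∀ j u' M', (T.ch r u)[j]? = some (u', M') → ∃ M'',
        (T.ch r s)[m + 1 + j]? = some (u', M'') ∧
          M' * M = (Nat.choose (m + j + 2) (m + 1) : ℤ) * M'' := by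
  obtain ⟨hml, hget⟩ := List.getElem?_eq_some_iff.1 hm
  have hne : T.ch r s ≠ [] := by intro h; simp [h] at hml
  have h1 := G.chkEntry_of_ne hr hs hne
  simp only [chkEntry, Bool.and_eq_true, decide_eq_true_eq] at h1
  have h2 := allLt_eq_true h1.1.2 m hml
  have hd : (T.ch r s).getD m (0, 0) = (u, M) := by
    rw [List.getD_eq_getElem _ _ hml, hget]
  simp only [hd, Bool.and_eq_true, decide_eq_true_eq, beq_iff_eq] at h2
  obtain ⟨⟨⟨⟨⟨⟨a1, a2⟩, a3⟩, a4⟩, a5⟩, a6⟩, a7⟩ := h2
  refine ⟨a1, a2, a3, fun h => ?_, fun h => ?_, fun i hi => ?_, a6, fun j u' M' hj => ?_⟩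
  · rw [if_pos h] at a4; simpa using a4
  · rw [if_neg (by omega)] at a4; simpa using a4
  · simpa using allLt_eq_true a5 i hi
  · obtain ⟨hjl, hjget⟩ := List.getElem?_eq_some_iff.1 hj
    have h3 := allLt_eq_true a7 j hjl
    have hlt : m + 1 + j < (T.ch r s).length := by omega
    simp only [List.getD_eq_getElem _ _ hjl, hjget, List.getD_eq_getElem _ _ hlt,
      Bool.and_eq_true, beq_iff_eq] at h3
    refine ⟨((T.ch r s)[m + 1 + j]).2, ?_, h3.2⟩
    rw [List.getElem?_eq_some_iff]
    exact ⟨hlt, Prod.ext h3.1.symm rfl⟩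

theorem ch_third {r s : ℕ} (hr : r < D.nroots) (hs : s < D.nroots) (h : (T.ch r s).length = 3) :
    (3 ∣ T.chM ((T.chRoot r s 1).getD 0) r 2) ∧ (3 ∣ T.chM ((T.chRoot r s 1).getD 0) s 2) ∧
    (3 ∣ T.chM ((T.chRoot s r 1).getD 0) r 2) ∧ (3 ∣ T.chM ((T.chRoot s r 1).getD 0) s 2) := by
  have h1 := G.chkEntry_of_ne hr hs (by intro h'; simp [h'] at h)
  simp only [chkEntry, Bool.and_eq_true, if_pos h, beq_iff_eq, decide_eq_true_eq] at h1
  exact ⟨Int.dvd_of_emod_eq_zero h1.2.1.1.1, Int.dvd_of_emod_eq_zero h1.2.1.1.2,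
    Int.dvd_of_emod_eq_zero h1.2.1.2, Int.dvd_of_emod_eq_zero h1.2.2⟩

theorem A_chain {r s m u : ℕ} {M : ℤ} {i : ℕ} (hi : i < D.rank) (hr : r < D.nroots)
    (hs : s < D.nroots) (hm : (T.ch r s)[m]? = some (u, M)) :
    T.A i u = ((m : ℤ) + 1) * T.A i r + T.A i s := by
  obtain ⟨hu, -, -, -, -, hk, -⟩ := G.ch_entry hr hs hm
  rw [G.A_linear hi hu, G.A_linear hi hr, G.A_linear hi hs, Finset.mul_sum,
    ← Finset.sum_add_distrib]
  refine Finset.sum_congr rfl fun j hj => ?_
  rw [hk j (Finset.mem_range.1 hj)]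
  ring

theorem refl_all {i s : ℕ} (hi : i < D.rank) (hs : s < D.nroots) :
    T.w i s < D.nroots ∧ T.w i (T.w i s) = s ∧ T.w i (ng D s) = ng D (T.w i s) ∧
      T.eta i (ng D s) = T.eta i s ∧
      T.eta i s * T.eta i (T.w i s) = (if T.A i s % 2 = 0 then 1 else -1) ∧
      (∀ j < D.rank, T.k j (T.w i s) = T.k j s - (if j = i then T.A i s else 0) ∧
        T.c (T.w i s) j = T.c s j - if j = i then
          ∑ m ∈ Finset.range D.rank, T.c s m * T.A m (sim D i) else 0) ∧
      ((npos D ≤ s ↔ npos D ≤ T.w i s) ∨ s = sim D i ∨ s = ng D (sim D i)) := by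
  have h := G.refl
  simp only [chkRefl, Bool.and_eq_true] at h
  have h1 := allLt_eq_true (allLt_eq_true h.1 i hi) s hs
  simp only [Bool.and_eq_true, decide_eq_true_eq, beq_iff_eq, Bool.or_eq_true] at h1
  obtain ⟨⟨⟨⟨⟨⟨a1, a2⟩, a3⟩, a4⟩, a5⟩, a6⟩, a7⟩ := h1
  refine ⟨a1, a2, a3, a4, a5, fun j hj => ?_, ?_⟩
  · have h2 := allLt_eq_true a6 j hj
    simp only [Bool.and_eq_true, beq_iff_eq] at h2
    rw [← isum_eq]
    exact h2
  · rcases a7 with (h' | h') | h'
    · exact Or.inl (by simpa using h')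
    · exact Or.inr (Or.inl h')
    · exact Or.inr (Or.inr h')

theorem w_lt {i s : ℕ} (hi : i < D.rank) (hs : s < D.nroots) : T.w i s < D.nroots :=
  (G.refl_all hi hs).1

theorem w_w {i s : ℕ} (hi : i < D.rank) (hs : s < D.nroots) : T.w i (T.w i s) = s :=
  (G.refl_all hi hs).2.1

theorem w_ng {i s : ℕ} (hi : i < D.rank) (hs : s < D.nroots) :
    T.w i (ng D s) = ng D (T.w i s) := (G.refl_all hi hs).2.2.1

theorem eta_ng {i s : ℕ} (hi : i < D.rank) (hs : s < D.nroots) : T.eta i (ng D s) = T.eta i s :=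
  (G.refl_all hi hs).2.2.2.1

theorem eta_w {i s : ℕ} (hi : i < D.rank) (hs : s < D.nroots) :
    T.eta i s * T.eta i (T.w i s) = (-1) ^ (T.A i s).natAbs := by
  rw [(G.refl_all hi hs).2.2.2.2.1, neg_one_pow_eq_ite]
  congr 1
  exact propext ⟨fun h => Int.natAbs_even.2 (Int.even_iff.2 h),
    fun h => Int.even_iff.1 (Int.natAbs_even.1 h)⟩

theorem k_w {i s j : ℕ} (hi : i < D.rank) (hs : s < D.nroots) (hj : j < D.rank) :
    T.k j (T.w i s) = T.k j s - if j = i then T.A i s else 0 :=
  ((G.refl_all hi hs).2.2.2.2.2.1 j hj).1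

theorem c_w {i s j : ℕ} (hi : i < D.rank) (hs : s < D.nroots) (hj : j < D.rank) :
    T.c (T.w i s) j = T.c s j -
      if j = i then ∑ m ∈ Finset.range D.rank, T.c s m * T.A m (sim D i) else 0 :=
  ((G.refl_all hi hs).2.2.2.2.2.1 j hj).2

theorem A_w {i s j : ℕ} (hi : i < D.rank) (hs : s < D.nroots) (hj : j < D.rank) :
    T.A j (T.w i s) = T.A j s - T.A i s * T.A j (sim D i) := by
  rw [G.A_linear hj (G.w_lt hi hs), G.A_linear hj hs]
  rw [Finset.sum_congr rfl (fun m hm => by rw [G.k_w hi hs (Finset.mem_range.1 hm), sub_mul,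
    ite_mul, zero_mul]), Finset.sum_sub_distrib, Finset.sum_ite_eq', if_pos (Finset.mem_range.2 hi)]

theorem pos_w {i s : ℕ} (hi : i < D.rank) (hs : s < D.nroots) (h1 : s ≠ sim D i)
    (h2 : s ≠ ng D (sim D i)) : npos D ≤ s ↔ npos D ≤ T.w i s :=
  ((G.refl_all hi hs).2.2.2.2.2.2).resolve_right (by simp [h1, h2])

theorem exists_lower {r : ℕ} (hr : r < D.nroots) (hp : npos D ≤ r)
    (hns : ∀ i < D.rank, r ≠ sim D i) : ∃ i < D.rank, npos D ≤ T.w i r ∧ T.w i r < r := by
  have h := G.refl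
  simp only [chkRefl, Bool.and_eq_true] at h
  have h1 := allLt_eq_true h.2 r hr
  simp only [Bool.or_eq_true, decide_eq_true_eq] at h1
  rcases h1 with (h1 | h1) | h1
  · omega
  · obtain ⟨i, hi, h2⟩ := anyLt_eq_true h1
    exact absurd (by simpa using h2) (hns i hi)
  · obtain ⟨i, hi, h2⟩ := anyLt_eq_true h1
    exact ⟨i, hi, by simpa using h2⟩

theorem ch_equiv {i r s : ℕ} (hi : i < D.rank) (hr : r < D.nroots) (hs : s < D.nroots) :
    T.ch (T.w i r) (T.w i s) = (T.ch r s).zipIdx.map fun q => (T.w i q.1.1,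
      T.eta i r ^ (q.2 + 1) * T.eta i s * T.eta i q.1.1 * q.1.2) := by
  have key : ∀ {r s : ℕ}, r < D.nroots → s < D.nroots → T.ch r s ≠ [] →
      T.ch (T.w i r) (T.w i s) = (T.ch r s).zipIdx.map fun q => (T.w i q.1.1,
        T.eta i r ^ (q.2 + 1) * T.eta i s * T.eta i q.1.1 * q.1.2) := by
    intro r s hr hs h
    obtain ⟨a, ha, ha'⟩ := G.ch_mem_row hr hs h
    have h1 := List.all_eq_true.1 (allLt_eq_true (allLt_eq_true G.equiv i hi) r hr) _ ha
    simp only [beq_iff_eq, ha', ipow_eq] at h1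
    exact h1
  by_cases h : T.ch r s = []
  · rw [h]
    by_contra h'
    have h2 := key (G.w_lt hi hr) (G.w_lt hi hs) (by simpa using h')
    rw [G.w_w hi hr, G.w_w hi hs, h] at h2
    have := congrArg List.length h2
    simp at this
    simp at h'
    exact h' (List.length_eq_zero_iff.1 this.symm)
  · exact key hr hs h

theorem ncol_ok {i a : ℕ} (hi : i < D.rank) (ha : a < D.nroots + D.rank) :
    eqVec (applyWord D T (nw D (sim D i)) [(a, 1)]) (ncol D T i a) = true :=
  allLt_eq_true (allLt_eq_true G.ncols i hi) a ha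

end Good

end Cfsg.Agent.Lib.Chev
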