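import Cfsg.Agent.Lib.Chev.FoldF4Hom

/-!
Three classes of F4(2) in the twisted group of type E6 over four elements.
-/

set_option autoImplicit false
set_option maxRecDepth 100000
set_option linter.unusedSectionVars false

namespace Cfsg.Agent.Lib.Chev.FoldF4

open Cfsg.Lie
open Cfsg.Agent.Lib.Chev
open scoped Matrix

variable {K : Type*} [Field K]

/-- The exponent of the outer diagonal automorphism. -/
def ee (r : ℕ) : ℤ := tabE6.k 0 r + 2 * tabE6.k 5 r

/-- Its character. -/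
def chi (ω : K) (m : ℤ) (r : ℕ) : K := ω ^ (m * ee r)

theorem isChar_chi {ω : K} (hω : ω ≠ 0) (m : ℤ) : IsChar chevE6 tabE6 (chi ω m) := by
  have h0 : IsChar chevE6 tabE6 fun s => (ω ^ m) ^ tabE6.k 0 s :=
    E.isChar_k (show 0 < chevE6.rank by decide) (zpow_ne_zero _ hω)
  have h5 : IsChar chevE6 tabE6 fun s => (ω ^ (2 * m)) ^ tabE6.k 5 s :=
    E.isChar_k (show 5 < chevE6.rank by decide) (zpow_ne_zero _ hω)
  have e : ∀ r, chi ω m r = (ω ^ m) ^ tabE6.k 0 r * (ω ^ (2 * m)) ^ tabE6.k 5 r := by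
    intro r
    rw [← zpow_mul, ← zpow_mul, ← zpow_add₀ hω, chi, ee]
    congr 1
    ring
  constructor
  · intro r hr
    rw [e, e]
    linear_combination (ω ^ (2 * m)) ^ tabE6.k 5 (ng chevE6 r) * (ω ^ (2 * m)) ^ tabE6.k 5 r *
      h0.neg r hr + h5.neg r hr
  · intro r s j u M hr hs hj
    rw [e, e, e, h0.chain r s j u M hr hs hj, h5.chain r s j u M hr hs hj, mul_pow]
    ring

/-- The outer diagonal automorphism. -/
noncomputable def dd (ω : K) (hω : ω ≠ 0) (m : ℤ) : GL chevE6.Idx K where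
  val := dmat chevE6 (chi ω m)
  inv := dmat chevE6 (chi ω (-m))
  val_inv := by
    rw [dmat_mul, ← dmat_one]
    exact dmat_congr fun s _ => by
      show ω ^ (m * ee s) * ω ^ (-m * ee s) = 1
      rw [← zpow_add₀ hω, ← add_mul, add_neg_cancel, zero_mul, zpow_zero]
  inv_val := by
    rw [dmat_mul, ← dmat_one]
    exact dmat_congr fun s _ => by
      show ω ^ (-m * ee s) * ω ^ (m * ee s) = 1
      rw [← zpow_add₀ hω, ← add_mul, neg_add_cancel, zero_mul, zpow_zero]

theorem dd_val (ω : K) (hω : ω ≠ 0) (m : ℤ) :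
    (dd ω hω m : Matrix chevE6.Idx chevE6.Idx K) = dmat chevE6 (chi ω m) := rfl

theorem dd_mul (ω : K) (hω : ω ≠ 0) (m n : ℤ) : dd ω hω m * dd ω hω n = dd ω hω (m + n) := by
  refine Units.ext ?_
  rw [Units.val_mul, dd_val, dd_val, dd_val, dmat_mul]
  exact dmat_congr fun s _ => by
    show ω ^ (m * ee s) * ω ^ (n * ee s) = ω ^ ((m + n) * ee s)
    rw [← zpow_add₀ hω, ← add_mul]

theorem dd_inv (ω : K) (hω : ω ≠ 0) (m : ℤ) : (dd ω hω m)⁻¹ = dd ω hω (-m) :=
  Units.ext rfl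

theorem dd_X (ω : K) (hω : ω ≠ 0) (m : ℤ) {r : ℕ} (hr : r < chevE6.nroots) (t : K) :
    dd ω hω m * E.X K r t * (dd ω hω m)⁻¹ = E.X K r (chi ω m r * t) :=
  E.diag_conj_X (dd_val ω hω m) (isChar_chi hω m) hr t

/-- The twisted group. -/
noncomputable def TG (K : Type*) [Field K] : Subgroup (GL chevE6.Idx K) := twistedE6 K 2

theorem TG_le : TG K ≤ chevE6.group K := by
  refine Tw.genSubgroup_le E ?_
  have hg : ∀ a t, a < 72 → E.X K a t ∈ chevE6.group K := fun a t ha => E.X_mem_group ha t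
  rintro w (⟨t, -, r, hr, rfl⟩ | ⟨t, rs, hr, rfl⟩)
  · simp only [e6p2, e6m2, e6p4, e6m4, List.mem_cons, List.not_mem_nil, or_false] at hr
    simp only [Good.wordG, List.map_cons, List.map_nil, List.prod_cons, List.prod_nil, mul_one]
    exact hg r t (by omega)
  · simp only [e6p1, e6p6, e6m1, e6m6, e6p3, e6p5, e6m3, e6m5, List.mem_cons, List.not_mem_nil,
      or_false] at hr
    simp only [Good.wordG, List.map_cons, List.map_nil, List.prod_cons, List.prod_nil, mul_one]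
    rcases hr with rfl | rfl | rfl | rfl <;>
      exact mul_mem (hg _ _ (by norm_num)) (hg _ _ (by norm_num))

theorem dd_TG (ω : K) (hω : ω ≠ 0) (hω3 : ω ^ 3 = 1) (m : ℤ) {g : GL chevE6.Idx K}
    (hg : g ∈ TG K) : dd ω hω m * g * (dd ω hω m)⁻¹ ∈ TG K := by
  have h : TG K ≤ (TG K).comap (MulAut.conj (dd ω hω m)).toMonoidHom := by
    refine Tw.genSubgroup_le E ?_
    rintro w (⟨t, ht, r, hr, rfl⟩ | ⟨t, rs, hr, rfl⟩)
    · have hr72 : r < 72 := by
        simp only [e6p2, e6m2, e6p4, e6m4, List.mem_cons, List.not_mem_nil, or_false] at hr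
        omega
      have he : ee r = 0 := by
        simp only [e6p2, e6m2, e6p4, e6m4, List.mem_cons, List.not_mem_nil, or_false] at hr
        rcases hr with rfl | rfl | rfl | rfl <;> decide +kernel
      show dd ω hω m * E.wordG [(r, t)] * (dd ω hω m)⁻¹ ∈ TG K
      have e : dd ω hω m * E.wordG [(r, t)] * (dd ω hω m)⁻¹ = E.wordG [(r, t)] := by
        simp only [Good.wordG, List.map_cons, List.map_nil, List.prod_cons, List.prod_nil, mul_one]
        rw [dd_X ω hω m hr72, chi, he, mul_zero, zpow_zero, one_mul]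
      rw [e]
      exact Tw.gen_mem E (Or.inl ⟨t, ht, r, hr, rfl⟩)
    · show dd ω hω m * E.wordG [(rs.1, t), (rs.2, t ^ 2)] * (dd ω hω m)⁻¹ ∈ TG K
      have hrs : rs.1 < 72 ∧ rs.2 < 72 ∧
          ∃ j : ℤ, ee rs.2 = 2 * ee rs.1 + 3 * j := by
        simp only [e6p1, e6p6, e6m1, e6m6, e6p3, e6p5, e6m3, e6m5, List.mem_cons,
          List.not_mem_nil, or_false] at hr
        rcases hr with rfl | rfl | rfl | rfl <;>
          exact ⟨by norm_num, by norm_num, 0, by decide +kernel⟩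
      obtain ⟨h1, h2, j, hj⟩ := hrs
      have e : dd ω hω m * E.wordG [(rs.1, t), (rs.2, t ^ 2)] * (dd ω hω m)⁻¹ =
          E.wordG [(rs.1, chi ω m rs.1 * t), (rs.2, (chi ω m rs.1 * t) ^ 2)] := by
        have hsq : chi ω m rs.2 = chi ω m rs.1 ^ 2 := by
          rw [chi, chi, hj, ← zpow_natCast (ω ^ (m * ee rs.1)), ← zpow_mul,
            show m * (2 * ee rs.1 + 3 * j) = m * ee rs.1 * 2 + 3 * (m * j) by ring,
            zpow_add₀ hω, zpow_mul ω 3, show (3 : ℤ) = ((3 : ℕ) : ℤ) from rfl, zpow_natCast, hω3,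
            one_zpow, mul_one]
          norm_num
        simp only [Good.wordG, List.map_cons, List.map_nil, List.prod_cons, List.prod_nil, mul_one]
        rw [mul_pow, ← hsq, ← dd_X ω hω m h1 t, ← dd_X ω hω m h2 (t ^ 2)]
        group
      rw [e]
      exact Tw.gen_mem E (Or.inr ⟨chi ω m rs.1 * t, rs, hr, rfl⟩)
  exact h hg

theorem img_TG (h2 : (2 : K) = 0) {r : ℕ} (hr : r < 48) (t : F2) : img K r t ∈ TG K := by
  suffices key : ∀ r, ∀ h : r < chevF4.nroots, ∀ t : F2,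
      emb (K := K) h2 ⟨Q.X F2 r t, Q.X_mem_group h t⟩ ∈ TG K by
    rw [← emb_X h2 hr t]
    exact key r hr t
  have hbase : ∀ a ∈ [24, 23, 25, 22, 27, 20, 33, 14], W K (fold a) ∈ TG K := by
    intro a ha
    simp only [List.mem_cons, List.not_mem_nil, or_false] at ha
    rcases ha with rfl | rfl | rfl | rfl | rfl | rfl | rfl | rfl
    · exact Tw.gen_mem E (Or.inl ⟨1, one_pow 2, 46, by decide, rfl⟩)
    · exact Tw.gen_mem E (Or.inl ⟨1, one_pow 2, 25, by decide, rfl⟩)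
    · exact Tw.gen_mem E (Or.inl ⟨1, one_pow 2, 39, by decide, rfl⟩)
    · exact Tw.gen_mem E (Or.inl ⟨1, one_pow 2, 32, by decide, rfl⟩)
    · have e : W K (fold 27) = E.wordG [(42, (1 : K)), (37, (1 : K) ^ 2)] := by rw [one_pow]; rfl
      rw [e]
      exact Tw.gen_mem E (Or.inr ⟨1, (42, 37), by decide, rfl⟩)
    · have e : W K (fold 20) = E.wordG [(29, (1 : K)), (34, (1 : K) ^ 2)] := by rw [one_pow]; rfl
      rw [e]
      exact Tw.gen_mem E (Or.inr ⟨1, (29, 34), by decide, rfl⟩)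
    · have e : W K (fold 33) = E.wordG [(56, (1 : K)), (36, (1 : K) ^ 2)] := by rw [one_pow]; rfl
      rw [e]
      exact Tw.gen_mem E (Or.inr ⟨1, (56, 36), by decide, rfl⟩)
    · have e : W K (fold 14) = E.wordG [(15, (1 : K)), (35, (1 : K) ^ 2)] := by rw [one_pow]; rfl
      rw [e]
      exact Tw.gen_mem E (Or.inr ⟨1, (15, 35), by decide, rfl⟩)
  have himg : ∀ a ∈ [24, 23, 25, 22, 27, 20, 33, 14], ∀ t : F2, img K a t ∈ TG K := by
    intro a ha t
    rcases f2_cases t with rfl | rfl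
    · rw [img_zero]; exact one_mem _
    · rw [img_one]; exact hbase a ha
  have hsim : ∀ i < chevF4.rank, sim chevF4 i ∈ [24, 23, 25, 22, 27, 20, 33, 14] ∧
      ng chevF4 (sim chevF4 i) ∈ [24, 23, 25, 22, 27, 20, 33, 14] := by
    show ∀ i < 4, _
    decide +kernel
  let C : ℕ → Prop := fun r => ∀ (h : r < chevF4.nroots) (t : F2),
    emb (K := K) h2 ⟨Q.X F2 r t, Q.X_mem_group h t⟩ ∈ TG K
  have hall : ∀ r < chevF4.nroots, C r := by
    refine Q.root_induction (C := C) (fun i hi h t => ?_) fun i r hi hr ih h t => ?_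
    · rw [emb_X h2 h]; exact himg _ (hsim i hi).1 t
    · have hni : emb (K := K) h2 ⟨Q.ni F2 i, Q.ni_mem_group hi⟩ ∈ TG K := by
        have e : (⟨Q.ni F2 i, Q.ni_mem_group hi⟩ : ↥(chevF4.group F2)) =
            ⟨Q.X F2 (sim chevF4 i) 1, Q.X_mem_group (Q.sim_lt hi) 1⟩ *
            ⟨Q.X F2 (ng chevF4 (sim chevF4 i)) (-(1 : F2)⁻¹),
              Q.X_mem_group (Q.ng_lt (Q.sim_lt hi)) _⟩ *
            ⟨Q.X F2 (sim chevF4 i) 1, Q.X_mem_group (Q.sim_lt hi) 1⟩ := Subtype.ext rfl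
        rw [e, map_mul, map_mul, emb_X h2 (Q.sim_lt hi), emb_X h2 (Q.ng_lt (Q.sim_lt hi))]
        exact mul_mem (mul_mem (himg _ (hsim i hi).1 _) (himg _ (hsim i hi).2 _))
          (himg _ (hsim i hi).1 _)
      have h1 := mul_mem (mul_mem hni (ih hr ((tabF4.eta i r : F2) * t))) (inv_mem hni)
      rw [← map_inv, ← map_mul, ← map_mul] at h1
      have e : (⟨Q.ni F2 i, Q.ni_mem_group hi⟩ : ↥(chevF4.group F2)) *
          ⟨Q.X F2 r ((tabF4.eta i r : F2) * t), Q.X_mem_group hr _⟩ *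
          (⟨Q.ni F2 i, Q.ni_mem_group hi⟩ : ↥(chevF4.group F2))⁻¹ =
          ⟨Q.X F2 (tabF4.w i r) t, Q.X_mem_group h t⟩ := by
        refine Subtype.ext ?_
        show Q.ni F2 i * Q.X F2 r _ * (Q.ni F2 i)⁻¹ = _
        rw [Q.ni_conj_X hi hr, ← mul_assoc, ← Int.cast_mul, Tables.eta_mul_self, Int.cast_one,
          one_mul]
      rwa [e] at h1
  exact fun r hr t => hall r hr hr t

theorem emb_mem_TG (h2 : (2 : K) = 0) (x : ↥(chevF4.group F2)) : emb (K := K) h2 x ∈ TG K := by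
  have h : chevF4.group F2 ≤ ((TG K).comap (emb (K := K) h2)).map (chevF4.group F2).subtype :=
    Q.group_le_of fun r hr t => ⟨⟨Q.X F2 r t, Q.X_mem_group hr t⟩,
      by show emb h2 _ ∈ TG K; rw [emb_X h2 hr]; exact img_TG h2 hr t, rfl⟩
  obtain ⟨y, hy, e⟩ := h x.2
  rwa [show y = x from Subtype.ext e] at hy

/-! ### The image of the positive unipotent group -/

/-- The image of the unipotent group. -/
noncomputable def VV (h2 : (2 : K) = 0) : Subgroup (GL chevE6.Idx K) :=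
  ((chevF4.posUnipotent F2).subgroupOf (chevF4.group F2)).map (emb h2)

theorem Co.diag {i : ℕ} (hi : i < chevE6.rank) {d : GL chevE6.Idx K} {χ : ℕ → K}
    (hd : (d : Matrix chevE6.Idx chevE6.Idx K) = dmat chevE6 χ) (hχ : IsChar chevE6 tabE6 χ)
    {v : GL chevE6.Idx K} {c : K} (hv : Co i v c) :
    Co i (d * v * d⁻¹) (χ (sim chevE6 i) * c) := by
  have h : E.USub K (keepSet chevE6 tabE6 [i]) ≤
      (E.USub K (keepSet chevE6 tabE6 [i])).comap (MulAut.conj d).toMonoidHom :=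
    E.USub_le_of fun q hq hp hqS t => by
      show d * E.X K q t * d⁻¹ ∈ E.USub K (keepSet chevE6 tabE6 [i])
      rw [E.diag_conj_X hd hχ hq]
      exact E.X_mem_USub hq hp hqS _
  have h1 : d * ((E.X K (sim chevE6 i) c)⁻¹ * v) * d⁻¹ ∈ E.USub K (keepSet chevE6 tabE6 [i]) := h hv
  have e : d * ((E.X K (sim chevE6 i) c)⁻¹ * v) * d⁻¹ =
      (d * E.X K (sim chevE6 i) c * d⁻¹)⁻¹ * (d * v * d⁻¹) := by group
  rw [e, E.diag_conj_X hd hχ (E.sim_lt hi)] at h1
  exact h1

theorem diag_pos {d : GL chevE6.Idx K} {χ : ℕ → K}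
    (hd : (d : Matrix chevE6.Idx chevE6.Idx K) = dmat chevE6 χ) (hχ : IsChar chevE6 tabE6 χ)
    {v : GL chevE6.Idx K} (hv : v ∈ chevE6.posUnipotent K) :
    d * v * d⁻¹ ∈ chevE6.posUnipotent K := by
  have h : chevE6.posUnipotent K ≤ (chevE6.posUnipotent K).comap (MulAut.conj d).toMonoidHom :=
    E.posUnipotent_le_of fun q hq hp t => by
      show d * E.X K q t * d⁻¹ ∈ chevE6.posUnipotent K
      rw [E.diag_conj_X hd hχ hq]
      exact E.X_mem_posUnipotent hq hp _
  exact h hv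

/-- Elements with binary coefficients. -/
def binSub (K : Type*) [Field K] (h2 : (2 : K) = 0) : Subgroup (GL chevE6.Idx K) where
  carrier := {v | v ∈ chevE6.posUnipotent K ∧ ∀ i < chevE6.rank, Co i v 0 ∨ Co i v 1}
  one_mem' := ⟨one_mem _, fun i _ => Or.inl (Co.one i)⟩
  mul_mem' := fun {v w} hv hw => ⟨mul_mem hv.1 hw.1, fun i hi => by
    rcases hv.2 i hi with h | h <;> rcases hw.2 i hi with h' | h'
    · exact Or.inl (by simpa using h.mul hi h')
    · exact Or.inr (by simpa using h.mul hi h')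
    · exact Or.inr (by simpa using h.mul hi h')
    · exact Or.inl (by simpa [one_add_one_eq_two, h2] using h.mul hi h')⟩
  inv_mem' := fun {v} hv => ⟨inv_mem hv.1, fun i hi => by
    rcases hv.2 i hi with h | h
    · exact Or.inl (by simpa using h.inv hi)
    · exact Or.inr (by simpa [neg_one_two h2] using h.inv hi)⟩

theorem VV_le (h2 : (2 : K) = 0) : VV (K := K) h2 ≤ binSub K h2 := by
  have hgen : ∀ r < 48, 24 ≤ r → ∀ t : F2, img K r t ∈ binSub K h2 := by
    intro r hr hp t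
    rcases f2_cases t with rfl | rfl
    · rw [img_zero]; exact one_mem _
    rw [img_one]
    have hw : ∀ q ∈ fold r, q < 72 ∧ 36 ≤ q := fun q hq => ⟨fold_lt hr hq, fold_pos hr hp hq⟩
    refine ⟨?_, fun i hi => ?_⟩
    · unfold W
      exact list_prod_mem fun x hx => by
        obtain ⟨p, hp', rfl⟩ := List.mem_map.1 hx
        obtain ⟨q, hq, rfl⟩ := List.mem_map.1 hp'
        exact E.X_mem_posUnipotent (hw q hq).1 (hw q hq).2 _
    · have h := Co.word (K := K) hi hw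
      rcases Nat.even_or_odd' ((fold r).count (sim chevE6 i)) with ⟨k, hk | hk⟩
      · refine Or.inl ?_
        simpa [hk, h2] using h
      · refine Or.inr ?_
        simpa [hk, h2] using h
  have h : chevF4.posUnipotent F2 ≤
      ((binSub K h2).comap (emb (K := K) h2)).map (chevF4.group F2).subtype :=
    Q.posUnipotent_le_of fun r hr hp t => ⟨⟨Q.X F2 r t, Q.X_mem_group hr t⟩,
      by show emb h2 _ ∈ binSub K h2; rw [emb_X h2 hr]; exact hgen r hr hp t, rfl⟩
  rintro v ⟨x, hx, rfl⟩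
  obtain ⟨y, hy, e⟩ := h hx
  rwa [show y = x from Subtype.ext e] at hy

theorem u0_mem (h2 : (2 : K) = 0) : u0 K ∈ VV (K := K) h2 := by
  have hmem : ∀ r < 48, 24 ≤ r → W K (fold r) ∈ VV (K := K) h2 := fun r hr hp =>
    ⟨⟨Q.X F2 r 1, Q.X_mem_group hr 1⟩, Q.X_mem_posUnipotent hr hp 1, by rw [emb_X h2 hr, img_one]⟩
  exact mul_mem (mul_mem (mul_mem (hmem 33 (by norm_num) (by norm_num))
    (hmem 27 (by norm_num) (by norm_num))) (hmem 25 (by norm_num) (by norm_num)))
    (hmem 24 (by norm_num) (by norm_num))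

theorem zp {c : K} (hc : c ≠ 0) (s : Finset ℕ) (e : ℕ → ℤ) :
    ∏ j ∈ s, c ^ e j = c ^ ∑ j ∈ s, e j := by
  induction s using Finset.induction_on with
  | empty => simp
  | insert a s ha ih => rw [Finset.prod_insert ha, Finset.sum_insert ha, ih, zpow_add₀ hc]

/-- The adjugate row. -/
def adj0 (j : ℕ) : ℤ := [4, 3, 5, 6, 4, 2].getD j 0

theorem not_inner {ω : K} (hω : ω ≠ 0) (h3 : ∀ x : K, x ≠ 0 → x ^ 3 = 1) (m : ℤ)
    {c : ℕ → K} (hc : ∀ i, c i ≠ 0)
    (h : ∀ i < chevE6.rank, tor chevE6 tabE6 c (sim chevE6 i) = chi ω m (sim chevE6 i)) :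
    ω ^ (8 * m) = 1 := by
  have hA : ∀ i < 6, ∑ j ∈ Finset.range 6, tabE6.A i (sim chevE6 j) * adj0 j =
      if i = 0 then 3 else 0 := by decide +kernel
  have hE : ∑ j ∈ Finset.range 6, ee (sim chevE6 j) * adj0 j = 8 := by decide +kernel
  have h1 : ∏ j ∈ Finset.range 6, (tor chevE6 tabE6 c (sim chevE6 j)) ^ adj0 j =
      ∏ i ∈ Finset.range 6, c i ^ ∑ j ∈ Finset.range 6, tabE6.A i (sim chevE6 j) * adj0 j := by
    have e : ∀ i ∈ Finset.range 6, c i ^ (∑ j ∈ Finset.range 6, tabE6.A i (sim chevE6 j) * adj0 j) =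
        ∏ j ∈ Finset.range 6, (c i ^ tabE6.A i (sim chevE6 j)) ^ adj0 j := fun i _ => by
      rw [← zp (hc i)]
      exact Finset.prod_congr rfl fun j _ => zpow_mul _ _ _
    rw [Finset.prod_congr rfl e, Finset.prod_comm]
    exact Finset.prod_congr rfl fun j _ => (Finset.prod_zpow _ _ _).symm
  have h2 : ∏ i ∈ Finset.range 6, c i ^ (∑ j ∈ Finset.range 6, tabE6.A i (sim chevE6 j) * adj0 j) =
      1 := by
    refine Finset.prod_eq_one fun i hi => ?_
    rw [hA i (Finset.mem_range.1 hi)]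
    split
    · exact_mod_cast h3 _ (hc i)
    · exact zpow_zero _
  have h4 : ∏ j ∈ Finset.range 6, (tor chevE6 tabE6 c (sim chevE6 j)) ^ adj0 j = ω ^ (8 * m) := by
    rw [show 8 * m = ∑ j ∈ Finset.range 6, m * ee (sim chevE6 j) * adj0 j from by
      rw [← hE, Finset.sum_mul]
      exact Finset.sum_congr rfl fun j _ => by ring, ← zp hω]
    exact Finset.prod_congr rfl fun j hj => by
      rw [h j (Finset.mem_range.1 hj), chi, ← zpow_mul]
  rw [← h4, h1, h2]

/-- Conjugates of the copy of F4(2) by distinct outer diagonal automorphisms are not conjugate. -/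
theorem not_conjugate [Fintype K] (h2 : (2 : K) = 0) {ω : K} (hω : ω ≠ 0)
    (h3 : ∀ x : K, x ≠ 0 → x ^ 3 = 1) (a b : ℤ) {g : GL chevE6.Idx K} (hg : g ∈ TG K)
    (hconj : ∀ y ∈ (emb (K := K) h2).range,
      ∃ y' ∈ (emb (K := K) h2).range,
        g * (dd ω hω a * y * (dd ω hω a)⁻¹) * g⁻¹ = dd ω hω b * y' * (dd ω hω b)⁻¹) :
    ω ^ (8 * (a - b)) = 1 := by
  set x := dd ω hω (-b) * g * dd ω hω a with hx
  have hnorm : ∀ y ∈ (emb (K := K) h2).range, x * y * x⁻¹ ∈ (emb (K := K) h2).range := by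
    intro y hy
    obtain ⟨y', hy', e⟩ := hconj y hy
    have e2 : x * y * x⁻¹ = y' := by
      rw [hx, ← dd_inv]
      calc (dd ω hω b)⁻¹ * g * dd ω hω a * y * ((dd ω hω b)⁻¹ * g * dd ω hω a)⁻¹
          = (dd ω hω b)⁻¹ * (g * (dd ω hω a * y * (dd ω hω a)⁻¹) * g⁻¹) * dd ω hω b := by group
        _ = _ := by rw [e]; group
    rwa [e2]
  obtain ⟨P, hP⟩ := Q.exists_sylow (F := F2) 2
  have hV : IsPGroup 2 ↥(VV (K := K) h2) := by
    rw [VV, ← hP]
    exact P.2.map _
  have hQp : IsPGroup 2 ↥(((VV (K := K) h2).map (MulAut.conj x).toMonoidHom).comap (emb (K := K) h2)) :=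
    (hV.map _).comap_of_injective _ (emb_injective h2)
  obtain ⟨P', hle⟩ := hQp.exists_le_sylow
  obtain ⟨f, hf⟩ := MulAction.exists_smul_eq ↥(chevF4.group F2) P P'
  have hfp : emb (K := K) h2 f ∈ TG K := emb_mem_TG h2 f
  -- the normalised element
  set z := (emb (K := K) h2 f)⁻¹ * x with hz
  have hzV : z * u0 K * z⁻¹ ∈ VV (K := K) h2 := by
    have hu : u0 K ∈ (emb (K := K) h2).range := by
      obtain ⟨q, -, e⟩ := u0_mem (K := K) h2
      exact ⟨q, e⟩
    obtain ⟨q, hq⟩ := hnorm _ hu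
    have hqQ : q ∈ ((VV (K := K) h2).map (MulAut.conj x).toMonoidHom).comap (emb (K := K) h2) :=
      ⟨u0 K, u0_mem h2, hq.symm⟩
    have hqP : f⁻¹ * q * f ∈ (P : Subgroup ↥(chevF4.group F2)) := by
      have h1 : q ∈ ((f • P : Sylow 2 ↥(chevF4.group F2)) : Subgroup ↥(chevF4.group F2)) := by
        rw [hf]; exact hle hqQ
      obtain ⟨w, hw, e⟩ := h1
      have e' : f * w * f⁻¹ = q := e
      rw [← e']
      have e3 : f⁻¹ * (f * w * f⁻¹) * f = w := by group
      rw [e3]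
      exact hw
    refine ⟨f⁻¹ * q * f, hP ▸ hqP, ?_⟩
    rw [map_mul, map_mul, map_inv, hq, hz]
    group
  set g' := dd ω hω (-(a - b)) * (emb (K := K) h2 f)⁻¹ * dd ω hω (a - b) *
    (dd ω hω (-a) * g * dd ω hω a) with hg'
  have hg'm : g' ∈ TG K := by
    refine mul_mem ?_ ?_
    · have := dd_TG ω hω (h3 ω hω) (-(a - b)) (inv_mem hfp)
      rwa [dd_inv, neg_neg] at this
    · have := dd_TG ω hω (h3 ω hω) (-a) hg
      rwa [dd_inv, neg_neg] at this
  have hzg : z = dd ω hω (a - b) * g' := by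
    rw [hz, hg', hx, ← dd_inv ω hω (a - b)]
    have e1 : dd ω hω (a - b) * dd ω hω (-a) = dd ω hω (-b) := by rw [dd_mul]; congr 1; ring
    calc (emb (K := K) h2 f)⁻¹ * (dd ω hω (-b) * g * dd ω hω a)
        = (emb (K := K) h2 f)⁻¹ * (dd ω hω (a - b) * dd ω hω (-a)) * g * dd ω hω a := by
          rw [e1]; group
      _ = _ := by group
  have hv := VV_le h2 hzV
  have hgu : g' * u0 K * g'⁻¹ =
      dd ω hω (-(a - b)) * (z * u0 K * z⁻¹) * (dd ω hω (-(a - b)))⁻¹ := by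
    rw [hzg, ← dd_inv ω hω (a - b)]
    group
  have hU : g' * u0 K * g'⁻¹ ∈ chevE6.posUnipotent K := by
    rw [hgu]
    exact diag_pos (dd_val ω hω _) (isChar_chi hω _) hv.1
  have hB := regular (TG_le hg'm) (Subgroup.mem_sup_left hU)
  obtain ⟨w, hw, h, hh, hwh⟩ := E.mem_borel.1 hB
  obtain ⟨c, hc, he⟩ := E.exists_tor hh
  have hfin : ∀ i < chevE6.rank,
      tor chevE6 tabE6 c (sim chevE6 i) = chi ω (-(a - b)) (sim chevE6 i) := by
    intro i hi
    have h1 := ((u0_co (K := K) hi).diag hi he (E.isChar_tor fun j _ => hc j)).conj hi hw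
    have e : w * (h * u0 K * h⁻¹) * w⁻¹ = g' * u0 K * g'⁻¹ := by rw [hwh]; group
    rw [e, mul_one] at h1
    rcases hv.2 i hi with hb | hb
    · have h4 := hb.diag hi (dd_val ω hω (-(a - b))) (isChar_chi hω _)
      rw [← hgu, mul_zero] at h4
      exact absurd (h1.unique hi h4) (E.tor_ne_zero (fun j _ => hc j) _)
    · have h4 := hb.diag hi (dd_val ω hω (-(a - b))) (isChar_chi hω _)
      rw [← hgu, mul_one] at h4
      exact h1.unique hi h4
  have h5 := not_inner hω h3 (-(a - b)) hc hfin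
  rwa [mul_neg, zpow_neg, inv_eq_one] at h5

end Cfsg.Agent.Lib.Chev.FoldF4
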