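import Cfsg.Agent.Lib.Chev.Tw.E6
import Cfsg.Agent.Lib.Chev.DataF4

/-!
The folding of the roots of E6 onto those of F4 and the commutator relations modulo two.
-/

set_option autoImplicit false
set_option maxRecDepth 100000

namespace Cfsg.Agent.Lib.Chev.FoldF4

open Cfsg.Lie
open Cfsg.Agent.Lib.Chev

/-- The orbit of E6 roots over each root of F4. -/
def foldL : List (List ℕ) :=
  [[0], [1], [2], [3, 5], [6], [8], [11], [4, 16], [7, 17], [9, 19], [12, 26], [10, 22], [13, 30],
    [14, 33], [15, 35], [18], [20], [27], [21, 23], [28, 31], [29, 34], [24], [32], [25], [46], [39],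
    [47], [42, 37], [40, 43], [48, 50], [44], [51], [53], [56, 36], [38, 57], [41, 58], [49, 61],
    [45, 59], [52, 62], [54, 64], [55, 67], [60], [63], [65], [66, 68], [69], [70], [71]]

def fold (r : ℕ) : List ℕ := foldL.getD r []

/-- The roots of the odd commutator terms. -/
def oddTerms (D : ChevalleyDatum) (T : Tables) (a b : ℕ) : List ℕ :=
  ((T.terms a b).filter fun c => c.2.1 % 2 != 0).map fun c => c.1

/-- Cancel or exchange the first pair out of order. -/
def step (key : ℕ → ℕ) : List ℕ → List ℕ
  | b :: a :: w =>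
    if b = a then (if b < 72 then w else b :: a :: w)
    else if key a < key b ∧ b < 72 ∧ a < 72 ∧ b ≠ ng chevE6 a then
      a :: b :: (oddTerms chevE6 tabE6 a b ++ w)
    else b :: step key (a :: w)
  | w => w

/-- Repeated collection. -/
def coll (key : ℕ → ℕ) : ℕ → List ℕ → List ℕ
  | 0, w => w
  | n + 1, w => coll key n (step key w)

/-- The image of the right-hand side of a relation. -/
def rhs (r s : ℕ) : List ℕ := (oddTerms chevF4 tabF4 r s).flatMap fold

/-- The order used for collection. -/
def key (r s q : ℕ) : ℕ := (fold r ++ fold s ++ rhs r s).idxOf q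

def chkPair (r s : ℕ) : Bool :=
  coll (key r s) 64 (fold s ++ fold r ++ fold s ++ fold r) == coll (key r s) 64 (rhs r s)

def chkRel : Bool :=
  allLt 48 fun r => coll (key r r) 8 (fold r ++ fold r) == [] && allLt 48 fun s =>
    r == s || s == ng chevF4 r || chkPair r s

def chkLt : Bool := allLt 48 fun r => (fold r).all fun q => decide (q < 72)

def chkPos : Bool :=
  allLt 48 fun r => decide (r < 24) || (fold r).all fun q => decide (36 ≤ q)

/-- The longest word built from the blocks. -/
def w0word : List ℕ :=
  ([0, 1, 0, 2, 1, 0, 2, 1, 2, 3, 2, 1, 0, 2, 1, 2, 3, 2, 1, 0, 2, 1, 2, 3] : List ℕ).flatMap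
    fun k => [[1], [3], [2, 4], [0, 5]].getD k []

/-- The simple roots of F4 and their orbits. -/
def chkSim : Bool :=
  allLt 4 (fun i => [33, 27, 25, 24].getD i 0 == sim chevF4 i) &&
  allLt 6 (fun j => [56, 46, 42, 39, 37, 36].getD j 0 == sim chevE6 j) &&
  allLt 72 fun q => decide (q < 36) || decide (wl tabE6 w0word q < 36)

theorem rel_ok : chkRel = true := by decide +kernel
theorem lt_ok : chkLt = true := by decide +kernel
theorem pos_ok : chkPos = true := by decide +kernel
theorem sim_ok : chkSim = true := by decide +kernel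

end Cfsg.Agent.Lib.Chev.FoldF4
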