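import Cfsg.Agent.Lib.Chev.BN
import Cfsg.Agent.Lib.BNPair.Basic

/-!
The canonical form of the elements of a Chevalley group and the resulting count.
-/

set_option autoImplicit false

namespace Cfsg.Agent.Lib.Chev

open Cfsg.Lie
open scoped Matrix Pointwise

variable {D : ChevalleyDatum} {T : Tables} {F : Type*} [Field F]

namespace Good

variable (G : Good D T)
include G

theorem nfSet_eq {n : GL D.Idx F} {l : List ℕ} (hl : G.Rep F n l) :
    Subgroup.closure {x : GL D.Idx F | ∃ (r : ℕ) (t : F), D.IsPosRoot r ∧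
      (D.rootSubgroup F r).map (MulAut.conj n).toMonoidHom ≤ D.negUnipotent F ∧
      (x : Matrix D.Idx D.Idx F) = D.x F r t} = G.USub F (flipSet D T l) := by
  have key : ∀ r < D.nroots, (D.rootSubgroup F r).map (MulAut.conj n).toMonoidHom ≤
      D.negUnipotent F ↔ r ∈ flipSet D T l := by
    intro r hr
    obtain ⟨hlt, c, hc, e⟩ := G.rep_act hl r hr
    constructor
    · intro h
      show wl T l r < npos D
      by_contra hcon
      have h1 : G.X F (wl T l r) (c * 1) ∈ D.negUnipotent F := by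
        rw [← e]
        exact h ⟨G.X F r 1, G.mem_rootSubgroup.2 ⟨1, rfl⟩, rfl⟩
      have h2 : G.X F (wl T l r) (c * 1) ∈ D.borelSubgroup F :=
        Subgroup.mem_sup_left (G.X_mem_posUnipotent hlt (by omega) _)
      have h3 := Subgroup.mem_bot.1 (G.borel_inf_neg (F := F) ▸ Subgroup.mem_inf.2 ⟨h2, h1⟩)
      rw [G.X_eq_one_iff hlt, mul_one] at h3
      exact hc h3
    · intro h
      rw [Subgroup.map_le_iff_le_comap]
      intro x hx
      obtain ⟨t, rfl⟩ := G.mem_rootSubgroup.1 hx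
      show n * G.X F r t * n⁻¹ ∈ D.negUnipotent F
      rw [e]
      exact G.X_mem_negUnipotent hlt h _
  refine congrArg Subgroup.closure (Set.ext fun g => ?_)
  constructor
  · rintro ⟨r, t, hr, hm, e⟩
    obtain ⟨hr, hp⟩ := G.isPos_iff.1 hr
    exact ⟨r, t, hr, hp, (key r hr).1 hm, G.eq_X_of_val e⟩
  · rintro ⟨r, t, hr, hp, hm, rfl⟩
    exact ⟨r, t, G.isPos_iff.2 ⟨hr, hp⟩, (key r hr).2 hm, rfl⟩

theorem exists_normal_form {g : GL D.Idx F} (hg : g ∈ D.group F) :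
    ∃ b ∈ D.borelSubgroup F, ∃ n l, G.Rep F n l ∧ ∃ u ∈ G.USub F (flipSet D T l), g = b * n * u := by
  obtain ⟨n, hn, hdc⟩ := BNPair.bruhat (G.bnPair F) ⟨g, hg⟩
  obtain ⟨a, ha, c, hc, he⟩ := (BNPair.mem_dc (G.bnPair F)).1 hdc
  have hn' : (n : GL D.Idx F) ∈ D.monomialSubgroup F := hn
  have ha' : (a : GL D.Idx F) ∈ D.borelSubgroup F := ha
  obtain ⟨l, hl⟩ := G.exists_rep hn'
  obtain ⟨u, hu, h, hh, hec⟩ := G.mem_borel.1 (show (c : GL D.Idx F) ∈ D.borelSubgroup F from hc)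
  obtain ⟨x, hx, y, hy, rfl⟩ := G.exists_split_pos l hu
  refine ⟨(a : GL D.Idx F) * ((n : GL D.Idx F) * x * (n : GL D.Idx F)⁻¹) *
    ((n : GL D.Idx F) * h * (n : GL D.Idx F)⁻¹), ?_, n, l, hl, h⁻¹ * y * h, ?_, ?_⟩
  · refine mul_mem (mul_mem ha' (Subgroup.mem_sup_left (G.keep_conj hl.1 (G.rep_act hl) hx))) ?_
    exact Subgroup.mem_sup_right
      ((Subgroup.mem_normalizer_iff.1 (G.monomial_le_normalizer hn') h).1 hh)
  · have := (Subgroup.mem_normalizer_iff.1 (G.diag_normalizes (flipSet D T l) (inv_mem hh)) y).1 hy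
    simpa using this
  · have e2 := congrArg Subtype.val he
    simp only [Subgroup.coe_mul] at e2
    rw [hec] at e2
    rw [e2]; group

theorem normal_form_coset {b b' n n' u u' : GL D.Idx F} (hb : b ∈ D.borelSubgroup F)
    (hb' : b' ∈ D.borelSubgroup F) (hn : n ∈ D.monomialSubgroup F)
    (hn' : n' ∈ D.monomialSubgroup F) (hu : u ∈ D.posUnipotent F) (hu' : u' ∈ D.posUnipotent F)
    (h : b * n * u = b' * n' * u') : n⁻¹ * n' ∈ D.diagonalSubgroup F := by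
  have hc0 : u * u'⁻¹ ∈ D.posUnipotent F := mul_mem hu (inv_mem hu')
  have hc : u * u'⁻¹ ∈ D.borelSubgroup F := Subgroup.mem_sup_left hc0
  have ha : b'⁻¹ * b ∈ D.borelSubgroup F := mul_mem (inv_mem hb') hb
  let N : ↥(D.group F) := ⟨n, G.monomial_le_group hn⟩
  let N' : ↥(D.group F) := ⟨n', G.monomial_le_group hn'⟩
  have hmem : N' ∈ BNPair.dc (G.bnPair F) N :=
    (BNPair.mem_dc (G.bnPair F)).2 ⟨⟨_, G.borel_le_group ha⟩, ha, ⟨_, G.borel_le_group hc⟩, hc,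
      Subtype.ext (show n' = b'⁻¹ * b * n * (u * u'⁻¹) from by
        calc n' = b'⁻¹ * (b' * n' * u') * u'⁻¹ := by group
          _ = _ := by rw [← h]; group)⟩
  have hcong := BNPair.cong_of_dc_eq (G.bnPair F) (n := N) (n' := N') hn hn'
    (BNPair.dc_eq_of_mem (G.bnPair F) hmem).symm
  have hB : n⁻¹ * n' ∈ D.borelSubgroup F := hcong
  rw [← G.borel_inf_monomial (F := F)]
  exact Subgroup.mem_inf.2 ⟨hB, mul_mem (inv_mem hn) hn'⟩

theorem normal_form_unique {b b' n u u' : GL D.Idx F} {l : List ℕ} (hl : G.Rep F n l)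
    (hb : b ∈ D.borelSubgroup F) (hb' : b' ∈ D.borelSubgroup F)
    (hu : u ∈ G.USub F (flipSet D T l)) (hu' : u' ∈ G.USub F (flipSet D T l))
    (h : b * n * u = b' * n * u') : b = b' ∧ u = u' := by
  have e : b'⁻¹ * b = n * (u' * u⁻¹) * n⁻¹ := by
    calc b'⁻¹ * b = b'⁻¹ * (b * n * u) * u⁻¹ * n⁻¹ := by group
      _ = _ := by rw [h]; group
  have h1 : n * (u' * u⁻¹) * n⁻¹ ∈ D.negUnipotent F :=
    G.flip_conj hl.1 (G.rep_act hl) (mul_mem hu' (inv_mem hu))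
  have h2 : b'⁻¹ * b = 1 := Subgroup.mem_bot.1
    (G.borel_inf_neg (F := F) ▸ Subgroup.mem_inf.2 ⟨mul_mem (inv_mem hb') hb, e ▸ h1⟩)
  have h3 : b = b' := (inv_mul_eq_one.1 h2).symm
  subst h3
  exact ⟨rfl, mul_left_cancel h⟩

theorem normal_form :
    (∀ g ∈ D.group F, ∃ b ∈ D.borelSubgroup F, ∃ n ∈ D.monomialSubgroup F,
      ∃ u ∈ Subgroup.closure {x : GL D.Idx F | ∃ (r : ℕ) (t : F), D.IsPosRoot r ∧
            (D.rootSubgroup F r).map (MulAut.conj n).toMonoidHom ≤ D.negUnipotent F ∧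
              (x : Matrix D.Idx D.Idx F) = D.x F r t},
        g = b * n * u) ∧
    (∀ (b b' n n' u u' : GL D.Idx F), b ∈ D.borelSubgroup F → b' ∈ D.borelSubgroup F →
      n ∈ D.monomialSubgroup F → n' ∈ D.monomialSubgroup F →
      u ∈ Subgroup.closure {x : GL D.Idx F | ∃ (r : ℕ) (t : F), D.IsPosRoot r ∧
            (D.rootSubgroup F r).map (MulAut.conj n).toMonoidHom ≤ D.negUnipotent F ∧
              (x : Matrix D.Idx D.Idx F) = D.x F r t} →
      u' ∈ Subgroup.closure {x : GL D.Idx F | ∃ (r : ℕ) (t : F), D.IsPosRoot r ∧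
            (D.rootSubgroup F r).map (MulAut.conj n').toMonoidHom ≤ D.negUnipotent F ∧
              (x : Matrix D.Idx D.Idx F) = D.x F r t} →
      b * n * u = b' * n' * u' →
        n⁻¹ * n' ∈ D.diagonalSubgroup F ∧ (n = n' → b = b' ∧ u = u')) := by
  refine ⟨fun g hg => ?_, fun b b' n n' u u' hb hb' hn hn' hu hu' h => ?_⟩
  · obtain ⟨b, hb, n, l, hl, u, hu, e⟩ := G.exists_normal_form hg
    exact ⟨b, hb, n, G.monomial_of_rep hl, u, by rw [G.nfSet_eq hl]; exact hu, e⟩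
  · obtain ⟨l, hl⟩ := G.exists_rep hn
    obtain ⟨l', hl'⟩ := G.exists_rep hn'
    rw [G.nfSet_eq hl] at hu
    rw [G.nfSet_eq hl'] at hu'
    refine ⟨G.normal_form_coset hb hb' hn hn' (G.USub_le_pos _ hu) (G.USub_le_pos _ hu') h,
      fun hnn => ?_⟩
    subst hnn
    refine G.normal_form_unique hl hb hb' hu (G.USub_mono (fun q hq _ hqS => ?_) hu') h
    show wl T l q < npos D
    rw [G.act_unique (G.rep_act hl) (G.rep_act hl') hq]
    exact hqS

theorem diag_conj_monomial {h₁ h₂ g : GL D.Idx F} (h1 : h₁ ∈ D.diagonalSubgroup F)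
    (h2 : h₂ ∈ D.diagonalSubgroup F) (hg : g ∈ D.group F) (hc : g * h₁ * g⁻¹ = h₂) :
    ∃ n ∈ D.monomialSubgroup F, n * h₁ * n⁻¹ = h₂ := by
  obtain ⟨b, hb, n, l, hl, u, hu, rfl⟩ := G.exists_normal_form hg
  have hn := G.monomial_of_rep hl
  refine ⟨n, hn, ?_⟩
  set k := n * h₁ * n⁻¹ with hk
  have hkd : k ∈ D.diagonalSubgroup F :=
    (Subgroup.mem_normalizer_iff.1 (G.monomial_le_normalizer hn) h₁).1 h1
  have hu2 : h₁⁻¹ * u * h₁ ∈ G.USub F (flipSet D T l) := by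
    have := (Subgroup.mem_normalizer_iff.1 (G.diag_normalizes (flipSet D T l) (inv_mem h1)) u).1 hu
    simpa using this
  have he : h₂ * b * n * u = b * k * n * (h₁⁻¹ * u * h₁) := by
    rw [← hc, hk]; group
  have h2b : h₂ * b ∈ D.borelSubgroup F := mul_mem (Subgroup.mem_sup_right h2) hb
  have hbk : b * k ∈ D.borelSubgroup F := mul_mem hb (Subgroup.mem_sup_right hkd)
  obtain ⟨e1, -⟩ := G.normal_form_unique hl h2b hbk hu hu2 he
  obtain ⟨v, hv, h, hh, rfl⟩ := G.mem_borel.1 hb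
  have hv2 : h₂ * v * h₂⁻¹ ∈ D.posUnipotent F :=
    (Subgroup.mem_normalizer_iff.1 (G.diag_normalizes_pos h2) v).1 hv
  have e2 : v⁻¹ * (h₂ * v * h₂⁻¹) = k * h₂⁻¹ := by
    have c1 := G.diagonal_comm hh hkd
    have c2 := G.diagonal_comm h2 hh
    calc v⁻¹ * (h₂ * v * h₂⁻¹) = v⁻¹ * (h₂ * (v * h)) * (h⁻¹ * h₂⁻¹) := by group
      _ = h * k * (h⁻¹ * h₂⁻¹) := by rw [e1]; group
      _ = _ := by rw [c1]; group
  have hH : k * h₂⁻¹ ∈ D.diagonalSubgroup F := mul_mem hkd (inv_mem h2)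
  have hU : k * h₂⁻¹ ∈ D.posUnipotent F := e2 ▸ mul_mem (inv_mem hv) hv2
  have := Subgroup.mem_bot.1 (G.pos_inf_diag (F := F) ▸ Subgroup.mem_inf.2 ⟨hU, hH⟩)
  exact mul_inv_eq_one.1 this

end Good

end Cfsg.Agent.Lib.Chev
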