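import Cfsg.Agent.Lib.Chev.FoldF4Data
import Cfsg.Agent.Lib.Chev.Cov.Universal
import Cfsg.Agent.Lib.Chev.Cov.Data
import Cfsg.Agent.Lib.Chev.Subfield
import Cfsg.Agent.Lib.Chev.StData
import Cfsg.Agent.Lib.Chev.Char

/-!
The embedding of F4(2) into E6 over a field of characteristic two.
-/

set_option autoImplicit false
set_option maxRecDepth 100000
set_option linter.unusedSectionVars false

namespace Cfsg.Agent.Lib.Chev.FoldF4

open Cfsg.Lie
open Cfsg.Agent.Lib.Chev
open scoped Matrix

abbrev F2 : Type := ZMod 2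

theorem E : Good chevE6 tabE6 := goodE6
theorem Q : Good chevF4 tabF4 := goodF4

variable {K : Type*} [Field K]

/-- The product of the root elements with parameter one over a list of roots. -/
noncomputable def W (K : Type*) [Field K] (w : List ℕ) : GL chevE6.Idx K :=
  E.wordG (w.map fun q => (q, (1 : K)))

theorem W_nil : W K [] = 1 := by simp [W, Good.wordG]

theorem W_cons (q : ℕ) (w : List ℕ) : W K (q :: w) = E.X K q 1 * W K w := by
  simp [W, Good.wordG]

theorem W_append (w w' : List ℕ) : W K (w ++ w') = W K w * W K w' := by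
  simp [W, Good.wordG]

theorem int_cast_two (h2 : (2 : K) = 0) (C : ℤ) : (C : K) = if C % 2 = 0 then 0 else 1 := by
  conv_lhs => rw [← Int.emod_add_mul_ediv C 2]
  rw [Int.cast_add, Int.cast_mul, Int.cast_ofNat, h2, zero_mul, add_zero]
  rcases Int.emod_two_eq_zero_or_one C with h | h <;> simp [h]

theorem neg_one_two (h2 : (2 : K) = 0) : (-1 : K) = 1 := by
  rw [neg_eq_iff_add_eq_zero, one_add_one_eq_two, h2]

theorem cw_W (h2 : (2 : K) = 0) : ∀ L : List (ℕ × ℤ × ℕ × ℕ),
    E.wordG (L.map fun c => (c.1, (c.2.1 : K) * (-1) ^ c.2.2.1 * (1 : K) ^ c.2.2.2)) =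
      W K ((L.filter fun c => c.2.1 % 2 != 0).map fun c => c.1)
  | [] => by simp [W, Good.wordG]
  | c :: L => by
    have ih := cw_W h2 L
    rw [List.map_cons, Good.wordG_cons, ih, neg_one_two h2, one_pow, one_pow, mul_one, mul_one,
      int_cast_two h2 c.2.1]
    by_cases hC : c.2.1 % 2 = 0
    · rw [if_pos hC, E.X_zero, one_mul, List.filter_cons_of_neg (by simp [hC])]
    · rw [if_neg hC, List.filter_cons_of_pos (by simp [hC]), List.map_cons, W_cons]

theorem step_sound (h2 : (2 : K) = 0) (key : ℕ → ℕ) : ∀ w, W K (step key w) = W K w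
  | [] => rfl
  | [_] => rfl
  | b :: a :: w => by
    rw [step]
    split_ifs with hba hb hlt
    · subst hba
      rw [W_cons, W_cons, ← mul_assoc, E.X_add, one_add_one_eq_two, h2, E.X_zero, one_mul]
    · rfl
    · obtain ⟨-, hb, ha, hne⟩ := hlt
      have h := E.commAt (F := K) a b ha hb hba hne 1 1
      rw [W_cons, W_cons, W_append, W_cons, W_cons, ← mul_assoc, ← mul_assoc, ← mul_assoc, h, Good.cw,
        cw_W h2]
      rfl
    · rw [W_cons, step_sound h2 key (a :: w), ← W_cons]

theorem coll_sound (h2 : (2 : K) = 0) (key : ℕ → ℕ) : ∀ n w, W K (coll key n w) = W K w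
  | 0, _ => rfl
  | n + 1, w => by rw [coll, coll_sound h2 key n, step_sound h2 key]

/-- The image of a root element of F4(2). -/
noncomputable def img (K : Type*) [Field K] (r : ℕ) (t : F2) : GL chevE6.Idx K :=
  if t = 0 then 1 else W K (fold r)

theorem f2_cases (t : F2) : t = 0 ∨ t = 1 := by revert t; decide

theorem f2_add_self (t : F2) : t + t = 0 := by revert t; decide

theorem img_zero (r : ℕ) : img K r 0 = 1 := if_pos rfl

theorem img_one (r : ℕ) : img K r 1 = W K (fold r) := if_neg one_ne_zero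

theorem fold_sq (h2 : (2 : K) = 0) {r : ℕ} (hr : r < 48) : W K (fold r) * W K (fold r) = 1 := by
  have h := allLt_eq_true rel_ok r hr
  simp only [Bool.and_eq_true, beq_iff_eq] at h
  have h1 := coll_sound (K := K) h2 (key r r) 8 (fold r ++ fold r)
  rw [h.1, W_nil, W_append] at h1
  exact h1.symm

theorem img_add (h2 : (2 : K) = 0) {r : ℕ} (hr : r < 48) (t u : F2) :
    img K r t * img K r u = img K r (t + u) := by
  rcases f2_cases t with rfl | rfl
  · rw [img_zero, one_mul, zero_add]
  rcases f2_cases u with rfl | rfl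
  · rw [img_zero, mul_one, add_zero]
  rw [img_one, fold_sq h2 hr, show (1 : F2) + 1 = 0 by decide, img_zero]

theorem img_inv (h2 : (2 : K) = 0) {r : ℕ} (hr : r < 48) (t : F2) :
    (img K r t)⁻¹ = img K r t := by
  refine inv_eq_of_mul_eq_one_right ?_
  rw [img_add h2 hr, show t + t = 0 by revert t; decide, img_zero]

theorem img_cw : ∀ L : List (ℕ × ℤ × ℕ × ℕ),
    ((L.map fun c => (c.1, (c.2.1 : F2) * (-1) ^ c.2.2.1 * (1 : F2) ^ c.2.2.2)).map
      fun p => img K p.1 p.2).prod =
      W K (((L.filter fun c => c.2.1 % 2 != 0).map fun c => c.1).flatMap fold)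
  | [] => by simp [W_nil]
  | c :: L => by
    rw [List.map_cons, List.map_cons, List.prod_cons, img_cw L, neg_one_two (K := F2) rfl, one_pow,
      one_pow, mul_one, mul_one, int_cast_two (K := F2) rfl c.2.1]
    by_cases hC : c.2.1 % 2 = 0
    · rw [if_pos hC, img_zero, one_mul, List.filter_cons_of_neg (by simp [hC])]
    · rw [if_neg hC, img_one, List.filter_cons_of_pos (by simp [hC]), List.map_cons,
        List.flatMap_cons, W_append]

theorem pair_rel (h2 : (2 : K) = 0) {r s : ℕ} (hr : r < 48) (hs : s < 48) (hne : s ≠ r)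
    (hne' : s ≠ ng chevF4 r) :
    W K (fold s) * W K (fold r) * W K (fold s) * W K (fold r) = W K (rhs r s) := by
  have h := allLt_eq_true rel_ok r hr
  simp only [Bool.and_eq_true] at h
  have h1 := allLt_eq_true h.2 s hs
  simp only [Bool.or_eq_true, beq_iff_eq, chkPair] at h1
  rcases h1 with (h1 | h1) | h1
  · exact absurd h1.symm hne
  · exact absurd h1 hne'
  have e1 := coll_sound (K := K) h2 (key r s) 64 (fold s ++ fold r ++ fold s ++ fold r)
  rw [h1, coll_sound h2, W_append, W_append, W_append] at e1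
  exact e1.symm

theorem img_prod_mem {r s : ℕ} (hr : r < 48) (hs : s < 48) :
    ∀ p ∈ Good.cw tabF4 r s (1 : F2) 1, p.1 < 48 := by
  intro p hp
  obtain ⟨⟨k, C, a, b⟩, hc, rfl⟩ := List.mem_map.1 hp
  exact (Q.mem_terms hr hs hc).1

theorem rels (h2 : (2 : K) = 0) : ∀ g ∈ chevF4.steinbergRelsAB F2,
    FreeGroup.lift (fun p : Fin chevF4.nroots × F2 => img K p.1.val p.2) g = 1 := by
  set f := fun p : Fin chevF4.nroots × F2 => img K p.1.val p.2 with hf
  have hX : ∀ r t, r < chevF4.nroots → FreeGroup.lift f (chevF4.stX r t) = img K r t := by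
    intro r t hr
    simp [ChevalleyDatum.stX, hr, hf]
  intro g hg
  rcases hg with ⟨r, t, u, hr, rfl⟩ | ⟨r, s, t, u, hr, hs, h1, h2', rfl⟩
  · simp only [map_mul, map_inv, hX _ _ hr, img_add h2 (show r < 48 from hr), mul_inv_cancel]
  · rw [Q.neg_eq hr] at h2'
    have hW : FreeGroup.lift f (chevF4.stWord (chevF4.commWord F2 r s t u)) =
        ((chevF4.commWord F2 r s t u).map fun p => img K p.1 p.2).prod := by
      rw [ChevalleyDatum.stWord, map_list_prod, List.map_map]
      congr 1
      refine List.map_congr_left fun p hp => hX p.1 p.2 ?_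
      rw [Q.commWord_eq hr hs] at hp
      obtain ⟨⟨k, C, a, b⟩, hc, rfl⟩ := List.mem_map.1 hp
      exact (Q.mem_terms hr hs hc).1
    simp only [map_mul, map_inv, hX _ _ hr, hX _ _ hs, hW, img_inv h2 (show r < 48 from hr),
      img_inv h2 (show s < 48 from hs)]
    rw [mul_inv_eq_one, Q.commWord_eq hr hs]
    have hzero : t = 0 ∨ u = 0 → ((Good.cw tabF4 r s t u).map fun p => img K p.1 p.2).prod = 1 := by
      intro h0
      refine List.prod_eq_one fun x hx => ?_
      obtain ⟨p, hp, rfl⟩ := List.mem_map.1 hx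
      obtain ⟨⟨k, C, a, b⟩, hc, rfl⟩ := List.mem_map.1 hp
      obtain ⟨-, ha, hb, -⟩ := Q.mem_terms hr hs hc
      have : (C : F2) * (-t) ^ a * u ^ b = 0 := by
        rcases h0 with rfl | rfl
        · rw [neg_zero, zero_pow ha.ne', mul_zero, zero_mul]
        · rw [zero_pow hb.ne', mul_zero]
      show img K k ((C : F2) * (-t) ^ a * u ^ b) = 1
      rw [this, img_zero]
    rcases f2_cases t with rfl | rfl
    · simp only [hzero (Or.inl rfl), img_zero, mul_one, img_add h2 (show s < 48 from hs)]
      rw [f2_add_self u, img_zero]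
    rcases f2_cases u with rfl | rfl
    · simp only [hzero (Or.inr rfl), img_zero, mul_one, one_mul, img_add h2 (show r < 48 from hr)]
      rw [show (1 : F2) + 1 = 0 by decide, img_zero]
    rw [img_one, img_one, Good.cw, img_cw, pair_rel h2 hr hs h1 h2']
    rfl

/-- The map on the presented group. -/
noncomputable def sigma (h2 : (2 : K) = 0) : chevF4.SteinbergCover F2 →* GL chevE6.Idx K :=
  PresentedGroup.toGroup (rels (K := K) h2)

theorem sigma_xb (h2 : (2 : K) = 0) {r : ℕ} (hr : r < 48) (t : F2) :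
    sigma h2 (c_xb chevF4 F2 r t) = img K r t := by
  show PresentedGroup.toGroup (rels (K := K) h2)
    (PresentedGroup.mk (chevF4.steinbergRelsAB F2) (chevF4.stX r t)) = _
  rw [ChevalleyDatum.stX, dif_pos (show r < chevF4.nroots from hr)]
  exact PresentedGroup.toGroup.of (rels h2)

theorem fold_lt {r : ℕ} (hr : r < 48) {q : ℕ} (hq : q ∈ fold r) : q < 72 := by
  have h := allLt_eq_true lt_ok r hr
  simp only [List.all_eq_true, decide_eq_true_eq] at h
  exact h q hq

theorem fold_pos {r : ℕ} (hr : r < 48) (hp : 24 ≤ r) {q : ℕ} (hq : q ∈ fold r) : 36 ≤ q := by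
  have h := allLt_eq_true pos_ok r hr
  simp only [Bool.or_eq_true, decide_eq_true_eq, List.all_eq_true] at h
  exact (h.resolve_left (by omega)) q hq

theorem W_mem_group {w : List ℕ} (hw : ∀ q ∈ w, q < 72) : W K w ∈ chevE6.group K := by
  induction w with
  | nil => rw [W_nil]; exact one_mem _
  | cons q w ih =>
    rw [W_cons]
    exact mul_mem (E.X_mem_group (hw q List.mem_cons_self) _)
      (ih fun a ha => hw a (List.mem_cons_of_mem _ ha))

theorem sigma_mem_group (h2 : (2 : K) = 0) (x : chevF4.SteinbergCover F2) :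
    sigma h2 x ∈ chevE6.group K := by
  refine Good.c_st_generated ((chevE6.group K).comap (sigma h2)) (fun r hr t => ?_) x
  show sigma h2 (c_xb chevF4 F2 r t) ∈ chevE6.group K
  rw [sigma_xb h2 hr]
  rcases f2_cases t with rfl | rfl
  · rw [img_zero]; exact one_mem _
  · rw [img_one]; exact W_mem_group fun q hq => fold_lt hr hq

/-! ### Coefficients at the fundamental roots -/

/-- The coefficient of `v` at the `i`-th fundamental root is `c`. -/
def Co (i : ℕ) (v : GL chevE6.Idx K) (c : K) : Prop :=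
  (E.X K (sim chevE6 i) c)⁻¹ * v ∈ E.USub K (keepSet chevE6 tabE6 [i])

theorem pos_le_norm {i : ℕ} (hi : i < chevE6.rank) :
    chevE6.posUnipotent K ≤
      Subgroup.normalizer (E.USub K (keepSet chevE6 tabE6 [i]) : Set (GL chevE6.Idx K)) := by
  rw [← E.up_sup hi]
  exact sup_le Subgroup.le_normalizer (le_trans le_sup_left (E.up_normal hi))

theorem Co.mul {i : ℕ} (hi : i < chevE6.rank) {v w : GL chevE6.Idx K} {c d : K}
    (hv : Co i v c) (hw : Co i w d) : Co i (v * w) (c + d) := by
  have h1 := (Subgroup.mem_normalizer_iff.1 (inv_mem (pos_le_norm (K := K) hi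
    (E.X_mem_posUnipotent (E.sim_lt hi) (E.sim_pos hi) d))) _).1 hv
  rw [inv_inv] at h1
  have h := mul_mem h1 hw
  have e : (E.X K (sim chevE6 i) d)⁻¹ * ((E.X K (sim chevE6 i) c)⁻¹ * v) * E.X K (sim chevE6 i) d *
      ((E.X K (sim chevE6 i) d)⁻¹ * w) =
      (E.X K (sim chevE6 i) c * E.X K (sim chevE6 i) d)⁻¹ * (v * w) := by group
  rw [e, E.X_add] at h
  exact h

theorem Co.one (i : ℕ) : Co i (1 : GL chevE6.Idx K) 0 := by
  rw [Co, E.X_zero, inv_one, mul_one]; exact one_mem _

theorem Co.inv {i : ℕ} (hi : i < chevE6.rank) {v : GL chevE6.Idx K} {c : K} (hv : Co i v c) :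
    Co i v⁻¹ (-c) := by
  have h1 := (Subgroup.mem_normalizer_iff.1 (pos_le_norm (K := K) hi
    (E.X_mem_posUnipotent (E.sim_lt hi) (E.sim_pos hi) c)) _).1 (inv_mem hv)
  have e : E.X K (sim chevE6 i) c * ((E.X K (sim chevE6 i) c)⁻¹ * v)⁻¹ *
      (E.X K (sim chevE6 i) c)⁻¹ = E.X K (sim chevE6 i) c * v⁻¹ := by group
  rw [e] at h1
  rw [Co, ← E.X_inv, inv_inv]
  exact h1

theorem Co.exists {i : ℕ} (hi : i < chevE6.rank) {v : GL chevE6.Idx K}
    (hv : v ∈ chevE6.posUnipotent K) : ∃ c, Co i v c := by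
  have h : chevE6.posUnipotent K ≤
      ({ carrier := {v | ∃ c, Co i v c}
         one_mem' := ⟨0, Co.one i⟩
         mul_mem' := fun ⟨c, hc⟩ ⟨d, hd⟩ => ⟨c + d, hc.mul hi hd⟩
         inv_mem' := fun ⟨c, hc⟩ => ⟨-c, hc.inv hi⟩ } : Subgroup (GL chevE6.Idx K)) := by
    refine E.posUnipotent_le_of fun q hq hp t => ?_
    by_cases hqi : q = sim chevE6 i
    · subst hqi
      exact ⟨t, by rw [Co, inv_mul_cancel]; exact one_mem _⟩
    · exact ⟨0, by
        rw [Co, E.X_zero, inv_one, one_mul]
        exact E.X_mem_USub hq hp ((E.keep_single_iff hi hq hp).2 hqi) t⟩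
  exact h hv

theorem Co.conj {i : ℕ} (hi : i < chevE6.rank) {u v : GL chevE6.Idx K}
    (hu : u ∈ chevE6.posUnipotent K) {c : K} (hv : Co i v c) : Co i (u * v * u⁻¹) c := by
  obtain ⟨d, hd⟩ := Co.exists hi hu
  have h := (hd.mul hi hv).mul hi (hd.inv hi)
  rwa [show d + c + -d = c by ring] at h

theorem Co.unique {i : ℕ} (hi : i < chevE6.rank) {v : GL chevE6.Idx K} {c d : K}
    (hv : Co i v c) (hw : Co i v d) : c = d := by
  have h1 : (E.X K (sim chevE6 i) d)⁻¹ * E.X K (sim chevE6 i) c ∈
      E.USub K (keepSet chevE6 tabE6 [i]) := by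
    have := mul_mem hw (inv_mem hv)
    simpa [mul_assoc] using this
  rw [E.X_inv, E.X_add] at h1
  have hlt := E.sim_lt hi
  have hp := E.sim_pos hi
  have hcl : Closed chevE6 tabE6 {p | p = sim chevE6 i} :=
    fun r hr s hs _ _ _ _ hne => absurd (Eq.trans hs (Eq.symm hr)) hne
  have h2 : E.X K (sim chevE6 i) (-d + c) ∈ E.USub K {p | p = sim chevE6 i} :=
    E.X_mem_USub hlt hp (show sim chevE6 i ∈ {p | p = sim chevE6 i} from rfl) _
  have h3 := E.USub_disjoint (F := K) (E.keep_closed (isW_single hi)) hcl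
    (fun p hpl hpp hk (hps : p = sim chevE6 i) => (E.keep_single_iff hi hpl hpp).1 hk hps)
  have h4 := (E.X_eq_one_iff hlt (-d + c)).1
    (Subgroup.mem_bot.1 (h3 ▸ Subgroup.mem_inf.2 ⟨h1, h2⟩))
  linear_combination h4

theorem Co.word {i : ℕ} (hi : i < chevE6.rank) : ∀ {w : List ℕ}, (∀ q ∈ w, q < 72 ∧ 36 ≤ q) →
    Co i (W K w) ((w.count (sim chevE6 i) : ℕ) : K)
  | [], _ => by rw [W_nil]; simpa using Co.one i
  | q :: w, hw => by
    have hq := hw q List.mem_cons_self
    have ih := Co.word hi (w := w) fun a ha => hw a (List.mem_cons_of_mem _ ha)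
    rw [W_cons]
    by_cases hqi : q = sim chevE6 i
    · subst hqi
      have h1 : Co i (E.X K (sim chevE6 i) 1) (1 : K) := by
        rw [Co, inv_mul_cancel]; exact one_mem _
      rw [List.count_cons_self, Nat.cast_succ, add_comm]
      exact h1.mul hi ih
    · have h1 : Co i (E.X K q 1) (0 : K) := by
        rw [Co, E.X_zero, inv_one, one_mul]
        exact E.X_mem_USub hq.1 hq.2 ((E.keep_single_iff hi hq.1 hq.2).2 hqi) _
      rw [List.count_cons_of_ne hqi]
      have := h1.mul hi ih
      rwa [zero_add] at this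

/-- The regular element. -/
noncomputable def u0 (K : Type*) [Field K] : GL chevE6.Idx K :=
  W K (fold 33) * W K (fold 27) * W K (fold 25) * W K (fold 24)

theorem u0_co {i : ℕ} (hi : i < chevE6.rank) : Co i (u0 K) (1 : K) := by
  rw [u0, ← W_append, ← W_append, ← W_append]
  have hc : ∀ j < 6, (fold 33 ++ fold 27 ++ fold 25 ++ fold 24).count (sim chevE6 j) = 1 := by
    decide +kernel
  have h := Co.word (K := K) hi (w := fold 33 ++ fold 27 ++ fold 25 ++ fold 24) (by decide +kernel)
  rwa [hc i hi, Nat.cast_one] at h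

/-- An element of the group carrying the regular element into `B` lies in `B`. -/
theorem regular {g : GL chevE6.Idx K} (hg : g ∈ chevE6.group K)
    (h : g * u0 K * g⁻¹ ∈ chevE6.borelSubgroup K) : g ∈ chevE6.borelSubgroup K := by
  obtain ⟨b, hb, n, l, hl, u, hu, rfl⟩ := E.exists_normal_form hg
  have hu' := E.USub_le_pos _ hu
  by_cases hid : ∀ i < chevE6.rank, npos chevE6 ≤ wl tabE6 l (sim chevE6 i)
  · have hn : n ∈ chevE6.diagonalSubgroup K := by
      simpa using mul_mem hl.2 (E.nl_mem_diag_of_pos (F := K) _ rfl hl.1 hid)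
    exact mul_mem (mul_mem hb (Subgroup.mem_sup_right hn)) (Subgroup.mem_sup_left hu')
  exfalso
  push Not at hid
  obtain ⟨i, hi, hflip⟩ := hid
  have hu0 : u0 K ∈ chevE6.posUnipotent K := by
    have hW : ∀ w : List ℕ, (∀ q ∈ w, q < 72 ∧ 36 ≤ q) → W K w ∈ chevE6.posUnipotent K := by
      intro w hw
      induction w with
      | nil => rw [W_nil]; exact one_mem _
      | cons q w ih =>
        rw [W_cons]
        exact mul_mem (E.X_mem_posUnipotent (hw q List.mem_cons_self).1
          (hw q List.mem_cons_self).2 _) (ih fun a ha => hw a (List.mem_cons_of_mem _ ha))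
    rw [u0, ← W_append, ← W_append, ← W_append]
    exact hW _ (by decide +kernel)
  have hz : u * u0 K * u⁻¹ ∈ chevE6.posUnipotent K := mul_mem (mul_mem hu' hu0) (inv_mem hu')
  obtain ⟨x, hx, y, hy, hxy⟩ := E.exists_split_pos l hz
  have h1 : n * y * n⁻¹ ∈ chevE6.borelSubgroup K := by
    have h2 := mul_mem (mul_mem (inv_mem hb) h) hb
    have h3 := mul_mem (inv_mem (Subgroup.mem_sup_left (T := chevE6.diagonalSubgroup K)
      (E.keep_conj hl.1 (E.rep_act hl) hx))) h2
    have e : (n * x * n⁻¹)⁻¹ * (b⁻¹ * (b * n * u * u0 K * (b * n * u)⁻¹) * b) = n * y * n⁻¹ := by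
      calc _ = (n * x * n⁻¹)⁻¹ * (n * (u * u0 K * u⁻¹) * n⁻¹) := by group
        _ = _ := by rw [hxy]; group
    rwa [← e]
  have hy1 : y = 1 := conj_eq_one_iff.1 (Subgroup.mem_bot.1 (E.borel_inf_neg (F := K) ▸
    Subgroup.mem_inf.2 ⟨h1, E.flip_conj hl.1 (E.rep_act hl) hy⟩))
  rw [hy1, mul_one] at hxy
  have h0 : Co i (u * u0 K * u⁻¹) (0 : K) := by
    rw [Co, E.X_zero, inv_one, one_mul, hxy]
    refine E.USub_mono (fun q hq hp (hqk : npos chevE6 ≤ wl tabE6 l q) =>
      (E.keep_single_iff hi hq hp).2 fun e => ?_) hx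
    subst e
    omega
  exact one_ne_zero (((u0_co hi).conj hi hu').unique hi h0)

/-! ### The embedding -/

theorem blk_two (h2 : (2 : K) = 0) :
    E.nl K [2, 4] = W K (fold 27) * W K (fold 20) * W K (fold 27) := by
  have h : Tw.chkWordMod chevE6 tabE6 2
      [(42, 1), (29, -1), (42, 1), (37, 1), (34, -1), (37, 1)]
      [(42, 1), (37, 1), (29, 1), (34, 1), (42, 1), (37, 1)] = true := by decide +kernel
  have := Tw.Good'.wordMat_eq_mod E (K := K) (p := 2) (by simpa using h2) h
  simp only [castWord, List.map_cons, List.map_nil, Int.cast_one, Int.cast_neg] at this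
  rw [← W_append, ← W_append, E.nl_cons, E.nl_single, Good.ni, Good.ni, Good.Ng, Good.Ng,
    show sim chevE6 2 = 42 from rfl, show sim chevE6 4 = 37 from rfl,
    show ng chevE6 42 = 29 from rfl, show ng chevE6 37 = 34 from rfl, inv_one]
  simpa [W, Good.wordG, fold, foldL, mul_assoc] using this

theorem blk_three (h2 : (2 : K) = 0) :
    E.nl K [0, 5] = W K (fold 33) * W K (fold 14) * W K (fold 33) := by
  have h : Tw.chkWordMod chevE6 tabE6 2
      [(56, 1), (15, -1), (56, 1), (36, 1), (35, -1), (36, 1)]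
      [(56, 1), (36, 1), (15, 1), (35, 1), (56, 1), (36, 1)] = true := by decide +kernel
  have := Tw.Good'.wordMat_eq_mod E (K := K) (p := 2) (by simpa using h2) h
  simp only [castWord, List.map_cons, List.map_nil, Int.cast_one, Int.cast_neg] at this
  rw [← W_append, ← W_append, E.nl_cons, E.nl_single, Good.ni, Good.ni, Good.Ng, Good.Ng,
    show sim chevE6 0 = 56 from rfl, show sim chevE6 5 = 36 from rfl,
    show ng chevE6 56 = 15 from rfl, show ng chevE6 36 = 35 from rfl, inv_one]
  simpa [W, Good.wordG, fold, foldL, mul_assoc] using this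

theorem blk_zero (h2 : (2 : K) = 0) :
    E.nl K [1] = W K (fold 24) * W K (fold 23) * W K (fold 24) := by
  rw [← W_append, ← W_append, E.nl_single, Good.ni, Good.Ng, show sim chevE6 1 = 46 from rfl,
    show ng chevE6 46 = 25 from rfl, inv_one, neg_one_two h2]
  simp [W, Good.wordG, fold, foldL, mul_assoc]

theorem blk_one (h2 : (2 : K) = 0) :
    E.nl K [3] = W K (fold 25) * W K (fold 22) * W K (fold 25) := by
  rw [← W_append, ← W_append, E.nl_single, Good.ni, Good.Ng, show sim chevE6 3 = 39 from rfl,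
    show ng chevE6 39 = 32 from rfl, inv_one, neg_one_two h2]
  simp [W, Good.wordG, fold, foldL, mul_assoc]

theorem center_one (h2 : (2 : K) = 0) {z : GL chevE6.Idx K} (hz : z ∈ chevE6.group K)
    (hc : ∀ r < 48, Commute z (W K (fold r))) : z = 1 := by
  have hu0 : Commute z (u0 K) := by
    rw [u0]
    exact (((hc 33 (by norm_num)).mul_right (hc 27 (by norm_num))).mul_right
      (hc 25 (by norm_num))).mul_right (hc 24 (by norm_num))
  have hconj : z * u0 K * z⁻¹ = u0 K := by rw [hu0.eq, mul_inv_cancel_right]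
  have hu0B : u0 K ∈ chevE6.borelSubgroup K := by
    refine Subgroup.mem_sup_left ?_
    rw [u0, ← W_append, ← W_append, ← W_append]
    simp only [W, List.map_append]
    exact list_prod_mem fun x hx => by
      obtain ⟨p, hp, rfl⟩ := List.mem_map.1 hx
      rw [← List.map_append, ← List.map_append, ← List.map_append] at hp
      obtain ⟨q, hq, rfl⟩ := List.mem_map.1 hp
      have hb : ∀ q ∈ fold 33 ++ fold 27 ++ fold 25 ++ fold 24, q < 72 ∧ 36 ≤ q := by decide +kernel
      exact E.X_mem_posUnipotent (hb q hq).1 (hb q hq).2 _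
  have hzB := regular hz (by rw [hconj]; exact hu0B)
  obtain ⟨u, hu, h, hh, rfl⟩ := E.mem_borel.1 hzB
  have hblk : ∀ k < 4, Commute (u * h) (E.nl K (([[1], [3], [2, 4], [0, 5]] : List (List ℕ)).getD k [])) := by
    intro k hk
    match k, hk with
    | 0, _ => show Commute _ (E.nl K [1])
              rw [blk_zero h2]
              exact ((hc 24 (by norm_num)).mul_right (hc 23 (by norm_num))).mul_right (hc 24 (by norm_num))
    | 1, _ => show Commute _ (E.nl K [3])
              rw [blk_one h2]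
              exact ((hc 25 (by norm_num)).mul_right (hc 22 (by norm_num))).mul_right (hc 25 (by norm_num))
    | 2, _ => show Commute _ (E.nl K [2, 4])
              rw [blk_two h2]
              exact ((hc 27 (by norm_num)).mul_right (hc 20 (by norm_num))).mul_right (hc 27 (by norm_num))
    | 3, _ => show Commute _ (E.nl K [0, 5])
              rw [blk_three h2]
              exact ((hc 33 (by norm_num)).mul_right (hc 14 (by norm_num))).mul_right (hc 33 (by norm_num))
  have hflat : ∀ L : List ℕ, (∀ k ∈ L, k < 4) →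
      Commute (u * h) (E.nl K (L.flatMap fun k => [[1], [3], [2, 4], [0, 5]].getD k [])) := by
    intro L
    induction L with
    | nil => intro _; rw [List.flatMap_nil, E.nl_nil]; exact Commute.one_right _
    | cons k L ih =>
      intro hL
      rw [List.flatMap_cons, E.nl_append]
      exact (hblk k (hL k List.mem_cons_self)).mul_right
        (ih fun a ha => hL a (List.mem_cons_of_mem _ ha))
  have hw0 : IsW chevE6 w0word := by
    show ∀ i ∈ w0word, i < 6
    decide +kernel
  have hcom : Commute (u * h) (E.nl K w0word) := hflat _ (by decide)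
  set n := E.nl K w0word with hn
  have hu2 : u ∈ E.USub K (flipSet chevE6 tabE6 w0word) := by
    rw [← E.USub_univ] at hu
    refine E.USub_mono (fun q hq hp _ => ?_) hu
    have hs := sim_ok
    simp only [chkSim, Bool.and_eq_true] at hs
    have h1 := allLt_eq_true hs.2 q hq
    simp only [Bool.or_eq_true, decide_eq_true_eq] at h1
    show wl tabE6 w0word q < 36
    rcases h1 with h1 | h1
    · exact absurd (show 36 ≤ q from hp) (not_le.2 h1)
    · exact h1
  have hnh : n * h * n⁻¹ ∈ chevE6.diagonalSubgroup K :=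
    (Subgroup.mem_normalizer_iff.1 (E.monomial_le_normalizer (E.nl_mem_monomial hw0)) h).1 hh
  have hnu : n * u * n⁻¹ ∈ chevE6.borelSubgroup K := by
    have h1 : u * h * (n * h * n⁻¹)⁻¹ ∈ chevE6.borelSubgroup K :=
      mul_mem hzB (inv_mem (Subgroup.mem_sup_right hnh))
    have e : n * u * n⁻¹ = u * h * (n * h * n⁻¹)⁻¹ := by
      calc n * u * n⁻¹ = n * (u * h) * n⁻¹ * (n * h * n⁻¹)⁻¹ := by group
        _ = _ := by rw [← hcom.eq, mul_inv_cancel_right]
    rwa [e]
  have hu1 : u = 1 := conj_eq_one_iff.1 (Subgroup.mem_bot.1 (E.borel_inf_neg (F := K) ▸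
    Subgroup.mem_inf.2 ⟨hnu, E.flip_conj hw0 (E.rep_act (E.rep_nl hw0)) hu2⟩))
  subst hu1
  rw [one_mul] at hc ⊢
  -- now `h` is diagonal and commutes with the image
  obtain ⟨c, hc0, he⟩ := E.exists_tor hh
  have hχ : IsChar chevE6 tabE6 (tor chevE6 tabE6 c) := E.isChar_tor fun i _ => hc0 i
  have hsim : ∀ a, a ∈ [56, 36, 42, 37, 39, 46] → tor chevE6 tabE6 c a = 1 := by
    have single : ∀ r < 48, ∀ a, a < 72 → fold r = [a] → tor chevE6 tabE6 c a = 1 := by
      intro r hr a ha hf
      have h1 := hc r hr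
      rw [hf, W_cons, W_nil, mul_one] at h1
      have h2' := E.diag_conj_X he hχ (show a < chevE6.nroots from ha) (1 : K)
      rw [h1.eq, mul_inv_cancel_right, mul_one] at h2'
      exact (E.X_injective (show a < chevE6.nroots from ha) h2').symm
    have pair : ∀ r < 48, ∀ a b, a < 72 → b < 72 → a ≠ b → fold r = [a, b] →
        tor chevE6 tabE6 c a = 1 ∧ tor chevE6 tabE6 c b = 1 := by
      intro r hr a b ha hb hab hf
      have h1 := hc r hr
      rw [hf, W_cons, W_cons, W_nil, mul_one] at h1
      have e1 := E.diag_conj_X he hχ (show a < chevE6.nroots from ha) (1 : K)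
      have e2 := E.diag_conj_X he hχ (show b < chevE6.nroots from hb) (1 : K)
      have e3 : E.X K a (tor chevE6 tabE6 c a) * E.X K b (tor chevE6 tabE6 c b) =
          E.X K a 1 * E.X K b 1 := by
        rw [← mul_one (tor chevE6 tabE6 c a), ← mul_one (tor chevE6 tabE6 c b), ← e1, ← e2]
        calc h * E.X K a 1 * h⁻¹ * (h * E.X K b 1 * h⁻¹)
            = h * (E.X K a 1 * E.X K b 1) * h⁻¹ := by group
          _ = _ := by rw [h1.eq, mul_inv_cancel_right]
      have e4 : E.X K a (-1 + tor chevE6 tabE6 c a) = E.X K b (1 + -tor chevE6 tabE6 c b) := by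
        rw [← E.X_add, ← E.X_add, ← E.X_inv, ← E.X_inv]
        calc (E.X K a 1)⁻¹ * E.X K a (tor chevE6 tabE6 c a)
            = (E.X K a 1)⁻¹ * (E.X K a (tor chevE6 tabE6 c a) * E.X K b (tor chevE6 tabE6 c b)) *
              (E.X K b (tor chevE6 tabE6 c b))⁻¹ := by group
          _ = _ := by rw [e3]; group
      have hz0 : -1 + tor chevE6 tabE6 c a = 0 := by
        by_contra hne
        exact hab (E.X_root_inj ha hb hne e4)
      rw [hz0, E.X_zero, eq_comm, E.X_eq_one_iff hb] at e4
      exact ⟨by linear_combination hz0, by linear_combination -e4⟩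
    intro a ha
    simp only [List.mem_cons, List.not_mem_nil, or_false] at ha
    rcases ha with rfl | rfl | rfl | rfl | rfl | rfl
    · exact (pair 33 (by norm_num) 56 36 (by norm_num) (by norm_num) (by norm_num) rfl).1
    · exact (pair 33 (by norm_num) 56 36 (by norm_num) (by norm_num) (by norm_num) rfl).2
    · exact (pair 27 (by norm_num) 42 37 (by norm_num) (by norm_num) (by norm_num) rfl).1
    · exact (pair 27 (by norm_num) 42 37 (by norm_num) (by norm_num) (by norm_num) rfl).2
    · exact single 25 (by norm_num) 39 (by norm_num) rfl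
    · exact single 24 (by norm_num) 46 (by norm_num) rfl
  have hcent : chevE6.group K ≤ Subgroup.centralizer {h} := by
    refine E.group_le_of_simple fun i hi t => ?_
    have hm : sim chevE6 i ∈ [56, 36, 42, 37, 39, 46] := by
      have : ∀ j < 6, sim chevE6 j ∈ [56, 36, 42, 37, 39, 46] := by decide +kernel
      exact this i hi
    have h1 := hsim _ hm
    have h3 : tor chevE6 tabE6 c (ng chevE6 (sim chevE6 i)) = 1 := by
      have := hχ.neg _ (E.sim_lt hi)
      rwa [h1, mul_one] at this
    constructor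
    · rw [Subgroup.mem_centralizer_singleton_iff]
      have := E.diag_conj_X he hχ (E.sim_lt hi) t
      rw [h1, one_mul] at this
      exact (mul_inv_eq_iff_eq_mul.1 this).symm
    · rw [Subgroup.mem_centralizer_singleton_iff]
      have := E.diag_conj_X he hχ (E.ng_lt (E.sim_lt hi)) t
      rw [h3, one_mul] at this
      exact (mul_inv_eq_iff_eq_mul.1 this).symm
  have hall : ∀ r < chevE6.nroots, tor chevE6 tabE6 c r = 1 := by
    intro r hr
    have h1 := Subgroup.mem_centralizer_singleton_iff.1 (hcent (E.X_mem_group hr (1 : K)))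
    have h2' := E.diag_conj_X he hχ hr (1 : K)
    rw [← h1, mul_inv_cancel_right, mul_one] at h2'
    exact (E.X_injective hr h2').symm
  refine Units.ext ?_
  rw [he, Units.val_one, dmat_congr hall, dmat_one]

theorem c_theta_val (x : chevF4.SteinbergCover F2) :
    ((Q.c_theta F2 x : ↥(chevF4.group F2)) : GL chevF4.Idx F2) = Q.c_th F2 x := rfl

theorem ker_le (h2 : (2 : K) = 0) : (Q.c_theta F2).ker ≤ (sigma (K := K) h2).ker := by
  intro g hg
  rw [Q.c_theta_ker adjF4] at hg
  rw [MonoidHom.mem_ker]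
  refine center_one h2 (sigma_mem_group h2 g) fun r hr => ?_
  rw [← img_one, ← sigma_xb h2 hr]
  exact Commute.map (Commute.symm (Subgroup.mem_center_iff.1 hg _)) (sigma h2)

/-- The embedding of F4(2). -/
noncomputable def emb (h2 : (2 : K) = 0) : ↥(chevF4.group F2) →* GL chevE6.Idx K :=
  (Q.c_theta F2).liftOfSurjective Q.c_theta_surjective ⟨sigma h2, ker_le h2⟩

theorem emb_X (h2 : (2 : K) = 0) {r : ℕ} (hr : r < 48) (t : F2) :
    emb (K := K) h2 ⟨Q.X F2 r t, Q.X_mem_group hr t⟩ = img K r t := by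
  have e : (⟨Q.X F2 r t, Q.X_mem_group hr t⟩ : ↥(chevF4.group F2)) =
      Q.c_theta F2 (c_xb chevF4 F2 r t) := Subtype.ext (Q.c_th_xb hr t).symm
  rw [e]
  exact (MonoidHom.liftOfRightInverse_comp_apply _ _ _ _ _).trans (sigma_xb h2 hr t)

theorem emb_injective (h2 : (2 : K) = 0) : Function.Injective (emb (K := K) h2) := by
  have hs := (Q.simple (F := F2) connF4 (Q.perfect (by simp) perfectF4)).1
  rw [← MonoidHom.ker_eq_bot_iff]
  rcases hs.eq_bot_or_eq_top_of_normal _ (MonoidHom.normal_ker (emb (K := K) h2)) with h | h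
  · exact h
  exfalso
  have h1 : img K 24 1 = 1 := by
    rw [← emb_X h2 (r := 24) (by norm_num) 1]
    exact MonoidHom.mem_ker.1 (h ▸ Subgroup.mem_top _)
  rw [img_one, show fold 24 = [46] from rfl, W_cons, W_nil, mul_one,
    E.X_eq_one_iff (show 46 < 72 by norm_num)] at h1
  exact one_ne_zero h1

end Cfsg.Agent.Lib.Chev.FoldF4
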