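import Cfsg.Agent.Lib.Chev.Char
import Cfsg.Agent.Lib.Chev.All

/-!
Graph automorphisms on all root elements, for one root length.
-/

set_option autoImplicit false

namespace Cfsg.Agent.Lib.Chev

open Cfsg.Lie
open scoped Matrix

variable {D : ChevalleyDatum} {T : Tables} {F : Type*} [Field F]

/-- One root length: coroots have the coefficients of the roots, Cartan integers are `0` or `-1`. -/
def chkSL (D : ChevalleyDatum) (T : Tables) : Bool :=
  (allLt D.nroots fun r => allLt D.rank fun i => T.c r i == T.k i r) &&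
    allLt D.rank fun i => allLt D.rank fun j => i == j ||
      ((T.A i (sim D j) == 0 || T.A i (sim D j) == -1) && T.A i (sim D j) == T.A j (sim D i))

theorem slD4 : chkSL chevD4 tabD4 = true := by decide +kernel

theorem slE6 : chkSL chevE6 tabE6 = true := by decide +kernel

namespace Good

variable (G : Good D T) (hSL : chkSL D T = true)
include G hSL

theorem sl_facts : (∀ r < D.nroots, ∀ i < D.rank, T.c r i = T.k i r) ∧
    ∀ i < D.rank, ∀ j < D.rank, i ≠ j →
      T.A i (sim D j) = -(T.A i (sim D j) * T.A j (sim D i)) := by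
  simp only [chkSL, Bool.and_eq_true] at hSL
  obtain ⟨h1, h2⟩ := hSL
  refine ⟨fun r hr i hi => by simpa using allLt_eq_true (allLt_eq_true h1 r hr) i hi,
    fun i hi j hj hne => ?_⟩
  have h := allLt_eq_true (allLt_eq_true h2 i hi) j hj
  simp only [Bool.or_eq_true, beq_iff_eq, hne, false_or, Bool.and_eq_true] at h
  rw [← h.2]
  rcases h.1 with e | e <;> rw [e] <;> norm_num

variable {π : Equiv.Perm (Fin D.rank)} (hπ : D.IsDiagramSymmetry π)
include hπ

theorem A_perm (i j : Fin D.rank) :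
    T.A (π i) (sim D (π j).val) = T.A i.val (sim D j.val) := by
  by_cases h : i = j
  · subst h; rw [G.A_sim (π i).isLt, G.A_sim i.isLt]
  have hne : (π i).val ≠ (π j).val := fun e => h (π.injective (Fin.ext e))
  have hb := hπ i j h
  simp only [ChevalleyDatum.bonds, G.simple_eq, G.cartan_eq, Fin.is_lt, G.sim_lt] at hb
  rw [(G.sl_facts hSL).2 _ (π i).isLt _ (π j).isLt hne, hb,
    ← (G.sl_facts hSL).2 _ i.isLt _ j.isLt (fun e => h (Fin.ext e))]

theorem A_image {r s : ℕ} (hr : r < D.nroots) (hs : s < D.nroots)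
    (h : ∀ i : Fin D.rank, T.k (π i) s = T.k i.val r) (j : Fin D.rank) :
    T.A (π j) s = T.A j.val r := by
  rw [G.A_linear (π j).isLt hs, G.A_linear j.isLt hr, ← Fin.sum_univ_eq_sum_range,
    ← Fin.sum_univ_eq_sum_range, ← Equiv.sum_comp π]
  exact Finset.sum_congr rfl fun i _ => by rw [h i, G.A_perm hSL hπ j i]

omit hπ in
theorem permRoot_eq {r s : ℕ} (hr : r < D.nroots) (hs : s < D.nroots)
    (h : ∀ i : Fin D.rank, T.k (π i) s = T.k i.val r) : D.permRoot π r = s := by
  have hsl := (G.sl_facts hSL).1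
  have hP : ∀ x, x < D.nroots → (((List.finRange D.rank).all fun i =>
      (D.coroot.getD x #[]).getD (π i).val 0 == (D.coroot.getD r #[]).getD i.val 0) = true ↔
        x = s) := by
    intro x hx
    simp only [List.all_eq_true, List.mem_finRange, true_implies, beq_iff_eq]
    constructor
    · intro hall
      refine G.eq_of_k_eq hx hs fun m hm => ?_
      obtain ⟨i, hi⟩ := π.surjective ⟨m, hm⟩
      have h1 := hall i
      rw [G.coroot_eq hx (π i).isLt, G.coroot_eq hr i.isLt, hsl x hx _ (π i).isLt,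
        hsl r hr _ i.isLt, ← h i, hi] at h1
      exact h1
    · rintro rfl i
      rw [G.coroot_eq hx (π i).isLt, G.coroot_eq hr i.isLt, hsl x hx _ (π i).isLt,
        hsl r hr _ i.isLt, h i]
  unfold ChevalleyDatum.permRoot
  cases hf : (List.range D.nroots).find? _ with
  | none =>
    exact absurd ((hP s hs).2 rfl) (List.find?_eq_none.1 hf s (List.mem_range.2 hs))
  | some x =>
    exact (hP x (List.mem_range.1 (List.mem_of_find?_eq_some hf))).1 (List.find?_some hf :)

theorem graph_sign (φ : ↥(D.group F) ≃* ↥(D.group F))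
    (hφ : ∀ (g : ↥(D.group F)) (i : Fin D.rank) (t : F),
      (((g : GL D.Idx F) : Matrix D.Idx D.Idx F) = D.x F (D.simple i) t →
        ((φ g : GL D.Idx F) : Matrix D.Idx D.Idx F) = D.x F (D.simple (π i)) t) ∧
      (((g : GL D.Idx F) : Matrix D.Idx D.Idx F) = D.x F (D.neg (D.simple i)) t →
        ((φ g : GL D.Idx F) : Matrix D.Idx D.Idx F) = D.x F (D.neg (D.simple (π i))) t))
    {r : ℕ} (hr : r < D.nroots) :
    ∃ ε : F, (ε = 1 ∨ ε = -1) ∧ ∀ (g : ↥(D.group F)) (t : F),
      ((g : GL D.Idx F) : Matrix D.Idx D.Idx F) = D.x F r t →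
        ((φ g : GL D.Idx F) : Matrix D.Idx D.Idx F) = D.x F (D.permRoot π r) (ε * t) := by
  have key : ∀ r < D.nroots, ∃ s < D.nroots, (∀ i : Fin D.rank, T.k (π i) s = T.k i.val r) ∧
      ∃ ε : F, (ε = 1 ∨ ε = -1) ∧ ∀ (g : ↥(D.group F)) (t : F),
        (g : GL D.Idx F) = G.X F r t → (φ g : GL D.Idx F) = G.X F s (ε * t) := by
    refine G.root_induction ?_ ?_
    · intro i hi
      refine ⟨sim D (π ⟨i, hi⟩).val, G.sim_lt (π ⟨i, hi⟩).isLt, fun m => ?_, 1, Or.inl rfl,
        fun g t hg => ?_⟩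
      · rw [G.k_sim (π ⟨i, hi⟩).isLt (π m).isLt, G.k_sim hi m.isLt]
        exact if_congr ⟨fun e => congrArg Fin.val (π.injective (Fin.ext e) : m = ⟨i, hi⟩),
          fun e => by rw [show m = ⟨i, hi⟩ from Fin.ext e]⟩ rfl rfl
      · rw [one_mul]
        refine G.eq_X_of_val ?_
        exact (hφ g ⟨i, hi⟩ t).1 (by rw [hg]; rfl)
    · intro i r hi hr ih
      obtain ⟨s, hs, hk, ε, hε, h⟩ := ih
      set fi : Fin D.rank := ⟨i, hi⟩
      have hs' := G.w_lt (π fi).isLt hs
      refine ⟨T.w (π fi).val s, hs', fun m => ?_, ?_⟩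
      · rw [G.k_w (π fi).isLt hs (π m).isLt, G.k_w hi hr m.isLt, hk m,
          G.A_image hSL hπ hr hs hk fi]
        congr 1
        exact if_congr ⟨fun e => congrArg Fin.val (π.injective (Fin.ext e) : m = fi),
          fun e => by rw [show m = fi from Fin.ext e]⟩ rfl rfl
      refine ⟨(T.eta (π fi).val s : F) * (T.eta i r : F) * ε, ?_, fun g t hg => ?_⟩
      · rcases T.eta_eq_or (π fi).val s with e | e <;> rcases T.eta_eq_or i r with e' | e' <;>
          rcases hε with e'' | e'' <;> simp [e, e', e'']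
      have hni : ∀ j : Fin D.rank, ∃ n : ↥(D.group F), (n : GL D.Idx F) = G.ni F j.val ∧
          (φ n : GL D.Idx F) = G.ni F (π j).val := by
        intro j
        have hs0 := G.sim_lt j.isLt
        let a : ↥(D.group F) := ⟨_, G.X_mem_group (F := F) hs0 1⟩
        let b : ↥(D.group F) := ⟨_, G.X_mem_group (F := F) (G.ng_lt hs0) (-1)⟩
        have ea : (φ a : GL D.Idx F) = G.X F (sim D (π j).val) 1 :=
          G.eq_X_of_val ((hφ a j 1).1 (by rw [G.simple_eq]; rfl))
        have eb : (φ b : GL D.Idx F) = G.X F (ng D (sim D (π j).val)) (-1) := by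
          refine G.eq_X_of_val ?_
          rw [← G.neg_eq (G.sim_lt (π j).isLt)]
          exact (hφ b j (-1)).2 (by rw [G.simple_eq, G.neg_eq hs0]; rfl)
        refine ⟨a * b * a, ?_, ?_⟩
        · simp [a, b, Good.ni, Good.Ng]
        · rw [map_mul, map_mul, Subgroup.coe_mul, Subgroup.coe_mul, ea, eb]
          simp [Good.ni, Good.Ng]
      obtain ⟨n, hn, hn'⟩ := hni fi
      let x : ↥(D.group F) := ⟨_, G.X_mem_group (F := F) hr ((T.eta i r : F) * t)⟩
      have e : g = n * x * n⁻¹ := by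
        refine Subtype.ext ?_
        rw [Subgroup.coe_mul, Subgroup.coe_mul, Subgroup.coe_inv, hn, hg, G.ni_conj_X hi hr,
          ← mul_assoc, ← Int.cast_mul, Tables.eta_mul_self, Int.cast_one, one_mul]
      rw [e, map_mul, map_mul, map_inv, Subgroup.coe_mul, Subgroup.coe_mul, Subgroup.coe_inv, hn',
        h x _ rfl, G.ni_conj_X (π fi).isLt hs]
      congr 1
      ring
  obtain ⟨s, hs, hk, ε, hε, h⟩ := key r hr
  refine ⟨ε, hε, fun g t hg => ?_⟩
  rw [G.permRoot_eq hSL hr hs hk, h g t (G.eq_X_of_val hg)]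
  rfl

end Good

end Cfsg.Agent.Lib.Chev
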