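import Cfsg.Agent.Lib.Chev.LieData
import Cfsg.Agent.Lib.BNPair.HeckeModule

/-!
The constituents of the permutation character on the cosets of the Borel subgroup.
-/

set_option autoImplicit false

namespace Cfsg.Agent.Lib.Chev

open Cfsg.Lie
open Cfsg.Agent.Lib

variable {D : ChevalleyDatum} {T : Tables} {F : Type*} [Field F]

theorem Good.card_constituents_borel (G : Good D T) (hP : chkPar D T = true) [Fintype F] {m : ℕ}
    (hm : D.rank = m) {M : CoxeterMatrix (Fin m)} (h : chkCox D T M = true) :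
    Nat.card {χ : Cfsg.IrrCharacter ↥(D.group F) //
      ∃ φ : ↥(D.group F) → ℂ, Cfsg.IsCharacter ↥(D.group F) φ ∧
        Cfsg.fixedPointCharacter ((D.borelSubgroup F).subgroupOf (D.group F)) =
          (χ : ↥(D.group F) → ℂ) + φ} = Nat.card (ConjClasses M.Group) := by
  classical
  obtain ⟨p, hc⟩ := CharP.exists F
  haveI := hc
  haveI : Fact p.Prime := ⟨CharP.char_is_prime F p⟩
  haveI := Fintype.ofFinite ↥(D.group F)
  haveI := Fintype.ofFinite (G.bnPair F).S
  haveI := Fintype.ofFinite (G.W0 F)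
  haveI := Fintype.ofFinite (↥(D.group F) ⧸ (G.bnPair F).B)
  have h1 := (G.lieData (F := F) hP p).card_constituents
  obtain ⟨ψ, -⟩ := G.exists_coxeter_equiv (F := F) hm h
  have h2 : Nat.card (ConjClasses (G.W0 F)) = Nat.card (ConjClasses M.Group) := by
    refine Nat.card_congr (Quotient.congr ψ.toEquiv fun a b => ?_)
    show IsConj a b ↔ IsConj (ψ a) (ψ b)
    refine ⟨fun hab => ψ.toMonoidHom.map_isConj hab, fun hab => ?_⟩
    simpa using ψ.symm.toMonoidHom.map_isConj hab
  rw [← h2, ← h1]
  exact Nat.card_congr (Equiv.subtypeEquivRight fun χ =>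
    BNPair.LieData.constituent_iff (P := G.bnPair F) χ)

end Cfsg.Agent.Lib.Chev
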