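import Cfsg.Agent.Lib.Chev.RootsCent
import Cfsg.Agent.Lib.Chev.All
import Mathlib

/-!
Involutions of `G₂` in characteristic two.
-/

set_option autoImplicit false
set_option linter.unusedSectionVars false
set_option maxRecDepth 100000

namespace Cfsg.Agent.Lib.Chev.InvG2

open Cfsg.Lie

variable {F : Type*} [Field F] [CharP F 2]

/-- A root element. -/
noncomputable abbrev x (r : ℕ) (t : F) : GL chevG2.Idx F := goodG2.X F r t

/-- The element with the given coordinates. -/
noncomputable def U (a b c d e f : F) : GL chevG2.Idx F :=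
  x 6 a * (x 7 b * (x 8 c * (x 9 d * (x 10 e * (x 11 f * 1)))))

theorem two_zero : (2 : F) = 0 := CharTwo.two_eq_zero

theorem merge (r : ℕ) (t u : F) (R : GL chevG2.Idx F) : x r t * (x r u * R) = x r (t + u) * R := by
  rw [← mul_assoc, goodG2.X_add]

theorem swap {q v : ℕ} (hq : q < 12) (hv : v < 12) (h1 : v ≠ q) (h2 : v ≠ ng chevG2 q)
    {L : List (ℕ × ℤ × ℕ × ℕ)} (hL : tabG2.terms q v = L) (u t : F) (R : GL chevG2.Idx F) :
    x v t * (x q u * R) = x q u * (x v t *
      (goodG2.wordG (L.map fun p => (p.1, (p.2.1 : F) * u ^ p.2.2.1 * t ^ p.2.2.2)) * R)) := by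
  have e := goodG2.conj_X_word (F := F) (q := q) (v := v) hq hv h1 h2 u t
  rw [hL, goodG2.X_inv, CharTwo.neg_eq] at e
  have e2 : x v t * x q u = x q u * (x v t *
      goodG2.wordG (L.map fun p => (p.1, (p.2.1 : F) * u ^ p.2.2.1 * t ^ p.2.2.2))) := by
    rw [← e, ← mul_assoc, ← mul_assoc, goodG2.X_add, CharTwo.add_self_eq_zero, goodG2.X_zero,
      one_mul]
  rw [← mul_assoc, e2, mul_assoc, mul_assoc]

theorem sw67 (u t : F) (R : GL chevG2.Idx F) : x 7 t * (x 6 u * R) =
    x 6 u * (x 7 t * (x 8 (u * t) * (x 9 (u * t ^ 2) * (x 10 (u * t ^ 3) * R)))) := by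
  rw [swap (q := 6) (v := 7) (by decide) (by decide) (by decide) (by decide)
    (L := [(8, 1, 1, 1), (9, 1, 1, 2), (10, -1, 1, 3), (11, -2, 2, 3)]) (by decide +kernel)]
  simp [Good.wordG, goodG2.X_zero, two_zero, CharTwo.neg_eq, mul_assoc]

theorem sw610 (u t : F) (R : GL chevG2.Idx F) : x 10 t * (x 6 u * R) =
    x 6 u * (x 10 t * (x 11 (u * t) * R)) := by
  rw [swap (q := 6) (v := 10) (by decide) (by decide) (by decide) (by decide)
    (L := [(11, 1, 1, 1)]) (by decide +kernel)]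
  simp [Good.wordG]

theorem three_one : (3 : F) = 1 := by linear_combination (two_zero : (2 : F) = 0)

theorem sw78 (u t : F) (R : GL chevG2.Idx F) : x 8 t * (x 7 u * R) =
    x 7 u * (x 8 t * (x 10 (u ^ 2 * t) * (x 11 (u * t ^ 2) * R))) := by
  rw [swap (q := 7) (v := 8) (by decide) (by decide) (by decide) (by decide)
    (L := [(9, -2, 1, 1), (10, -3, 2, 1), (11, 3, 1, 2)]) (by decide +kernel)]
  simp [Good.wordG, goodG2.X_zero, two_zero, three_one, CharTwo.neg_eq, mul_assoc]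

theorem sw79 (u t : F) (R : GL chevG2.Idx F) : x 9 t * (x 7 u * R) =
    x 7 u * (x 9 t * (x 10 (u * t) * R)) := by
  rw [swap (q := 7) (v := 9) (by decide) (by decide) (by decide) (by decide)
    (L := [(10, 3, 1, 1)]) (by decide +kernel)]
  simp [Good.wordG, three_one]

theorem sw89 (u t : F) (R : GL chevG2.Idx F) : x 9 t * (x 8 u * R) =
    x 8 u * (x 9 t * (x 11 (u * t) * R)) := by
  rw [swap (q := 8) (v := 9) (by decide) (by decide) (by decide) (by decide)
    (L := [(11, 3, 1, 1)]) (by decide +kernel)]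
  simp [Good.wordG, three_one]

theorem sw0 {q v : ℕ} (hq : q < 12) (hv : v < 12) (h1 : v ≠ q) (h2 : v ≠ ng chevG2 q)
    (hL : tabG2.terms q v = []) (u t : F) (R : GL chevG2.Idx F) :
    x v t * (x q u * R) = x q u * (x v t * R) := by
  rw [swap hq hv h1 h2 hL]
  simp [Good.wordG]

theorem sw68 (u t : F) (R : GL chevG2.Idx F) : x 8 t * (x 6 u * R) = x 6 u * (x 8 t * R) :=
  sw0 (by decide) (by decide) (by decide) (by decide) (by decide +kernel) u t R

theorem sw69 (u t : F) (R : GL chevG2.Idx F) : x 9 t * (x 6 u * R) = x 6 u * (x 9 t * R) :=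
  sw0 (by decide) (by decide) (by decide) (by decide) (by decide +kernel) u t R

theorem sw611 (u t : F) (R : GL chevG2.Idx F) : x 11 t * (x 6 u * R) = x 6 u * (x 11 t * R) :=
  sw0 (by decide) (by decide) (by decide) (by decide) (by decide +kernel) u t R

theorem sw710 (u t : F) (R : GL chevG2.Idx F) : x 10 t * (x 7 u * R) = x 7 u * (x 10 t * R) :=
  sw0 (by decide) (by decide) (by decide) (by decide) (by decide +kernel) u t R

theorem sw711 (u t : F) (R : GL chevG2.Idx F) : x 11 t * (x 7 u * R) = x 7 u * (x 11 t * R) :=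
  sw0 (by decide) (by decide) (by decide) (by decide) (by decide +kernel) u t R

theorem sw810 (u t : F) (R : GL chevG2.Idx F) : x 10 t * (x 8 u * R) = x 8 u * (x 10 t * R) :=
  sw0 (by decide) (by decide) (by decide) (by decide) (by decide +kernel) u t R

theorem sw811 (u t : F) (R : GL chevG2.Idx F) : x 11 t * (x 8 u * R) = x 8 u * (x 11 t * R) :=
  sw0 (by decide) (by decide) (by decide) (by decide) (by decide +kernel) u t R

theorem sw910 (u t : F) (R : GL chevG2.Idx F) : x 10 t * (x 9 u * R) = x 9 u * (x 10 t * R) :=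
  sw0 (by decide) (by decide) (by decide) (by decide) (by decide +kernel) u t R

theorem sw911 (u t : F) (R : GL chevG2.Idx F) : x 11 t * (x 9 u * R) = x 9 u * (x 11 t * R) :=
  sw0 (by decide) (by decide) (by decide) (by decide) (by decide +kernel) u t R

theorem sw1011 (u t : F) (R : GL chevG2.Idx F) : x 11 t * (x 10 u * R) = x 10 u * (x 11 t * R) :=
  sw0 (by decide) (by decide) (by decide) (by decide) (by decide +kernel) u t R

theorem U_oprod (a b c d e f : F) :
    U a b c d e f = goodG2.oprod F 6 6 (fun r => [a, b, c, d, e, f].getD (r - 6) 0) := by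
  simp [U, x, Good.oprod, Good.wordG, List.range'_succ]

theorem U_one : U (0 : F) 0 0 0 0 0 = 1 := by
  simp [U, x, goodG2.X_zero]

theorem U_eq_one {a b c d e f : F} (h : U a b c d e f = 1) :
    a = 0 ∧ b = 0 ∧ c = 0 ∧ d = 0 ∧ e = 0 ∧ f = 0 := by
  rw [← U_one, U_oprod, U_oprod] at h
  have key := goodG2.oprod_injective 6 6 (by decide) (by decide) _ _ h
  exact ⟨by simpa using key 6 (by omega) (by omega), by simpa using key 7 (by omega) (by omega),
    by simpa using key 8 (by omega) (by omega), by simpa using key 9 (by omega) (by omega),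
    by simpa using key 10 (by omega) (by omega), by simpa using key 11 (by omega) (by omega)⟩

theorem exists_U {g : GL chevG2.Idx F} (hg : g ∈ chevG2.posUnipotent F) :
    ∃ a b c d e f : F, g = U a b c d e f := by
  rw [← goodG2.tail_npos] at hg
  obtain ⟨t, ht⟩ := goodG2.exists_oprod 6 6 (by decide) (by decide) g hg
  refine ⟨t 6, t 7, t 8, t 9, t 10, t 11, ?_⟩
  rw [ht, U_oprod]
  simp [Good.oprod, Good.wordG, List.range'_succ]

theorem U_mem (a b c d e f : F) : U a b c d e f ∈ chevG2.group F := by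
  unfold U
  exact mul_mem (goodG2.X_mem_group (by decide) _) (mul_mem (goodG2.X_mem_group (by decide) _)
    (mul_mem (goodG2.X_mem_group (by decide) _) (mul_mem (goodG2.X_mem_group (by decide) _)
      (mul_mem (goodG2.X_mem_group (by decide) _) (mul_mem (goodG2.X_mem_group (by decide) _)
        (one_mem _))))))

/-- Conjugate to one of the two representatives. -/
def Cl (g : GL chevG2.Idx F) : Prop :=
  ∃ h ∈ chevG2.group F, h * g * h⁻¹ = x 11 (1 : F) ∨ h * g * h⁻¹ = x 9 (1 : F)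

theorem Cl.of_conj {g g' k : GL chevG2.Idx F} (hk : k ∈ chevG2.group F) (e : k * g * k⁻¹ = g')
    (h : Cl g') : Cl g := by
  obtain ⟨m, hm, h⟩ := h
  refine ⟨m * k, mul_mem hm hk, ?_⟩
  rwa [show m * k * g * (m * k)⁻¹ = m * (k * g * k⁻¹) * m⁻¹ by group, e]

theorem Cl.of_X {g g' : GL chevG2.Idx F} {r : ℕ} (hr : r < 12) {s : F}
    (e : x r s * g * x r s = g') (h : Cl g') : Cl g := by
  refine Cl.of_conj (goodG2.X_mem_group hr s) ?_ h
  rw [goodG2.X_inv, CharTwo.neg_eq]
  exact e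

theorem eta_one (i r : ℕ) : ((tabG2.eta i r : ℤ) : F) = 1 := by
  rcases tabG2.eta_eq_or i r with h | h <;> simp [h, CharTwo.neg_eq]

theorem ni_X {i r : ℕ} (hi : i < 2) (hr : r < 12) (t : F) :
    goodG2.ni F i * x r t * (goodG2.ni F i)⁻¹ = x (tabG2.w i r) t := by
  rw [goodG2.ni_conj_X (F := F) hi hr, eta_one, one_mul]

variable [Finite F]

theorem exists_sqrt (t : F) : ∃ s : F, s ^ 2 = t := by
  obtain ⟨s, hs⟩ := FiniteField.isSquare_of_char_two (ringChar.eq F 2) t
  exact ⟨s, by rw [hs]; ring⟩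

theorem cl_one {r : ℕ} (hr : r < 12) (h : Cl (x r (1 : F))) {t : F} (ht : t ≠ 0) : Cl (x r t) := by
  obtain ⟨s, rfl⟩ := exists_sqrt t
  have hs : s ≠ 0 := by intro e; rw [e] at ht; simp at ht
  refine Cl.of_conj (goodG2.Hg_mem_group hr s⁻¹) ?_ h
  rw [goodG2.Hg_conj_X hr hr (inv_ne_zero hs), goodG2.P_self hr]
  congr 1
  rw [zpow_ofNat]
  field_simp

theorem cl_step {i r : ℕ} (hi : i < 2) (hr : r < 12) {t : F} (h : Cl (x (tabG2.w i r) t)) :
    Cl (x r t) :=
  Cl.of_conj (goodG2.ni_mem_group hi) (ni_X hi hr t) h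

theorem cl11 {t : F} (ht : t ≠ 0) : Cl (x 11 t) :=
  cl_one (by decide) ⟨1, one_mem _, Or.inl (by group)⟩ ht

theorem cl9 {t : F} (ht : t ≠ 0) : Cl (x 9 t) :=
  cl_one (by decide) ⟨1, one_mem _, Or.inr (by group)⟩ ht

theorem cl10 {t : F} (ht : t ≠ 0) : Cl (x 10 t) :=
  cl_step (i := 1) (by decide) (by decide) (by
    rw [show tabG2.w 1 10 = 11 by decide +kernel]; exact cl11 ht)

theorem cl6 {t : F} (ht : t ≠ 0) : Cl (x 6 t) :=
  cl_step (i := 0) (by decide) (by decide) (by
    rw [show tabG2.w 0 6 = 10 by decide +kernel]; exact cl10 ht)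

theorem cl8 {t : F} (ht : t ≠ 0) : Cl (x 8 t) :=
  cl_step (i := 0) (by decide) (by decide) (by
    rw [show tabG2.w 0 8 = 9 by decide +kernel]; exact cl9 ht)

theorem cl7 {t : F} (ht : t ≠ 0) : Cl (x 7 t) :=
  cl_step (i := 1) (by decide) (by decide) (by
    rw [show tabG2.w 1 7 = 8 by decide +kernel]; exact cl8 ht)

theorem step7 (a b c d e f s : F) : ∃ b' c' d' e' f' : F,
    x 7 s * U a b c d e f * x 7 s = U a b' c' d' e' f' ∧ b' = b ∧ c' = c + s * a ∧
      (a = 0 → d' = d ∧ e' = e + s ^ 2 * c + s * d) := by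
  refine ⟨_, _, _, _, _, by
    conv_lhs => rw [← mul_one (x 7 s * U a b c d e f * x 7 s)]
    simp only [U, mul_assoc, one_mul, merge, sw67, sw610, sw78, sw79, sw89, sw68, sw69, sw611,
      sw710, sw711, sw810, sw811, sw910, sw911, sw1011]
    rfl, ?_, ?_, ?_⟩
  · linear_combination s * (two_zero : (2 : F) = 0)
  · ring
  · rintro rfl
    constructor <;> ring

theorem step6 (a b c d e f u : F) : ∃ a' c' d' e' f' : F,
    x 6 u * U a b c d e f * x 6 u = U a' b c' d' e' f' ∧ a' = a ∧ c' = c + u * b ∧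
      (b = 0 → c = 0 → d = 0 → d' = 0 ∧ e' = e ∧ f' = f + u * e) := by
  refine ⟨_, _, _, _, _, by
    conv_lhs => rw [← mul_one (x 6 u * U a b c d e f * x 6 u)]
    simp only [U, mul_assoc, one_mul, merge, sw67, sw610, sw78, sw79, sw89, sw68, sw69, sw611,
      sw710, sw711, sw810, sw811, sw910, sw911, sw1011]
    rfl, ?_, ?_, ?_⟩
  · linear_combination u * (two_zero : (2 : F) = 0)
  · ring
  · rintro rfl rfl rfl
    refine ⟨?_, ?_, ?_⟩ <;> ring

theorem step8 (b d e f u : F) : ∃ c' e' f' : F,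
    x 8 u * U 0 b 0 d e f * x 8 u = U 0 b c' d e' f' ∧ c' = 0 ∧
      (b = 0 → e' = e ∧ f' = f + u * d) ∧ (d = 0 → f' = f + b * u ^ 2) := by
  refine ⟨_, _, _, by
    conv_lhs => rw [← mul_one (x 8 u * U 0 b 0 d e f * x 8 u)]
    simp only [U, mul_assoc, one_mul, merge, sw67, sw610, sw78, sw79, sw89, sw68, sw69, sw611,
      sw710, sw711, sw810, sw811, sw910, sw911, sw1011]
    rfl, ?_, ?_, ?_⟩
  · linear_combination u * (two_zero : (2 : F) = 0)
  · rintro rfl
    refine ⟨?_, ?_⟩ <;> ring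
  · rintro rfl
    ring

theorem step9 (b c e f u : F) : ∃ d' e' f' : F,
    x 9 u * U 0 b c 0 e f * x 9 u = U 0 b c d' e' f' ∧ d' = 0 ∧ e' = e + u * b ∧
      f' = f + u * c := by
  refine ⟨_, _, _, by
    conv_lhs => rw [← mul_one (x 9 u * U 0 b c 0 e f * x 9 u)]
    simp only [U, mul_assoc, one_mul, merge, sw67, sw610, sw78, sw79, sw89, sw68, sw69, sw611,
      sw710, sw711, sw810, sw811, sw910, sw911, sw1011]
    rfl, ?_, ?_, ?_⟩
  · linear_combination u * (two_zero : (2 : F) = 0)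
  · ring
  · ring

theorem step10 (a d f u : F) : ∃ e' f' : F,
    x 10 u * U a 0 0 d 0 f * x 10 u = U a 0 0 d e' f' ∧ e' = 0 ∧ f' = f + u * a := by
  refine ⟨_, _, by
    conv_lhs => rw [← mul_one (x 10 u * U a 0 0 d 0 f * x 10 u)]
    simp only [U, mul_assoc, one_mul, merge, sw67, sw610, sw78, sw79, sw89, sw68, sw69, sw611,
      sw710, sw711, sw810, sw811, sw910, sw911, sw1011]
    rfl, ?_, ?_⟩
  · linear_combination u * (two_zero : (2 : F) = 0)
  · ring

theorem square (a b c d e f : F) : ∃ a' b' c' d' e' f' : F,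
    U a b c d e f * U a b c d e f = U a' b' c' d' e' f' ∧ c' = a * b ∧
      (b = 0 → c = 0 → f' = a * e) ∧ (a = 0 → c = 0 → e' = b * d) ∧
      (a = 0 → b = 0 → f' = c * d) := by
  refine ⟨_, _, _, _, _, _, by
    conv_lhs => rw [← mul_one (U a b c d e f * U a b c d e f)]
    simp only [U, mul_assoc, one_mul, merge, sw67, sw610, sw78, sw79, sw89, sw68, sw69, sw611,
      sw710, sw711, sw810, sw811, sw910, sw911, sw1011]
    rfl, ?_, ?_, ?_, ?_⟩
  · linear_combination c * (two_zero : (2 : F) = 0)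
  · rintro rfl rfl
    linear_combination f * (two_zero : (2 : F) = 0)
  · rintro rfl rfl
    linear_combination e * (two_zero : (2 : F) = 0)
  · rintro rfl rfl
    linear_combination f * (two_zero : (2 : F) = 0)

theorem conj_sq {g : GL chevG2.Idx F} (h : g * g = 1) {r : ℕ} (s : F) :
    (x r s * g * x r s) * (x r s * g * x r s) = 1 := by
  have e : x r s * x r s = 1 := by rw [goodG2.X_add, CharTwo.add_self_eq_zero, goodG2.X_zero]
  calc (x r s * g * x r s) * (x r s * g * x r s)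
      = x r s * g * (x r s * x r s) * g * x r s := by group
    _ = x r s * (g * g) * x r s := by rw [e]; group
    _ = 1 := by rw [h, mul_one, e]

theorem div_cancel_char {c a : F} (ha : a ≠ 0) : c + c / a * a = 0 := by
  rw [div_mul_cancel₀ _ ha, CharTwo.add_self_eq_zero]

variable [Finite F]

theorem cl_c {c e f : F} (hc : c ≠ 0) : Cl (U 0 0 c 0 e f) := by
  obtain ⟨s, hs⟩ := exists_sqrt (e / c)
  obtain ⟨b', c', d', e', f', h1, hb, hc', h0⟩ := step7 0 0 c 0 e f s
  obtain ⟨hd, he⟩ := h0 rfl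
  rw [hs, mul_zero, add_zero, div_cancel_char hc] at he
  rw [mul_zero, add_zero] at hc'
  subst hb hc' hd he
  refine Cl.of_X (by decide) h1 ?_
  obtain ⟨d'', e'', f'', h2, hd2, he2, hf2⟩ := step9 0 c' 0 f' (f' / c')
  rw [mul_zero, add_zero] at he2
  rw [div_cancel_char hc] at hf2
  subst hd2 he2 hf2
  refine Cl.of_X (by decide) h2 ?_
  simpa [U, x, goodG2.X_zero] using cl8 hc

theorem cl_a {a c d e f : F} (ha : a ≠ 0) (h : U a 0 c d e f * U a 0 c d e f = 1) :
    Cl (U a 0 c d e f) := by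
  obtain ⟨b', c', d', e', f', h1, hb, hc', -⟩ := step7 a 0 c d e f (c / a)
  rw [div_cancel_char ha] at hc'
  subst hb hc'
  have hsq := conj_sq (r := 7) h (c / a)
  rw [h1] at hsq
  obtain ⟨a2, b2, c2, d2, e2, f2, h2, -, hf, -, -⟩ := square a 0 0 d' e' f'
  rw [h2] at hsq
  obtain ⟨-, -, -, -, -, hf0⟩ := U_eq_one hsq
  rw [hf rfl rfl, mul_eq_zero] at hf0
  have he : e' = 0 := hf0.resolve_left ha
  subst he
  refine Cl.of_X (by decide) h1 ?_
  obtain ⟨e'', f'', h3, he3, hf3⟩ := step10 a d' f' (f' / a)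
  rw [div_cancel_char ha] at hf3
  subst he3 hf3
  refine Cl.of_X (by decide) h3 ?_
  by_cases hd : d' = 0
  · subst hd
    simpa [U, x, goodG2.X_zero] using cl6 ha
  · refine Cl.of_conj (goodG2.ni_mem_group (i := 0) (by decide)) ?_ (cl_c (e := a) (f := 0) hd)
    have e : U a 0 0 d' 0 0 = x 6 a * x 9 d' := by simp [U, x, goodG2.X_zero]
    have e' : U 0 0 d' 0 a 0 = x 10 a * (x 8 d' * 1) := by
      rw [sw810]; simp [U, x, goodG2.X_zero]
    rw [e, e', mul_one, show goodG2.ni F 0 * (x 6 a * x 9 d') * (goodG2.ni F 0)⁻¹ =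
      (goodG2.ni F 0 * x 6 a * (goodG2.ni F 0)⁻¹) * (goodG2.ni F 0 * x 9 d' * (goodG2.ni F 0)⁻¹)
      by group, ni_X (by decide) (by decide), ni_X (by decide) (by decide),
      show tabG2.w 0 6 = 10 by decide +kernel, show tabG2.w 0 9 = 8 by decide +kernel]

theorem cl_b {b c d e f : F} (hb : b ≠ 0) (h : U 0 b c d e f * U 0 b c d e f = 1) :
    Cl (U 0 b c d e f) := by
  obtain ⟨a', c', d', e', f', h1, ha, hc', -⟩ := step6 0 b c d e f (c / b)
  rw [div_cancel_char hb] at hc'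
  subst ha hc'
  have hsq := conj_sq (r := 6) h (c / b)
  rw [h1] at hsq
  obtain ⟨a2, b2, c2, d2, e2, f2, h2, -, -, he, -⟩ := square 0 b 0 d' e' f'
  rw [h2] at hsq
  obtain ⟨-, -, -, -, he0, -⟩ := U_eq_one hsq
  rw [he rfl rfl, mul_eq_zero] at he0
  have hd : d' = 0 := he0.resolve_left hb
  subst hd
  refine Cl.of_X (by decide) h1 ?_
  obtain ⟨u, hu⟩ := exists_sqrt (f' / b)
  obtain ⟨c3, e3, f3, h3, hc3, -, hf3⟩ := step8 b 0 e' f' u
  have hf30 := hf3 rfl
  rw [hu, mul_div_cancel₀ _ hb, CharTwo.add_self_eq_zero] at hf30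
  subst hc3 hf30
  refine Cl.of_X (by decide) h3 ?_
  obtain ⟨d4, e4, f4, h4, hd4, he4, hf4⟩ := step9 b 0 e3 0 (e3 / b)
  rw [div_cancel_char hb] at he4
  rw [mul_zero, add_zero] at hf4
  subst hd4 he4 hf4
  refine Cl.of_X (by decide) h4 ?_
  simpa [U, x, goodG2.X_zero] using cl7 hb

theorem cl_low {e f : F} (hne : U (0 : F) 0 0 0 e f ≠ 1) : Cl (U 0 0 0 0 e f) := by
  by_cases he : e = 0
  · subst he
    by_cases hf0 : f = 0
    · subst hf0
      exact absurd U_one hne
    · simpa [U, x, goodG2.X_zero] using cl11 hf0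
  · obtain ⟨a3, c3, d3, e3, f3, h3, ha3, hc3, h00⟩ := step6 0 0 0 0 e f (f / e)
    obtain ⟨hd3, he3, hf3⟩ := h00 rfl rfl rfl
    rw [div_cancel_char he] at hf3
    rw [mul_zero, add_zero] at hc3
    subst ha3 hc3 hd3 he3 hf3
    refine Cl.of_X (by decide) h3 ?_
    simpa [U, x, goodG2.X_zero] using cl10 he

theorem cl_d {d e f : F} (hd : d ≠ 0) (h : U 0 0 0 d e f * U 0 0 0 d e f = 1) :
    Cl (U 0 0 0 d e f) := by
  by_cases he : e = 0
  · subst he
    obtain ⟨c3, e3, f3, h3, hc3, h00, -⟩ := step8 0 d 0 f (f / d)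
    obtain ⟨he3, hf3⟩ := h00 rfl
    rw [div_cancel_char hd] at hf3
    subst hc3 he3 hf3
    refine Cl.of_X (by decide) h3 ?_
    simpa [U, x, goodG2.X_zero] using cl9 hd
  · set n := goodG2.ni F 0 with hn
    have ee : n * U 0 0 0 d e f * n⁻¹ = U e 0 d 0 0 f := by
      have e1 : U 0 0 0 d e f = x 9 d * x 10 e * x 11 f := by
        simp [U, x, goodG2.X_zero, mul_assoc]
      have e2 : U e 0 d 0 0 f = x 8 d * (x 6 e * (x 11 f * 1)) := by
        rw [sw68]; simp [U, x, goodG2.X_zero]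
      rw [e1, e2, show n * (x 9 d * x 10 e * x 11 f) * n⁻¹ =
        (n * x 9 d * n⁻¹) * (n * x 10 e * n⁻¹) * (n * x 11 f * n⁻¹) by group, hn,
        ni_X (by decide) (by decide), ni_X (by decide) (by decide),
        ni_X (by decide) (by decide), show tabG2.w 0 9 = 8 by decide +kernel,
        show tabG2.w 0 10 = 6 by decide +kernel, show tabG2.w 0 11 = 11 by decide +kernel,
        mul_one, mul_assoc]
    refine Cl.of_conj (goodG2.ni_mem_group (i := 0) (by decide)) ee (cl_a he ?_)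
    rw [← ee, show n * U 0 0 0 d e f * n⁻¹ * (n * U 0 0 0 d e f * n⁻¹) =
      n * (U 0 0 0 d e f * U 0 0 0 d e f) * n⁻¹ by group, h, mul_one, mul_inv_cancel]

theorem cl_U {a b c d e f : F} (h : U a b c d e f * U a b c d e f = 1)
    (hne : U a b c d e f ≠ 1) : Cl (U a b c d e f) := by
  obtain ⟨a', b', c', d', e', f', h2, hc, -, -, hf⟩ := square a b c d e f
  have h0 := U_eq_one (h2.symm.trans h)
  by_cases ha : a = 0
  · subst ha
    by_cases hb : b = 0
    · subst hb
      by_cases hc0 : c = 0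
      · subst hc0
        by_cases hd : d = 0
        · subst hd; exact cl_low hne
        · exact cl_d hd h
      · have hcd : c * d = 0 := (hf rfl rfl).symm.trans h0.2.2.2.2.2
        obtain rfl : d = 0 := (mul_eq_zero.1 hcd).resolve_left hc0
        exact cl_c hc0
    · exact cl_b hb h
  · obtain rfl : b = 0 := (mul_eq_zero.1 (hc.symm.trans h0.2.2.1)).resolve_left ha
    exact cl_a ha h

theorem cl_involution [Fintype F] {g : GL chevG2.Idx F} (hg : g ∈ chevG2.group F)
    (ho : orderOf g = 2) : Cl g := by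
  obtain ⟨P, hP⟩ := goodG2.exists_sylow (F := F) 2
  set g' : ↥(chevG2.group F) := ⟨g, hg⟩ with hg'
  have hp : IsPGroup 2 ↥(Subgroup.zpowers g') :=
    IsPGroup.of_card (n := 1) (by rw [Nat.card_zpowers, Subgroup.orderOf_mk, ho, pow_one])
  obtain ⟨Q, hQ⟩ := hp.exists_le_sylow
  obtain ⟨k, rfl⟩ := MulAction.exists_smul_eq ↥(chevG2.group F) P Q
  have hmem : g' ∈ ((k • P : Sylow 2 ↥(chevG2.group F)) : Subgroup ↥(chevG2.group F)) :=
    hQ (Subgroup.mem_zpowers g')
  rw [Sylow.coe_subgroup_smul, Subgroup.mem_pointwise_smul_iff_inv_smul_mem, hP,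
    Subgroup.mem_subgroupOf] at hmem
  obtain ⟨a, b, c, d, e, f, hU⟩ := exists_U hmem
  have hk : (k⁻¹).1 * g * (k⁻¹).1⁻¹ = U a b c d e f := by
    rw [← hU]
    simp [hg']
  refine Cl.of_conj (k⁻¹).2 hk (cl_U ?_ ?_)
  · rw [← hk, show (k⁻¹).1 * g * (k⁻¹).1⁻¹ * ((k⁻¹).1 * g * (k⁻¹).1⁻¹) =
      (k⁻¹).1 * (g * g) * (k⁻¹).1⁻¹ by group, ← pow_two, ← ho, pow_orderOf_eq_one, mul_one,
      mul_inv_cancel]
  · rw [← hk]
    intro e1
    rw [mul_inv_eq_one, mul_eq_left] at e1
    simp [e1] at ho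

/-- The positive roots in the orbit of the highest root. -/
theorem long_orbit (l : List ℕ) (hl : IsW chevG2 l) :
    wl tabG2 l 11 ∈ [0, 1, 5, 6, 10, 11] := by
  induction l with
  | nil => decide
  | cons i l ih =>
    have hi : i < 2 := hl i List.mem_cons_self
    have h := ih fun y hy => hl y (List.mem_cons_of_mem _ hy)
    show tabG2.w i (wl tabG2 l 11) ∈ _
    revert h
    generalize wl tabG2 l 11 = r
    intro h
    have : ∀ i ∈ [0, 1], ∀ r ∈ [0, 1, 5, 6, 10, 11],
        tabG2.w i r ∈ [0, 1, 5, 6, 10, 11] := by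
      decide +kernel
    exact this i (by simp; omega) r h

/-- The two representatives are not conjugate. -/
theorem not_conj {h : GL chevG2.Idx F} (hh : h ∈ chevG2.group F) :
    h * x 9 (1 : F) * h⁻¹ ≠ x 11 1 := by
  intro e
  obtain ⟨b, hb, n, l, hl, u, hu, rfl⟩ := goodG2.exists_normal_form hh
  obtain ⟨w, hw, t, ht, rfl⟩ := goodG2.mem_borel.1 hb
  replace hu := goodG2.USub_le_pos _ hu
  have hcw : w⁻¹ * x 11 (1 : F) * w = x 11 1 := by
    obtain ⟨a, b, c, d, e', f, rfl⟩ := exists_U hw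
    rw [mul_assoc, inv_mul_eq_iff_eq_mul]
    conv_lhs => rw [show x 11 (1 : F) * U a b c d e' f = x 11 1 * U a b c d e' f * 1 by group]
    conv_rhs => rw [show U a b c d e' f * x 11 (1 : F) = U a b c d e' f * x 11 1 * 1 by group]
    simp only [U, mul_assoc, one_mul, merge, sw611, sw711, sw811, sw911, sw1011]
    rw [add_comm (1 : F) f]
  have e1 : (t * n) * (u * x 9 (1 : F) * u⁻¹) * (t * n)⁻¹ = x 11 1 := by
    rw [← hcw, ← e]; group
  obtain ⟨a, b, c, d, e', f, hUu⟩ := exists_U (mul_mem (mul_mem hu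
    (goodG2.X_mem_posUnipotent (r := 9) (by decide) (by decide) (1 : F))) (inv_mem hu))
  obtain ⟨hlt, c1, hc1, hact⟩ := goodG2.rep_act hl _ (show wl tabG2 l.reverse 11 < 12 from
    goodG2.wl_lt hl.1.reverse (by decide))
  rw [goodG2.wl_wl_reverse hl.1 (show 11 < 12 by decide)] at hact
  obtain ⟨-, c2, hc2, hact2⟩ := goodG2.act_diag ht 11 (by decide)
  set r := wl tabG2 l.reverse 11 with hr
  have e2 : u * x 9 (1 : F) * u⁻¹ = x r ((c1 * c2)⁻¹) := by
    have e3 : (t * n) * x r ((c1 * c2)⁻¹) * (t * n)⁻¹ = x 11 1 := by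
      rw [show t * n * x r ((c1 * c2)⁻¹) * (t * n)⁻¹ = t * (n * x r ((c1 * c2)⁻¹) * n⁻¹) * t⁻¹
        by group, hact, hact2]
      show goodG2.X F 11 _ = _
      congr 1
      field_simp
    exact mul_left_cancel (mul_right_cancel (e1.trans e3.symm))
  have hlong := long_orbit l.reverse hl.1.reverse
  rw [← hr] at hlong
  have hmem : x r ((c1 * c2)⁻¹) ∈ chevG2.posUnipotent F := by
    rw [← e2]
    exact mul_mem (mul_mem hu (goodG2.X_mem_posUnipotent (by decide) (by decide) _)) (inv_mem hu)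
  have hpos : 6 ≤ r := by
    by_contra hneg
    have : x r ((c1 * c2)⁻¹) ∈ chevG2.borelSubgroup F ⊓ chevG2.negUnipotent F :=
      ⟨Subgroup.mem_sup_left hmem, goodG2.X_mem_negUnipotent (show r < 12 by omega) (show r < 6 by omega) _⟩
    rw [goodG2.borel_inf_neg, Subgroup.mem_bot, goodG2.X_eq_one_iff (show r < 12 by omega)] at this
    simp [hc1, hc2] at this
  obtain ⟨a, b, c, d, e4, f, hu'⟩ := exists_U hu
  have e5 : u * x 9 (1 : F) = x r ((c1 * c2)⁻¹) * u := by rw [← e2]; group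
  subst hu'
  have hr3 : r = 6 ∨ r = 10 ∨ r = 11 := by
    simp only [List.mem_cons, List.not_mem_nil, or_false] at hlong
    omega
  have expand : ∀ (s : F), ∃ e6 f6, U a b c d e4 f * x 9 s = U a b c (d + s) e6 f6 := fun s =>
    ⟨_, _, by
      conv_lhs => rw [← mul_one (U a b c d e4 f * x 9 s)]
      simp only [U, mul_assoc, one_mul, merge, sw67, sw610, sw78, sw79, sw89, sw68, sw69, sw611,
        sw710, sw711, sw810, sw811, sw910, sw911, sw1011]
      rfl⟩
  obtain ⟨e6, f6, h6⟩ := expand 1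
  rw [h6] at e5
  have hd : ∃ a' b' c' e7 f7, x r ((c1 * c2)⁻¹) * U a b c d e4 f = U a' b' c' d e7 f7 := by
    rcases hr3 with h | h | h <;> rw [h]
    · exact ⟨_, _, _, _, _, by
        conv_lhs => rw [← mul_one (x 6 ((c1 * c2)⁻¹) * U a b c d e4 f)]
        simp only [U, mul_assoc, one_mul, merge]
        rfl⟩
    · exact ⟨_, _, _, _, _, by
        conv_lhs => rw [← mul_one (x 10 ((c1 * c2)⁻¹) * U a b c d e4 f)]
        simp only [U, mul_assoc, one_mul, merge, sw67, sw610, sw78, sw79, sw89, sw68, sw69, sw611,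
          sw710, sw711, sw810, sw811, sw910, sw911, sw1011]
        rfl⟩
    · exact ⟨_, _, _, _, _, by
        conv_lhs => rw [← mul_one (x 11 ((c1 * c2)⁻¹) * U a b c d e4 f)]
        simp only [U, mul_assoc, one_mul, merge, sw67, sw610, sw78, sw79, sw89, sw68, sw69, sw611,
          sw710, sw711, sw810, sw811, sw910, sw911, sw1011]
        rfl⟩
  obtain ⟨a', b', c', e7, f7, h7⟩ := hd
  rw [h7, U_oprod, U_oprod] at e5
  have := goodG2.oprod_injective 6 6 (by decide) (by decide) _ _ e5 9 (by omega) (by omega)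
  simp at this

theorem ord_two {r : ℕ} (hr : r < 12) : orderOf (x r (1 : F)) = 2 := by
  refine orderOf_eq_prime ?_ fun e => one_ne_zero ((goodG2.X_eq_one_iff hr (1 : F)).1 e)
  rw [pow_two, goodG2.X_add, CharTwo.add_self_eq_zero, goodG2.X_zero]

end Cfsg.Agent.Lib.Chev.InvG2
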