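import Cfsg.Agent.Lib.Chev.SteinChar
import Cfsg.Agent.Lib.Chev.Parabolic
import Cfsg.Agent.Lib.BNPair.UnipotentCount

/-!
The Chevalley groups over finite fields as split (B,N)-pairs of characteristic `p`.
-/

set_option autoImplicit false

namespace Cfsg.Agent.Lib.Chev

open Cfsg.Lie
open Cfsg.Agent.Lib
open scoped Matrix

variable {D : ChevalleyDatum} {T : Tables} {F : Type*} [Field F]

namespace Good

variable (G : Good D T)
include G

theorem sEquiv_coe {i : Fin D.rank} :
    (((G.sEquiv F i : (G.bnPair F).S) : ↥(D.group F)) : GL D.Idx F) = G.ni F i.val := rfl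

theorem ni_conj_not_borel {i : ℕ} (hi : i < D.rank) {t : F} (ht : t ≠ 0) :
    G.ni F i * G.X F (sim D i) t * (G.ni F i)⁻¹ ∉ D.borelSubgroup F := by
  intro h
  have hp := G.sim_lt hi
  rw [G.ni_conj_X hi hp, G.w_sim hi] at h
  have hneg : ng D (sim D i) < npos D := by
    have := G.even_n; have := G.sim_pos hi; unfold ng; omega
  have h4 := Subgroup.mem_bot.1 (G.borel_inf_neg (F := F) ▸
    Subgroup.mem_inf.2 ⟨h, G.X_mem_negUnipotent (G.ng_lt hp) hneg _⟩)
  rw [G.X_eq_one_iff (G.ng_lt hp), G.eta_sim hi] at h4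
  simp [ht] at h4

theorem ni_inv_conj_not_borel {i : ℕ} (hi : i < D.rank) {t : F} (ht : t ≠ 0) :
    (G.ni F i)⁻¹ * G.X F (sim D i) t * G.ni F i ∉ D.borelSubgroup F := by
  intro h
  apply G.ni_conj_not_borel hi ht
  have hd : G.ni F i * G.ni F i ∈ D.borelSubgroup F := Subgroup.mem_sup_right (G.ni_sq hi)
  have := mul_mem (mul_mem hd h) (inv_mem hd)
  simpa [mul_assoc] using this

theorem cell_s_card [Fintype F] (s : (G.bnPair F).S) :
    Nat.card {c : ↥(D.group F) ⧸ (G.bnPair F).B //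
      BNPair.InCell (G.bnPair F) (BNPair.wgen (G.bnPair F) s) c} = Fintype.card F := by
  classical
  obtain ⟨i, rfl⟩ := (G.sEquiv F).surjective s
  have hp := G.sim_lt i.isLt
  set ν : ↥(D.group F) := ((G.sEquiv F i : (G.bnPair F).S) : ↥(D.group F)) with hν
  have hXB : ∀ t, G.X F (sim D i.val) t ∈ D.borelSubgroup F := fun t =>
    Subgroup.mem_sup_left (G.X_mem_posUnipotent hp (G.sim_pos i.isLt) t)
  have hXg : ∀ t, G.X F (sim D i.val) t ∈ D.group F := fun t => G.borel_le_group (hXB t)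
  have hcell : ∀ g : ↥(D.group F), g ∈ BNPair.dc (G.bnPair F) ν →
      g ∈ BNPair.cell (G.bnPair F) (BNPair.wgen (G.bnPair F) (G.sEquiv F i)) := fun g hg => by
    rw [BNPair.wgen, BNPair.cell_mk]; exact hg
  rw [← Nat.card_eq_fintype_card]
  refine (Nat.card_congr (Equiv.ofBijective (fun t : F =>
    (⟨QuotientGroup.mk (⟨_, hXg t⟩ * ν), ⟨⟨_, hXg t⟩ * ν, hcell _
      ((BNPair.mem_dc _).2 ⟨⟨_, hXg t⟩, hXB t, 1, one_mem _, by simp⟩), rfl⟩⟩ :
      {c : ↥(D.group F) ⧸ (G.bnPair F).B //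
        BNPair.InCell (G.bnPair F) (BNPair.wgen (G.bnPair F) (G.sEquiv F i)) c})) ⟨?_, ?_⟩)).symm
  · intro t t' h
    by_contra hne
    have h1 := QuotientGroup.eq.1 (congrArg Subtype.val h)
    have h2 : ((G.ni F i.val)⁻¹ * G.X F (sim D i.val) (t' - t) * G.ni F i.val) ∈
        D.borelSubgroup F := by
      have h3 : (G.X F (sim D i.val) t * G.ni F i.val)⁻¹ *
          (G.X F (sim D i.val) t' * G.ni F i.val) ∈ D.borelSubgroup F := h1
      have e : (G.X F (sim D i.val) t * G.ni F i.val)⁻¹ *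
          (G.X F (sim D i.val) t' * G.ni F i.val) =
          (G.ni F i.val)⁻¹ * ((G.X F (sim D i.val) t)⁻¹ * G.X F (sim D i.val) t') *
            G.ni F i.val := by group
      rw [e, G.X_inv, G.X_add, neg_add_eq_sub] at h3
      exact h3
    exact G.ni_inv_conj_not_borel i.isLt (sub_ne_zero.2 (Ne.symm hne)) h2
  · rintro ⟨c, g, hg, rfl⟩
    rw [BNPair.wgen, BNPair.cell_mk] at hg
    obtain ⟨b, hb, b', hb', rfl⟩ := (BNPair.mem_dc _).1 hg
    obtain ⟨u, hu, h, hh, hbe⟩ := G.mem_borel.1 (hb : (b : GL D.Idx F) ∈ D.borelSubgroup F)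
    replace hbe : (b : GL D.Idx F) = u * h := hbe
    obtain ⟨a, ha, t, hat⟩ := G.exists_keep_X i.isLt (inv_mem hu)
    refine ⟨-t, Subtype.ext (QuotientGroup.eq.2 ?_)⟩
    show (G.X F (sim D i.val) (-t) * G.ni F i.val)⁻¹ *
      ((b : GL D.Idx F) * G.ni F i.val * (b' : GL D.Idx F)) ∈ D.borelSubgroup F
    have hu' : u = G.X F (sim D i.val) (-t) * a⁻¹ := by
      rw [← G.X_inv, ← mul_inv_rev, ← hat, inv_inv]
    have hab : (G.ni F i.val)⁻¹ * a⁻¹ * G.ni F i.val ∈ D.borelSubgroup F := by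
      have h1 := Subgroup.mem_sup_left (T := D.diagonalSubgroup F)
        (G.USub_le_pos _ (G.ni_conj_up i.isLt (inv_mem ha)))
      have hd : G.ni F i.val * G.ni F i.val ∈ D.borelSubgroup F :=
        Subgroup.mem_sup_right (G.ni_sq i.isLt)
      have := mul_mem (mul_mem (inv_mem hd) h1) hd
      simpa [mul_assoc] using this
    have hhb : (G.ni F i.val)⁻¹ * h * G.ni F i.val ∈ D.borelSubgroup F := by
      have := (Subgroup.mem_normalizer_iff.1 (G.monomial_le_normalizer
        (inv_mem (G.ni_mem_monomial i.isLt))) h).1 hh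
      rw [inv_inv] at this
      exact Subgroup.mem_sup_right this
    have e : (G.X F (sim D i.val) (-t) * G.ni F i.val)⁻¹ *
        ((b : GL D.Idx F) * G.ni F i.val * (b' : GL D.Idx F)) =
        ((G.ni F i.val)⁻¹ * a⁻¹ * G.ni F i.val) * ((G.ni F i.val)⁻¹ * h * G.ni F i.val) *
          (b' : GL D.Idx F) := by
      rw [hbe, hu']; group
    rw [e]
    exact mul_mem (mul_mem hab hhb) hb'

theorem torus_eq :
    (G.bnPair F).B ⊓ (G.bnPair F).N = (D.diagonalSubgroup F).subgroupOf (D.group F) := by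
  rw [← G.borel_inf_monomial (F := F)]
  rfl

theorem desc_neg {v : G.W0 F} {l : List ℕ}
    (hl : G.Rep F ((BNPair.wrep (G.bnPair F) v : ↥(D.group F)) : GL D.Idx F) l) {i : Fin D.rank}
    (hdesc : (BNPair.exchangeData (G.bnPair F)).len (v * BNPair.wgen (G.bnPair F) (G.sEquiv F i)) <
      (BNPair.exchangeData (G.bnPair F)).len v) :
    wl T l (sim D i.val) < npos D := by
  by_contra hcon
  have hp := G.sim_lt i.isLt
  obtain ⟨n, hn, rfl⟩ : ∃ n : (G.bnPair F).N, n = Quotient.out v ∧ QuotientGroup.mk n = v :=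
    ⟨_, rfl, Quotient.out_eq v⟩
  set ν : ↥(D.group F) := ((G.sEquiv F i : (G.bnPair F).S) : ↥(D.group F)) with hν
  set νN : (G.bnPair F).N := ⟨ν, (G.bnPair F).subset (G.sEquiv F i).2⟩ with hνN
  have hXB : G.X F (sim D i.val) 1 ∈ D.borelSubgroup F :=
    Subgroup.mem_sup_left (G.X_mem_posUnipotent hp (G.sim_pos i.isLt) 1)
  set X : ↥(D.group F) := ⟨_, G.borel_le_group hXB⟩ with hX
  have hx : ν⁻¹ * X * ν ∈ BNPair.cell (G.bnPair F) (BNPair.wgen (G.bnPair F) (G.sEquiv F i)) := by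
    rw [BNPair.wgen, BNPair.cell_mk]
    rcases BNPair.mem_union_inv (G.bnPair F) (G.sEquiv F i).2
        ((G.bnPair F).subset (G.sEquiv F i).2) (show X ∈ (G.bnPair F).B from hXB) with h | h
    · exfalso
      rw [BNPair.dc_eq_of_cong _ (BNPair.cong_ss _ (G.sEquiv F i).2), BNPair.dc_one] at h
      exact G.ni_inv_conj_not_borel i.isLt one_ne_zero
        (show (G.ni F i.val)⁻¹ * G.X F (sim D i.val) 1 * G.ni F i.val ∈ D.borelSubgroup F from h)
    · exact h
  have hw : BNPair.wrep (G.bnPair F) (QuotientGroup.mk n) = (n : ↥(D.group F)) :=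
    congrArg Subtype.val hn.symm
  rw [hw] at hl
  have hconj : ((n * νN : (G.bnPair F).N) : ↥(D.group F)) * (ν⁻¹ * X * ν) *
      ((n * νN : (G.bnPair F).N) : ↥(D.group F))⁻¹ ∈ (G.bnPair F).B := by
    have e : ((n * νN : (G.bnPair F).N) : ↥(D.group F)) * (ν⁻¹ * X * ν) *
        ((n * νN : (G.bnPair F).N) : ↥(D.group F))⁻¹ =
        (n : ↥(D.group F)) * X * (n : ↥(D.group F))⁻¹ := by
      push_cast; rw [show (νN : ↥(D.group F)) = ν from rfl]; group
    rw [e]
    show ((n : ↥(D.group F)) : GL D.Idx F) * G.X F (sim D i.val) 1 *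
      (((n : ↥(D.group F)) : GL D.Idx F))⁻¹ ∈ D.borelSubgroup F
    refine G.act_conj_USub (S := {sim D i.val}) (G.rep_act hl) (fun q hq _ hqS t => ?_)
      (G.X_mem_USub hp (G.sim_pos i.isLt) (Set.mem_singleton _) 1)
    rw [Set.mem_singleton_iff] at hqS
    subst hqS
    exact Subgroup.mem_sup_left (G.X_mem_posUnipotent (G.wl_lt hl.1 hp) (not_lt.1 hcon) t)
  have h2 := BNPair.descent_of (G.bnPair F) hx hconj
  have e1 : (QuotientGroup.mk (n * νN) : G.W0 F) =
      QuotientGroup.mk n * BNPair.wgen (G.bnPair F) (G.sEquiv F i) := rfl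
  rw [e1, mul_assoc, show BNPair.wgen (G.bnPair F) (G.sEquiv F i) *
    BNPair.wgen (G.bnPair F) (G.sEquiv F i) = 1 from
      (BNPair.exchangeData (G.bnPair F)).sq _, mul_one] at h2
  omega

theorem radical_data (hP : chkPar D T = true) (J : Set (G.bnPair F).S) (v : G.W0 F)
    (hv : (BNPair.exchangeData (G.bnPair F)).RTop J v) :
    ∃ V : Subgroup ↥(D.group F), V ≤ (D.posUnipotent F).subgroupOf (D.group F) ∧
      (∀ a ∈ BNPair.par (G.bnPair F) J, ∀ u ∈ V, a * u * a⁻¹ ∈ V) ∧
      ∀ u ∈ (D.posUnipotent F).subgroupOf (D.group F),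
        (BNPair.wrep (G.bnPair F) v)⁻¹ * u * BNPair.wrep (G.bnPair F) v ∈ (G.bnPair F).B →
          u ∈ V := by
  classical
  set J' : Set ℕ := {j | ∃ h : j < D.rank, G.sEquiv F ⟨j, h⟩ ∈ J} with hJ'
  refine ⟨(D.unipotentRadical F J').subgroupOf (D.group F), ?_, ?_, ?_⟩
  · intro u hu
    rw [Subgroup.mem_subgroupOf] at hu ⊢
    rw [G.radical_eq hP] at hu
    exact G.USub_le_pos _ hu
  · intro a ha u hu
    have hle : BNPair.par (G.bnPair F) J ≤
        (D.parabolicSubgroup F J').subgroupOf (D.group F) := by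
      refine sup_le (fun b hb => Subgroup.mem_sup_left hb) ((Subgroup.closure_le _).2 ?_)
      rintro x ⟨s, hs, rfl⟩
      obtain ⟨i, rfl⟩ := (G.sEquiv F).surjective s
      exact G.ni_mem_parabolic (show i.val ∈ J' from ⟨i.isLt, hs⟩) i.isLt
    exact (Subgroup.mem_normalizer_iff.1 (G.parabolic_le_normalizer hP J' (hle ha)) _).1 hu
  · intro u hu hconj
    set n : ↥(D.group F) := BNPair.wrep (G.bnPair F) v with hn
    have hnN : n ∈ (G.bnPair F).N := BNPair.wrep_mem _ v
    obtain ⟨l, hl⟩ := G.exists_rep (show (n : GL D.Idx F) ∈ D.monomialSubgroup F from hnN)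
    have hnn : n * n ∈ (G.bnPair F).B := by
      have h1 : v * v = 1 := by
        nth_rw 1 [← (BNPair.exchangeData (G.bnPair F)).rtop_inv_eq hv]
        exact inv_mul_cancel v
      have hv' := BNPair.mk_wrep (G.bnPair F) v
      rw [← hv', ← QuotientGroup.mk_mul, QuotientGroup.eq_one_iff, Subgroup.mem_subgroupOf] at h1
      exact h1.1
    have hnu : (n : GL D.Idx F) * (u : GL D.Idx F) * (n : GL D.Idx F)⁻¹ ∈ D.borelSubgroup F := by
      have := mul_mem (mul_mem hnn hconj) (inv_mem hnn)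
      have e : n * n * (n⁻¹ * u * n) * (n * n)⁻¹ = n * u * n⁻¹ := by group
      rw [e] at this
      exact this
    -- split off the Levi part
    set S : Set ℕ := {q | D.InRootSub J' q} with hS
    have hpos : D.posUnipotent F ≤ D.unipotentRadical F J' ⊔ G.USub F S :=
      G.posUnipotent_le_of fun r hr hp t => by
        by_cases hin : D.InRootSub J' r
        · exact Subgroup.mem_sup_right (G.X_mem_USub hr hp hin t)
        · rw [G.radical_eq hP]
          exact Subgroup.mem_sup_left (G.X_mem_USub hr hp hin t)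
    have hSn : G.USub F S ≤ Subgroup.normalizer (D.unipotentRadical F J' : Set (GL D.Idx F)) :=
      ((G.USub_le_pos S).trans (le_sup_left.trans le_sup_left)).trans
        (G.parabolic_le_normalizer hP J')
    have hmem : (u : GL D.Idx F) ∈
        ((D.unipotentRadical F J' ⊔ G.USub F S : Subgroup _) : Set (GL D.Idx F)) := hpos hu
    rw [Subgroup.coe_mul_of_right_le_normalizer_left _ _ hSn] at hmem
    obtain ⟨w, hw, x, hx, hwx⟩ := hmem
    replace hwx : w * x = (u : GL D.Idx F) := hwx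
    rw [Subgroup.mem_subgroupOf]
    have hneg : (n : GL D.Idx F) * x * (n : GL D.Idx F)⁻¹ ∈ D.negUnipotent F := by
      refine G.act_conj_USub (G.rep_act hl) (fun q hq hqp hqS t => ?_) hx
      refine G.X_mem_negUnipotent (G.wl_lt hl.1 hq) ?_ t
      by_contra hcon
      have hsgn := G.par_sign hP
      have hterm : ∀ c < D.rank, ∀ y < D.rank, T.k c q * T.k y (wl T l (sim D c)) ≤ 0 := by
        intro c hc y hy
        by_cases hcJ : c ∈ J'
        · obtain ⟨_, hcJ⟩ := hcJ
          refine mul_nonpos_of_nonneg_of_nonpos (Good.k_nonneg hsgn hq hqp hc) ?_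
          exact G.k_nonpos hsgn (G.wl_lt hl.1 (G.sim_lt hc))
            (G.desc_neg (i := ⟨c, hc⟩) hl (hv.2 _ hcJ)) hy
        · rw [((G.inRootSub_iff hP).1 hqS).2 c hc hcJ, zero_mul]
      have h0 : ∀ y < D.rank, 0 ≤ T.k y (ng D (wl T l q)) := fun y hy => by
        rw [G.k_ng (G.wl_lt hl.1 hq) hy, G.k_wl_sum hl.1 hq hy, Left.nonneg_neg_iff]
        exact Finset.sum_nonpos fun c hc => hterm c (Finset.mem_range.1 hc) y hy
      have h1 := G.pos_of_k_nonneg hsgn (G.ng_lt (G.wl_lt hl.1 hq)) h0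
      have := (G.ng_pos_iff (G.wl_lt hl.1 hq)).1 h1
      omega
    have hback : (n : GL D.Idx F) * w * (n : GL D.Idx F)⁻¹ ∈ D.borelSubgroup F := by
      have hnpar : (n : GL D.Idx F) ∈ D.parabolicSubgroup F J' := by
        have hle : BNPair.par (G.bnPair F) J ≤
            (D.parabolicSubgroup F J').subgroupOf (D.group F) := by
          refine sup_le (fun b hb => Subgroup.mem_sup_left hb) ((Subgroup.closure_le _).2 ?_)
          rintro x ⟨s, hs, rfl⟩
          obtain ⟨i, rfl⟩ := (G.sEquiv F).surjective s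
          exact G.ni_mem_parabolic (show i.val ∈ J' from ⟨i.isLt, hs⟩) i.isLt
        exact hle (BNPair.mem_par_of_cell (G.bnPair F) hv.1 (BNPair.wrep_mem_cell _ v))
      have h1 := (Subgroup.mem_normalizer_iff.1 (G.parabolic_le_normalizer hP J' hnpar) w).1 hw
      rw [G.radical_eq hP] at h1
      exact Subgroup.mem_sup_left (G.USub_le_pos _ h1)
    have hxB : (n : GL D.Idx F) * x * (n : GL D.Idx F)⁻¹ ∈ D.borelSubgroup F := by
      have := mul_mem (inv_mem hback) hnu
      have e : ((n : GL D.Idx F) * w * (n : GL D.Idx F)⁻¹)⁻¹ *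
          ((n : GL D.Idx F) * (u : GL D.Idx F) * (n : GL D.Idx F)⁻¹) =
          (n : GL D.Idx F) * x * (n : GL D.Idx F)⁻¹ := by
        rw [← hwx]; group
      rwa [e] at this
    have h3 : (n : GL D.Idx F) * x * (n : GL D.Idx F)⁻¹ = 1 :=
      Subgroup.mem_bot.1 (G.borel_inf_neg (F := F) ▸ Subgroup.mem_inf.2 ⟨hxB, hneg⟩)
    rw [conj_eq_one_iff] at h3
    rw [← hwx, h3, mul_one]
    exact hw

/-- The split (B,N)-pair data. -/
theorem lieData [Fintype F] (hP : chkPar D T = true) (p : ℕ) [hp : Fact p.Prime] [CharP F p] :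
    BNPair.LieData (G.bnPair F) p (Fintype.card F)
      ((D.posUnipotent F).subgroupOf (D.group F)) where
  hp := hp.out
  q_pow := by
    obtain ⟨f, -, hf⟩ := FiniteField.card F p
    exact ⟨f, hf⟩
  U_le := fun u hu => Subgroup.mem_sup_left hu
  U_normal := fun b hb u hu =>
    (Subgroup.mem_normalizer_iff.1
      ((sup_le Subgroup.le_normalizer G.diag_normalizes_pos : D.borelSubgroup F ≤ _) hb) _).1 hu
  borel := fun b hb => by
    obtain ⟨u, hu, h, hh, e⟩ := G.mem_borel.1 (hb : (b : GL D.Idx F) ∈ D.borelSubgroup F)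
    refine ⟨⟨u, G.borel_le_group (Subgroup.mem_sup_left hu)⟩, hu,
      ⟨h, G.borel_le_group (Subgroup.mem_sup_right hh)⟩, ?_, Subtype.ext e⟩
    rw [G.torus_eq]; exact hh
  sylow := G.exists_sylow p
  torus := by
    rw [G.torus_eq, Nat.card_congr (Subgroup.subgroupOfEquivOfLe
      (diagonal_le_monomial.trans (G.monomial_le_group (F := F)))).toEquiv]
    intro h
    obtain ⟨f, hf0, hf⟩ := FiniteField.card F p
    have h2 := hp.out.dvd_of_dvd_pow (h.trans (G.diag_card_dvd (F := F)))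
    have h3 : p ∣ Fintype.card F := hf ▸ dvd_pow_self p (PNat.ne_zero f)
    have h4 : p ∣ Fintype.card F - (Fintype.card F - 1) := Nat.dvd_sub h3 h2
    have h5 : 0 < Fintype.card F := Fintype.card_pos
    rw [show Fintype.card F - (Fintype.card F - 1) = 1 by omega] at h4
    exact hp.out.not_dvd_one h4
  cell_s := G.cell_s_card
  top := by
    obtain ⟨n, hn, hH⟩ := G.exists_top (F := F)
    refine ⟨QuotientGroup.mk n, hn, fun x hx h => ?_⟩
    have hc : BNPair.Cong (G.bnPair F) (BNPair.wrep (G.bnPair F) (QuotientGroup.mk n))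
        (n : ↥(D.group F)) :=
      (BNPair.weyl_mk_eq (G.bnPair F)).1 (BNPair.mk_wrep (G.bnPair F) (QuotientGroup.mk n))
    set w := BNPair.wrep (G.bnPair F) (QuotientGroup.mk n)
    have h' : (n : ↥(D.group F))⁻¹ * x * n ∈ (G.bnPair F).B := by
      have := mul_mem (mul_mem (inv_mem hc) h) hc
      have e : (w⁻¹ * (n : ↥(D.group F)))⁻¹ * (w⁻¹ * x * w) * (w⁻¹ * n) =
          (n : ↥(D.group F))⁻¹ * x * n := by group
      rw [e] at this
      exact this
    exact diagonal_le_monomial ((hH x hx).2 h')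
  radical := G.radical_data hP

theorem topLen_npos [Fintype F] (hP : chkPar D T = true) (p : ℕ) [Fact p.Prime] [CharP F p] :
    (G.lieData (F := F) hP p).topLen = D.nroots / 2 := by
  have h := (G.lieData (F := F) hP p).card_U
  rw [Nat.card_congr (Subgroup.subgroupOfEquivOfLe
    ((le_sup_left : _ ≤ D.borelSubgroup F).trans G.borel_le_group)).toEquiv, G.card_pos] at h
  exact (Nat.pow_right_injective (Fintype.one_lt_card (α := F)) h).symm

theorem card_unipotent [Fintype F] (hP : chkPar D T = true) (p : ℕ) [Fact p.Prime] [CharP F p] :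
    Nat.card {g : ↥(D.group F) // ∃ k : ℕ, orderOf g = p ^ k} =
      Fintype.card F ^ (2 * (D.nroots / 2)) := by
  classical
  haveI := Fintype.ofFinite (G.bnPair F).S
  haveI := Fintype.ofFinite (G.W0 F)
  rw [(G.lieData (F := F) hP p).card_unipotent, G.topLen_npos hP p]

end Good

end Cfsg.Agent.Lib.Chev
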