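import Cfsg.Agent.Lib.Chev.Char

/-!
Two long root subgroups in characteristic two.
-/

set_option autoImplicit false

namespace Cfsg.Agent.Lib.Chev

open Cfsg.Lie
open scoped Matrix

variable {D : ChevalleyDatum} {T : Tables} {F : Type*} [Field F]

/-- The highest root. -/
def hiRoot (D : ChevalleyDatum) : ℕ := D.nroots - 1

/-- A set of roots stable under the fundamental reflections whose members relate to the highest
root by at most one commutator term, which then commutes with both. -/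
def chkLong (D : ChevalleyDatum) (T : Tables) (L : List ℕ) : Bool :=
  decide (0 < npos D) && L.contains (hiRoot D) &&
    (allLt D.nroots fun q => decide (q < npos D) || q == hiRoot D || (T.terms q (hiRoot D)).isEmpty) &&
    L.all fun s => decide (s < D.nroots) && (allLt D.rank fun j => L.contains (T.w j s)) &&
      (s == hiRoot D || s == ng D (hiRoot D) ||
        match T.terms (hiRoot D) s with
        | [] => true
        | [(k, _, _, _)] => decide (k < D.nroots) && k != hiRoot D && k != ng D (hiRoot D) &&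
            k != s && k != ng D s && (T.terms (hiRoot D) k).isEmpty && (T.terms s k).isEmpty
        | _ => false)

namespace Good

variable (G : Good D T)
include G

theorem commute_of_terms {r s : ℕ} (hr : r < D.nroots) (hs : s < D.nroots) (hne : s ≠ r)
    (hne' : s ≠ ng D r) (h : T.terms r s = []) (t u : F) :
    Commute (G.X F r t) (G.X F s u) := by
  have := G.commAt r s hr hs hne hne' t u
  rw [show G.wordG (cw T r s t u) = 1 from by simp [cw, h, Good.wordG], mul_one] at this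
  exact this.symm

theorem root_isPGroup [CharP F 2] (r : ℕ) : IsPGroup 2 ↥(D.rootSubgroup F r) := by
  rintro ⟨g, hg⟩
  obtain ⟨t, rfl⟩ := G.mem_rootSubgroup.1 hg
  refine ⟨1, Subtype.ext ?_⟩
  rw [pow_one, pow_two]
  show G.X F r t * G.X F r t = 1
  rw [G.X_add, CharTwo.add_self_eq_zero, G.X_zero]

theorem root_le_normalizer {r s : ℕ}
    (h : ∀ t u : F, G.X F r t * G.X F s u * (G.X F r t)⁻¹ ∈ D.rootSubgroup F s) :
    D.rootSubgroup F r ≤ Subgroup.normalizer (D.rootSubgroup F s : Set (GL D.Idx F)) := by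
  intro g hg
  obtain ⟨t, rfl⟩ := G.mem_rootSubgroup.1 hg
  rw [Subgroup.mem_normalizer_iff]
  intro x
  constructor
  · intro hx
    obtain ⟨u, rfl⟩ := G.mem_rootSubgroup.1 hx
    exact h t u
  · intro hx
    obtain ⟨u, hu⟩ := G.mem_rootSubgroup.1 hx
    have e : x = G.X F r (-t) * G.X F s u * (G.X F r (-t))⁻¹ := by
      rw [← G.X_inv, inv_inv, ← hu]; group
    rw [e]; exact h (-t) u

variable [CharP F 2] {L : List ℕ} (hL : chkLong D T L = true)
include hL

omit [CharP F 2] in
theorem long_facts : 0 < npos D ∧ hiRoot D ∈ L ∧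
    (∀ q < D.nroots, npos D ≤ q → q ≠ hiRoot D → T.terms q (hiRoot D) = []) ∧
    ∀ s ∈ L, s < D.nroots ∧ (∀ j < D.rank, T.w j s ∈ L) ∧
      (s = hiRoot D ∨ s = ng D (hiRoot D) ∨ T.terms (hiRoot D) s = [] ∨
        ∃ k C a b, T.terms (hiRoot D) s = [(k, C, a, b)] ∧ k < D.nroots ∧ k ≠ hiRoot D ∧
          k ≠ ng D (hiRoot D) ∧ k ≠ s ∧ k ≠ ng D s ∧ T.terms (hiRoot D) k = [] ∧
          T.terms s k = []) := by
  simp only [chkLong, Bool.and_eq_true, List.contains_iff_mem, decide_eq_true_eq,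
    List.all_eq_true] at hL
  obtain ⟨⟨⟨h1, h2⟩, h3⟩, h4⟩ := hL
  refine ⟨h1, h2, fun q hq hp hne => ?_, fun s hs => ?_⟩
  · have := allLt_eq_true h3 q hq
    simpa [not_lt.2 hp, hne, List.isEmpty_iff] using this
  · obtain ⟨⟨h5, h6⟩, h7⟩ := h4 s hs
    refine ⟨h5, fun j hj => List.contains_iff_mem.1 (allLt_eq_true h6 j hj), ?_⟩
    simp only [Bool.or_eq_true, beq_iff_eq] at h7
    rcases h7 with (h7 | h7) | h7
    · exact Or.inl h7
    · exact Or.inr (Or.inl h7)
    rcases hT : T.terms (hiRoot D) s with _ | ⟨⟨k, C, a, b⟩, _ | ⟨_, _⟩⟩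
    · exact Or.inr (Or.inr (Or.inl rfl))
    swap
    · simp [hT] at h7
    simp only [hT, Bool.and_eq_true, decide_eq_true_eq, bne_iff_ne, ne_eq,
      List.isEmpty_iff] at h7
    obtain ⟨⟨⟨⟨⟨⟨p1, p2⟩, p3⟩, p4⟩, p5⟩, p6⟩, p7⟩ := h7
    exact Or.inr (Or.inr (Or.inr ⟨k, C, a, b, rfl, p1, p2, p3, p4, p5, p6, p7⟩))

theorem pair_isPGroup {s : ℕ} (hs : s ∈ L) (hne : s ≠ ng D (hiRoot D)) :
    IsPGroup 2 ↥(D.rootSubgroup F (hiRoot D) ⊔ D.rootSubgroup F s) := by
  obtain ⟨hpos, hmem, -, hall⟩ := G.long_facts hL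
  obtain ⟨hs', -, hcases⟩ := hall s hs
  have hr : hiRoot D < D.nroots := (hall _ hmem).1
  set r := hiRoot D
  by_cases e : s = r
  · subst e
    rw [sup_idem]
    exact G.root_isPGroup _
  rcases hcases with h | h | h | ⟨k, C, a, b, hT, hk, k1, k2, k3, k4, k5, k6⟩
  · exact absurd h e
  · exact absurd h hne
  · refine (G.root_isPGroup r).to_sup_of_normal_right' (G.root_isPGroup s)
      (G.root_le_normalizer fun t u => ?_)
    rw [(G.commute_of_terms (F := F) hr hs' e hne h t u).eq, mul_inv_cancel_right]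
    exact G.mem_rootSubgroup.2 ⟨u, rfl⟩
  have hA : IsPGroup 2 ↥(D.rootSubgroup F r ⊔ D.rootSubgroup F k) := by
    refine (G.root_isPGroup r).to_sup_of_normal_right' (G.root_isPGroup k)
      (G.root_le_normalizer fun t u => ?_)
    rw [(G.commute_of_terms (F := F) hr hk k1 k2 k5 t u).eq, mul_inv_cancel_right]
    exact G.mem_rootSubgroup.2 ⟨u, rfl⟩
  set A := D.rootSubgroup F r ⊔ D.rootSubgroup F k with hAdef
  have h1 : ∀ u : F, ∀ x ∈ A, G.X F s u * x * (G.X F s u)⁻¹ ∈ A := by
    intro u x hx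
    have h' : A ≤ A.comap (MulAut.conj (G.X F s u)).toMonoidHom := by
      refine sup_le (fun y hy => ?_) (fun y hy => ?_)
      · obtain ⟨t, rfl⟩ := G.mem_rootSubgroup.1 hy
        show G.X F s u * G.X F r t * (G.X F s u)⁻¹ ∈ A
        have hc := G.commAt (F := F) r s hr hs' e hne t u
        obtain ⟨c, hw⟩ : ∃ c, G.wordG (cw T r s t u) = G.X F k c :=
          ⟨(C : F) * (-t) ^ a * u ^ b, by simp [cw, hT, Good.wordG]⟩
        rw [hc, hw, mul_assoc (G.X F r t),
          (G.commute_of_terms (F := F) hs' hk k3 k4 k6 u c).eq, ← mul_assoc, mul_inv_cancel_right]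
        exact mul_mem (Subgroup.mem_sup_left (G.mem_rootSubgroup.2 ⟨t, rfl⟩))
          (Subgroup.mem_sup_right (G.mem_rootSubgroup.2 ⟨c, rfl⟩))
      · obtain ⟨v, rfl⟩ := G.mem_rootSubgroup.1 hy
        show G.X F s u * G.X F k v * (G.X F s u)⁻¹ ∈ A
        rw [(G.commute_of_terms (F := F) hs' hk k3 k4 k6 u v).eq, mul_inv_cancel_right]
        exact Subgroup.mem_sup_right (G.mem_rootSubgroup.2 ⟨v, rfl⟩)
    exact h' hx
  have hN : D.rootSubgroup F s ≤ Subgroup.normalizer (A : Set (GL D.Idx F)) := by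
    intro g hg
    obtain ⟨u, rfl⟩ := G.mem_rootSubgroup.1 hg
    rw [Subgroup.mem_normalizer_iff]
    refine fun x => ⟨h1 u x, fun hx => ?_⟩
    have h2 := h1 (-u) _ hx
    rw [← G.X_inv, inv_inv] at h2
    simpa [mul_assoc] using h2
  exact (hA.to_sup_of_normal_left' (G.root_isPGroup s) hN).to_le
    (sup_le_sup_right le_sup_left _)

omit [CharP F 2] in
theorem borel_fixes_hi : D.borelSubgroup F ≤
    Subgroup.normalizer (D.rootSubgroup F (hiRoot D) : Set (GL D.Idx F)) := by
  obtain ⟨hpos, hmem, hterms, hall⟩ := G.long_facts hL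
  have hr : hiRoot D < D.nroots := (hall _ hmem).1
  refine sup_le (G.posUnipotent_le_of fun q hq hp t => ?_) fun h hh => ?_
  · refine (G.root_le_normalizer (r := q) fun t u => ?_) (G.mem_rootSubgroup.2 ⟨t, rfl⟩)
    by_cases e : q = hiRoot D
    · subst e
      rw [G.X_add, G.X_inv, G.X_add, add_comm t u, add_neg_cancel_right]
      exact G.mem_rootSubgroup.2 ⟨u, rfl⟩
    · have hne' : hiRoot D ≠ ng D q := by
        have := G.even_n; unfold ng hiRoot; omega
      rw [(G.commute_of_terms (F := F) hq hr (Ne.symm e) hne' (hterms q hq hp e) t u).eq,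
        mul_inv_cancel_right]
      exact G.mem_rootSubgroup.2 ⟨u, rfl⟩
  · have h1 : ∀ g ∈ D.diagonalSubgroup F, ∀ x ∈ D.rootSubgroup F (hiRoot D),
        g * x * g⁻¹ ∈ D.rootSubgroup F (hiRoot D) := fun g hg x hx => by
      obtain ⟨u, rfl⟩ := G.mem_rootSubgroup.1 hx
      obtain ⟨-, c, -, e⟩ := G.act_diag hg _ hr
      exact G.mem_rootSubgroup.2 ⟨c * u, e u⟩
    rw [Subgroup.mem_normalizer_iff]
    refine fun x => ⟨h1 h hh x, fun hx => ?_⟩
    have := h1 h⁻¹ (inv_mem hh) _ hx
    simpa [mul_assoc] using this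

/-- Two conjugates of a long root group generate a 2-group or a conjugate of the rank one group. -/
theorem long_root_dichotomy {g : GL D.Idx F} (hg : g ∈ D.group F) :
    IsPGroup 2 ↥(D.rootSubgroup F (D.nroots - 1) ⊔
      (D.rootSubgroup F (D.nroots - 1)).map (MulAut.conj g).toMonoidHom) ∨
    ∃ h ∈ D.group F, (D.rootSubgroup F (D.nroots - 1) ⊔
      (D.rootSubgroup F (D.nroots - 1)).map (MulAut.conj g).toMonoidHom).map
        (MulAut.conj h).toMonoidHom =
      D.rootSubgroup F (D.nroots - 1) ⊔ D.rootSubgroup F 0 := by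
  obtain ⟨hpos, hmem, -, hall⟩ := G.long_facts hL
  set X := D.rootSubgroup F (D.nroots - 1) with hX
  have hXB : ∀ b ∈ D.borelSubgroup F, X.map (MulAut.conj b).toMonoidHom = X := by
    intro b hb
    have := Subgroup.mem_normalizer_iff.1 (G.borel_fixes_hi hL hb)
    ext x
    simp only [Subgroup.mem_map, MulEquiv.coe_toMonoidHom, MulAut.conj_apply]
    constructor
    · rintro ⟨y, hy, rfl⟩; exact (this y).1 hy
    · intro hx
      have e : b * (b⁻¹ * x * b) * b⁻¹ = x := by group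
      exact ⟨b⁻¹ * x * b, (this _).2 (e.symm ▸ hx), e⟩
  obtain ⟨b, hb, n, l, hl, u, hu, rfl⟩ := G.exists_normal_form hg
  have hmapmul : ∀ (S : Subgroup (GL D.Idx F)) (x y : GL D.Idx F),
      S.map (MulAut.conj (x * y)).toMonoidHom =
        (S.map (MulAut.conj y).toMonoidHom).map (MulAut.conj x).toMonoidHom := fun S x y => by
    rw [Subgroup.map_map, map_mul]; rfl
  obtain ⟨s, hs⟩ : ∃ s, wl T l (hiRoot D) = s := ⟨_, rfl⟩
  have hsL : ∀ {m : List ℕ}, IsW D m → wl T m (hiRoot D) ∈ L := by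
    intro m
    induction m with
    | nil => intro _; exact hmem
    | cons i m ih =>
      intro hm
      exact (hall _ (ih hm.tail.2)).2.1 i hm.tail.1
  have hnX : X.map (MulAut.conj n).toMonoidHom = D.rootSubgroup F s := by
    obtain ⟨hlt, c, hc, e⟩ := G.rep_act hl (hiRoot D) (hall _ hmem).1
    rw [hs] at e
    ext x
    simp only [Subgroup.mem_map, MulEquiv.coe_toMonoidHom, MulAut.conj_apply, hX]
    constructor
    · rintro ⟨y, hy, rfl⟩
      obtain ⟨t, rfl⟩ := G.mem_rootSubgroup.1 hy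
      exact G.mem_rootSubgroup.2 ⟨c * t, e t⟩
    · intro hx
      obtain ⟨t, rfl⟩ := G.mem_rootSubgroup.1 hx
      exact ⟨G.X F (hiRoot D) (c⁻¹ * t), G.mem_rootSubgroup.2 ⟨_, rfl⟩, by
        rw [e, ← mul_assoc, mul_inv_cancel₀ hc, one_mul]⟩
  have hg' : X.map (MulAut.conj (b * n * u)).toMonoidHom =
      (D.rootSubgroup F s).map (MulAut.conj b).toMonoidHom := by
    rw [hmapmul, hXB u (Subgroup.mem_sup_left (G.USub_le_pos _ hu)), hmapmul, hnX]
  have hpair : X ⊔ X.map (MulAut.conj (b * n * u)).toMonoidHom =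
      (X ⊔ D.rootSubgroup F s).map (MulAut.conj b).toMonoidHom := by
    rw [Subgroup.map_sup, hXB b hb, hg']
  by_cases hz : s = ng D (hiRoot D)
  · refine Or.inr ⟨b⁻¹, inv_mem (G.borel_le_group hb), ?_⟩
    rw [hpair, ← hmapmul, inv_mul_cancel, map_one]
    rw [show s = 0 from by rw [hz]; unfold ng hiRoot; omega]
    exact Subgroup.map_id _
  · refine Or.inl ?_
    rw [hpair]
    exact (G.pair_isPGroup hL (hs ▸ hsL hl.1) hz).map _

end Good

end Cfsg.Agent.Lib.Chev
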