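import Cfsg.Agent.Lib.Chev.Eval

/-!
The elements `n_r(t)`, `h_r(t)`, diagonal matrices and the reflection symmetry of the root elements.
-/

set_option autoImplicit false

namespace Cfsg.Agent.Lib.Chev

open Cfsg.Lie
open scoped Matrix

variable {D : ChevalleyDatum} {T : Tables} {F : Type*} [Field F]

/-- Diagonal matrix with given values on the root vectors, trivial on the coroots. -/
def dmat (D : ChevalleyDatum) (χ : ℕ → F) : Matrix D.Idx D.Idx F :=
  Matrix.diagonal (Sum.elim (fun _ => (1 : F)) (fun r => χ r.val))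

theorem dmat_bas_root (χ : ℕ → F) {a : ℕ} (ha : a < D.nroots) :
    dmat D χ *ᵥ bas D F a = χ a • bas D F a := by
  funext x
  rw [dmat, Matrix.mulVec_diagonal]
  rcases x with i | u
  · simp [bas, cd, show D.nroots + i.val ≠ a by omega]
  · by_cases h : u.val = a
    · simp [bas, cd, h]
    · simp [bas, cd, h]

theorem dmat_bas_h (χ : ℕ → F) (i : ℕ) :
    dmat D χ *ᵥ bas D F (D.nroots + i) = bas D F (D.nroots + i) := by
  funext x
  rw [dmat, Matrix.mulVec_diagonal]
  rcases x with j | u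
  · simp
  · simp [bas, cd, show u.val ≠ D.nroots + i by omega]

theorem dmat_mul (χ χ' : ℕ → F) : dmat D χ * dmat D χ' = dmat D fun r => χ r * χ' r := by
  rw [dmat, dmat, dmat, Matrix.diagonal_mul_diagonal]
  congr 1
  funext x
  rcases x with j | u <;> simp

theorem dmat_one : dmat D (fun _ => (1 : F)) = 1 := by
  rw [dmat, ← Matrix.diagonal_one]
  congr 1
  funext x
  rcases x with j | u <;> simp

theorem dmat_congr {χ χ' : ℕ → F} (h : ∀ s < D.nroots, χ s = χ' s) : dmat D χ = dmat D χ' := by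
  rw [dmat, dmat]
  congr 1
  funext x
  rcases x with j | u
  · rfl
  · exact h u.val u.isLt

/-- `⟨r^∨, s⟩`. -/
def P (D : ChevalleyDatum) (T : Tables) (r s : ℕ) : ℤ :=
  ∑ i ∈ Finset.range D.rank, T.c r i * T.A i s

/-- Multiplicative functions on roots. -/
structure IsChar (D : ChevalleyDatum) (T : Tables) (χ : ℕ → F) : Prop where
  neg : ∀ r < D.nroots, χ (ng D r) * χ r = 1
  chain : ∀ r s m u M, r < D.nroots → s < D.nroots → (T.ch r s)[m]? = some (u, M) →
    χ u = χ r ^ (m + 1) * χ s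

theorem IsChar.ne_zero {χ : ℕ → F} (h : IsChar D T χ) {r : ℕ} (hr : r < D.nroots) : χ r ≠ 0 :=
  right_ne_zero_of_mul_eq_one (h.neg r hr)

namespace Good

variable (G : Good D T)
include G

/-- The root element as an element of the general linear group. -/
def X (F : Type*) [Field F] (r : ℕ) (t : F) : GL D.Idx F where
  val := D.x F r t
  inv := D.x F r (-t)
  val_inv := by
    by_cases hr : r < D.nroots
    · rw [G.x_add hr, add_neg_cancel, G.x_zero hr]
    · simp [ChevalleyDatum.x, hr]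
  inv_val := by
    by_cases hr : r < D.nroots
    · rw [G.x_add hr, neg_add_cancel, G.x_zero hr]
    · simp [ChevalleyDatum.x, hr]

@[simp] theorem X_val (r : ℕ) (t : F) :
    ((G.X F r t : GL D.Idx F) : Matrix D.Idx D.Idx F) = D.x F r t := rfl

theorem X_add (r : ℕ) (t u : F) : G.X F r t * G.X F r u = G.X F r (t + u) := by
  refine Units.ext ?_
  rw [Units.val_mul]
  by_cases hr : r < D.nroots
  · exact G.x_add hr t u
  · simp [ChevalleyDatum.x, hr]

theorem X_zero (r : ℕ) : G.X F r (0 : F) = 1 := by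
  have := G.X_add r (0 : F) 0
  rw [add_zero] at this
  exact mul_eq_left.1 this

theorem X_inv (r : ℕ) (t : F) : (G.X F r t)⁻¹ = G.X F r (-t) :=
  inv_eq_of_mul_eq_one_right (by rw [G.X_add, add_neg_cancel, G.X_zero])

theorem eq_X_of_val {r : ℕ} {t : F} {g : GL D.Idx F}
    (h : (g : Matrix D.Idx D.Idx F) = D.x F r t) : g = G.X F r t := Units.ext h

theorem X_eq_one_iff {r : ℕ} (hr : r < D.nroots) (t : F) : G.X F r t = 1 ↔ t = 0 := by
  refine ⟨fun h => (G.x_eq_one_iff hr t).1 ?_, fun h => h ▸ G.X_zero r⟩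
  simpa using congrArg Units.val h

theorem X_injective {r : ℕ} (hr : r < D.nroots) {t u : F} (h : G.X F r t = G.X F r u) : t = u := by
  have := (G.X_eq_one_iff hr (t - u)).1
    (by rw [sub_eq_add_neg, ← G.X_add, h, G.X_add, add_neg_cancel, G.X_zero])
  exact sub_eq_zero.1 this

/-- The element `n_r(t)`. -/
def Ng (F : Type*) [Field F] (r : ℕ) (t : F) : GL D.Idx F :=
  G.X F r t * G.X F (ng D r) (-t⁻¹) * G.X F r t

theorem Ng_val {r : ℕ} (hr : r < D.nroots) (t : F) :
    ((G.Ng F r t : GL D.Idx F) : Matrix D.Idx D.Idx F) = D.nMat F r t := by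
  simp [Good.Ng, ChevalleyDatum.nMat, ChevalleyDatum.nWord, ChevalleyDatum.wordMat,
    G.neg_eq hr, mul_assoc]

theorem Ng_inv (r : ℕ) (t : F) : (G.Ng F r t)⁻¹ = G.Ng F r (-t) := by
  simp [Good.Ng, G.X_inv, mul_assoc, inv_neg]

/-- The element `h_r(t)`. -/
def Hg (F : Type*) [Field F] (r : ℕ) (t : F) : GL D.Idx F := G.Ng F r t * G.Ng F r (-1)

theorem Hg_val {r : ℕ} (hr : r < D.nroots) (t : F) :
    ((G.Hg F r t : GL D.Idx F) : Matrix D.Idx D.Idx F) = D.hMat F r t := by
  rw [Good.Hg, Units.val_mul, G.Ng_val hr, G.Ng_val hr]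
  simp [ChevalleyDatum.hMat, ChevalleyDatum.hWord, ChevalleyDatum.nMat, ChevalleyDatum.wordMat,
    List.map_append, List.prod_append]

/-- The fundamental `n_i = n_{p_i}(1)`. -/
def ni (F : Type*) [Field F] (i : ℕ) : GL D.Idx F := G.Ng F (sim D i) 1

theorem ni_eq_word {i : ℕ} (hi : i < D.rank) :
    ((G.ni F i : GL D.Idx F) : Matrix D.Idx D.Idx F) =
      D.wordMat F (castWord F (nw D (sim D i))) := by
  simp [Good.ni, Good.Ng, ChevalleyDatum.wordMat, castWord, nw, mul_assoc]

theorem ni_bas_root {i s : ℕ} (hi : i < D.rank) (hs : s < D.nroots) :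
    (G.ni F i : Matrix D.Idx D.Idx F) *ᵥ bas D F s =
      (T.eta i s : F) • bas D F (T.w i s) := by
  have h := G.ncol_ok hi (a := s) (by omega)
  rw [ncol, if_neg (by omega)] at h
  rw [G.ni_eq_word hi, G.wordMat_bas ?_ (by omega) h, vecOf_singleton]
  intro p hp
  simp [nw] at hp
  rcases hp with rfl | rfl | rfl
  · exact G.sim_lt hi
  · exact G.ng_lt (G.sim_lt hi)
  · exact G.sim_lt hi

theorem ni_bas_h {i j : ℕ} (hi : i < D.rank) (hj : j < D.rank) :
    (G.ni F i : Matrix D.Idx D.Idx F) *ᵥ bas D F (D.nroots + j) =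
      bas D F (D.nroots + j) + (-(T.A j (sim D i)) : F) • bas D F (D.nroots + i) := by
  have h := G.ncol_ok hi (a := D.nroots + j) (by omega)
  rw [ncol, if_pos (Nat.le_add_right _ _), Nat.add_sub_cancel_left] at h
  rw [G.ni_eq_word hi, G.wordMat_bas ?_ (by omega) h]
  · simp [vecOf]
  intro p hp
  simp [nw] at hp
  rcases hp with rfl | rfl | rfl
  · exact G.sim_lt hi
  · exact G.ng_lt (G.sim_lt hi)
  · exact G.sim_lt hi

theorem ni_hvec {i r : ℕ} (hi : i < D.rank) (hr : r < D.nroots) :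
    (G.ni F i : Matrix D.Idx D.Idx F) *ᵥ hvec D T F r = hvec D T F (T.w i r) := by
  have e : hvec D T F (T.w i r) = ∑ j ∈ Finset.range D.rank,
      ((T.c r j : F) • bas D F (D.nroots + j) +
        (if j = i then -((∑ m ∈ Finset.range D.rank, T.c r m * T.A m (sim D i) : ℤ) : F) •
          bas D F (D.nroots + i) else 0)) := by
    refine Finset.sum_congr rfl fun j hj => ?_
    rw [G.c_w hi hr (Finset.mem_range.1 hj)]
    split
    · subst j
      push_cast
      module
    · simp
  rw [e, Finset.sum_add_distrib, Finset.sum_ite_eq', if_pos (Finset.mem_range.2 hi), hvec,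
    Matrix.mulVec_sum, Int.cast_sum, neg_smul, Finset.sum_smul, ← Finset.sum_neg_distrib,
    ← Finset.sum_add_distrib]
  refine Finset.sum_congr rfl fun j hj => ?_
  rw [Matrix.mulVec_smul, G.ni_bas_h hi (Finset.mem_range.1 hj)]
  push_cast
  module

theorem eta_sq (i r : ℕ) : (T.eta i r : F) ^ 2 = 1 := by
  rw [pow_two, ← Int.cast_mul, Tables.eta_mul_self, Int.cast_one]

theorem ni_x {i r : ℕ} (hi : i < D.rank) (hr : r < D.nroots) (t : F) :
    (G.ni F i : Matrix D.Idx D.Idx F) * D.x F r t =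
      D.x F (T.w i r) ((T.eta i r : F) * t) * (G.ni F i : Matrix D.Idx D.Idx F) := by
  have hw := G.w_lt hi hr
  have e2 := G.eta_sq (F := F) i r
  refine ext_bas fun a ha => ?_
  rw [← Matrix.mulVec_mulVec, ← Matrix.mulVec_mulVec]
  rcases code_cases D ha with ⟨j, hj, rfl⟩ | ha
  · simp only [G.x_bas_h hr hj, G.ni_bas_h hi hj, Matrix.mulVec_add, Matrix.mulVec_smul,
      G.x_bas_h hw hj, G.x_bas_h hw hi, G.ni_bas_root hi hr]
    rw [G.A_w hi hr hj, G.A_w hi hr hi, G.A_sim hi]
    push_cast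
    module
  by_cases h1 : a = r
  · subst h1
    simp only [G.x_bas_self ha, G.ni_bas_root hi ha, Matrix.mulVec_smul, G.x_bas_self hw]
  by_cases h2 : a = ng D r
  · subst h2
    simp only [G.x_bas_ng hr, G.ni_bas_root hi ha, G.w_ng hi hr, G.eta_ng hi hr,
      Matrix.mulVec_add, Matrix.mulVec_smul, G.x_bas_ng hw, G.ni_hvec hi hr, G.ni_bas_root hi hr]
    match_scalars <;> first
      | ring1
      | linear_combination (-t) * e2
      | linear_combination t * e2
      | linear_combination ((T.eta i r : F) * t ^ 2) * e2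
      | linear_combination (-((T.eta i r : F) * t ^ 2)) * e2
  · have hwa := G.w_lt hi ha
    have hne1 : T.w i a ≠ T.w i r := fun h => h1 (by rw [← G.w_w hi ha, h, G.w_w hi hr])
    have hne2 : T.w i a ≠ ng D (T.w i r) := fun h => h2 (by
      rw [← G.w_w hi ha, h, G.w_ng hi hw, G.w_w hi hr])
    rw [G.x_bas_other hr ha h1 h2, G.ni_bas_root hi ha, Matrix.mulVec_smul,
      G.x_bas_other hw hwa hne1 hne2, Matrix.mulVec_add, G.ni_bas_root hi ha, smul_add]
    congr 1
    rw [G.ch_equiv hi hr ha]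
    have hzz : (T.ch r a).zipIdx.zipIdx = (T.ch r a).zipIdx.map fun q => (q, q.2) := by
      refine List.ext_getElem (by simp) fun n h₁ h₂ => ?_
      simp
    simp only [chVec, List.map_map, List.zipIdx_map, List.smul_sum, hzz]
    rw [← Matrix.mulVecLin_apply, map_list_sum, List.map_map]
    congr 1
    refine List.map_congr_left fun q hq => ?_
    obtain ⟨⟨u, M⟩, m⟩ := q
    have hu := (G.ch_entry hr ha (List.mk_mem_zipIdx_iff_getElem?.1 hq)).1
    simp only [Function.comp_apply, Matrix.mulVecLin_apply, Matrix.mulVec_smul,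
      G.ni_bas_root hi hu, Prod.map_apply, id, smul_smul]
    congr 1
    push_cast
    have he : ((T.eta i r : F) ^ (m + 1)) * (T.eta i r : F) ^ (m + 1) = 1 := by
      rw [← mul_pow, ← pow_two, e2, one_pow]
    have he2 : (T.eta i a : F) * (T.eta i a : F) = 1 := by rw [← pow_two]; exact G.eta_sq i a
    rw [mul_pow]
    linear_combination (-((M : F) * t ^ (m + 1) * (T.eta i u : F) * (T.eta i a : F) * (T.eta i a : F))) * he
      + (-((M : F) * t ^ (m + 1) * (T.eta i u : F))) * he2

end Good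

end Cfsg.Agent.Lib.Chev
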