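import Cfsg.Agent.Lib.Chev.StMove
import Cfsg.Agent.Lib.Chev.BN
import Cfsg.Agent.Lib.Chev.TorusCard

/-!
Bruhat decomposition of Steinberg's presented group: the kernel of the map onto the Chevalley
group is the centre and lies in the lifted torus.
-/

set_option autoImplicit false

namespace Cfsg.Agent.Lib.Chev

open Cfsg.Lie
open scoped Matrix

variable {D : ChevalleyDatum} {T : Tables} {K : Type*} [Field K]

/-- `n̄_w` for a word `w` in the fundamental reflections. -/
def nlb (D : ChevalleyDatum) (K : Type*) [Field K] (l : List ℕ) : D.SteinbergGroup K :=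
  (l.map fun i => nb D K (sim D i) 1).prod

/-- The lifted monomial group. -/
def Nbar (D : ChevalleyDatum) (K : Type*) [Field K] : Subgroup (D.SteinbergGroup K) :=
  Subgroup.closure {g | ∃ i t, i < D.rank ∧ t ≠ 0 ∧ g = nb D K (sim D i) t}

/-- The lifted torus. -/
def Hbar (D : ChevalleyDatum) (K : Type*) [Field K] : Subgroup (D.SteinbergGroup K) :=
  Subgroup.closure {g | ∃ i t, i < D.rank ∧ t ≠ 0 ∧ g = hb D K (sim D i) t}

/-- The lifted unipotent group. -/
abbrev Ubar (D : ChevalleyDatum) (T : Tables) (K : Type*) [Field K] :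
    Subgroup (D.SteinbergGroup K) :=
  frameU D T K [] (npos D)

theorem nlb_nil : nlb D K [] = 1 := rfl

theorem nlb_cons (i : ℕ) (l : List ℕ) : nlb D K (i :: l) = nb D K (sim D i) 1 * nlb D K l := by
  simp [nlb]

theorem nlb_append (l l' : List ℕ) : nlb D K (l ++ l') = nlb D K l * nlb D K l' := by
  simp [nlb]

namespace Good

variable (G : Good D T)
include G

theorem xb_mem_Ubar {q : ℕ} (hq : q < D.nroots) (hp : npos D ≤ q) (t : K) :
    xb D K q t ∈ Ubar D T K :=
  Subgroup.subset_closure ⟨q, t, hq, hp, hp, rfl⟩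

theorem th_Ubar_mem {g : D.SteinbergGroup K} (hg : g ∈ Ubar D T K) :
    G.th K g ∈ D.posUnipotent K := by
  have h : Ubar D T K ≤ (D.posUnipotent K).comap (G.th K) := by
    refine (Subgroup.closure_le _).2 ?_
    rintro g ⟨q, t, hq, hp, -, rfl⟩
    show G.th K (xb D K q t) ∈ D.posUnipotent K
    rw [G.th_xb hq]
    exact G.X_mem_posUnipotent hq hp t
  exact h hg

theorem Ubar_inj {g g' : D.SteinbergGroup K} (hg : g ∈ Ubar D T K) (hg' : g' ∈ Ubar D T K)
    (h : G.th K g = G.th K g') : g = g' :=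
  G.frame_inj isW_nil hg hg' h

/-- Lift of a subgroup generated by positive root groups. -/
theorem exists_lift_USub {S : Set ℕ} {u : GL D.Idx K} (hu : u ∈ G.USub K S) :
    ∃ a ∈ Subgroup.closure {g | ∃ q t, q < D.nroots ∧ npos D ≤ q ∧ q ∈ S ∧ g = xb D K q t},
      G.th K a = u := by
  have h : G.USub K S ≤ (Subgroup.closure
      {g | ∃ q t, q < D.nroots ∧ npos D ≤ q ∧ q ∈ S ∧ g = xb D K q t}).map (G.th K) := by
    refine G.USub_le_of fun q hq hp hS t => ?_
    exact ⟨_, Subgroup.subset_closure ⟨q, t, hq, hp, hS, rfl⟩, G.th_xb hq t⟩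
  exact h hu

theorem th_nlb {l : List ℕ} (hl : IsW D l) : G.th K (nlb D K l) = G.nl K l := by
  induction l with
  | nil => rw [nlb_nil, map_one, G.nl_nil]
  | cons i l ih =>
    rw [nlb_cons, map_mul, G.nl_cons, ih hl.tail.2, G.th_nb (G.sim_lt hl.tail.1)]
    rfl

theorem nlb_mem {l : List ℕ} (hl : IsW D l) : nlb D K l ∈ Nbar D K :=
  list_prod_mem fun x hx => by
    obtain ⟨i, hi, rfl⟩ := List.mem_map.1 hx
    exact Subgroup.subset_closure ⟨i, 1, hl i hi, one_ne_zero, rfl⟩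

theorem mv_of_mem_Nbar (ha : chkAdj D T = true) {n : D.SteinbergGroup K} (hn : n ∈ Nbar D K) :
    Mv D K n := by
  induction hn using Subgroup.closure_induction_left with
  | one => exact mv_one
  | mul_left x hx y _ ih =>
    obtain ⟨i, t, hi, ht, rfl⟩ := hx
    exact mv_mul (G.mv_nb ha (G.sim_lt hi) ht) ih
  | inv_mul_cancel x hx y _ ih =>
    obtain ⟨i, t, hi, ht, rfl⟩ := hx
    rw [G.nb_inv (G.sim_lt hi)]
    exact mv_mul (G.mv_nb ha (G.sim_lt hi) (neg_ne_zero.2 ht)) ih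

theorem rep_Ng_sim {i : ℕ} (hi : i < D.rank) {t : K} (ht : t ≠ 0) :
    G.Rep K (G.Ng K (sim D i) t) [i] := by
  rw [G.Ng_sim_eq hi]
  exact G.rep_mul (G.rep_diag (G.Hg_mem (G.sim_lt hi) ht)) (G.rep_ni hi)

theorem th_Nbar_mem {n : D.SteinbergGroup K} (hn : n ∈ Nbar D K) :
    G.th K n ∈ D.monomialSubgroup K := by
  have h : Nbar D K ≤ (D.monomialSubgroup K).comap (G.th K) := by
    refine (Subgroup.closure_le _).2 ?_
    rintro g ⟨i, t, hi, ht, rfl⟩
    show G.th K (nb D K (sim D i) t) ∈ D.monomialSubgroup K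
    rw [G.th_nb (G.sim_lt hi)]
    exact G.monomial_of_rep (G.rep_Ng_sim hi ht)
  exact h hn

theorem conj_nb {g : D.SteinbergGroup K} {l : List ℕ} (hg : Mv D K g) (hl : G.Rep K (G.th K g) l)
    {a : ℕ} (ha : a < D.nroots) :
    ∃ c : K, c ≠ 0 ∧ ∀ t, g * nb D K a t * g⁻¹ = nb D K (wl T l a) (c * t) := by
  obtain ⟨c, hc, h1, h2⟩ := G.rep_conj_pm hl ha
  have hfa := G.wl_lt hl.1 ha
  refine ⟨c, hc, fun t => ?_⟩
  have e1 := G.mv_eq hg ha hfa (h1 t)
  have e2 := G.mv_eq hg (G.ng_lt ha) (G.ng_lt hfa) (h2 (-t⁻¹))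
  rw [G.nb_eq ha, G.nb_eq hfa]
  calc g * (xb D K a t * xb D K (ng D a) (-t⁻¹) * xb D K a t) * g⁻¹
      = (g * xb D K a t * g⁻¹) * (g * xb D K (ng D a) (-t⁻¹) * g⁻¹) *
        (g * xb D K a t * g⁻¹) := by group
    _ = _ := by rw [e1, e2, mul_inv, mul_neg]

/-! ### The Bruhat decomposition -/

theorem st_eq_UNU (ha : chkAdj D T = true) (g : D.SteinbergGroup K) :
    ∃ a ∈ Ubar D T K, ∃ n ∈ Nbar D K, ∃ c ∈ Ubar D T K, g = a * n * c := by
  -- `Ω` is stable under left multiplication by the generators of `Nbar` and by `Ubar`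
  set P : D.SteinbergGroup K → Prop := fun g =>
    ∃ a ∈ Ubar D T K, ∃ n ∈ Nbar D K, ∃ c ∈ Ubar D T K, g = a * n * c with hP
  have hU : ∀ u ∈ Ubar D T K, ∀ g, P g → P (u * g) := by
    rintro u hu g ⟨a, hamem, n, hn, c, hc, rfl⟩
    exact ⟨u * a, mul_mem hu hamem, n, hn, c, hc, by group⟩
  have hN : ∀ i < D.rank, ∀ t : K, t ≠ 0 → ∀ g, P g → P (nb D K (sim D i) t * g) := by
    rintro i hi t ht g ⟨a, hamem, n, hn, c, hc, rfl⟩
    have hp := G.sim_lt hi
    have hpp := G.sim_pos hi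
    set m := nb D K (sim D i) t with hm_def
    have hmN : m ∈ Nbar D K := Subgroup.subset_closure ⟨i, t, hi, ht, rfl⟩
    have hmM : Mv D K m := G.mv_nb ha hp ht
    have hmR : G.Rep K (G.th K m) [i] := by rw [hm_def, G.th_nb hp]; exact G.rep_Ng_sim hi ht
    obtain ⟨u1, hu1, s, he⟩ := G.exists_keep_X hi (G.th_Ubar_mem hamem)
    obtain ⟨a1, ha1, ea1⟩ := G.exists_lift_USub hu1
    have ha1U : a1 ∈ Ubar D T K := by
      refine Subgroup.closure_mono ?_ ha1
      rintro g ⟨q, v, hq, hq', -, rfl⟩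
      exact ⟨q, v, hq, hq', hq', rfl⟩
    have ea : a = a1 * xb D K (sim D i) s :=
      G.Ubar_inj hamem (mul_mem ha1U (G.xb_mem_Ubar hp hpp s))
        (by rw [map_mul, ea1, G.th_xb hp, he])
    have hconj : m * a1 * m⁻¹ ∈ Ubar D T K := by
      have hle : Subgroup.closure
          {g | ∃ q v, q < D.nroots ∧ npos D ≤ q ∧ q ∈ keepSet D T [i] ∧ g = xb D K q v} ≤
          (Ubar D T K).comap (MulAut.conj m).toMonoidHom := by
        refine (Subgroup.closure_le _).2 ?_
        rintro g ⟨q, v, hq, -, hkeep, rfl⟩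
        show m * xb D K q v * m⁻¹ ∈ Ubar D T K
        obtain ⟨hf, d, -, hd⟩ := G.rep_act hmR q hq
        rw [G.mv_eq hmM hq hf (hd v)]
        exact G.xb_mem_Ubar hf hkeep _
      exact hle ha1
    suffices h : P (m * xb D K (sim D i) s * n * c) by
      have e : m * (a * n * c) = m * a1 * m⁻¹ * (m * xb D K (sim D i) s * n * c) := by
        rw [ea]; group
      rw [e]
      exact hU _ hconj _ h
    obtain ⟨l, hl⟩ := G.exists_rep (G.th_Nbar_mem hn)
    have hnM := G.mv_of_mem_Nbar ha hn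
    have hinv : ∀ (g : D.SteinbergGroup K) (l : List ℕ), Mv D K g⁻¹ → G.Rep K (G.th K g) l →
        ∀ q, q < D.nroots → ∀ v, ∃ w, xb D K q v * g = g * xb D K (wl T l.reverse q) w := by
      intro g l hgM hgl q hq v
      obtain ⟨w, hw⟩ := G.act_inv_X hgl hq v
      refine ⟨w, ?_⟩
      have := G.mv_eq hgM (u := v) hq (G.wl_lt hgl.1.reverse hq) (c := w)
        (by rwa [map_inv, inv_inv])
      rw [← this]; group
    have hnI : Mv D K n⁻¹ := G.mv_of_mem_Nbar ha (inv_mem hn)
    by_cases hs : s = 0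
    · subst hs
      exact ⟨1, one_mem _, m * n, mul_mem hmN hn, c, hc, by rw [xb_zero hp]; group⟩
    by_cases hpos : npos D ≤ wl T l.reverse (sim D i)
    · obtain ⟨w, hw⟩ := hinv n l hnI hl _ hp s
      refine ⟨1, one_mem _, m * n, mul_mem hmN hn, xb D K (wl T l.reverse (sim D i)) w * c,
        mul_mem (G.xb_mem_Ubar (G.wl_lt hl.1.reverse hp) hpos w) hc, ?_⟩
      rw [mul_assoc m _ n, hw]; group
    · obtain ⟨hf, d, hd0, hd⟩ := G.rep_act hmR _ hp
      have hwi : wl T [i] (sim D i) = ng D (sim D i) := by simp [wl, G.w_sim hi]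
      rw [hwi] at hd hf
      have e1 := G.mv_eq hmM hp hf (hd s)
      set v := d * s with hv_def
      have hv : v ≠ 0 := mul_ne_zero hd0 hs
      have hw0 : (-v⁻¹ : K) ≠ 0 := neg_ne_zero.2 (inv_ne_zero hv)
      have e2 : xb D K (ng D (sim D i)) v =
          xb D K (sim D i) v⁻¹ * nb D K (sim D i) (-v⁻¹) * xb D K (sim D i) v⁻¹ := by
        rw [G.nb_eq hp, inv_neg, inv_inv, neg_neg, ← mul_assoc, ← mul_assoc, xb_add hp,
          add_neg_cancel, xb_zero hp, one_mul, mul_assoc, xb_add hp, neg_add_cancel, xb_zero hp,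
          mul_one]
      have hmI : Mv D K m⁻¹ := G.mv_of_mem_Nbar ha (inv_mem hmN)
      obtain ⟨w1, hw1⟩ := hinv m [i] hmI hmR _ hp v⁻¹
      have hwi' : wl T [i].reverse (sim D i) = ng D (sim D i) := hwi
      rw [hwi'] at hw1
      obtain ⟨w2, hw2⟩ := hinv n l hnI hl _ hf w1
      have hpos' : npos D ≤ wl T l.reverse (ng D (sim D i)) := by
        rw [G.wl_ng hl.1.reverse hp, G.ng_pos_iff (G.wl_lt hl.1.reverse hp)]
        omega
      refine ⟨xb D K (sim D i) v⁻¹, G.xb_mem_Ubar hp hpp _,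
        nb D K (sim D i) (-v⁻¹) * m * n,
        mul_mem (mul_mem (Subgroup.subset_closure ⟨i, _, hi, hw0, rfl⟩) hmN) hn,
        xb D K (wl T l.reverse (ng D (sim D i))) w2 * c,
        mul_mem (G.xb_mem_Ubar (G.wl_lt hl.1.reverse hf) hpos' w2) hc, ?_⟩
      calc m * xb D K (sim D i) s * n * c
          = m * xb D K (sim D i) s * m⁻¹ * m * n * c := by group
        _ = xb D K (sim D i) v⁻¹ * nb D K (sim D i) (-v⁻¹) * (xb D K (sim D i) v⁻¹ * m) * n * c := by
            rw [e1, e2]; group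
        _ = xb D K (sim D i) v⁻¹ * nb D K (sim D i) (-v⁻¹) * m *
              (xb D K (ng D (sim D i)) w1 * n) * c := by rw [hw1]; group
        _ = _ := by rw [hw2]; group
  have hNall : ∀ n ∈ Nbar D K, ∀ g, P g → P (n * g) := by
    intro n hn
    induction hn using Subgroup.closure_induction_left with
    | one => intro g hg; rwa [one_mul]
    | mul_left x hx y _ ih =>
      obtain ⟨i, t, hi, ht, rfl⟩ := hx
      intro g hg
      rw [mul_assoc]
      exact hN i hi t ht _ (ih g hg)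
    | inv_mul_cancel x hx y _ ih =>
      obtain ⟨i, t, hi, ht, rfl⟩ := hx
      intro g hg
      rw [mul_assoc, G.nb_inv (G.sim_lt hi)]
      exact hN i hi _ (neg_ne_zero.2 ht) _ (ih g hg)
  have hX : ∀ r < D.nroots, ∀ t : K, ∀ g, P g → P (xb D K r t * g) := by
    intro r hr t g hg
    obtain ⟨l, hl, i, hi, he⟩ := G.exists_frame r hr
    have hn := G.nlb_mem (K := K) hl
    have hrep : G.Rep K (G.th K (nlb D K l)) l := by rw [G.th_nlb hl]; exact G.rep_nl hl
    obtain ⟨hf, d, -, hd⟩ := G.rep_act hrep r hr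
    have e := G.mv_eq (G.mv_of_mem_Nbar ha hn) hr hf (hd t)
    have e' : xb D K r t * g =
        (nlb D K l)⁻¹ * (xb D K (wl T l r) (d * t) * (nlb D K l * g)) := by
      rw [← e]; group
    rw [e']
    refine hNall _ (inv_mem hn) _ (hU _ ?_ _ (hNall _ hn _ hg))
    exact G.xb_mem_Ubar hf (by rw [he]; exact G.sim_pos hi) _
  have h1 : P 1 := ⟨1, one_mem _, 1, one_mem _, 1, one_mem _, by group⟩
  have hall : ∀ x, (∀ y, P y → P (x * y)) ∧ ∀ y, P y → P (x⁻¹ * y) := by
    let S : Subgroup (D.SteinbergGroup K) :=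
      { carrier := {x | (∀ y, P y → P (x * y)) ∧ ∀ y, P y → P (x⁻¹ * y)}
        one_mem' := ⟨fun y hy => by rwa [one_mul], fun y hy => by rwa [inv_one, one_mul]⟩
        mul_mem' := fun {p q} hp hq => ⟨fun y hy => by rw [mul_assoc]; exact hp.1 _ (hq.1 _ hy),
          fun y hy => by rw [mul_inv_rev, mul_assoc]; exact hq.2 _ (hp.2 _ hy)⟩
        inv_mem' := fun {p} hp => ⟨hp.2, by rw [inv_inv]; exact hp.1⟩ }
    intro x
    refine st_generated S (fun r hr t => ?_) x
    exact ⟨hX r hr t, fun y hy => by rw [xb_inv hr]; exact hX r hr _ y hy⟩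
  have := (hall g).1 1 h1
  rwa [mul_one] at this

theorem ker_le (ha : chkAdj D T = true) {g : D.SteinbergGroup K} (hg : G.th K g = 1) :
    g ∈ Nbar D K ∧ g ∈ Subgroup.center (D.SteinbergGroup K) := by
  obtain ⟨a, hamem, n, hn, c, hc, rfl⟩ := G.st_eq_UNU ha g
  rw [map_mul, map_mul] at hg
  have h1 : G.th K n ∈ D.posUnipotent K := by
    have e : G.th K n = (G.th K a)⁻¹ * (G.th K c)⁻¹ := by
      rw [← mul_inv_eq_one, mul_inv_rev, inv_inv, inv_inv]
      have : G.th K n * (G.th K c * G.th K a) =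
          (G.th K a)⁻¹ * (G.th K a * G.th K n * G.th K c) * G.th K a := by group
      rw [this, hg]; group
    rw [e]
    exact mul_mem (inv_mem (G.th_Ubar_mem hamem)) (inv_mem (G.th_Ubar_mem hc))
  have h2 : G.th K n = 1 := Subgroup.mem_bot.1 (G.pos_inf_monomial (F := K) ▸
    Subgroup.mem_inf.2 ⟨h1, G.th_Nbar_mem hn⟩)
  rw [h2, mul_one, ← map_mul] at hg
  have h3 : a * c = 1 := G.Ubar_inj (mul_mem hamem hc) (one_mem _) (by rw [hg, map_one])
  have hcn : n ∈ Subgroup.center (D.SteinbergGroup K) := by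
    refine Subgroup.mem_center_iff.2 fun x => ?_
    refine Subgroup.mem_centralizer_singleton_iff.1 (st_generated (Subgroup.centralizer {n}) ?_ x)
    intro r hr t
    refine Subgroup.mem_centralizer_singleton_iff.2 ?_
    have e := G.mv_eq (G.mv_of_mem_Nbar ha hn) hr hr (u := t) (c := t)
      (by rw [h2]; group)
    calc xb D K r t * n = n * xb D K r t * n⁻¹ * n := by rw [e]
      _ = n * xb D K r t := by group
  have e : a * n * c = n := by
    have h4 := Subgroup.mem_center_iff.1 hcn a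
    rw [h4, mul_assoc, h3, mul_one]
  rw [e]
  exact ⟨hn, hcn⟩

theorem center_group_eq_bot : Subgroup.center ↥(D.group K) = ⊥ := by
  rw [eq_bot_iff]
  intro z hz
  rw [Subgroup.mem_center_iff] at hz
  have hB : z ∈ (D.borelSubgroup K).subgroupOf (D.group K) :=
    BNPair.mem_of_conj_le (G.bnPair K) le_rfl fun b hb => by
      rwa [← hz b, mul_inv_cancel_right]
  have : z ∈ ((D.borelSubgroup K).subgroupOf (D.group K)).normalCore := fun a => by
    rwa [hz a, mul_inv_cancel_right]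
  rw [G.normalCore_borel] at this
  exact this

theorem theta_surjective : Function.Surjective (G.theta K) := by
  intro g
  have h : D.group K ≤ (G.th K).range :=
    G.group_le_of fun r hr t => ⟨xb D K r t, G.th_xb hr t⟩
  obtain ⟨x, hx⟩ := h g.2
  exact ⟨x, Subtype.ext hx⟩

theorem theta_ker (ha : chkAdj D T = true) :
    (G.theta K).ker = Subgroup.center (D.SteinbergGroup K) := by
  refine le_antisymm (fun g hg => (G.ker_le ha ?_).2) (fun g hg => ?_)
  · show ((G.theta K g : ↥(D.group K)) : GL D.Idx K) = 1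
    rw [MonoidHom.mem_ker.1 hg]; rfl
  · have h : G.theta K g ∈ Subgroup.center ↥(D.group K) := by
      refine Subgroup.mem_center_iff.2 fun y => ?_
      obtain ⟨x, rfl⟩ := G.theta_surjective y
      rw [← map_mul, ← map_mul, Subgroup.mem_center_iff.1 hg x]
    rw [G.center_group_eq_bot, Subgroup.mem_bot] at h
    exact h

/-! ### The lifted torus -/

theorem hb_mem {i : ℕ} (hi : i < D.rank) {t : K} (ht : t ≠ 0) : hb D K (sim D i) t ∈ Hbar D K :=
  Subgroup.subset_closure ⟨i, t, hi, ht, rfl⟩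

theorem Hbar_le_Nbar : Hbar D K ≤ Nbar D K := by
  refine (Subgroup.closure_le _).2 ?_
  rintro g ⟨i, t, hi, ht, rfl⟩
  rw [SetLike.mem_coe, hb_eq]
  exact mul_mem (Subgroup.subset_closure ⟨i, t, hi, ht, rfl⟩)
    (Subgroup.subset_closure ⟨i, -1, hi, neg_ne_zero.2 one_ne_zero, rfl⟩)

theorem nb_mul_inv {i : ℕ} (hi : i < D.rank) (u v : K) :
    nb D K (sim D i) u * (nb D K (sim D i) v)⁻¹ =
      hb D K (sim D i) u * (hb D K (sim D i) v)⁻¹ := by
  rw [hb_eq, hb_eq, mul_inv_rev, G.nb_inv (G.sim_lt hi) (-1), neg_neg,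
    ← G.nb_inv (G.sim_lt hi) (1 : K)]
  group

theorem th_hb_rep {i : ℕ} (hi : i < D.rank) {u : K} (hu : u ≠ 0) :
    G.Rep K (G.th K (hb D K (sim D i) u)) [] := by
  rw [G.th_hb (G.sim_lt hi)]
  exact G.rep_diag (G.Hg_mem (G.sim_lt hi) hu)

theorem hb_comm (ha : chkAdj D T = true) {i j : ℕ} (hi : i < D.rank) (hj : j < D.rank) {u w : K}
    (hu : u ≠ 0) (hw : w ≠ 0) :
    Commute (hb D K (sim D i) u) (hb D K (sim D j) w) := by
  have hp := G.sim_lt hj
  obtain ⟨c, hc, h⟩ := G.conj_nb (G.mv_of_mem_Nbar ha (G.Hbar_le_Nbar (G.hb_mem hi hu)))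
    (G.th_hb_rep hi hu) hp
  simp only [wl] at h
  set x := hb D K (sim D i) u
  have e : x * hb D K (sim D j) w * x⁻¹ = hb D K (sim D j) w := by
    calc x * hb D K (sim D j) w * x⁻¹
        = (x * nb D K (sim D j) w * x⁻¹) * (x * nb D K (sim D j) (-1) * x⁻¹) := by
          rw [hb_eq]; group
      _ = nb D K (sim D j) (c * w) * (nb D K (sim D j) c)⁻¹ := by
          rw [h, h, G.nb_inv hp c, mul_neg, mul_one]
      _ = _ := by
          rw [G.nb_mul_inv hj, mul_comm c w, ← hb_mul hp hw hc, mul_inv_cancel_right]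
  show x * _ = _ * x
  calc x * hb D K (sim D j) w = x * hb D K (sim D j) w * x⁻¹ * x := by group
    _ = _ := by rw [e]

theorem nb_conj_Hbar (ha : chkAdj D T = true) {j : ℕ} (hj : j < D.rank) {t : K} (ht : t ≠ 0)
    {h : D.SteinbergGroup K} (hh : h ∈ Hbar D K) :
    nb D K (sim D j) t * h * (nb D K (sim D j) t)⁻¹ ∈ Hbar D K := by
  have hle : Hbar D K ≤ (Hbar D K).comap (MulAut.conj (nb D K (sim D j) t)).toMonoidHom := by
    refine (Subgroup.closure_le _).2 ?_
    rintro g ⟨i, u, hi, hu, rfl⟩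
    show nb D K (sim D j) t * hb D K (sim D i) u * (nb D K (sim D j) t)⁻¹ ∈ Hbar D K
    obtain ⟨c, hc, e⟩ := G.conj_nb (G.mv_of_mem_Nbar ha (G.Hbar_le_Nbar (G.hb_mem hi hu)))
      (G.th_hb_rep hi hu) (G.sim_lt hj)
    simp only [wl] at e
    have e2 : nb D K (sim D j) t * hb D K (sim D i) u * (nb D K (sim D j) t)⁻¹ =
        nb D K (sim D j) t * (nb D K (sim D j) (c * t))⁻¹ * hb D K (sim D i) u := by
      rw [← e]; group
    rw [e2, G.nb_mul_inv hj]
    exact mul_mem (mul_mem (G.hb_mem hj ht) (inv_mem (G.hb_mem hj (mul_ne_zero hc ht))))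
      (G.hb_mem hi hu)
  exact hle hh

theorem Nbar_normalizes (ha : chkAdj D T = true) {n : D.SteinbergGroup K} (hn : n ∈ Nbar D K) :
    ∀ h ∈ Hbar D K, n * h * n⁻¹ ∈ Hbar D K := by
  induction hn using Subgroup.closure_induction_left with
  | one => intro h hh; simpa using hh
  | mul_left x hx y _ ih =>
    obtain ⟨i, t, hi, ht, rfl⟩ := hx
    intro h hh
    have := G.nb_conj_Hbar ha hi ht (ih h hh)
    simpa [mul_assoc] using this
  | inv_mul_cancel x hx y _ ih =>
    obtain ⟨i, t, hi, ht, rfl⟩ := hx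
    intro h hh
    rw [G.nb_inv (G.sim_lt hi)]
    have := G.nb_conj_Hbar ha hi (neg_ne_zero.2 ht) (ih h hh)
    simpa [mul_assoc] using this

theorem Nbar_decomp (ha : chkAdj D T = true) {n : D.SteinbergGroup K} (hn : n ∈ Nbar D K) :
    ∃ l, IsW D l ∧ n * (nlb D K l)⁻¹ ∈ Hbar D K := by
  have step : ∀ i < D.rank, ∀ t : K, t ≠ 0 → ∀ y, (∃ l, IsW D l ∧ y * (nlb D K l)⁻¹ ∈ Hbar D K) →
      ∃ l, IsW D l ∧ nb D K (sim D i) t * y * (nlb D K l)⁻¹ ∈ Hbar D K := by
    rintro i hi t ht y ⟨l, hl, hy⟩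
    refine ⟨i :: l, (isW_single hi).append hl, ?_⟩
    have e : nb D K (sim D i) t * y * (nlb D K (i :: l))⁻¹ =
        nb D K (sim D i) t * (y * (nlb D K l)⁻¹) * (nb D K (sim D i) t)⁻¹ *
          (nb D K (sim D i) t * (nb D K (sim D i) 1)⁻¹) := by
      rw [nlb_cons]; group
    rw [e, G.nb_mul_inv hi]
    exact mul_mem (G.nb_conj_Hbar ha hi ht hy)
      (mul_mem (G.hb_mem hi ht) (inv_mem (G.hb_mem hi one_ne_zero)))
  induction hn using Subgroup.closure_induction_left with
  | one => exact ⟨[], isW_nil, by simp [nlb_nil]⟩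
  | mul_left x hx y _ ih =>
    obtain ⟨i, t, hi, ht, rfl⟩ := hx
    exact step i hi t ht y ih
  | inv_mul_cancel x hx y _ ih =>
    obtain ⟨i, t, hi, ht, rfl⟩ := hx
    rw [G.nb_inv (G.sim_lt hi)]
    exact step i hi _ (neg_ne_zero.2 ht) y ih

theorem th_Hbar_mem {h : D.SteinbergGroup K} (hh : h ∈ Hbar D K) :
    G.th K h ∈ D.diagonalSubgroup K := by
  have hle : Hbar D K ≤ (D.diagonalSubgroup K).comap (G.th K) := by
    refine (Subgroup.closure_le _).2 ?_
    rintro g ⟨i, t, hi, ht, rfl⟩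
    show G.th K (hb D K (sim D i) t) ∈ D.diagonalSubgroup K
    rw [G.th_hb (G.sim_lt hi)]
    exact G.Hg_mem (G.sim_lt hi) ht
  exact hle hh

theorem nlb_mem_Hbar (ha : chkAdj D T = true) : ∀ (k : ℕ) {l : List ℕ}, l.length = k → IsW D l →
    (∀ i < D.rank, npos D ≤ wl T l (sim D i)) → nlb D K l ∈ Hbar D K := by
  intro k
  induction k using Nat.strong_induction_on with
  | _ k ih =>
    intro l hk hl hid
    rcases List.eq_nil_or_concat l with rfl | ⟨l', i, rfl⟩
    · rw [nlb_nil]; exact one_mem _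
    rw [List.concat_eq_append] at *
    have hi : i < D.rank := hl i (by simp)
    have hp := G.sim_lt hi
    have hne : npos D ≤ wl T l' (ng D (sim D i)) := by
      have h := hid i hi
      rw [wl_append] at h
      simp only [wl, G.w_sim hi] at h
      exact h
    have hneg : ng D (sim D i) < npos D := by
      have := G.even_n; have := G.sim_pos hi; unfold ng; omega
    obtain ⟨a, j, b, rfl, hb⟩ := G.exists_split (G.ng_lt hp) hneg hl.left hne
    have hb' : IsW D b := fun x hx => hl x (by simp [hx])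
    have hla : IsW D a := fun x hx => hl x (by simp [hx])
    have hj : j < D.rank := hl j (by simp)
    have hbp : wl T b (sim D i) = sim D j := by
      have := G.wl_ng hb' hp
      rw [hb] at this
      rw [← G.ng_ng (G.wl_lt hb' hp), ← this, G.ng_ng (G.sim_lt hj)]
    obtain ⟨c, hc, e⟩ := G.conj_nb (K := K) (g := nlb D K b) (l := b) (a := sim D i)
      (G.mv_of_mem_Nbar ha (G.nlb_mem hb')) (by rw [G.th_nlb hb']; exact G.rep_nl hb') hp
    rw [hbp] at e
    set h := nb D K (sim D j) 1 * nb D K (sim D j) c with hh_def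
    have hh : h ∈ Hbar D K := by
      have : h = nb D K (sim D j) 1 * (nb D K (sim D j) (-c))⁻¹ := by
        rw [G.nb_inv (G.sim_lt hj), neg_neg]
      rw [this, G.nb_mul_inv hj]
      exact mul_mem (G.hb_mem hj one_ne_zero) (inv_mem (G.hb_mem hj (neg_ne_zero.2 hc)))
    have e2 : nlb D K ((a ++ j :: b) ++ [i]) =
        (nlb D K a * h * (nlb D K a)⁻¹) * nlb D K (a ++ b) := by
      rw [hh_def, nlb_append, nlb_append, nlb_append, nlb_cons, nlb_cons, nlb_nil,
        ← mul_one c, ← e]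
      group
    have hh' := G.Nbar_normalizes ha (G.nlb_mem hla) h hh
    have hab : IsW D (a ++ b) := hla.append hb'
    have hrep : G.Rep K (G.nl K ((a ++ j :: b) ++ [i])) (a ++ b) := by
      refine ⟨hab, ?_⟩
      rw [← G.th_nlb hl, e2, map_mul, G.th_nlb hab, mul_inv_cancel_right]
      exact G.th_Hbar_mem hh'
    have hid' : ∀ x < D.rank, npos D ≤ wl T (a ++ b) (sim D x) := fun x hx => by
      rw [← G.act_unique (G.act_nl (F := K) hl) (G.rep_act hrep) (G.sim_lt hx)]
      exact hid x hx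
    have hlen : (a ++ b).length < k := by subst hk; simp
    rw [e2]
    exact mul_mem hh' (ih _ hlen rfl hab hid')

theorem ker_le_Hbar (ha : chkAdj D T = true) {g : D.SteinbergGroup K} (hg : G.th K g = 1) :
    g ∈ Hbar D K := by
  obtain ⟨hn, -⟩ := G.ker_le ha hg
  obtain ⟨l, hl, hh⟩ := G.Nbar_decomp ha hn
  have hrep : G.Rep K (G.th K g) l := by
    refine ⟨hl, ?_⟩
    have := G.th_Hbar_mem hh
    rwa [map_mul, map_inv, G.th_nlb hl] at this
  have hid : ∀ i < D.rank, npos D ≤ wl T l (sim D i) := fun i hi => by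
    rw [← G.act_unique (G.act_diag (hg ▸ one_mem _)) (G.rep_act hrep) (G.sim_lt hi)]
    exact G.sim_pos hi
  have := mul_mem hh (G.nlb_mem_Hbar ha _ rfl hl hid)
  simpa using this

/-- The hom `t ↦ h̄_i(t)`. -/
def hbHom (K : Type*) [Field K] (i : Fin D.rank) : Kˣ →* D.SteinbergGroup K where
  toFun t := hb D K (sim D i) t
  map_one' := by
    have := hb_mul (K := K) (G.sim_lt i.2) one_ne_zero one_ne_zero
    rw [mul_one] at this
    exact mul_eq_left.1 this
  map_mul' t u := (hb_mul (G.sim_lt i.2) t.ne_zero u.ne_zero).symm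

theorem ker_eq_bot_of_torHom_inj (ha : chkAdj D T = true)
    (hinj : Function.Injective (G.torHom K)) {g : D.SteinbergGroup K} (hg : G.th K g = 1) :
    g = 1 := by
  have hcomm : Pairwise fun i j => ∀ x y, Commute (G.hbHom K i x) (G.hbHom K j y) :=
    fun i j _ x y => G.hb_comm ha i.2 j.2 x.ne_zero y.ne_zero
  set φ := MonoidHom.noncommPiCoprod (G.hbHom K) hcomm with hφ
  have hle : Hbar D K ≤ φ.range := by
    refine (Subgroup.closure_le _).2 ?_
    rintro x ⟨i, t, hi, ht, rfl⟩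
    exact ⟨Pi.mulSingle ⟨i, hi⟩ (Units.mk0 t ht), MonoidHom.noncommPiCoprod_mulSingle _ _ _⟩
  obtain ⟨c, rfl⟩ := hle (G.ker_le_Hbar ha hg)
  have e : (G.th K).comp φ = G.torHom K := by
    refine MonoidHom.pi_ext fun i t => ?_
    rw [MonoidHom.comp_apply, hφ, MonoidHom.noncommPiCoprod_mulSingle]
    refine Units.ext ?_
    rw [G.torHom_val]
    show ((G.th K (hb D K (sim D i) (t : K)) : GL D.Idx K) : Matrix D.Idx D.Idx K) = _
    rw [G.th_hb (G.sim_lt i.2), G.Hg_eq (G.sim_lt i.2) t.ne_zero]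
    congr 1
    funext s
    rw [G.zpow_P_eq_tor t.ne_zero]
    refine G.tor_congr (fun j hj => ?_) s
    rw [G.c_sim i.2 hj, extOne, dif_pos hj]
    by_cases hji : j = i.val
    · subst hji
      simp
    · rw [if_neg hji, zpow_zero, Pi.mulSingle_eq_of_ne (fun h => hji (congrArg Fin.val h))]
      simp
  have : G.torHom K c = G.torHom K 1 := by rw [← e, MonoidHom.comp_apply, hg, map_one]
  rw [hinj this, map_one]

end Good

end Cfsg.Agent.Lib.Chev
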