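import Cfsg.Agent.Lib.Chev.Poincare

/-!
Integer polynomials as coefficient lists, and the certificate for the product formula of the length
generating function of a Weyl group.
-/

set_option autoImplicit false

namespace Cfsg.Agent.Lib.Chev

open Cfsg.Lie

/-- Sum of coefficient lists. -/
def padd : List ℤ → List ℤ → List ℤ
  | [], b => b
  | a, [] => a
  | x :: a, y :: b => (x + y) :: padd a b

/-- Product of coefficient lists. -/
def pmul : List ℤ → List ℤ → List ℤ
  | [], _ => []
  | [x], b => b.map (x * ·)
  | x :: a, b => padd (b.map (x * ·)) (0 :: pmul a b)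

/-- Value of a coefficient list. -/
def pev (q : ℤ) : List ℤ → ℤ
  | [] => 0
  | a :: l => a + q * pev q l

theorem pev_padd (q : ℤ) : ∀ a b, pev q (padd a b) = pev q a + pev q b
  | [], b => by simp [padd, pev]
  | x :: a, [] => by simp [padd, pev]
  | x :: a, y :: b => by simp only [padd, pev, pev_padd q a b]; ring

theorem pev_smul (q x : ℤ) : ∀ b, pev q (b.map (x * ·)) = x * pev q b
  | [] => by simp [pev]
  | y :: b => by simp only [List.map_cons, pev, pev_smul q x b]; ring

theorem pev_pmul (q : ℤ) : ∀ a b, pev q (pmul a b) = pev q a * pev q b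
  | [], b => by simp [pmul, pev]
  | [x], b => by simp [pmul, pev, pev_smul]
  | x :: y :: a, b => by
    simp only [pmul, pev_padd, pev_smul, pev]
    rw [pev_pmul q (y :: a) b]
    simp only [pev]
    ring

/-- The monomial `X ^ n`. -/
def pmono : ℕ → List ℤ
  | 0 => [1]
  | n + 1 => 0 :: pmono n

theorem pev_pmono (q : ℤ) : ∀ n, pev q (pmono n) = q ^ n
  | 0 => by simp [pmono, pev]
  | n + 1 => by simp only [pmono, pev, pev_pmono q n, zero_add, pow_succ']

/-- The polynomial `∑ X ^ len` of a list of cosets. -/
def hist (C : List Coset) : List ℤ := C.foldr (fun c acc => padd (pmono c.len) acc) []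

theorem sum_range_cget (q : ℕ) : ∀ C : List Coset,
    ∑ m ∈ Finset.range C.length, q ^ (cget C m).len = (C.map fun c => q ^ c.len).sum
  | [] => by simp
  | c :: C => by
    rw [List.length_cons, Finset.sum_range_succ', List.map_cons, List.sum_cons,
      ← sum_range_cget q C, add_comm]
    simp [cget]

theorem pev_hist (q : ℕ) : ∀ C : List Coset,
    pev (q : ℤ) (hist C) = ((∑ m ∈ Finset.range C.length, q ^ (cget C m).len : ℕ) : ℤ) := by
  intro C
  rw [sum_range_cget]
  induction C with
  | nil => simp [hist, pev]
  | cons c C ih =>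
    simp only [hist, List.foldr_cons, pev_padd, pev_pmono, List.map_cons, List.sum_cons] at ih ⊢
    rw [ih]
    push_cast
    rfl

/-- Product of the coset polynomials of the steps below `k`. -/
def prodHist (Cs : List (List Coset)) : ℕ → List ℤ
  | 0 => [1]
  | k + 1 => pmul (hist (Cs.getD k [])) (prodHist Cs k)

/-- The product `∏ (X ^ d - 1)`. -/
def degPoly : List ℕ → List ℤ
  | [] => [1]
  | d :: l => pmul (padd (pmono d) [-1]) (degPoly l)

/-- The product formula. -/
def chkPoin (D : ChevalleyDatum) (T : Tables) (Cs : List (List Coset)) (degs : List ℕ) : Bool :=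
  chkSign D T && allLt D.rank (fun k => chkStep D T k (Cs.getD k [])) &&
  ((List.range D.rank).foldr (fun _ acc => pmul [-1, 1] acc) (prodHist Cs D.rank) == degPoly degs)

variable {D : ChevalleyDatum} {T : Tables}

theorem Good.poincare (G : Good D T) {Cs : List (List Coset)} {degs : List ℕ}
    (h : chkPoin D T Cs degs = true) (q : ℕ) :
    ((q : ℤ) - 1) ^ D.rank * (pW D T D.rank q : ℤ) =
      (degs.map fun d => (q : ℤ) ^ d - 1).prod := by
  simp only [chkPoin, Bool.and_eq_true, beq_iff_eq] at h
  obtain ⟨⟨hS, hsteps⟩, hid⟩ := h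
  have key : ∀ k, k ≤ D.rank → (pW D T k q : ℤ) = pev (q : ℤ) (prodHist Cs k) := by
    intro k
    induction k with
    | zero => intro _; rw [G.pW_zero]; simp [prodHist, pev]
    | succ k ih =>
      intro hk
      rw [G.pW_succ hS (allLt_eq_true hsteps k hk) q, prodHist, pev_pmul, pev_hist,
        ← ih (by omega)]
      push_cast
      rfl
  have hdeg : ∀ l : List ℕ, pev (q : ℤ) (degPoly l) = (l.map fun d => (q : ℤ) ^ d - 1).prod := by
    intro l
    induction l with
    | nil => simp [degPoly, pev]
    | cons d l ih =>
      rw [degPoly, pev_pmul, pev_padd, pev_pmono, ih, List.map_cons, List.prod_cons]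
      simp only [pev]
      ring
  have hfold : ∀ (n : ℕ) (p : List ℤ), pev (q : ℤ)
      ((List.range n).foldr (fun _ acc => pmul [-1, 1] acc) p) = ((q : ℤ) - 1) ^ n * pev (q : ℤ) p := by
    intro n
    induction n with
    | zero => intro p; simp
    | succ n ih =>
      intro p
      rw [List.range_succ, List.foldr_append, List.foldr_cons, List.foldr_nil, ih, pev_pmul]
      simp only [pev]
      ring
  rw [key _ le_rfl, ← hdeg, ← hid, hfold]

end Cfsg.Agent.Lib.Chev
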