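import Cfsg.Agent.Lib.Chev.Count
import Cfsg.Agent.Lib.Chev.TorusCard
import Cfsg.Agent.Lib.Chev.PoinPoly
import Cfsg.Agent.Lib.Chev.PoinG2
import Cfsg.Agent.Lib.Chev.PoinB2
import Cfsg.Agent.Lib.Chev.PoinD4
import Cfsg.Agent.Lib.Chev.PoinF4
import Cfsg.Agent.Lib.Chev.PoinE6
import Cfsg.Agent.Lib.Chev.PoinE7
import Cfsg.Agent.Lib.Chev.PoinE8

/-!
The orders of the Chevalley groups.
-/

set_option autoImplicit false

namespace Cfsg.Agent.Lib.Chev

open Cfsg.Lie

variable {D : ChevalleyDatum} {T : Tables} {F : Type*} [Field F] [Fintype F]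

theorem Good.card_eq (G : Good D T) {U V Ui Vi : List (List ℤ)} {d : List ℕ}
    (hsm : chkSmith D T U V Ui Vi d = true) {Cs : List (List Coset)} {degs : List ℕ}
    (hp : chkPoin D T Cs degs = true) {c : ℕ}
    (hc : ∏ a ∈ Finset.range D.rank, Nat.gcd (Fintype.card F - 1) (d.getD a 0) = c) :
    c * Nat.card (D.group F) =
      Fintype.card F ^ (D.nroots / 2) * (degs.map fun e => Fintype.card F ^ e - 1).prod := by
  have hq : 1 ≤ Fintype.card F := Fintype.card_pos
  have h1 := G.card_diag hsm (F := F)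
  rw [hc] at h1
  rw [G.card_group, G.card_borel, G.card_pos]
  have e2 : (((degs.map fun e => Fintype.card F ^ e - 1).prod : ℕ) : ℤ) =
      (degs.map fun e => (Fintype.card F : ℤ) ^ e - 1).prod := by
    rw [Nat.cast_list_prod, List.map_map]
    refine congrArg List.prod (List.map_congr_left fun e _ => ?_)
    simp [Nat.cast_sub (Nat.one_le_pow _ _ hq)]
  have h2 := G.poincare hp (Fintype.card F)
  have h3 : (Fintype.card F - 1) ^ D.rank * pW D T D.rank (Fintype.card F) =
      (degs.map fun e => Fintype.card F ^ e - 1).prod := by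
    have : (((Fintype.card F - 1) ^ D.rank * pW D T D.rank (Fintype.card F) : ℕ) : ℤ) =
        (((degs.map fun e => Fintype.card F ^ e - 1).prod : ℕ) : ℤ) := by
      rw [e2, ← h2]; push_cast [Nat.cast_sub hq]; rfl
    exact_mod_cast this
  rw [← h3, ← h1]
  ring

end Cfsg.Agent.Lib.Chev
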