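import Cfsg.Agent.Lib.Chev.RootCent
import Cfsg.Agent.Lib.Chev.NormalForm

/-!
Centralizers in characteristic two of products of commuting positive root elements.
-/

set_option autoImplicit false
set_option linter.unusedSectionVars false

namespace Cfsg.Agent.Lib.Chev

open Cfsg.Lie
open scoped Classical Pointwise

/-- The data describing a centraliser: the roots `R` of the element, the roots `M` reached from
them, the roots `E` moving the element with the root reached, the fundamental roots `J`, the roots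
`SS` of the centraliser, and integral weights. -/
structure CentCfg where
  R : List ℕ
  M : List ℕ
  E : List (ℕ × ℕ)
  J : List ℕ
  SS : List ℕ
  NN : List ℕ
  W : List (ℕ × List (ℕ × ℤ))
  dom : List (ℕ × ℤ)

namespace CentCfg

/-- Conjugating `X_v` by `X_q` only adds roots in `Vs`. -/
def Ok (D : ChevalleyDatum) (T : Tables) (q v : ℕ) (Vs : List ℕ) : Prop :=
  v = q ∨ (v ≠ ng D q ∧ ∀ x ∈ T.terms q v, x.2.1 % 2 = 0 ∨ x.1 ∈ Vs)

instance (D : ChevalleyDatum) (T : Tables) (q v : ℕ) (Vs : List ℕ) : Decidable (Ok D T q v Vs) := by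
  unfold Ok; infer_instance

/-- The pairing, computably. -/
def pr (D : ChevalleyDatum) (T : Tables) (r s : ℕ) : ℤ := isum D.rank fun j => T.c r j * T.A j s

/-- `r'` can be the image of `r`. -/
def cand (D : ChevalleyDatum) (T : Tables) (r r' : ℕ) : Prop :=
  ∀ v ∈ [(2 : ℤ), 3], ((Finset.range D.nroots).filter fun s => pr D T r s = v).card =
    ((Finset.range D.nroots).filter fun s => pr D T r' s = v).card

instance (D : ChevalleyDatum) (T : Tables) (r r' : ℕ) : Decidable (cand D T r r') := by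
  unfold cand; infer_instance

/-- Everything to be verified about the data. -/
structure OK (D : ChevalleyDatum) (T : Tables) (c : CentCfg) : Prop where
  rng : ∀ r ∈ c.R ++ c.M, npos D ≤ r ∧ r < D.nroots
  nodup : (c.R ++ c.M).Nodup
  comm : ∀ a ∈ c.R ++ c.M, ∀ b ∈ c.R ++ c.M, Ok D T a b []
  orbit : ∀ q ∈ List.range' (npos D) (npos D), ∀ r ∈ c.R ++ c.M, Ok D T q r c.M
  ssRng : ∀ s ∈ c.SS, s < D.nroots
  ssR : ∀ s ∈ c.SS, ∀ r ∈ c.R, Ok D T s r []
  posSS : ∀ q ∈ List.range' (npos D) (npos D), q ∈ c.SS ∨ q ∈ c.E.map Prod.fst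
  vRng : ∀ v ∈ c.E.map Prod.fst ++ c.NN, npos D ≤ v ∧ v < D.nroots
  vNorm : ∀ s ∈ c.SS, ∀ v ∈ c.E.map Prod.fst ++ c.NN, Ok D T s v (c.E.map Prod.fst ++ c.NN)
  nNorm : ∀ q ∈ c.E.map Prod.fst ++ c.NN, ∀ v ∈ c.NN, Ok D T q v c.NN
  eNorm : ∀ q ∈ c.E.map Prod.fst, ∀ v ∈ c.E.map Prod.fst, Ok D T q v c.NN
  nSS : ∀ v ∈ c.NN, v ∈ c.SS
  eTgt : ∀ e ∈ c.E, e.2 ∈ c.M ∧ (∀ r ∈ c.R, r ≠ e.1 ∧ r ≠ ng D e.1) ∧
    (c.R.flatMap fun r => (T.terms e.1 r).filter fun x => x.2.1 % 2 != 0).map
      (fun x => (x.1, x.2.2.1)) = [(e.2, 1)]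
  eM : ∀ e ∈ c.E, ∀ m ∈ c.M, Ok D T e.1 m []
  eFstNodup : (c.E.map Prod.fst).Nodup
  eNodup : (c.E.map Prod.snd).Nodup
  jRng : ∀ j ∈ c.J, j < D.rank
  jSS : ∀ j ∈ c.J, sim D j ∈ c.SS ∧ ng D (sim D j) ∈ c.SS
  jFix : ∀ j ∈ c.J, ∀ r ∈ c.R, T.w j r = r
  rigid : ∀ r ∈ c.R, ∀ r' ∈ c.R ++ c.M, r' = r ∨ ¬ cand D T r r' ∨
    ∃ r₂ ∈ c.R, ∀ s ∈ c.R ++ c.M,
      pr D T r r₂ ≠ pr D T r' s ∨ pr D T r₂ r ≠ pr D T s r' ∨ ¬ cand D T r₂ s
  domR : ∀ x ∈ c.dom, x.1 ∈ c.R
  domNeg : ∀ q ∈ List.range (npos D), (c.dom.map fun x => x.2 * pr D T q x.1).sum ≤ 0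
  domPos : ∀ i ∈ List.range D.rank, i ∈ c.J ∨ 0 < (c.dom.map fun x => x.2 * T.A i x.1).sum
  wR : ∀ i ∈ List.range D.rank, i ∈ c.J ∨ ∃ w ∈ c.W, w.1 = i ∧ (∀ x ∈ w.2, x.1 ∈ c.R) ∧
    ∀ j ∈ List.range D.rank, (w.2.map fun x => x.2 * T.A j x.1).sum = if j = i then 1 else 0

end CentCfg

variable {D : ChevalleyDatum} {T : Tables} {F : Type*} [Field F]

namespace Good

variable (G : Good D T)
include G

/-- The subgroup generated by the root subgroups of a list of roots. -/
def gen (F : Type*) [Field F] (L : List ℕ) : Subgroup (GL D.Idx F) :=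
  Subgroup.closure {g | ∃ r ∈ L, ∃ t : F, g = G.X F r t}

/-- The product along a list of roots. -/
def prodL (F : Type*) [Field F] (L : List ℕ) (a : ℕ → F) : GL D.Idx F :=
  G.wordG (L.map fun r => (r, a r))

theorem prodL_cons (r : ℕ) (L : List ℕ) (a : ℕ → F) :
    G.prodL F (r :: L) a = G.X F r (a r) * G.prodL F L a := by
  simp [Good.prodL, Good.wordG]

theorem prodL_nil (a : ℕ → F) : G.prodL F [] a = 1 := rfl

theorem X_mem_gen {L : List ℕ} {r : ℕ} (hr : r ∈ L) (t : F) : G.X F r t ∈ G.gen F L :=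
  Subgroup.subset_closure ⟨r, hr, t, rfl⟩

theorem gen_mono {L L' : List ℕ} (h : ∀ r ∈ L, r ∈ L') : G.gen F L ≤ G.gen F L' :=
  Subgroup.closure_mono fun _ ⟨r, hr, t, e⟩ => ⟨r, h r hr, t, e⟩

theorem gen_nil : G.gen F [] = ⊥ := by
  simp [Good.gen]

theorem gen_le {L : List ℕ} {K : Subgroup (GL D.Idx F)} (h : ∀ r ∈ L, ∀ t, G.X F r t ∈ K) :
    G.gen F L ≤ K :=
  (Subgroup.closure_le _).2 fun _ ⟨r, hr, t, e⟩ => e ▸ h r hr t

theorem prodL_mem {L : List ℕ} (a : ℕ → F) : G.prodL F L a ∈ G.gen F L :=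
  G.wordG_mem fun p hp => by
    obtain ⟨r, hr, rfl⟩ := List.mem_map.1 hp
    exact G.X_mem_gen hr _

/-- Conjugation of one root element by another. -/
theorem conj_X_word {q v : ℕ} (hq : q < D.nroots) (hv : v < D.nroots) (h1 : v ≠ q)
    (h2 : v ≠ ng D q) (u t : F) :
    G.X F q u * G.X F v t * (G.X F q u)⁻¹ = G.X F v t *
      G.wordG ((T.terms q v).map fun x => (x.1, (x.2.1 : F) * u ^ x.2.2.1 * t ^ x.2.2.2)) := by
  have e := G.commAt q v hq hv h1 h2 (-u) t
  rw [G.X_inv, mul_assoc, e]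
  simp only [Good.cw, neg_neg]
  rw [← mul_assoc, ← mul_assoc, G.X_add, add_neg_cancel, G.X_zero, one_mul]

theorem conj_X_mem [CharP F 2] {q v : ℕ} {Vs : List ℕ} (hq : q < D.nroots) (hv : v < D.nroots)
    (h : CentCfg.Ok D T q v Vs) (u t : F) :
    ∃ m ∈ G.gen F Vs, G.X F q u * G.X F v t * (G.X F q u)⁻¹ = G.X F v t * m := by
  rcases h with rfl | ⟨h2, hterms⟩
  · exact ⟨1, one_mem _, by rw [G.X_add, G.X_inv, G.X_add, mul_one]; congr 1; ring⟩
  by_cases h1 : v = q
  · subst h1
    exact ⟨1, one_mem _, by rw [G.X_add, G.X_inv, G.X_add, mul_one]; congr 1; ring⟩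
  refine ⟨_, G.wordG_mem fun p hp => ?_, G.conj_X_word hq hv h1 h2 u t⟩
  obtain ⟨x, hx, rfl⟩ := List.mem_map.1 hp
  rcases hterms x hx with he | he
  · have h0 : (x.2.1 : F) = 0 := by
      obtain ⟨m, hm⟩ := Int.dvd_of_emod_eq_zero he
      rw [hm, Int.cast_mul, show ((2 : ℤ) : F) = ((2 : ℕ) : F) from Int.cast_natCast 2,
        CharP.cast_eq_zero, zero_mul]
    show G.X F _ _ ∈ _
    rw [h0, zero_mul, zero_mul, G.X_zero]
    exact one_mem _
  · exact G.X_mem_gen he _

theorem X_conj_eq_self [CharP F 2] {q v : ℕ} (hq : q < D.nroots) (hv : v < D.nroots)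
    (h : CentCfg.Ok D T q v []) (u t : F) :
    G.X F q u * G.X F v t = G.X F v t * G.X F q u := by
  obtain ⟨m, hm, e⟩ := G.conj_X_mem hq hv h u t
  rw [G.gen_nil, Subgroup.mem_bot] at hm
  rw [hm, mul_one] at e
  exact mul_inv_eq_iff_eq_mul.1 e

theorem gen_normalized [CharP F 2] {q : ℕ} {Vs : List ℕ} (hq : q < D.nroots)
    (hV : ∀ v ∈ Vs, v < D.nroots) (h : ∀ v ∈ Vs, CentCfg.Ok D T q v Vs) (u : F) :
    G.X F q u ∈ Subgroup.normalizer (G.gen F Vs : Set (GL D.Idx F)) := by
  have key : ∀ u, ∀ x ∈ G.gen F Vs, G.X F q u * x * (G.X F q u)⁻¹ ∈ G.gen F Vs := by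
    intro u x hx
    have hle : G.gen F Vs ≤ (G.gen F Vs).comap (MulAut.conj (G.X F q u)).toMonoidHom := by
      refine G.gen_le fun v hv t => ?_
      obtain ⟨m, hm, e⟩ := G.conj_X_mem hq (hV v hv) (h v hv) u t
      show G.X F q u * G.X F v t * (G.X F q u)⁻¹ ∈ G.gen F Vs
      rw [e]
      exact mul_mem (G.X_mem_gen hv t) hm
    exact hle hx
  refine Subgroup.mem_normalizer_iff.2 fun x => ⟨key u x, fun hx => ?_⟩
  have := key (-u) _ hx
  rw [← G.X_inv] at this
  simpa [mul_assoc] using this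

theorem gen_comm {L : List ℕ} (hL : ∀ a ∈ L, ∀ b ∈ L, ∀ t u : F,
    G.X F a t * G.X F b u = G.X F b u * G.X F a t) {x y : GL D.Idx F} (hx : x ∈ G.gen F L)
    (hy : y ∈ G.gen F L) : x * y = y * x := by
  have h1 : G.gen F L ≤ Subgroup.centralizer (G.gen F L : Set (GL D.Idx F)) := by
    refine G.gen_le fun a ha t => ?_
    have h2 : G.gen F L ≤ Subgroup.centralizer {G.X F a t} := G.gen_le fun b hb u => by
      rw [Subgroup.mem_centralizer_singleton_iff]
      exact hL b hb a ha u t
    exact Subgroup.mem_centralizer_iff.2 fun z hz => Subgroup.mem_centralizer_singleton_iff.1 (h2 hz)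
  exact (Subgroup.mem_centralizer_iff.1 (h1 hx) y hy).symm

theorem prodL_add : ∀ {L : List ℕ}, (∀ a ∈ L, ∀ b ∈ L, ∀ t u : F,
    G.X F a t * G.X F b u = G.X F b u * G.X F a t) → ∀ a b : ℕ → F,
      G.prodL F L a * G.prodL F L b = G.prodL F L (fun r => a r + b r)
  | [], _, a, b => by simp [G.prodL_nil]
  | r :: L, hL, a, b => by
    have hL' : ∀ x ∈ L, ∀ y ∈ L, ∀ t u : F, G.X F x t * G.X F y u = G.X F y u * G.X F x t :=
      fun x hx y hy => hL x (List.mem_cons_of_mem _ hx) y (List.mem_cons_of_mem _ hy)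
    have hc : G.prodL F L a * G.X F r (b r) = G.X F r (b r) * G.prodL F L a :=
      G.gen_comm hL (G.gen_mono (fun x hx => List.mem_cons_of_mem _ hx) (G.prodL_mem a))
        (G.X_mem_gen List.mem_cons_self _)
    rw [G.prodL_cons, G.prodL_cons, G.prodL_cons, ← prodL_add hL', ← G.X_add]
    simp only [mul_assoc]
    rw [← mul_assoc (G.prodL F L a), hc, mul_assoc]

theorem prodL_zero (L : List ℕ) {a : ℕ → F} (h : ∀ r ∈ L, a r = 0) : G.prodL F L a = 1 := by
  refine List.prod_eq_one fun x hx => ?_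
  simp only [List.map_map, List.mem_map, Function.comp_apply] at hx
  obtain ⟨r, hr, rfl⟩ := hx
  rw [h r hr, G.X_zero]

theorem prodL_congr {L : List ℕ} {a b : ℕ → F} (h : ∀ r ∈ L, a r = b r) :
    G.prodL F L a = G.prodL F L b := by
  unfold Good.prodL
  congr 1
  exact List.map_congr_left fun r hr => by rw [h r hr]

theorem gen_eq_prodL {L K : List ℕ} (hL : ∀ a ∈ L, ∀ b ∈ L, ∀ t u : F,
    G.X F a t * G.X F b u = G.X F b u * G.X F a t) (hnd : L.Nodup) (hK : ∀ r ∈ K, r ∈ L)
    {x : GL D.Idx F} (hx : x ∈ G.gen F K) :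
    ∃ a : ℕ → F, (∀ r ∈ L, r ∉ K → a r = 0) ∧ x = G.prodL F L a := by
  have single : ∀ r, ∀ L' : List ℕ, L'.Nodup → r ∈ L' → ∀ t : F,
      G.prodL F L' (Pi.single r t) = G.X F r t := by
    intro r L'
    induction L' with
    | nil => intro _ h; simp at h
    | cons s L' ih =>
      intro hnd' hr t
      rw [List.nodup_cons] at hnd'
      rw [G.prodL_cons]
      by_cases hs : r = s
      · subst hs
        rw [Pi.single_eq_same, G.prodL_zero L', mul_one]
        exact fun x hx => Pi.single_eq_of_ne (fun e : x = r => hnd'.1 (e ▸ hx)) _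
      · rw [Pi.single_eq_of_ne (Ne.symm hs), G.X_zero, one_mul]
        exact ih hnd'.2 ((List.mem_cons.1 hr).resolve_left hs) t
  induction hx using Subgroup.closure_induction with
  | mem x hx =>
    obtain ⟨r, hr, t, rfl⟩ := hx
    exact ⟨Pi.single r t, fun s _ hs => Pi.single_eq_of_ne (fun e : s = r => hs (e ▸ hr)) _,
      (single r L hnd (hK r hr) t).symm⟩
  | one => exact ⟨fun _ => 0, fun _ _ _ => rfl, (G.prodL_zero L fun _ _ => rfl).symm⟩
  | mul x y _ _ ih1 ih2 =>
    obtain ⟨a, ha, rfl⟩ := ih1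
    obtain ⟨b, hb, rfl⟩ := ih2
    exact ⟨fun r => a r + b r, fun r hr hrK => by simp [ha r hr hrK, hb r hr hrK], G.prodL_add hL a b⟩
  | inv x _ ih =>
    obtain ⟨a, ha, rfl⟩ := ih
    refine ⟨fun r => - a r, fun r hr hrK => by simp [ha r hr hrK], inv_eq_of_mul_eq_one_right ?_⟩
    rw [G.prodL_add hL]
    exact G.prodL_zero L fun r _ => add_neg_cancel _

theorem prodL_perm {L L' : List ℕ} (hp : L.Perm L') (hL : ∀ a ∈ L, ∀ b ∈ L, ∀ t u : F,
    G.X F a t * G.X F b u = G.X F b u * G.X F a t) (a : ℕ → F) :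
    G.prodL F L a = G.prodL F L' a := by
  refine (hp.map _).map _ |>.prod_eq' ?_
  rw [List.map_map, List.pairwise_map]
  exact List.pairwise_of_forall_mem_list fun x hx y hy => hL x hx y hy _ _

theorem prodL_filter (p : ℕ → Bool) : ∀ (L : List ℕ) (a : ℕ → F), (∀ r ∈ L, p r = false → a r = 0) →
    G.prodL F (L.filter p) a = G.prodL F L a
  | [], _, _ => rfl
  | r :: L, a, h => by
    have ih := prodL_filter p L a fun x hx => h x (List.mem_cons_of_mem _ hx)
    rw [List.filter_cons, G.prodL_cons]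
    cases hp : p r
    · simp only [Bool.false_eq_true, if_false]
      rw [ih, h r List.mem_cons_self hp, G.X_zero, one_mul]
    · simp only [if_true]
      rw [G.prodL_cons, ih]

theorem prodL_unique {L : List ℕ} (hpos : ∀ r ∈ L, npos D ≤ r ∧ r < D.nroots) (hnd : L.Nodup)
    (hL : ∀ a ∈ L, ∀ b ∈ L, ∀ t u : F, G.X F a t * G.X F b u = G.X F b u * G.X F a t)
    {a b : ℕ → F} (h : G.prodL F L a = G.prodL F L b) : ∀ r ∈ L, a r = b r := by
  have he := G.even_n
  have hperm : L.Perm ((List.range' (npos D) (npos D)).filter fun r => decide (r ∈ L)) := by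
    refine (List.perm_ext_iff_of_nodup hnd (List.Nodup.filter _ List.nodup_range')).2 fun r => ?_
    simp only [List.mem_filter, List.mem_range'_1, decide_eq_true_eq]
    exact ⟨fun hr => ⟨⟨(hpos r hr).1, by have := (hpos r hr).2; omega⟩, hr⟩, And.right⟩
  have key : ∀ a : ℕ → F, G.prodL F L a =
      G.oprod F (npos D) (npos D) fun r => if r ∈ L then a r else 0 := by
    intro a
    rw [G.prodL_perm hperm hL, G.prodL_congr (b := fun r => if r ∈ L then a r else 0)
      fun r hr => by rw [if_pos]; simpa using (List.mem_filter.1 hr).2]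
    exact G.prodL_filter _ _ _ fun r _ hr => if_neg (by simpa using hr)
  rw [key a, key b] at h
  intro r hr
  have := G.oprod_injective (npos D) (npos D) le_rfl (by omega) _ _ h r (hpos r hr).1
    (by have := (hpos r hr).2; omega)
  simpa [hr] using this

theorem prodL_conj_act {g : GL D.Idx F} {f : ℕ → ℕ} {cf : ℕ → F}
    (hg : ∀ r < D.nroots, ∀ t, g * G.X F r t * g⁻¹ = G.X F (f r) (cf r * t)) :
    ∀ (L : List ℕ) (a : ℕ → F), (∀ r ∈ L, r < D.nroots) →
      g * G.prodL F L a * g⁻¹ = G.wordG (L.map fun r => (f r, cf r * a r))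
  | [], a, _ => by simp [G.prodL_nil, Good.wordG]
  | r :: L, a, h => by
    have ih := prodL_conj_act hg L a fun x hx => h x (List.mem_cons_of_mem _ hx)
    rw [G.prodL_cons, List.map_cons, G.wordG_cons, ← ih, ← hg r (h r List.mem_cons_self)]
    group

/-- A monomial element carrying one product to another carries the roots which occur into the list. -/
theorem act_support {n : GL D.Idx F} {l : List ℕ} (hl : G.Rep F n l) {L : List ℕ}
    (hpos : ∀ r ∈ L, npos D ≤ r ∧ r < D.nroots) (hnd : L.Nodup)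
    (hL : ∀ a ∈ L, ∀ b ∈ L, ∀ t u : F, G.X F a t * G.X F b u = G.X F b u * G.X F a t)
    {a b : ℕ → F} (h : n * G.prodL F L a * n⁻¹ = G.prodL F L b) :
    ∀ r ∈ L, a r ≠ 0 → wl T l r ∈ L := by
  have hact := G.rep_act hl
  choose hlt cf hc hcf using hact
  let cf' : ℕ → F := fun r => if hr : r < D.nroots then cf r hr else 1
  have hg : ∀ r < D.nroots, ∀ t, n * G.X F r t * n⁻¹ = G.X F (wl T l r) (cf' r * t) := by
    intro r hr t
    simp only [cf', dif_pos hr]
    exact hcf r hr t
  set K := L.filter fun r => decide (npos D ≤ wl T l r) with hK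
  set N := L.filter fun r => !decide (npos D ≤ wl T l r) with hN
  have hperm : (K ++ N).Perm L := List.filter_append_perm _ L
  have hKN : ∀ x, x ∈ K ++ N → x ∈ L := fun x hx => hperm.subset hx
  have hsplit : G.prodL F L a = G.prodL F K a * G.prodL F N a := by
    rw [← G.prodL_perm hperm (fun x hx y hy => hL x (hKN x hx) y (hKN y hy))]
    simp [Good.prodL, G.wordG_append]
  have hlL : ∀ r ∈ L, r < D.nroots := fun r hr => (hpos r hr).2
  have hKmem : ∀ r ∈ K, r ∈ L ∧ npos D ≤ wl T l r := fun r hr => by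
    simpa [hK] using hr
  have hNmem : ∀ r ∈ N, r ∈ L ∧ wl T l r < npos D := fun r hr => by
    simpa [hN] using hr
  have hgK : n * G.prodL F K a * n⁻¹ ∈ D.posUnipotent F := by
    rw [G.prodL_conj_act hg K a fun r hr => hlL r (hKmem r hr).1]
    refine G.wordG_mem fun p hp => ?_
    obtain ⟨r, hr, rfl⟩ := List.mem_map.1 hp
    exact G.X_mem_posUnipotent (hlt r (hlL r (hKmem r hr).1)) (hKmem r hr).2 _
  have hgN : n * G.prodL F N a * n⁻¹ ∈ D.negUnipotent F := by
    rw [G.prodL_conj_act hg N a fun r hr => hlL r (hNmem r hr).1]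
    refine G.wordG_mem fun p hp => ?_
    obtain ⟨r, hr, rfl⟩ := List.mem_map.1 hp
    exact G.X_mem_negUnipotent (hlt r (hlL r (hNmem r hr).1)) (hNmem r hr).2 _
  have hbU : G.prodL F L b ∈ D.posUnipotent F :=
    G.gen_le (fun r hr t => G.X_mem_posUnipotent (hpos r hr).2 (hpos r hr).1 t) (G.prodL_mem b)
  have hN1 : n * G.prodL F N a * n⁻¹ = 1 := by
    refine Subgroup.mem_bot.1 (G.borel_inf_neg (F := F) ▸ Subgroup.mem_inf.2 ⟨?_, hgN⟩)
    have e : n * G.prodL F N a * n⁻¹ = (n * G.prodL F K a * n⁻¹)⁻¹ * G.prodL F L b := by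
      rw [← h, hsplit]; group
    rw [e]
    exact Subgroup.mem_sup_left (mul_mem (inv_mem hgK) hbU)
  have hNa : ∀ r ∈ N, a r = 0 := by
    refine G.prodL_unique (fun r hr => hpos r (hNmem r hr).1) (hnd.filter _)
      (fun x hx y hy => hL x (hNmem x hx).1 y (hNmem y hy).1) (b := fun _ => 0) ?_
    rw [G.prodL_zero N (a := fun _ : ℕ => (0 : F)) fun _ _ => rfl]
    exact conj_eq_one_iff.1 hN1
  intro r hr har
  by_contra hout
  have hrK : r ∈ K := by
    rcases List.mem_append.1 (hperm.mem_iff.2 hr) with h1 | h1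
    · exact h1
    · exact absurd (hNa r h1) har
  -- all the images, together with the list
  rw [hsplit, G.prodL_zero N hNa, mul_one,
    G.prodL_conj_act hg K a fun x hx => hlL x (hKmem x hx).1] at h
  set L2 := K.map (wl T l) with hL2
  have hinj : ∀ x ∈ K, ∀ y ∈ K, wl T l x = wl T l y → x = y := fun x hx y hy e =>
    G.wl_injective hl.1 (hlL x (hKmem x hx).1) (hlL y (hKmem y hy).1) e
  let a2 : ℕ → F := fun p => cf' (wl T l.reverse p) * a (wl T l.reverse p)
  have e2 : G.wordG (K.map fun x => (wl T l x, cf' x * a x)) = G.prodL F L2 a2 := by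
    rw [hL2, Good.prodL, List.map_map]
    congr 1
    refine List.map_congr_left fun x hx => ?_
    simp only [Function.comp_apply, a2, G.wl_reverse_wl hl.1 (hlL x (hKmem x hx).1)]
  rw [e2] at h
  have hL2pos : ∀ p ∈ L2, npos D ≤ p ∧ p < D.nroots := by
    intro p hp
    obtain ⟨x, hx, rfl⟩ := List.mem_map.1 hp
    exact ⟨(hKmem x hx).2, hlt x (hlL x (hKmem x hx).1)⟩
  have hnotin : wl T l r ∈ L2 := List.mem_map_of_mem hrK
  -- compare in the ordered product
  have he := G.even_n
  have key : ∀ (M : List ℕ) (f : ℕ → F), (∀ p ∈ M, npos D ≤ p ∧ p < D.nroots) → M.Nodup →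
      (∀ x ∈ M, ∀ y ∈ M, ∀ t u : F, G.X F x t * G.X F y u = G.X F y u * G.X F x t) →
      G.prodL F M f = G.oprod F (npos D) (npos D) fun p => if p ∈ M then f p else 0 := by
    intro M f hM hMnd hMc
    have hperm : M.Perm ((List.range' (npos D) (npos D)).filter fun p => decide (p ∈ M)) := by
      refine (List.perm_ext_iff_of_nodup hMnd (List.Nodup.filter _ List.nodup_range')).2 fun p => ?_
      simp only [List.mem_filter, List.mem_range'_1, decide_eq_true_eq]
      exact ⟨fun hp => ⟨⟨(hM p hp).1, by have := (hM p hp).2; omega⟩, hp⟩, And.right⟩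
    rw [G.prodL_perm hperm hMc, G.prodL_congr (b := fun p => if p ∈ M then f p else 0)
      fun p hp => by rw [if_pos]; simpa using (List.mem_filter.1 hp).2]
    exact G.prodL_filter _ _ _ fun p _ hp => if_neg (by simpa using hp)
  have hL2c : ∀ x ∈ L2, ∀ y ∈ L2, ∀ t u : F, G.X F x t * G.X F y u = G.X F y u * G.X F x t := by
    intro p hp q hq t u
    obtain ⟨x, hx, rfl⟩ := List.mem_map.1 hp
    obtain ⟨y, hy, rfl⟩ := List.mem_map.1 hq
    have hcx : cf' x ≠ 0 := by simp only [cf', dif_pos (hlL x (hKmem x hx).1)]; exact hc x _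
    have hcy : cf' y ≠ 0 := by simp only [cf', dif_pos (hlL y (hKmem y hy).1)]; exact hc y _
    have e := congrArg (fun z => n * z * n⁻¹)
      (hL x (hKmem x hx).1 y (hKmem y hy).1 ((cf' x)⁻¹ * t) ((cf' y)⁻¹ * u))
    have ex := hg x (hlL x (hKmem x hx).1) ((cf' x)⁻¹ * t)
    have ey := hg y (hlL y (hKmem y hy).1) ((cf' y)⁻¹ * u)
    rw [mul_inv_cancel_left₀ hcx] at ex
    rw [mul_inv_cancel_left₀ hcy] at ey
    rw [← ex, ← ey]
    simp only [mul_assoc, inv_mul_cancel_left] at e ⊢
    exact e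
  rw [key L2 a2 hL2pos ((hnd.filter _).map_on hinj) hL2c, key L b hpos hnd hL] at h
  have := G.oprod_injective (npos D) (npos D) le_rfl (by omega) _ _ h (wl T l r)
    (hL2pos _ hnotin).1 (by have := (hL2pos _ hnotin).2; omega)
  simp only [if_pos hnotin, if_neg hout, a2, G.wl_reverse_wl hl.1 (hlL r hr)] at this
  refine mul_ne_zero ?_ har this
  simp only [cf', dif_pos (hlL r hr)]
  exact hc r _

theorem P_wl : ∀ {l : List ℕ}, IsW D l → ∀ {a b : ℕ}, a < D.nroots → b < D.nroots →
    P D T (wl T l a) (wl T l b) = P D T a b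
  | [], _, _, _, _, _ => rfl
  | c :: l, hl, a, b, ha, hb => by
    show P D T (T.w c (wl T l a)) (T.w c (wl T l b)) = _
    rw [G.P_w hl.tail.1 (G.wl_lt hl.tail.2 ha) (G.wl_lt hl.tail.2 hb), P_wl hl.tail.2 ha hb]

omit G in
theorem pr_eq (r s : ℕ) : CentCfg.pr D T r s = P D T r s := isum_eq _ _

theorem cand_wl {l : List ℕ} (hl : IsW D l) {r : ℕ} (hr : r < D.nroots) :
    CentCfg.cand D T r (wl T l r) := by
  intro v _
  refine Finset.card_bij' (fun s _ => wl T l s) (fun s _ => wl T l.reverse s) ?_ ?_ ?_ ?_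
  · intro s hs
    simp only [Finset.mem_filter, Finset.mem_range, pr_eq] at hs ⊢
    exact ⟨G.wl_lt hl hs.1, by rw [G.P_wl hl hr hs.1]; exact hs.2⟩
  · intro s hs
    simp only [Finset.mem_filter, Finset.mem_range, pr_eq] at hs ⊢
    have hlt := G.wl_lt hl.reverse hs.1
    refine ⟨hlt, ?_⟩
    rw [← G.P_wl hl hr hlt, G.wl_wl_reverse hl hs.1]
    exact hs.2
  · intro s hs
    exact G.wl_reverse_wl hl (Finset.mem_range.1 (Finset.mem_filter.1 hs).1)
  · intro s hs
    exact G.wl_wl_reverse hl (Finset.mem_range.1 (Finset.mem_filter.1 hs).1)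

/-- A monomial element fixing the roots of `R` lies in `S H`. -/
theorem mem_of_fix_R {c : CentCfg} (hc : c.OK D T) :
    ∀ (k : ℕ) (n : GL D.Idx F) (l : List ℕ), G.Rep F n l → (invSet D T l).card = k →
      (∀ r ∈ c.R, wl T l r = r) → n ∈ G.gen F c.SS ⊔ D.diagonalSubgroup F := by
  intro k
  induction k using Nat.strong_induction_on with
  | _ k ih =>
    intro n l hl hk hfix
    by_cases hall : ∀ i < D.rank, npos D ≤ wl T l (sim D i)
    · have h2 := mul_mem hl.2 (G.nl_mem_diag_of_pos (F := F) _ rfl hl.1 hall)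
      rw [inv_mul_cancel_right] at h2
      exact Subgroup.mem_sup_right h2
    push Not at hall
    obtain ⟨i, hi, hni⟩ := hall
    have hiJ : i ∈ c.J := by
      refine (hc.domPos i (List.mem_range.2 hi)).resolve_right fun hlt => ?_
      have h1 := hc.domNeg _ (List.mem_range.2 hni)
      have e : (c.dom.map fun x => x.2 * CentCfg.pr D T (wl T l (sim D i)) x.1) =
          c.dom.map fun x => x.2 * T.A i x.1 := by
        refine List.map_congr_left fun x hx => ?_
        have hxR := hc.domR x hx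
        have hxlt := (hc.rng _ (List.mem_append_left _ hxR)).2
        conv_lhs => rw [pr_eq, ← hfix _ hxR]
        rw [G.P_wl hl.1 (G.sim_lt hi) hxlt, G.P_sim hi]
      rw [e] at h1
      omega
    have hl' : G.Rep F (n * G.ni F i) (l ++ [i]) := G.rep_mul hl (G.rep_ni hi)
    have hcard : (invSet D T (l ++ [i])).card < k := by
      have hpos' : npos D ≤ wl T (l ++ [i]) (sim D i) := by
        rw [wl_append]
        show npos D ≤ wl T l (T.w i (sim D i))
        rw [G.w_sim hi, G.wl_ng hl.1 (G.sim_lt hi)]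
        exact (G.ng_pos_iff (G.wl_lt hl.1 (G.sim_lt hi))).2 hni
      have h3 := G.inv_succ hl'.1 hi hpos'
      have e : invSet D T (l ++ [i] ++ [i]) = invSet D T l := by
        ext s
        rw [mem_invSet, mem_invSet, wl_append, wl_append]
        refine and_congr_right fun hs => ?_
        show _ ∧ wl T l (T.w i (T.w i s)) < _ ↔ _
        rw [G.w_w hi hs]
      rw [e] at h3
      omega
    have hfix' : ∀ r ∈ c.R, wl T (l ++ [i]) r = r := fun r hr => by
      rw [wl_append]
      show wl T l (T.w i r) = r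
      rw [hc.jFix i hiJ r hr, hfix r hr]
    have h := ih _ hcard _ _ hl' rfl hfix'
    have hni : G.ni F i ∈ G.gen F c.SS :=
      mul_mem (mul_mem (G.X_mem_gen (hc.jSS i hiJ).1 _) (G.X_mem_gen (hc.jSS i hiJ).2 _))
        (G.X_mem_gen (hc.jSS i hiJ).1 _)
    have h4 := mul_mem h (inv_mem (Subgroup.mem_sup_left (T := D.diagonalSubgroup F) hni))
    rwa [mul_inv_cancel_right] at h4

theorem diag_normalizes_gen (L : List ℕ) (hL : ∀ r ∈ L, r < D.nroots) :
    D.diagonalSubgroup F ≤ Subgroup.normalizer (G.gen F L : Set (GL D.Idx F)) := by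
  have key : ∀ h ∈ D.diagonalSubgroup F, ∀ x ∈ G.gen F L, h * x * h⁻¹ ∈ G.gen F L := by
    intro h hh x hx
    have hle : G.gen F L ≤ (G.gen F L).comap (MulAut.conj h).toMonoidHom := by
      refine G.gen_le fun v hv t => ?_
      obtain ⟨-, a, -, ha⟩ := G.act_diag hh v (hL v hv)
      show h * G.X F v t * h⁻¹ ∈ G.gen F L
      rw [ha]
      exact G.X_mem_gen hv _
    exact hle hx
  intro h hh
  refine Subgroup.mem_normalizer_iff.2 fun x => ⟨key h hh x, fun hx => ?_⟩
  have := key _ (inv_mem hh) _ hx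
  simpa [mul_assoc] using this

/-- An element of the group on the moving roots is a product along them times a fixing element. -/
theorem moving_decomp [CharP F 2] {c : CentCfg} (hc : c.OK D T) {x : GL D.Idx F}
    (hx : x ∈ G.gen F (c.E.map Prod.fst ++ c.NN)) :
    ∃ a : ℕ → F, ∃ m ∈ G.gen F c.NN, x = G.prodL F (c.E.map Prod.fst) a * m := by
  have hNN : ∀ v ∈ c.NN, v < D.nroots := fun v hv => (hc.vRng v (List.mem_append_right _ hv)).2
  have hnorm : G.gen F (c.E.map Prod.fst ++ c.NN) ≤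
      Subgroup.normalizer (G.gen F c.NN : Set (GL D.Idx F)) :=
    G.gen_le fun q hq t => G.gen_normalized (hc.vRng q hq).2 hNN (hc.nNorm q hq) t
  have hconj : ∀ y ∈ G.gen F (c.E.map Prod.fst ++ c.NN), ∀ m ∈ G.gen F c.NN,
      y⁻¹ * m * y ∈ G.gen F c.NN := fun y hy m hm => by
    simpa using (Subgroup.mem_normalizer_iff.1 (inv_mem (hnorm hy)) m).1 hm
  -- put one factor in its place
  have ins : ∀ (L : List ℕ), (∀ v ∈ L, v ∈ c.E.map Prod.fst) → ∀ q ∈ L, ∀ (t : F) (a : ℕ → F),
      L.Nodup → ∃ a' : ℕ → F, ∃ m ∈ G.gen F c.NN,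
        G.X F q t * G.prodL F L a = G.prodL F L a' * m := by
    intro L
    induction L with
    | nil => intro _ q hq; simp at hq
    | cons r L ih =>
      intro hsub q hq t a hnd
      rw [List.nodup_cons] at hnd
      by_cases hqr : q = r
      · subst hqr
        refine ⟨Function.update a q (t + a q), 1, one_mem _, ?_⟩
        rw [G.prodL_cons, G.prodL_cons, Function.update_self, ← G.X_add, mul_one, mul_assoc,
          G.prodL_congr (a := Function.update a q (t + a q)) (b := a)
            fun x hx => Function.update_of_ne (fun e : x = q => hnd.1 (by rwa [← e])) _ _]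
      · have hqL := (List.mem_cons.1 hq).resolve_left hqr
        have hrE := hsub r List.mem_cons_self
        have hqE := hsub q hq
        obtain ⟨m₁, hm₁, e₁⟩ := G.conj_X_mem (hc.vRng q (List.mem_append_left _ hqE)).2
          (hc.vRng r (List.mem_append_left _ hrE)).2 (hc.eNorm q hqE r hrE) t (a r)
        obtain ⟨a', m₂, hm₂, e₂⟩ := ih (fun x hx => hsub x (List.mem_cons_of_mem _ hx)) q hqL t a hnd.2
        have hy : G.prodL F L a' ∈ G.gen F (c.E.map Prod.fst ++ c.NN) :=
          G.gen_mono (fun x hx => List.mem_append_left _ (hsub x (List.mem_cons_of_mem _ hx)))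
            (G.prodL_mem a')
        refine ⟨Function.update a' r (a r), (G.prodL F L a')⁻¹ * m₁ * G.prodL F L a' * m₂,
          mul_mem (hconj _ hy _ hm₁) hm₂, ?_⟩
        rw [G.prodL_cons, G.prodL_cons, Function.update_self,
          G.prodL_congr (a := Function.update a' r (a r)) (b := a')
            fun x hx => Function.update_of_ne (fun e : x = r => hnd.1 (by rwa [← e])) _ _]
        calc G.X F q t * (G.X F r (a r) * G.prodL F L a)
            = G.X F q t * G.X F r (a r) * (G.X F q t)⁻¹ * (G.X F q t * G.prodL F L a) := by group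
          _ = _ := by rw [e₁, e₂]; group
  have hnd : (c.E.map Prod.fst).Nodup := hc.eFstNodup
  induction hx using Subgroup.closure_induction_left with
  | one => exact ⟨fun _ => 0, 1, one_mem _, by rw [G.prodL_zero _ fun _ _ => rfl, mul_one]⟩
  | mul_left g hg y _ ih =>
    obtain ⟨q, hq, t, rfl⟩ := hg
    obtain ⟨a, m, hm, rfl⟩ := ih
    rcases List.mem_append.1 hq with hq | hq
    · obtain ⟨a', m', hm', e⟩ := ins _ (fun _ hv => hv) q hq t a hnd
      exact ⟨a', m' * m, mul_mem hm' hm, by rw [← mul_assoc, e, mul_assoc]⟩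
    · refine ⟨a, (G.prodL F _ a)⁻¹ * G.X F q t * G.prodL F _ a * m,
        mul_mem (hconj _ (G.gen_mono (fun v hv => List.mem_append_left _ hv)
          (G.prodL_mem a)) _ (G.X_mem_gen hq t)) hm, by group⟩
  | inv_mul_cancel g hg y _ ih =>
    obtain ⟨q, hq, t, rfl⟩ := hg
    obtain ⟨a, m, hm, rfl⟩ := ih
    rw [G.X_inv]
    rcases List.mem_append.1 hq with hq | hq
    · obtain ⟨a', m', hm', e⟩ :=
        ins _ (fun _ hv => hv) q hq (-t) a hnd
      exact ⟨a', m' * m, mul_mem hm' hm, by rw [← mul_assoc, e, mul_assoc]⟩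
    · refine ⟨a, (G.prodL F _ a)⁻¹ * G.X F q (-t) * G.prodL F _ a * m,
        mul_mem (hconj _ (G.gen_mono (fun v hv => List.mem_append_left _ hv)
          (G.prodL_mem a)) _ (G.X_mem_gen hq _)) hm, by group⟩

/-- The centralizer of `∏ X_r(1)`, `r ∈ R`, is generated by the root subgroups of `SS`. -/
theorem centralizer_roots [CharP F 2] {c : CentCfg} (hc : c.OK D T) :
    D.group F ⊓ Subgroup.centralizer {G.prodL F c.R (fun _ => 1)} = G.gen F c.SS := by
  have hRM : ∀ r ∈ c.R ++ c.M, r < D.nroots := fun r hr => (hc.rng r hr).2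
  set L := c.R ++ c.M with hLdef
  have hL : ∀ a ∈ L, ∀ b ∈ L, ∀ t u : F, G.X F a t * G.X F b u = G.X F b u * G.X F a t :=
    fun a ha b hb t u => G.X_conj_eq_self (hRM a ha) (hRM b hb) (hc.comm a ha b hb) t u
  have hdisj : ∀ r ∈ c.R, r ∉ c.M := fun r h1 h2 => List.disjoint_of_nodup_append hc.nodup h1 h2
  -- products with prescribed coefficients on `R`
  set Z : (ℕ → F) → GL D.Idx F → Prop := fun χ g => ∃ a : ℕ → F, (∀ r ∈ c.R, a r = χ r) ∧
    g = G.prodL F L a with hZ
  have hmulM : ∀ a : ℕ → F, ∀ m ∈ G.gen F c.M, ∀ r ∈ c.R,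
      ∃ a', (G.prodL F L a * m = G.prodL F L a') ∧ a' r = a r ∧ ∀ s ∈ c.R, a' s = a s := by
    intro a m hm r hr
    obtain ⟨b, hb, rfl⟩ := G.gen_eq_prodL hL hc.nodup (fun x hx => List.mem_append_right _ hx) hm
    exact ⟨fun s => a s + b s, G.prodL_add hL a b,
      by simp [hb r (List.mem_append_left _ hr) (hdisj r hr)],
      fun s hs => by simp [hb s (List.mem_append_left _ hs) (hdisj s hs)]⟩
  -- conjugation by a positive root element
  have hstep : ∀ q < D.nroots, npos D ≤ q → ∀ (u : F) (L' : List ℕ), (∀ v ∈ L', v ∈ L) →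
      ∀ a : ℕ → F, ∃ m ∈ G.gen F c.M,
        G.X F q u * G.prodL F L' a * (G.X F q u)⁻¹ = G.prodL F L' a * m := by
    intro q hq hqp u L'
    induction L' with
    | nil => intro _ a; exact ⟨1, one_mem _, by simp [G.prodL_nil]⟩
    | cons v L' ih =>
      intro hsub a
      have hv := hsub v List.mem_cons_self
      obtain ⟨m₁, hm₁, e₁⟩ := G.conj_X_mem hq (hRM v hv)
        (hc.orbit q (List.mem_range'_1.2 ⟨hqp, by have := G.even_n; omega⟩) v hv) u (a v)
      obtain ⟨m₂, hm₂, e₂⟩ := ih (fun x hx => hsub x (List.mem_cons_of_mem _ hx)) a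
      refine ⟨m₁ * m₂, mul_mem hm₁ hm₂, ?_⟩
      have hc' : m₁ * G.prodL F L' a = G.prodL F L' a * m₁ :=
        G.gen_comm hL (G.gen_mono (fun x hx => List.mem_append_right _ hx) hm₁)
          (G.gen_mono (fun x hx => hsub x (List.mem_cons_of_mem _ hx)) (G.prodL_mem a))
      rw [G.prodL_cons]
      calc G.X F q u * (G.X F v (a v) * G.prodL F L' a) * (G.X F q u)⁻¹
          = (G.X F q u * G.X F v (a v) * (G.X F q u)⁻¹) *
            (G.X F q u * G.prodL F L' a * (G.X F q u)⁻¹) := by group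
        _ = G.X F v (a v) * (m₁ * G.prodL F L' a) * m₂ := by rw [e₁, e₂]; group
        _ = _ := by rw [hc']; group
  have horb : ∀ u ∈ D.posUnipotent F, ∀ χ g, Z χ g → Z χ (u * g * u⁻¹) := by
    intro u hu
    induction hu using Subgroup.closure_induction_left with
    | one => intro χ g h; simpa using h
    | mul_left x hx y _ ih =>
      intro χ g h
      obtain ⟨a, ha, e⟩ := ih χ g h
      obtain ⟨q, t, hq, hx⟩ := hx
      obtain ⟨hq, hqp⟩ := G.isPos_iff.1 hq
      obtain rfl := G.eq_X_of_val hx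
      obtain ⟨m, hm, e'⟩ := hstep q hq hqp t L (fun _ h => h) a
      obtain ⟨b, hb, rfl⟩ := G.gen_eq_prodL hL hc.nodup (fun x hx => List.mem_append_right _ hx) hm
      refine ⟨fun s => a s + b s, fun r hr => by
        simp [ha r hr, hb r (List.mem_append_left _ hr) (hdisj r hr)], ?_⟩
      rw [← G.prodL_add hL, ← e', ← e]; group
    | inv_mul_cancel x hx y _ ih =>
      intro χ g h
      obtain ⟨a, ha, e⟩ := ih χ g h
      obtain ⟨q, t, hq, hx⟩ := hx
      obtain ⟨hq, hqp⟩ := G.isPos_iff.1 hq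
      obtain rfl := G.eq_X_of_val hx
      rw [G.X_inv]
      obtain ⟨m, hm, e'⟩ := hstep q hq hqp (-t) L (fun _ h => h) a
      obtain ⟨b, hb, rfl⟩ := G.gen_eq_prodL hL hc.nodup (fun x hx => List.mem_append_right _ hx) hm
      refine ⟨fun s => a s + b s, fun r hr => by
        simp [ha r hr, hb r (List.mem_append_left _ hr) (hdisj r hr)], ?_⟩
      rw [← G.prodL_add hL, ← e', ← e]; group
  -- torus images
  have htor : ∀ h ∈ D.diagonalSubgroup F, ∃ χ : ℕ → F, (∀ s < D.nroots, χ s ≠ 0) ∧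
      (∀ s < D.nroots, ∀ t, h * G.X F s t * h⁻¹ = G.X F s (χ s * t)) ∧
      ∀ a : ℕ → F, h * G.prodL F L a * h⁻¹ = G.prodL F L fun s => χ s * a s := by
    intro h hh
    obtain ⟨c', hc', e⟩ := G.exists_tor hh
    have hχ := G.isChar_tor (F := F) (c := c') fun i _ => hc' i
    refine ⟨_, fun s hs => hχ.ne_zero hs, fun s hs t => G.diag_conj_X e hχ hs t, fun a => ?_⟩
    rw [G.prodL_conj_act (f := id) (fun s hs t => G.diag_conj_X e hχ hs t) L a hRM]
    rfl
  have hz0 : G.prodL F c.R (fun _ => (1 : F)) = G.prodL F L fun r => if r ∈ c.R then 1 else 0 := by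
    rw [hLdef, Good.prodL, Good.prodL, List.map_append, G.wordG_append]
    conv_rhs => rw [show G.wordG (c.M.map fun r => (r, if r ∈ c.R then (1 : F) else 0)) = 1 from
      G.prodL_zero c.M fun r hr => if_neg fun h => hdisj r h hr]
    rw [mul_one]
    congr 1
    exact List.map_congr_left fun r hr => by rw [if_pos hr]
  set z := G.prodL F c.R (fun _ => (1 : F)) with hzdef
  have hS1 : ∀ a : ℕ → F, ∀ s ∈ G.gen F c.SS, s * G.prodL F c.R a = G.prodL F c.R a * s := by
    intro a s hs
    have hle : G.gen F c.SS ≤ Subgroup.centralizer {G.prodL F c.R a} := by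
      refine G.gen_le fun q hq t => ?_
      rw [Subgroup.mem_centralizer_singleton_iff]
      have h1 : G.gen F c.R ≤ Subgroup.centralizer {G.X F q t} := by
        refine G.gen_le fun r hr u => ?_
        rw [Subgroup.mem_centralizer_singleton_iff]
        exact (G.X_conj_eq_self (hc.ssRng q hq) (hRM r (List.mem_append_left _ hr))
          (hc.ssR q hq r hr) t u).symm
      exact (Subgroup.mem_centralizer_singleton_iff.1 (h1 (G.prodL_mem a))).symm
    exact Subgroup.mem_centralizer_singleton_iff.1 (hle hs)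
  refine le_antisymm ?_ (le_inf (G.gen_le fun q hq t => G.X_mem_group (hc.ssRng q hq) t) fun s hs =>
    Subgroup.mem_centralizer_singleton_iff.2 (hS1 _ s hs))
  rintro g ⟨hg, hgz⟩
  replace hgz : g ∈ Subgroup.centralizer {z} := hgz
  rw [Subgroup.mem_centralizer_singleton_iff] at hgz
  obtain ⟨b, hb, n, l, hl, u, hu, rfl⟩ := G.exists_normal_form hg
  obtain ⟨w, hw, d, hd, rfl⟩ := G.mem_borel.1 hb
  have hu' := G.USub_le_pos _ hu
  obtain ⟨a₁, ha₁, e₁⟩ := horb u hu' _ z ⟨_, fun r hr => by rw [if_pos hr], hz0⟩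
  obtain ⟨a₂, ha₂, e₂⟩ := horb w⁻¹ (inv_mem hw) _ z ⟨_, fun r hr => by rw [if_pos hr], hz0⟩
  obtain ⟨χd, hχd, -, hχdL⟩ := htor d⁻¹ (inv_mem hd)
  have hn : n * G.prodL F L a₁ * n⁻¹ = G.prodL F L fun s => χd s * a₂ s := by
    rw [← hχdL a₂, ← e₁, ← e₂]
    have e3 : w * d * n * u * z * (w * d * n * u)⁻¹ = z := by rw [hgz, mul_inv_cancel_right]
    calc n * (u * z * u⁻¹) * n⁻¹
        = d⁻¹ * (w⁻¹ * (w * d * n * u * z * (w * d * n * u)⁻¹) * w) * d := by group
      _ = _ := by rw [e3]; group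
  have hinto : ∀ r ∈ c.R, wl T l r ∈ L := fun r hr =>
    G.act_support hl hc.rng hc.nodup hL hn r (List.mem_append_left _ hr)
      (by rw [ha₁ r hr]; exact one_ne_zero)
  have hfix : ∀ r ∈ c.R, wl T l r = r := by
    intro r hr
    have hrlt := hRM r (List.mem_append_left _ hr)
    rcases hc.rigid r hr _ (hinto r hr) with h | h | ⟨r₂, hr₂, h⟩
    · exact h
    · exact absurd (G.cand_wl hl.1 hrlt) h
    · exfalso
      have hr₂lt := hRM r₂ (List.mem_append_left _ hr₂)
      rcases h _ (hinto r₂ hr₂) with h | h | h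
      · exact h (by rw [pr_eq, pr_eq, G.P_wl hl.1 hrlt hr₂lt])
      · exact h (by rw [pr_eq, pr_eq, G.P_wl hl.1 hr₂lt hrlt])
      · exact h (G.cand_wl hl.1 hr₂lt)
  have hnS := G.mem_of_fix_R hc _ n l hl rfl hfix
  -- collect the moving part on the left
  set S := G.gen F c.SS with hSdef
  set V := G.gen F (c.E.map Prod.fst ++ c.NN) with hVdef
  have hVn : S ⊔ D.diagonalSubgroup F ≤ Subgroup.normalizer (V : Set (GL D.Idx F)) :=
    sup_le (G.gen_le fun q hq t =>
      G.gen_normalized (hc.ssRng q hq) (fun v hv => (hc.vRng v hv).2) (hc.vNorm q hq) t)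
      (G.diag_normalizes_gen _ fun v hv => (hc.vRng v hv).2)
  have hUle : D.posUnipotent F ≤ V ⊔ S := by
    refine G.posUnipotent_le_of fun q hq hqp t => ?_
    rcases hc.posSS q (List.mem_range'_1.2 ⟨hqp, by have := G.even_n; omega⟩) with h | h
    · exact Subgroup.mem_sup_right (G.X_mem_gen h t)
    · exact Subgroup.mem_sup_left (G.X_mem_gen (List.mem_append_left _ h) t)
  have hgK : w * d * n * u ∈ V ⊔ (S ⊔ D.diagonalSubgroup F) := by
    have hU2 : D.posUnipotent F ≤ V ⊔ (S ⊔ D.diagonalSubgroup F) :=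
      hUle.trans (sup_le_sup_left le_sup_left _)
    exact mul_mem (mul_mem (mul_mem (hU2 hw) (Subgroup.mem_sup_right (Subgroup.mem_sup_right hd)))
      (Subgroup.mem_sup_right hnS)) (hU2 hu')
  have hmem : w * d * n * u ∈ ((V ⊔ (S ⊔ D.diagonalSubgroup F) : Subgroup _) : Set (GL D.Idx F)) := hgK
  rw [Subgroup.coe_mul_of_right_le_normalizer_left _ _ hVn] at hmem
  obtain ⟨x, hx, y, hy, hxy⟩ := hmem
  replace hy : y ∈ ((S ⊔ D.diagonalSubgroup F : Subgroup _) : Set (GL D.Idx F)) := hy
  rw [Subgroup.coe_mul_of_right_le_normalizer_left _ _ (G.diag_normalizes_gen _ hc.ssRng)] at hy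
  obtain ⟨s, hs, h, hh, hsh⟩ := hy
  obtain ⟨a, m, hm, hxe⟩ := G.moving_decomp hc hx
  replace hxy : x * y = w * d * n * u := hxy
  replace hsh : s * h = y := hsh
  set e := G.prodL F (c.E.map Prod.fst) a with hedef
  have hge : w * d * n * u = e * (m * s) * h := by rw [← hxy, ← hsh, hxe]; group
  have hms : m * s ∈ S := mul_mem (G.gen_mono hc.nSS hm) hs
  rw [hge] at hgz ⊢
  obtain ⟨χ, hχ0, hχX, hχL⟩ := htor h hh
  have hhz : h * z * h⁻¹ = G.prodL F c.R χ := by
    rw [hzdef, G.prodL_conj_act (f := id) hχX c.R _ fun r hr => hRM r (List.mem_append_left _ hr)]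
    simp [Good.prodL]
  have hfin : e * G.prodL F c.R χ * e⁻¹ = z := by
    have e1 : e * G.prodL F c.R χ * e⁻¹ = e * (m * s) * h * z * (e * (m * s) * h)⁻¹ := by
      have e2 := hS1 χ (m * s) hms
      calc e * G.prodL F c.R χ * e⁻¹ = e * (G.prodL F c.R χ * (m * s)) * (m * s)⁻¹ * e⁻¹ := by group
        _ = _ := by rw [← e2, ← hhz]; group
    rw [e1, hgz, mul_inv_cancel_right]
  have hRL : ∀ χ : ℕ → F, G.prodL F c.R χ = G.prodL F L fun r => if r ∈ c.R then χ r else 0 := by
    intro χ
    rw [hLdef, Good.prodL, Good.prodL, List.map_append, G.wordG_append]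
    conv_rhs => rw [show G.wordG (c.M.map fun r => (r, if r ∈ c.R then χ r else 0)) = 1 from
      G.prodL_zero c.M fun r hr => if_neg fun h => hdisj r h hr]
    rw [mul_one]
    congr 1
    exact List.map_congr_left fun r hr => by rw [if_pos hr]
  have heU : e ∈ D.posUnipotent F :=
    G.gen_le (fun v hv t => G.X_mem_posUnipotent (hc.vRng v (List.mem_append_left _ hv)).2
      (hc.vRng v (List.mem_append_left _ hv)).1 t) (G.prodL_mem a)
  have hχ1 : ∀ r ∈ c.R, χ r = 1 := by
    obtain ⟨a₃, ha₃, e₃⟩ := horb e heU _ _ ⟨_, fun r hr => by rw [if_pos hr], hRL χ⟩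
    rw [hfin, hz0] at e₃
    intro r hr
    have := G.prodL_unique hc.rng hc.nodup hL e₃ r (List.mem_append_left _ hr)
    rw [if_pos hr, ha₃ r hr] at this
    exact this.symm
  rw [G.prodL_congr hχ1, ← hzdef] at hfin
  -- the moving part is trivial
  have hval : ∀ E' : List (ℕ × ℕ), (∀ x ∈ E', x ∈ c.E) → ∀ a : ℕ → F,
      G.prodL F (E'.map Prod.fst) a * z * (G.prodL F (E'.map Prod.fst) a)⁻¹ =
        z * G.wordG (E'.map fun x => (x.2, a x.1)) := by
    intro E'
    induction E' with
    | nil => intro _ a; simp [G.prodL_nil, Good.wordG]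
    | cons x E' ih =>
      intro hsub a
      have hxE := hsub x List.mem_cons_self
      obtain ⟨htM, hne, hterms⟩ := hc.eTgt x hxE
      have hq := hc.vRng x.1 (List.mem_append_left _ (List.mem_map_of_mem hxE))
      have hone : ∀ R' : List ℕ, (∀ r ∈ R', r ∈ c.R) → ∀ u : F,
          G.X F x.1 u * G.prodL F R' (fun _ => 1) * (G.X F x.1 u)⁻¹ = G.prodL F R' (fun _ => 1) *
            G.wordG (((R'.flatMap fun r => (T.terms x.1 r).filter fun y => y.2.1 % 2 != 0).map
              (fun y => (y.1, y.2.2.1))).map fun y => (y.1, u ^ y.2)) := by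
        intro R'
        induction R' with
        | nil => intro _ u; simp [G.prodL_nil, Good.wordG]
        | cons r R' ihR =>
          intro hsR u
          have hrR := hsR r List.mem_cons_self
          have hrlt := hRM r (List.mem_append_left _ hrR)
          have hodd : G.wordG ((T.terms x.1 r).map fun y =>
              (y.1, (y.2.1 : F) * u ^ y.2.2.1 * (1 : F) ^ y.2.2.2)) =
              G.wordG ((((T.terms x.1 r).filter fun y => y.2.1 % 2 != 0).map
                (fun y => (y.1, y.2.2.1))).map fun y => (y.1, u ^ y.2)) := by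
            induction T.terms x.1 r with
            | nil => rfl
            | cons y ys ihy =>
              rw [List.map_cons, G.wordG_cons, ihy, List.filter_cons]
              by_cases hy : y.2.1 % 2 = 0
              · have h0 : (y.2.1 : F) = 0 := by
                  obtain ⟨k, hk⟩ := Int.dvd_of_emod_eq_zero hy
                  rw [hk, Int.cast_mul, show ((2 : ℤ) : F) = ((2 : ℕ) : F) from Int.cast_natCast 2,
                    CharP.cast_eq_zero, zero_mul]
                simp [hy, h0, G.X_zero]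
              · have h1 : (y.2.1 : F) = 1 := by
                  obtain ⟨k, hk⟩ : ∃ k, y.2.1 = 2 * k + 1 := ⟨y.2.1 / 2, by omega⟩
                  rw [hk, Int.cast_add, Int.cast_mul,
                    show ((2 : ℤ) : F) = ((2 : ℕ) : F) from Int.cast_natCast 2, CharP.cast_eq_zero,
                    zero_mul, zero_add, Int.cast_one]
                simp [hy, h1, G.wordG_cons]
          have hmem : G.wordG ((((T.terms x.1 r).filter fun y => y.2.1 % 2 != 0).map
                (fun y => (y.1, y.2.2.1))).map fun y => (y.1, u ^ y.2)) ∈ G.gen F L := by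
            refine G.wordG_mem fun p hp => G.X_mem_gen (List.mem_append_right _ ?_) _
            simp only [List.map_map, List.mem_map, List.mem_filter, Function.comp_apply] at hp
            obtain ⟨y, ⟨hy, hy2⟩, rfl⟩ := hp
            have horbit := hc.orbit x.1 (List.mem_range'_1.2 ⟨hq.1, by have := G.even_n; omega⟩) r
              (List.mem_append_left _ hrR)
            exact ((horbit.resolve_left (hne r hrR).1).2 y hy).resolve_left (by simpa using hy2)
          have hc2 : G.wordG ((((T.terms x.1 r).filter fun y => y.2.1 % 2 != 0).map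
                (fun y => (y.1, y.2.2.1))).map fun y => (y.1, u ^ y.2)) *
              G.prodL F R' (fun _ => 1) = G.prodL F R' (fun _ => 1) *
              G.wordG ((((T.terms x.1 r).filter fun y => y.2.1 % 2 != 0).map
                (fun y => (y.1, y.2.2.1))).map fun y => (y.1, u ^ y.2)) :=
            G.gen_comm hL hmem (G.gen_mono
              (fun y hy => List.mem_append_left _ (hsR y (List.mem_cons_of_mem _ hy))) (G.prodL_mem _))
          have e1 := G.conj_X_word hq.2 hrlt (hne r hrR).1 (hne r hrR).2 u 1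
          rw [hodd] at e1
          rw [G.prodL_cons, List.flatMap_cons, List.map_append, List.map_append, G.wordG_append]
          calc G.X F x.1 u * (G.X F r 1 * G.prodL F R' (fun _ => 1)) * (G.X F x.1 u)⁻¹
              = (G.X F x.1 u * G.X F r 1 * (G.X F x.1 u)⁻¹) *
                (G.X F x.1 u * G.prodL F R' (fun _ => 1) * (G.X F x.1 u)⁻¹) := by group
            _ = _ := by
              rw [e1, ihR (fun y hy => hsR y (List.mem_cons_of_mem _ hy))]
              simp only [mul_assoc]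
              rw [← mul_assoc (G.wordG _), hc2, mul_assoc]
      have hzc := hone c.R (fun _ h => h) (a x.1)
      rw [hterms] at hzc
      simp only [List.map_cons, List.map_nil, pow_one, ← hzdef] at hzc
      have hcm : G.X F x.1 (a x.1) * G.wordG (E'.map fun y => (y.2, a y.1)) =
          G.wordG (E'.map fun y => (y.2, a y.1)) * G.X F x.1 (a x.1) := by
        have hle : G.gen F c.M ≤ Subgroup.centralizer {G.X F x.1 (a x.1)} := by
          refine G.gen_le fun v hv t => Subgroup.mem_centralizer_singleton_iff.2 ?_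
          exact (G.X_conj_eq_self hq.2 (hRM v (List.mem_append_right _ hv)) (hc.eM x hxE v hv) _ t).symm
        refine (Subgroup.mem_centralizer_singleton_iff.1 (hle (G.wordG_mem fun p hp => ?_))).symm
        obtain ⟨y, hy, rfl⟩ := List.mem_map.1 hp
        exact G.X_mem_gen (hc.eTgt y (hsub y (List.mem_cons_of_mem _ hy))).1 _
      rw [List.map_cons, List.map_cons, G.prodL_cons, G.wordG_cons]
      have ih' := ih (fun y hy => hsub y (List.mem_cons_of_mem _ hy)) a
      rw [G.wordG_cons, show G.wordG ([] : List (ℕ × F)) = 1 from rfl, mul_one] at hzc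
      calc G.X F x.1 (a x.1) * G.prodL F (E'.map Prod.fst) a * z *
            (G.X F x.1 (a x.1) * G.prodL F (E'.map Prod.fst) a)⁻¹
          = G.X F x.1 (a x.1) * (G.prodL F (E'.map Prod.fst) a * z *
              (G.prodL F (E'.map Prod.fst) a)⁻¹) * (G.X F x.1 (a x.1))⁻¹ := by group
        _ = G.X F x.1 (a x.1) * z * (G.wordG (E'.map fun y => (y.2, a y.1)) *
              (G.X F x.1 (a x.1))⁻¹) := by rw [ih']; group
        _ = G.X F x.1 (a x.1) * z * (G.X F x.1 (a x.1))⁻¹ *
              G.wordG (E'.map fun y => (y.2, a y.1)) := by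
          have : G.wordG (E'.map fun y => (y.2, a y.1)) * (G.X F x.1 (a x.1))⁻¹ =
              (G.X F x.1 (a x.1))⁻¹ * G.wordG (E'.map fun y => (y.2, a y.1)) :=
            (eq_inv_mul_iff_mul_eq.2 (by rw [← mul_assoc, hcm, mul_inv_cancel_right]))
          rw [this]; group
        _ = _ := by rw [hzc, mul_assoc]
  have hw1 := hval c.E (fun _ h => h) a
  rw [← hedef, hfin] at hw1
  have hw2 : G.prodL F (c.E.map Prod.snd)
      (fun p => a ((c.E.find? fun x => x.2 == p).getD (0, 0)).1) = 1 := by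
    have h1 : G.wordG (c.E.map fun x => (x.2, a x.1)) = 1 := mul_eq_left.1 hw1.symm
    rw [← h1, Good.prodL, List.map_map]
    congr 1
    refine List.map_congr_left fun x hx => ?_
    simp only [Function.comp_apply]
    have : c.E.find? (fun y => y.2 == x.2) = some x := by
      rcases hf : c.E.find? (fun y => y.2 == x.2) with _ | y
      · simpa using List.find?_eq_none.1 hf x hx
      · have h1 := List.find?_some hf
        have h2 := List.mem_of_find?_eq_some hf
        simp only [beq_iff_eq] at h1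
        exact hf.trans (congrArg some (List.inj_on_of_nodup_map hc.eNodup h2 hx h1))
    rw [this]
    rfl
  have hsnd : ∀ p ∈ c.E.map Prod.snd, p ∈ L := fun p hp => by
    obtain ⟨x, hx, rfl⟩ := List.mem_map.1 hp
    exact List.mem_append_right _ (hc.eTgt x hx).1
  have hzero := G.prodL_unique (fun p hp => hc.rng p (hsnd p hp)) hc.eNodup
    (fun p hp q hq => hL p (hsnd p hp) q (hsnd q hq)) (b := fun _ => 0)
    (hw2.trans (G.prodL_zero _ fun _ _ => rfl).symm)
  have hea : e = 1 := by
    refine G.prodL_zero _ fun q hq => ?_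
    obtain ⟨x, hx, rfl⟩ := List.mem_map.1 hq
    have h1 := hzero x.2 (List.mem_map_of_mem hx)
    have : c.E.find? (fun y => y.2 == x.2) = some x := by
      rcases hf : c.E.find? (fun y => y.2 == x.2) with _ | y
      · simpa using List.find?_eq_none.1 hf x hx
      · have h1 := List.find?_some hf
        have h2 := List.mem_of_find?_eq_some hf
        simp only [beq_iff_eq] at h1
        exact hf.trans (congrArg some (List.inj_on_of_nodup_map hc.eNodup h2 hx h1))
    simpa [this] using h1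
  rw [hea, one_mul]
  refine mul_mem hms ?_
  obtain ⟨c₁, rfl⟩ : h ∈ (G.torHom F).range := by rw [G.torHom_range]; exact hh
  have hc1 : ∀ i : Fin D.rank, i.val ∉ c.J → ((c₁ i : Fˣ) : F) = 1 := by
    intro i hi
    obtain ⟨w', -, hwi, hwR, hwA⟩ := (hc.wR i.val (List.mem_range.2 i.isLt)).resolve_left hi
    have hne : ∀ j, extOne D c₁ j ≠ 0 := fun j => extOne_ne_zero c₁ j
    have hone' : ∀ r ∈ c.R, tor D T (extOne D c₁) r = 1 := by
      intro r hr
      have hlt := hRM r (List.mem_append_left _ hr)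
      have e1 := G.diag_conj_X (G.torHom_val c₁) (G.isChar_tor fun j _ => hne j) hlt 1
      have e2 := hχX r hlt 1
      rw [e1, mul_one, mul_one] at e2
      rw [G.X_injective hlt e2]
      exact hχ1 r hr
    have hprod : ∀ l : List (ℕ × ℤ),
        (l.map fun x => tor D T (extOne D c₁) x.1 ^ x.2).prod =
          ∏ j ∈ Finset.range D.rank, extOne D c₁ j ^ (l.map fun x => x.2 * T.A j x.1).sum := by
      intro l
      induction l with
      | nil => simp
      | cons x l ihl =>
        rw [List.map_cons, List.prod_cons, ihl, tor, ← Finset.prod_zpow, ← Finset.prod_mul_distrib]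
        refine Finset.prod_congr rfl fun j _ => ?_
        rw [List.map_cons, List.sum_cons, zpow_add₀ (hne j), mul_comm x.2, zpow_mul]
    have h1 := hprod w'.2
    rw [List.prod_eq_one (fun y hy => by
      obtain ⟨x, hx, rfl⟩ := List.mem_map.1 hy
      rw [hone' x.1 (hwR x hx), one_zpow])] at h1
    rw [Finset.prod_eq_single i.val] at h1
    · rw [hwA i.val (List.mem_range.2 i.isLt), if_pos rfl, zpow_one] at h1
      simpa [extOne] using h1.symm
    · intro j hj hji
      rw [hwA j (List.mem_range.2 (Finset.mem_range.1 hj)), if_neg hji,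
        zpow_zero]
    · intro h; exact absurd (Finset.mem_range.2 i.isLt) h
  suffices hall : c₁ ∈ S.comap (G.torHom F) from hall
  rw [← Finset.univ_prod_mulSingle c₁]
  refine Subgroup.prod_mem _ fun j _ => ?_
  rw [Subgroup.mem_comap, torHom_single G]
  by_cases hj : j.val ∈ c.J
  · have hN : ∀ t : F, G.Ng F (sim D j.val) t ∈ S := fun t =>
      mul_mem (mul_mem (G.X_mem_gen (hc.jSS _ hj).1 _) (G.X_mem_gen (hc.jSS _ hj).2 _))
        (G.X_mem_gen (hc.jSS _ hj).1 _)
    exact mul_mem (hN _) (hN _)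
  · rw [hc1 j hj, show G.Hg F (sim D j.val) (1 : F) = 1 by
      rw [Good.Hg, ← G.Ng_inv, mul_inv_cancel]]
    exact one_mem _

end Good

end Cfsg.Agent.Lib.Chev
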