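import Cfsg.Agent.Lib.Chev.Parabolic
import Cfsg.Agent.Lib.Chev.LieData
import Cfsg.Agent.Lib.LocalEven2.CharPFitting

/-!
The centralizer of a unipotent radical in its parabolic subgroup.
-/

set_option autoImplicit false
set_option linter.unusedSectionVars false

namespace Cfsg.Agent.Lib.Chev

open Cfsg.Lie
open Cfsg.Agent.Lib
open scoped Classical

/-- For two fundamental roots a root involving the first is moved by the second reflection and can be
raised by the second root. -/
def chkLink (D : ChevalleyDatum) (T : Tables) : Bool :=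
  (List.range D.rank).all fun i => (List.range D.rank).all fun j => i == j ||
    (List.range D.nroots).any fun r => decide (npos D ≤ r) && !(T.k i r == 0) &&
      !(T.ch (sim D j) r).isEmpty && !(T.w j r == r)

variable {D : ChevalleyDatum} {T : Tables} {F : Type*} [Field F]

namespace Good

variable (G : Good D T)
include G

theorem posUnipotent_le_normalizer_tail [Finite F] (k : ℕ) :
    D.posUnipotent F ≤ Subgroup.normalizer (G.tailU F k : Set (GL D.Idx F)) := by
  refine G.posUnipotent_le_of fun q hq hpq t => ?_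
  have key : ∀ v : F, ∀ x ∈ G.tailU F k, G.X F q v * x * (G.X F q v)⁻¹ ∈ G.tailU F k := by
    intro v x hx
    have hle : G.tailU F k ≤ (G.tailU F k).comap (MulAut.conj (G.X F q v)).toMonoidHom := by
      refine (Subgroup.closure_le _).2 ?_
      rintro x ⟨j, u, hj, hpj, hkj, rfl⟩
      show G.X F q v * G.X F j u * (G.X F q v)⁻¹ ∈ G.tailU F k
      by_cases hjq : j = q
      · subst hjq
        rw [G.X_inv, G.X_add, G.X_add]
        exact G.X_mem_tail hj hpj hkj _
      · have hne : j ≠ ng D q := by have := G.even_n; unfold ng; omega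
        have h := G.commAt q j hq hj hjq hne (-v) u
        have e : G.X F q v * G.X F j u * (G.X F q v)⁻¹ =
            G.X F j u * G.wordG (Good.cw T q j (-v) u) := by
          rw [mul_assoc, G.X_inv, h, mul_assoc (G.X F q (-v)), ← mul_assoc, G.X_add, add_neg_cancel,
            G.X_zero, one_mul]
        rw [e]
        refine mul_mem (G.X_mem_tail hj hpj hkj u) (G.wordG_mem fun p hp => ?_)
        obtain ⟨⟨i, C, a, b⟩, hc, rfl⟩ := List.mem_map.1 hp
        obtain ⟨hi, h1, h2⟩ := G.terms_gt hq hj hpq hpj hc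
        exact G.X_mem_tail hi (by omega) (by omega) _
    exact hle hx
  refine Subgroup.mem_normalizer_iff.2 fun x => ⟨fun hx => key t x hx, fun hx => ?_⟩
  have := key (-t) _ hx
  rw [← G.X_inv] at this
  simpa [mul_assoc] using this

theorem lead_conj [Finite F] {u : GL D.Idx F} (hu : u ∈ D.posUnipotent F) {r : ℕ}
    (hr : r < D.nroots) (hp : npos D ≤ r) (c : F) :
    (G.X F r c)⁻¹ * (u * G.X F r c * u⁻¹) ∈ G.tailU F (r + 1) := by
  let S : Subgroup (GL D.Idx F) :=
    { carrier := {u | u ∈ D.posUnipotent F ∧ ∀ c : F,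
        (G.X F r c)⁻¹ * (u * G.X F r c * u⁻¹) ∈ G.tailU F (r + 1)}
      one_mem' := ⟨one_mem _, fun c => by simp⟩
      mul_mem' := fun {a b} ha hb => ⟨mul_mem ha.1 hb.1, fun c => by
        have h := mul_mem (ha.2 c)
          ((Subgroup.mem_normalizer_iff.1 (G.posUnipotent_le_normalizer_tail (r + 1) ha.1) _).1
            (hb.2 c))
        have e : (G.X F r c)⁻¹ * (a * G.X F r c * a⁻¹) *
            (a * ((G.X F r c)⁻¹ * (b * G.X F r c * b⁻¹)) * a⁻¹) =
            (G.X F r c)⁻¹ * (a * b * G.X F r c * (a * b)⁻¹) := by group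
        rw [e] at h; exact h⟩
      inv_mem' := fun {a} ha => ⟨inv_mem ha.1, fun c => by
        have h := (Subgroup.mem_normalizer_iff.1
          (G.posUnipotent_le_normalizer_tail (r + 1) (inv_mem ha.1)) _).1 (inv_mem (ha.2 c))
        rw [inv_inv] at h
        have e : a⁻¹ * ((G.X F r c)⁻¹ * (a * G.X F r c * a⁻¹))⁻¹ * a =
            (G.X F r c)⁻¹ * ((G.X F r c) * (a⁻¹ * a * (G.X F r c)⁻¹ * (a⁻¹ * G.X F r c * a))) := by
          group
        rw [e] at h
        simpa [mul_assoc] using h⟩ }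
  suffices h : D.posUnipotent F ≤ S from (h hu).2 c
  refine G.posUnipotent_le_of fun q hq hpq t => ⟨G.X_mem_posUnipotent hq hpq t, fun c => ?_⟩
  by_cases hqr : q = r
  · subst hqr
    rw [G.X_inv, G.X_inv, G.X_add, G.X_add, G.X_add]
    simp [G.X_zero]
  · have hne : q ≠ ng D r := by have := G.even_n; unfold ng; omega
    have h := G.commAt r q hr hq hqr hne c t
    have e : (G.X F r c)⁻¹ * (G.X F q t * G.X F r c * (G.X F q t)⁻¹) =
        G.X F q t * G.wordG (Good.cw T r q c t) * (G.X F q t)⁻¹ := by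
      rw [h]; group
    rw [e]
    refine (Subgroup.mem_normalizer_iff.1 (G.posUnipotent_le_normalizer_tail (r + 1)
      (G.X_mem_posUnipotent hq hpq t)) _).1 (G.wordG_mem fun p hp' => ?_)
    obtain ⟨⟨i, C, a, b⟩, hc, rfl⟩ := List.mem_map.1 hp'
    obtain ⟨hi, h1, h2⟩ := G.terms_gt hr hq hp hpq hc
    exact G.X_mem_tail hi (by omega) (by omega) _

theorem link (hL : chkLink D T = true) (hP : chkPar D T = true) {J : Set ℕ} {i j : ℕ}
    (hi : i < D.rank) (hiJ : i ∉ J) (hj : j < D.rank) (hij : i ≠ j) :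
    ∃ r u, ∃ M : ℤ, r < D.nroots ∧ npos D ≤ r ∧ ¬ D.InRootSub J r ∧ T.w j r ≠ r ∧
      u < D.nroots ∧ npos D ≤ u ∧ ¬ D.InRootSub J u ∧ (T.ch (sim D j) r)[0]? = some (u, M) := by
  simp only [chkLink, List.all_eq_true, List.mem_range, Bool.or_eq_true, beq_iff_eq,
    List.any_eq_true, Bool.and_eq_true, decide_eq_true_eq, Bool.not_eq_true', beq_eq_false_iff_ne,
    List.isEmpty_eq_false_iff] at hL
  obtain ⟨r, hr, ⟨⟨hp, hk⟩, hne⟩, hw⟩ := (hL i hi j hj).resolve_left hij
  obtain ⟨⟨u, M⟩, l, hch⟩ := List.exists_cons_of_ne_nil hne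
  have hget : (T.ch (sim D j) r)[0]? = some (u, M) := by rw [hch]; rfl
  obtain ⟨hu, -, -, hup, -, hku, -⟩ := G.ch_entry (G.sim_lt hj) hr hget
  have hpu : npos D ≤ u := le_of_lt (lt_of_le_of_lt hp (hup (G.sim_pos hj)))
  have hks : T.k i (sim D j) = 0 :=
    ((G.inRootSub_iff hP).1 ((G.sim_inRootSub hP (J := {j}) hj).2 rfl)).2 i hi (by simpa using hij)
  refine ⟨r, u, M, hr, hp, fun h => hk (((G.inRootSub_iff hP).1 h).2 i hi hiJ), hw, hu, hpu,
    fun h => hk ?_, hget⟩
  have := ((G.inRootSub_iff hP).1 h).2 i hi hiJ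
  rw [hku i hi, hks, Nat.cast_zero, zero_add, one_mul, zero_add] at this
  exact this

theorem radical_centralizer_isPGroup [Fintype F] (hP : chkPar D T = true) (hL : chkLink D T = true)
    (p : ℕ) [Fact p.Prime] [CharP F p] {J : Set ℕ} (hJ : ∃ i, i < D.rank ∧ i ∉ J) :
    IsPGroup p ↥(Subgroup.centralizer ((D.unipotentRadical F J).subgroupOf
      (D.parabolicSubgroup F J) : Set ↥(D.parabolicSubgroup F J))) := by
  obtain ⟨i₀, hi₀, hi₀J⟩ := hJ
  set P := D.parabolicSubgroup F J with hPdef
  have hPG : P ≤ D.group F := G.parabolic_le_group hP J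
  have hQmem : ∀ r < D.nroots, npos D ≤ r → ¬ D.InRootSub J r → ∀ t : F,
      G.X F r t ∈ D.unipotentRadical F J := fun r hr hp hout t => by
    rw [G.radical_eq hP]; exact G.X_mem_USub hr hp hout t
  set C := Subgroup.centralizer ((D.unipotentRadical F J).subgroupOf P : Set ↥P) with hC
  have hQn : ∀ b ∈ P, ∀ x ∈ D.unipotentRadical F J, b * x * b⁻¹ ∈ D.unipotentRadical F J :=
    fun b hb x hx => (Subgroup.mem_normalizer_iff.1 (G.parabolic_le_normalizer hP J hb) x).1 hx
  have hcent : ∀ c ∈ C, ∀ x ∈ D.unipotentRadical F J, (c : GL D.Idx F) * x = x * c := by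
    intro c hc x hx
    have hxP : x ∈ P := G.radical_le hP J hx
    exact congrArg Subtype.val (Subgroup.mem_centralizer_iff.1 hc ⟨x, hxP⟩ hx).symm
  -- `C` lies in `B`
  have hCB : ∀ c ∈ C, (c : GL D.Idx F) ∈ D.borelSubgroup F := by
    by_contra hcon
    push Not at hcon
    obtain ⟨c₀, hc₀, hc₀B⟩ := hcon
    have hQsub : ((D.unipotentRadical F J).subgroupOf P).Normal := ⟨fun x hx g => hQn g g.2 x hx⟩
    haveI := hQsub
    haveI : C.Normal := Subgroup.normal_centralizer
    set CB : Subgroup ↥P := C ⊔ (D.borelSubgroup F).subgroupOf P with hCBdef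
    set M : Subgroup ↥(D.group F) := (CB.map P.subtype).subgroupOf (D.group F) with hM
    have hBP : D.borelSubgroup F ≤ P := le_sup_left
    have hBM : (G.bnPair F).B ≤ M := fun b hb =>
      ⟨⟨(b : GL D.Idx F), hBP hb⟩, Subgroup.mem_sup_right hb, rfl⟩
    have hMP : ∀ g ∈ M, (g : GL D.Idx F) ∈ P := by
      rintro g ⟨y, -, hy⟩
      exact (show (g : GL D.Idx F) = (y : GL D.Idx F) from hy.symm) ▸ y.2
    obtain ⟨s, hs, hsM⟩ : ∃ s ∈ (G.bnPair F).S, s ∈ M := by
      by_contra hnone
      push Not at hnone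
      have h := BNPair.eq_parabolic (G.bnPair F) hBM
      rw [show {s ∈ (G.bnPair F).S | s ∈ M} = ∅ from
        Set.eq_empty_iff_forall_notMem.2 fun s hs => hnone s hs.1 hs.2] at h
      have hin : (⟨c₀, hPG c₀.2⟩ : ↥(D.group F)) ∈ M := ⟨c₀, Subgroup.mem_sup_left hc₀, rfl⟩
      rw [h] at hin
      simp only [Cfsg.BNPair.parabolic, Subgroup.closure_empty, sup_bot_eq] at hin
      exact hc₀B hin
    obtain ⟨⟨j, hj⟩, he⟩ := (G.sEquiv F).surjective ⟨s, hs⟩
    have hsν : (s : GL D.Idx F) = G.ni F j := by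
      rw [← G.sEquiv_coe (i := ⟨j, hj⟩), he]
    have hjJ : j ∈ J := by
      by_contra hjJ
      have hn := (G.parabolic_le_normalizer (F := F) hP J (hMP s hsM))
      have h1 := (Subgroup.mem_normalizer_iff.1 hn _).1
        (hQmem _ (G.sim_lt hj) (G.sim_pos hj) (fun h => hjJ ((G.sim_inRootSub hP hj).1 h)) 1)
      rw [hsν] at h1
      rw [G.radical_eq hP] at h1
      exact G.ni_conj_not_borel hj one_ne_zero (Subgroup.mem_sup_left (G.USub_le_pos _ h1))
    obtain ⟨y, hy, hys⟩ := hsM
    have hy' : (y : GL D.Idx F) = G.ni F j := hys.trans hsν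
    obtain ⟨c, hc, b, hb, hcb⟩ := Subgroup.mem_sup_of_normal_left.1 hy
    have hν : G.ni F j = (c : GL D.Idx F) * (b : GL D.Idx F) := by
      rw [← hy', ← hcb]; rfl
    obtain ⟨r, u, M', hr, hp, hout, hwr, -⟩ := G.link hL hP hi₀ hi₀J hj (by rintro rfl; exact hi₀J hjJ)
    obtain ⟨w, hw, d, hd, hbd⟩ := G.mem_borel.1 (hb : (b : GL D.Idx F) ∈ D.borelSubgroup F)
    obtain ⟨c', hc', hdc⟩ := G.exists_tor hd
    have hχ := G.isChar_tor (F := F) (c := c') fun j _ => hc' j
    have h1 : G.X F (T.w j r) ((T.eta j r : F) * 1) =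
        (b : GL D.Idx F) * G.X F r 1 * (b : GL D.Idx F)⁻¹ := by
      rw [← G.ni_conj_X hj hr, hν]
      have h2 := hcent c hc _ (hQn b (b.2) _ (hQmem r hr hp hout 1))
      calc (c : GL D.Idx F) * b * G.X F r 1 * ((c : GL D.Idx F) * b)⁻¹
          = (c : GL D.Idx F) * ((b : GL D.Idx F) * G.X F r 1 * (b : GL D.Idx F)⁻¹) *
              (c : GL D.Idx F)⁻¹ := by group
        _ = _ := by rw [h2, mul_inv_cancel_right]
    have hlead : (G.X F r (tor D T c' r))⁻¹ * G.X F (T.w j r) ((T.eta j r : F) * 1) ∈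
        G.tailU F (r + 1) := by
      rw [h1, show (b : GL D.Idx F) = w * d from hbd]
      have e : w * d * G.X F r 1 * (w * d)⁻¹ = w * (d * G.X F r 1 * d⁻¹) * w⁻¹ := by group
      rw [e, G.diag_conj_X hdc hχ hr, mul_one]
      exact G.lead_conj hw hr hp _
    have hwp : npos D ≤ T.w j r := by
      by_contra hneg
      have hX : G.X F (T.w j r) ((T.eta j r : F) * 1) ∈ D.borelSubgroup F := by
        rw [h1]
        have h5 := hQn b b.2 _ (hQmem r hr hp hout 1)
        rw [G.radical_eq hP J] at h5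
        exact Subgroup.mem_sup_left (G.USub_le_pos _ h5)
      have h3 := Subgroup.mem_bot.1 (G.borel_inf_neg (F := F) ▸ Subgroup.mem_inf.2
        ⟨hX, G.X_mem_negUnipotent (G.w_lt hj hr) (not_le.1 hneg) _⟩)
      rw [G.X_eq_one_iff (G.w_lt hj hr)] at h3
      rcases T.eta_eq_or j r with e | e <;> simp [e] at h3
    rcases lt_or_gt_of_ne hwr with hlt | hgt
    · have h2 : G.X F (T.w j r) ((T.eta j r : F) * 1) ∈ G.tailU F (T.w j r + 1) := by
        have hle : G.tailU F (r + 1) ≤ G.tailU F (T.w j r + 1) := by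
          refine (Subgroup.closure_le _).2 ?_
          rintro x ⟨q, t, hq, hq', hrq, rfl⟩
          exact G.X_mem_tail hq hq' (by omega) t
        have := mul_mem (G.X_mem_tail (F := F) hr hp hlt (tor D T c' r)) (hle hlead)
        rwa [mul_inv_cancel_left] at this
      have h3 := G.X_tail_eq_zero (G.w_lt hj hr) hwp h2
      rcases T.eta_eq_or j r with e | e <;> simp [e] at h3
    · have h2 := mul_mem (G.X_mem_tail (F := F) (G.w_lt hj hr) hwp hgt ((T.eta j r : F) * 1))
        (inv_mem hlead)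
      rw [mul_inv_rev, inv_inv, mul_inv_cancel_left] at h2
      exact hχ.ne_zero hr (G.X_tail_eq_zero hr hp h2)
  -- `C` lies in `U`
  have hCU : C ≤ (D.posUnipotent F).subgroupOf P := by
    intro g hg
    obtain ⟨w, hw, d, hd, e⟩ := G.mem_borel.1 (hCB g hg)
    obtain ⟨c', hc', hdc⟩ := G.exists_tor hd
    have hχ := G.isChar_tor (F := F) (c := c') fun j _ => hc' j
    set χ := tor D T c' with hχdef
    have hout1 : ∀ r < D.nroots, npos D ≤ r → ¬ D.InRootSub J r → χ r = 1 := by
      intro r hr hp hout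
      have h1 : w * G.X F r (χ r) * w⁻¹ = G.X F r 1 := by
        have h2 := hcent g hg _ (hQmem r hr hp hout 1)
        rw [← mul_one (χ r), ← G.diag_conj_X hdc hχ hr]
        calc w * (d * G.X F r 1 * d⁻¹) * w⁻¹
            = (g : GL D.Idx F) * G.X F r 1 * (g : GL D.Idx F)⁻¹ := by rw [e]; group
          _ = _ := by rw [h2, mul_inv_cancel_right]
      have h3 := G.lead_conj hw hr hp (χ r)
      rw [h1, G.X_inv, G.X_add] at h3
      exact (neg_add_eq_zero.1 (G.X_tail_eq_zero hr hp h3))
    have hsim : ∀ j < D.rank, χ (sim D j) = 1 := by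
      intro j hj
      by_cases hjJ : j ∈ J
      · obtain ⟨r, u, M', hr, hp, hout, -, hu, hpu, houtu, hget⟩ :=
          G.link hL hP hi₀ hi₀J hj (by rintro rfl; exact hi₀J hjJ)
        have := hχ.chain (sim D j) r 0 u M' (G.sim_lt hj) hr hget
        rw [hout1 r hr hp hout, hout1 u hu hpu houtu, zero_add, pow_one, mul_one] at this
        exact this.symm
      · exact hout1 _ (G.sim_lt hj) (G.sim_pos hj) fun h => hjJ ((G.sim_inRootSub hP hj).1 h)
    have hd1 : d = 1 := by
      have hle : D.group F ≤ Subgroup.centralizer ({d} : Set (GL D.Idx F)) := by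
        refine G.group_le_of_simple fun j hj t => ?_
        have hs := hsim j hj
        have hn := hχ.neg (sim D j) (G.sim_lt hj)
        rw [hs, mul_one] at hn
        constructor
        · rw [Subgroup.mem_centralizer_singleton_iff]
          have := G.diag_conj_X hdc hχ (G.sim_lt hj) t
          rw [hs, one_mul, mul_inv_eq_iff_eq_mul] at this
          exact this.symm
        · rw [Subgroup.mem_centralizer_singleton_iff]
          have := G.diag_conj_X hdc hχ (G.ng_lt (G.sim_lt hj)) t
          rw [hn, one_mul, mul_inv_eq_iff_eq_mul] at this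
          exact this.symm
      refine G.eq_one_of_conj_mem fun x hx => ?_
      rw [Subgroup.mem_centralizer_singleton_iff.1 (hle hx), mul_inv_cancel_right]
      exact Subgroup.mem_sup_right hd
    show (g : GL D.Idx F) ∈ D.posUnipotent F
    rw [e, hd1, mul_one]; exact hw
  refine IsPGroup.to_le ?_ hCU
  obtain ⟨Q, hQ⟩ := G.exists_sylow (F := F) p
  have hU : IsPGroup p ↥(D.posUnipotent F) :=
    (hQ ▸ Q.isPGroup' : IsPGroup p ((D.posUnipotent F).subgroupOf (D.group F))).of_equiv
      (Subgroup.subgroupOfEquivOfLe ((le_sup_left : _ ≤ D.borelSubgroup F).trans G.borel_le_group))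
  exact hU.comap_of_injective P.subtype P.subtype_injective

theorem genFitting_parabolic_isPGroup [Fintype F] (hP : chkPar D T = true)
    (hL : chkLink D T = true) (p : ℕ) [Fact p.Prime] [CharP F p] {J : Set ℕ}
    (hJ : ∃ i, i < D.rank ∧ i ∉ J) :
    IsPGroup p ↥(Cfsg.generalizedFittingSubgroup ↥(D.parabolicSubgroup F J)) := by
  set P := D.parabolicSubgroup F J with hPdef
  have hQp : IsPGroup p ↥((D.unipotentRadical F J).subgroupOf P) := by
    obtain ⟨Q, hQ⟩ := G.exists_sylow (F := F) p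
    have hU : IsPGroup p ↥(D.posUnipotent F) :=
      (hQ ▸ Q.isPGroup' : IsPGroup p ((D.posUnipotent F).subgroupOf (D.group F))).of_equiv
        (Subgroup.subgroupOfEquivOfLe ((le_sup_left : _ ≤ D.borelSubgroup F).trans G.borel_le_group))
    exact (hU.to_le (by rw [G.radical_eq hP]; exact G.USub_le_pos _)).comap_of_injective _
      P.subtype_injective
  haveI hQn : ((D.unipotentRadical F J).subgroupOf P).Normal :=
    ⟨fun x hx g => (Subgroup.mem_normalizer_iff.1 (G.parabolic_le_normalizer hP J g.2) x).1 hx⟩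
  have hQle : (D.unipotentRadical F J).subgroupOf P ≤ Cfsg.pCore p ↥P := le_sSup ⟨hQn, hQp⟩
  have h : Subgroup.centralizer (Cfsg.pCore p ↥P : Set ↥P) ≤ Cfsg.pCore p ↥P :=
    (Subgroup.centralizer_le hQle).trans
      (le_sSup ⟨Subgroup.normal_centralizer, G.radical_centralizer_isPGroup hP hL p hJ⟩)
  rw [LocalEven2.genFitting_eq_pCore_iff.2 h]
  exact Cores.pCore_isPGroup p _

end Good

theorem linkG2 : chkLink chevG2 tabG2 = true := by decide +kernel
theorem linkB2 : chkLink chevB2 tabB2 = true := by decide +kernel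
theorem linkD4 : chkLink chevD4 tabD4 = true := by decide +kernel
theorem linkF4 : chkLink chevF4 tabF4 = true := by decide +kernel
theorem linkE6 : chkLink chevE6 tabE6 = true := by decide +kernel
theorem linkE7 : chkLink chevE7 tabE7 = true := by decide +kernel
theorem linkE8 : chkLink chevE8 tabE8 = true := by decide +kernel

end Cfsg.Agent.Lib.Chev
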