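import Cfsg.Agent.Lib.Chev.All
import Cfsg.Agent.Lib.Chev.Map

/-!
`reflectRoot` agrees with the recorded reflections, and field automorphisms.
-/

set_option autoImplicit false
set_option maxRecDepth 100000

namespace Cfsg.Agent.Lib.Chev

open Cfsg.Lie

/-- `reflectRoot` computed on the packed tables. -/
def reflT (D : ChevalleyDatum) (T : Tables) (i s : ℕ) : ℕ :=
  let p := sim D i
  let A := T.A i s
  if s = p then ng D p
  else if s = ng D p then p
  else if 0 < A then (T.chRoot (ng D p) s A.toNat).getD s
  else if A < 0 then (T.chRoot p s (-A).toNat).getD s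
  else s

/-- `reflT` agrees with the table. -/
def chkReflT (D : ChevalleyDatum) (T : Tables) : Bool :=
  allLt D.rank fun i => allLt D.nroots fun s => reflT D T i s == T.w i s

theorem reflTG2 : chkReflT chevG2 tabG2 = true := by decide +kernel
theorem reflTB2 : chkReflT chevB2 tabB2 = true := by decide +kernel
theorem reflTD4 : chkReflT chevD4 tabD4 = true := by decide +kernel
theorem reflTF4 : chkReflT chevF4 tabF4 = true := by decide +kernel
theorem reflTE6 : chkReflT chevE6 tabE6 = true := by decide +kernel
theorem reflTE7 : chkReflT chevE7 tabE7 = true := by decide +kernel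
theorem reflTE8 : chkReflT chevE8 tabE8 = true := by decide +kernel

/-- The datum is one of the seven tabulated ones, with its tables. -/
theorem exists_good' {D : ChevalleyDatum}
    (hD : D ∈ [chevG2, chevB2, chevD4, chevF4, chevE6, chevE7, chevE8]) :
    ∃ T, Good D T ∧ chkReflT D T = true := by
  simp only [List.mem_cons, List.not_mem_nil, or_false] at hD
  rcases hD with rfl | rfl | rfl | rfl | rfl | rfl | rfl
  exacts [⟨_, goodG2, reflTG2⟩, ⟨_, goodB2, reflTB2⟩, ⟨_, goodD4, reflTD4⟩, ⟨_, goodF4, reflTF4⟩,
    ⟨_, goodE6, reflTE6⟩, ⟨_, goodE7, reflTE7⟩, ⟨_, goodE8, reflTE8⟩]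

variable {D : ChevalleyDatum} {T : Tables}

theorem Good.reflectRoot_eq (G : Good D T) (h : chkReflT D T = true) {i s : ℕ} (hi : i < D.rank)
    (hs : s < D.nroots) : D.reflectRoot i s = T.w i s := by
  have hp := G.sim_lt hi
  have hpn := G.ng_lt hp
  have key := allLt_eq_true (allLt_eq_true h i hi) s hs
  rw [beq_iff_eq] at key
  rw [← key, ChevalleyDatum.reflectRoot, reflT]
  simp only [G.simple_eq, G.neg_eq hp, G.cartan_eq hi hs]
  have e : ∀ r k, r < D.nroots → D.chainRoot r s k = T.chRoot r s k := fun r k hr => by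
    unfold ChevalleyDatum.chainRoot Tables.chRoot
    rw [G.chainEntry_eq hr hs]
  rw [e _ _ hpn, e _ _ hp]

end Cfsg.Agent.Lib.Chev
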