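import Cfsg.Agent.Lib.Chev.RadicalCent
import Cfsg.Agent.Lib.Chev.TorusCard
import Cfsg.Agent.Lib.Chev.Cov.LiftTorus

/-!
Centralizers of central root elements in characteristic two.
-/

set_option autoImplicit false
set_option linter.unusedSectionVars false

namespace Cfsg.Agent.Lib.Chev

open Cfsg.Lie
open Cfsg.Agent.Lib
open scoped Classical

/-- The root is dominant with one fundamental weight and its root elements commute with those of the
positive roots and of the negatives of the listed fundamental roots in characteristic two. -/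
def chkCentRoot (D : ChevalleyDatum) (T : Tables) (r i₀ : ℕ) (J : List ℕ) : Bool :=
  decide (npos D ≤ r) && decide (r < D.nroots) && decide (i₀ < D.rank) &&
  ((List.range D.nroots).all fun q => q == r || decide (q < npos D) ||
    (T.terms r q).all fun c => c.2.1 % 2 == 0) &&
  (J.all fun j => decide (j < D.rank) && decide (ng D (sim D j) ≠ ng D r) &&
    (T.terms r (ng D (sim D j))).all fun c => c.2.1 % 2 == 0) &&
  ((List.range D.rank).all fun i => if i = i₀ then T.A i r == 1 && !(J.contains i)
    else T.A i r == 0 && J.contains i && T.w i r == r) &&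
  (List.range (npos D)).all fun q => decide (pI D T q r ≤ 0)

variable {D : ChevalleyDatum} {T : Tables} {F : Type*} [Field F]

namespace Good

variable (G : Good D T)
include G

theorem X_comm_of_even [CharP F 2] {r q : ℕ} (hr : r < D.nroots) (hq : q < D.nroots) (hne : q ≠ ng D r)
    (h : q ≠ r → ∀ c ∈ T.terms r q, c.2.1 % 2 = 0) (t u : F) :
    G.X F q u * G.X F r t = G.X F r t * G.X F q u := by
  by_cases hqr : q = r
  · subst hqr; rw [G.X_add, G.X_add, add_comm]
  have e := G.commAt r q hr hq hqr hne t u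
  have hw : G.wordG (Good.cw T r q t u) = 1 := by
    refine List.prod_eq_one fun x hx => ?_
    simp only [Good.cw, List.mem_map] at hx
    obtain ⟨p, ⟨c, hc, rfl⟩, rfl⟩ := hx
    have h0 : (c.2.1 : F) = 0 := by
      obtain ⟨m, hm⟩ := Int.dvd_of_emod_eq_zero (h hqr c hc)
      rw [hm, Int.cast_mul, show ((2 : ℤ) : F) = ((2 : ℕ) : F) from Int.cast_natCast 2,
        CharP.cast_eq_zero, zero_mul]
    show G.X F _ _ = 1
    rw [h0, zero_mul, zero_mul, G.X_zero]
  rwa [hw, mul_one] at e

omit G in
theorem torHom_single (G : Good D T) {j : Fin D.rank} (x : Fˣ) :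
    G.torHom F (Pi.mulSingle j x) = G.Hg F (sim D j.val) (x : F) := by
  refine Units.ext ?_
  rw [G.torHom_val, G.Hg_eq (G.sim_lt j.isLt) x.ne_zero]
  refine dmat_congr fun s _ => ?_
  rw [tor, Finset.prod_eq_single j.val]
  · simp [extOne, G.P_sim j.isLt]
  · intro b _ hb
    by_cases hb' : b < D.rank
    · have : (⟨b, hb'⟩ : Fin D.rank) ≠ j := fun e => hb (congrArg Fin.val e)
      simp [extOne, hb', this]
    · simp [extOne, hb']
  · intro h; exact absurd (Finset.mem_range.2 j.isLt) h

theorem centralizer_root [CharP F 2] (hP : chkPar D T = true) {r i₀ : ℕ} {J : List ℕ}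
    (hchk : chkCentRoot D T r i₀ J = true) :
    D.group F ⊓ Subgroup.centralizer {G.X F r 1} =
      D.posUnipotent F ⊔ Subgroup.closure {g | ∃ j ∈ J, ∃ t : F, g = G.X F (ng D (sim D j)) t} := by
  simp only [chkCentRoot, Bool.and_eq_true, decide_eq_true_eq, List.all_eq_true, List.mem_range,
    Bool.or_eq_true, beq_iff_eq] at hchk
  obtain ⟨⟨⟨⟨⟨⟨hrp, hr⟩, hi₀⟩, hpos⟩, hJ⟩, hdom⟩, hneg⟩ := hchk
  set S := D.posUnipotent F ⊔
    Subgroup.closure {g | ∃ j ∈ J, ∃ t : F, g = G.X F (ng D (sim D j)) t} with hS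
  have hJlt : ∀ j ∈ J, j < D.rank := fun j hj => (hJ j hj).1.1
  have hcentS : S ≤ Subgroup.centralizer {G.X F r 1} := by
    refine sup_le (G.posUnipotent_le_of fun q hq hpq t => ?_) ((Subgroup.closure_le _).2 ?_)
    · rw [Subgroup.mem_centralizer_singleton_iff]
      refine G.X_comm_of_even hr hq (by have := G.even_n; unfold ng; omega) (fun hne c hc => ?_) 1 t
      rcases hpos q hq with (h | h) | h
      · exact absurd h hne
      · omega
      · exact h c hc
    · rintro g ⟨j, hj, t, rfl⟩
      rw [SetLike.mem_coe, Subgroup.mem_centralizer_singleton_iff]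
      exact G.X_comm_of_even hr (G.ng_lt (G.sim_lt (hJlt j hj))) (hJ j hj).1.2 (fun _ => (hJ j hj).2) 1 t
  have hXS : ∀ j ∈ J, ∀ t, G.X F (sim D j) t ∈ S ∧ G.X F (ng D (sim D j)) t ∈ S := fun j hj t =>
    ⟨Subgroup.mem_sup_left (G.X_mem_posUnipotent (G.sim_lt (hJlt j hj)) (G.sim_pos (hJlt j hj)) t),
      Subgroup.mem_sup_right (Subgroup.subset_closure ⟨j, hj, t, rfl⟩)⟩
  have hNS : ∀ j ∈ J, ∀ t, G.Ng F (sim D j) t ∈ S := fun j hj t =>
    mul_mem (mul_mem (hXS j hj t).1 (hXS j hj _).2) (hXS j hj t).1
  have hSG : S ≤ D.group F := by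
    refine sup_le ((le_sup_left : _ ≤ D.borelSubgroup F).trans G.borel_le_group)
      ((Subgroup.closure_le _).2 ?_)
    rintro g ⟨j, hj, t, rfl⟩
    exact G.X_mem_group (G.ng_lt (G.sim_lt (hJlt j hj))) t
  -- a monomial element fixing the root
  have hmono : ∀ (k : ℕ) (n : GL D.Idx F) (l : List ℕ), G.Rep F n l → (invSet D T l).card = k →
      wl T l r = r → n ∈ S ⊔ D.diagonalSubgroup F := by
    intro k
    induction k using Nat.strong_induction_on with
    | _ k ih =>
      intro n l hl hk hfix
      by_cases hall : ∀ i < D.rank, npos D ≤ wl T l (sim D i)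
      · have h1 := G.nl_mem_diag_of_pos (F := F) _ rfl hl.1 hall
        have h2 := mul_mem hl.2 h1
        rw [inv_mul_cancel_right] at h2
        exact Subgroup.mem_sup_right h2
      push Not at hall
      obtain ⟨i, hi, hni⟩ := hall
      have hPw : ∀ l', IsW D l' → ∀ a b, a < D.nroots → b < D.nroots →
          P D T (wl T l' a) (wl T l' b) = P D T a b := by
        intro l'
        induction l' with
        | nil => intros; rfl
        | cons c l' ih' =>
          intro hl' a b ha hb
          have hc : c < D.rank := hl' c List.mem_cons_self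
          have hl'' : IsW D l' := fun x hx => hl' x (List.mem_cons_of_mem _ hx)
          show P D T (T.w c (wl T l' a)) (T.w c (wl T l' b)) = _
          rw [G.P_w hc (G.wl_lt hl'' ha) (G.wl_lt hl'' hb), ih' hl'' a b ha hb]
      have hne : i ≠ i₀ := by
        intro e
        have h1 := hneg _ hni
        rw [pI, isum_eq, show (∑ j ∈ Finset.range D.rank, T.c (wl T l (sim D i)) j * T.A j r) =
          P D T (wl T l (sim D i)) r from rfl] at h1
        conv at h1 => lhs; arg 4; rw [← hfix]
        rw [hPw l hl.1 _ _ (G.sim_lt hi) hr, G.P_sim hi] at h1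
        have h2 := hdom i hi
        rw [if_pos e] at h2
        simp only [Bool.and_eq_true, beq_iff_eq] at h2
        omega
      have h2 := hdom i hi
      rw [if_neg hne] at h2
      simp only [Bool.and_eq_true, beq_iff_eq, List.contains_iff_mem] at h2
      obtain ⟨⟨-, hiJ⟩, hwi⟩ := h2
      have hl' : G.Rep F (n * G.ni F i) (l ++ [i]) := G.rep_mul hl (G.rep_ni hi)
      have hcard : (invSet D T (l ++ [i])).card < k := by
        have hpos' : npos D ≤ wl T (l ++ [i]) (sim D i) := by
          rw [wl_append]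
          show npos D ≤ wl T l (T.w i (sim D i))
          rw [G.w_sim hi, G.wl_ng hl.1 (G.sim_lt hi)]
          exact (G.ng_pos_iff (G.wl_lt hl.1 (G.sim_lt hi))).2 hni
        have h3 := G.inv_succ hl'.1 hi hpos'
        have e : invSet D T (l ++ [i] ++ [i]) = invSet D T l := by
          ext s
          rw [mem_invSet, mem_invSet, wl_append, wl_append]
          refine and_congr_right fun hs => ?_
          show _ ∧ wl T l (T.w i (T.w i s)) < _ ↔ _
          rw [G.w_w hi hs]
        rw [e] at h3
        omega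
      have hfix' : wl T (l ++ [i]) r = r := by
        rw [wl_append]
        show wl T l (T.w i r) = r
        rw [hwi, hfix]
      have h := ih _ hcard _ _ hl' rfl hfix'
      have h4 := mul_mem h (inv_mem (Subgroup.mem_sup_left
        (T := D.diagonalSubgroup F) (hNS i hiJ 1)))
      rwa [show G.Ng F (sim D i) 1 = G.ni F i from rfl, mul_inv_cancel_right] at h4
  refine le_antisymm ?_ (le_inf hSG hcentS)
  rintro g ⟨hg, hgc⟩
  replace hgc : g ∈ Subgroup.centralizer {G.X F r 1} := hgc
  rw [Subgroup.mem_centralizer_singleton_iff] at hgc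
  obtain ⟨b, hb, n, l, hl, u, hu, rfl⟩ := G.exists_normal_form hg
  obtain ⟨w, hw, d, hd, rfl⟩ := G.mem_borel.1 hb
  have hwc := Subgroup.mem_centralizer_singleton_iff.1 (hcentS (Subgroup.mem_sup_left hw))
  have huc := Subgroup.mem_centralizer_singleton_iff.1
    (hcentS (Subgroup.mem_sup_left (G.USub_le_pos _ hu)))
  have h1 : d * n * G.X F r 1 * (d * n)⁻¹ = G.X F r 1 := by
    have e : d * n = w⁻¹ * (w * d * n * u) * u⁻¹ := by group
    have hc : d * n ∈ Subgroup.centralizer {G.X F r 1} := by
      rw [e]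
      exact mul_mem (mul_mem (inv_mem (Subgroup.mem_centralizer_singleton_iff.2 hwc))
        (Subgroup.mem_centralizer_singleton_iff.2 hgc)) (inv_mem (Subgroup.mem_centralizer_singleton_iff.2 huc))
    rw [Subgroup.mem_centralizer_singleton_iff.1 hc, mul_inv_cancel_right]
  obtain ⟨hlt, c, hc, hcn⟩ := G.rep_act hl r hr
  obtain ⟨c', hc', hdc⟩ := G.exists_tor hd
  have hχ := G.isChar_tor (F := F) (c := c') fun j _ => hc' j
  have hfix : wl T l r = r := by
    have e : d * n * G.X F r 1 * (d * n)⁻¹ = d * (n * G.X F r 1 * n⁻¹) * d⁻¹ := by group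
    rw [e, hcn, G.diag_conj_X hdc hχ hlt] at h1
    exact G.X_root_inj hlt hr (mul_ne_zero (hχ.ne_zero hlt) (by simpa using hc)) h1
  have hn := hmono _ n l hl rfl hfix
  have hgS : w * d * n * u ∈ S ⊔ D.diagonalSubgroup F :=
    mul_mem (mul_mem (mul_mem (Subgroup.mem_sup_left (Subgroup.mem_sup_left hw))
      (Subgroup.mem_sup_right hd)) hn) (Subgroup.mem_sup_left (Subgroup.mem_sup_left (G.USub_le_pos _ hu)))
  have hnorm : D.diagonalSubgroup F ≤ Subgroup.normalizer (S : Set (GL D.Idx F)) := by
    intro h hh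
    have key : ∀ h ∈ D.diagonalSubgroup F, ∀ x ∈ S, h * x * h⁻¹ ∈ S := by
      intro h hh x hx
      have hle : S ≤ S.comap (MulAut.conj h).toMonoidHom := by
        refine sup_le (fun x hx => Subgroup.mem_sup_left
          ((Subgroup.mem_normalizer_iff.1 (G.diag_normalizes_pos hh) x).1 hx)) ((Subgroup.closure_le _).2 ?_)
        rintro g ⟨j, hj, t, rfl⟩
        obtain ⟨-, a, -, ha⟩ := G.act_diag hh _ (G.ng_lt (G.sim_lt (hJlt j hj)))
        show h * G.X F (ng D (sim D j)) t * h⁻¹ ∈ S
        rw [ha]
        exact (hXS j hj _).2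
      exact hle hx
    refine Subgroup.mem_normalizer_iff.2 fun x => ⟨key h hh x, fun hx => ?_⟩
    have := key _ (inv_mem hh) _ hx
    simpa [mul_assoc] using this
  have hmem : w * d * n * u ∈ ((S ⊔ D.diagonalSubgroup F : Subgroup _) : Set (GL D.Idx F)) := hgS
  rw [Subgroup.coe_mul_of_right_le_normalizer_left _ _ hnorm] at hmem
  obtain ⟨s, hs, h, hh, he⟩ := hmem
  replace he : s * h = w * d * n * u := he
  rw [← he]
  refine mul_mem hs ?_
  have hhc : h * G.X F r 1 = G.X F r 1 * h := by
    refine Subgroup.mem_centralizer_singleton_iff.1 ?_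
    rw [show h = s⁻¹ * (w * d * n * u) by rw [← he]; group]
    exact mul_mem (inv_mem (hcentS hs)) (Subgroup.mem_centralizer_singleton_iff.2 hgc)
  obtain ⟨c₁, rfl⟩ : h ∈ (G.torHom F).range := by rw [G.torHom_range]; exact hh
  have hc1 : ((c₁ ⟨i₀, hi₀⟩ : Fˣ) : F) = 1 := by
    have h2 := G.diag_conj_X (G.torHom_val c₁) (G.isChar_tor fun j _ => extOne_ne_zero c₁ j) hr 1
    rw [hhc, mul_inv_cancel_right, mul_one] at h2
    have h3 := G.X_injective hr h2
    rw [tor, Finset.prod_eq_single i₀] at h3
    · have := hdom i₀ hi₀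
      rw [if_pos rfl] at this
      simp only [Bool.and_eq_true, beq_iff_eq] at this
      rw [this.1, zpow_one] at h3
      simpa [extOne, hi₀] using h3.symm
    · intro b hb hne
      have := hdom b (Finset.mem_range.1 hb)
      rw [if_neg hne] at this
      simp only [Bool.and_eq_true, beq_iff_eq] at this
      rw [this.1.1, zpow_zero]
    · intro h; exact absurd (Finset.mem_range.2 hi₀) h
  suffices hall : c₁ ∈ S.comap (G.torHom F) from hall
  rw [← Finset.univ_prod_mulSingle c₁]
  refine Subgroup.prod_mem _ fun j _ => ?_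
  rw [Subgroup.mem_comap, torHom_single G]
  by_cases hj : j.val = i₀
  · have : j = ⟨i₀, hi₀⟩ := Fin.ext hj
    rw [this, hc1, show G.Hg F (sim D i₀) (1 : F) = 1 by rw [Good.Hg, ← G.Ng_inv, mul_inv_cancel]]
    exact one_mem _
  · have := hdom j.val j.isLt
    rw [if_neg hj] at this
    simp only [Bool.and_eq_true, List.contains_iff_mem] at this
    exact mul_mem (hNS _ this.1.2 _) (hNS _ this.1.2 _)

end Good

end Cfsg.Agent.Lib.Chev
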