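import Cfsg.Agent.Lib.Chev.Facts

/-!
The root elements `x_r(t)` of a checked datum, column by column.
-/

set_option autoImplicit false

namespace Cfsg.Agent.Lib.Chev

open Cfsg.Lie
open scoped Matrix

variable {D : ChevalleyDatum} {T : Tables} {F : Type*} [Field F]

/-- Code of a coordinate: root vectors by their index, coroots after them. -/
def cd (D : ChevalleyDatum) : D.Idx → ℕ := Sum.elim (fun i => D.nroots + i.val) (fun r => r.val)

/-- The basis vector with a given code (zero if the code is out of range). -/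
def bas (D : ChevalleyDatum) (F : Type*) [Field F] (a : ℕ) : D.Idx → F :=
  fun x => if cd D x = a then 1 else 0

theorem bas_inl (i : Fin D.rank) : bas D F (D.nroots + i.val) = Pi.single (Sum.inl i) 1 := by
  funext x
  rcases x with j | r
  · by_cases h : j = i
    · subst h; simp [bas, cd]
    · have : j.val ≠ i.val := fun h' => h (Fin.ext h')
      simp [bas, cd, h, this]
  · have := r.isLt
    simp [bas, cd, show r.val ≠ D.nroots + i.val by omega]

theorem bas_inr (r : Fin D.nroots) : bas D F r.val = Pi.single (Sum.inr r) 1 := by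
  funext x
  rcases x with j | s
  · simp [bas, cd, show D.nroots + j.val ≠ r.val by omega]
  · by_cases h : s = r
    · subst h; simp [bas, cd]
    · have : s.val ≠ r.val := fun h' => h (Fin.ext h')
      simp [bas, cd, h, this]

theorem bas_eq_zero {a : ℕ} (h : D.nroots + D.rank ≤ a) : bas D F a = 0 := by
  funext x
  rcases x with j | r
  · have := j.isLt
    simp [bas, cd, show D.nroots + j.val ≠ a by omega]
  · have := r.isLt
    simp [bas, cd, show r.val ≠ a by omega]

/-- A matrix is determined by the images of the basis vectors. -/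
theorem ext_bas {M N : Matrix D.Idx D.Idx F}
    (h : ∀ a < D.nroots + D.rank, M *ᵥ bas D F a = N *ᵥ bas D F a) : M = N := by
  refine Matrix.ext_of_mulVec_single fun x => ?_
  rcases x with i | r
  · have := h (D.nroots + i.val) (by have := i.isLt; omega)
    rwa [bas_inl] at this
  · have := h r.val (by have := r.isLt; omega)
    rwa [bas_inr] at this

theorem code_cases (D : ChevalleyDatum) {a : ℕ} (ha : a < D.nroots + D.rank) :
    (∃ i < D.rank, a = D.nroots + i) ∨ a < D.nroots := by
  rcases Nat.lt_or_ge a D.nroots with h | h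
  · exact Or.inr h
  · exact Or.inl ⟨a - D.nroots, by omega, by omega⟩

/-- The coroot vector `h_r`. -/
def hvec (D : ChevalleyDatum) (T : Tables) (F : Type*) [Field F] (r : ℕ) : D.Idx → F :=
  ∑ i ∈ Finset.range D.rank, (T.c r i : F) • bas D F (D.nroots + i)

/-- The tail of `x_r(t) e_s` along a chain. -/
def chVec (D : ChevalleyDatum) (F : Type*) [Field F] (t : F) (l : List ((ℕ × ℤ) × ℕ)) : D.Idx → F :=
  (l.map fun q => ((q.1.2 : F) * t ^ (q.2 + 1)) • bas D F q.1.1).sum

/-- A sparse integral vector. -/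
def vecOf (D : ChevalleyDatum) (F : Type*) [Field F] (v : List (ℕ × ℤ)) : D.Idx → F :=
  (v.map fun p => (p.2 : F) • bas D F p.1).sum

theorem hvec_inl (T : Tables) (r : ℕ) (i : Fin D.rank) :
    hvec D T F r (Sum.inl i) = (T.c r i.val : F) := by
  simp [hvec, Finset.sum_apply, bas, cd, i.isLt]

theorem hvec_inr (T : Tables) (r : ℕ) (u : Fin D.nroots) : hvec D T F r (Sum.inr u) = 0 := by
  simp only [hvec, Finset.sum_apply, Pi.smul_apply]
  refine Finset.sum_eq_zero fun j hj => ?_
  have h : cd D (Sum.inr u) ≠ D.nroots + j := by have := u.isLt; simp [cd]; omega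
  simp [bas, h]

namespace Good

variable (G : Good D T)
include G

theorem x_eq {r : ℕ} (hr : r < D.nroots) (t : F) : D.x F r t = D.xMat F ⟨r, hr⟩ t := by
  simp [ChevalleyDatum.x, hr]

theorem x_bas_h {r i : ℕ} (hr : r < D.nroots) (hi : i < D.rank) (t : F) :
    D.x F r t *ᵥ bas D F (D.nroots + i) =
      bas D F (D.nroots + i) + (-(T.A i r : F) * t) • bas D F r := by
  have hb := bas_inl (F := F) (⟨i, hi⟩ : Fin D.rank)
  have hcart := G.cartan_eq hi hr
  simp [ChevalleyDatum.cartan] at hcart
  rw [hb, Matrix.mulVec_single_one, G.x_eq hr]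
  funext x
  rcases x with j | u
  · have := j.isLt
    by_cases h : j = ⟨i, hi⟩
    · subst h
      simp [ChevalleyDatum.xMat, bas, cd, show D.nroots + i ≠ r by omega]
    · simp [ChevalleyDatum.xMat, bas, cd, h, show D.nroots + j.val ≠ r by omega]
  · by_cases h : u = ⟨r, hr⟩
    · subst h
      simp [ChevalleyDatum.xMat, bas, cd, hcart]
    · have : u.val ≠ r := fun h' => h (Fin.ext h')
      simp [ChevalleyDatum.xMat, bas, cd, h, this]

theorem x_bas_self {r : ℕ} (hr : r < D.nroots) (t : F) :
    D.x F r t *ᵥ bas D F r = bas D F r := by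
  have hb := bas_inr (F := F) (⟨r, hr⟩ : Fin D.nroots)
  simp only at hb
  rw [hb, Matrix.mulVec_single_one, G.x_eq hr]
  funext x
  rcases x with j | u
  · simp [ChevalleyDatum.xMat]
  · by_cases h : u = ⟨r, hr⟩ <;> simp [ChevalleyDatum.xMat, h]

theorem x_bas_ng {r : ℕ} (hr : r < D.nroots) (t : F) :
    D.x F r t *ᵥ bas D F (ng D r) =
      bas D F (ng D r) + t • hvec D T F r + (-(t ^ 2)) • bas D F r := by
  have hn := G.ng_lt hr
  have hb := bas_inr (F := F) (⟨ng D r, hn⟩ : Fin D.nroots)
  simp only at hb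
  rw [hb, Matrix.mulVec_single_one, G.x_eq hr]
  have hne : (⟨ng D r, hn⟩ : Fin D.nroots) ≠ ⟨r, hr⟩ := fun h => G.ng_ne hr (Fin.mk.inj h)
  funext x
  rcases x with j | u
  · have := j.isLt
    have hco := G.coroot_eq hr j.isLt
    simp at hco
    simp [ChevalleyDatum.xMat, hne, G.negIdx_getD hr, hvec_inl, bas, cd,
      show D.nroots + j.val ≠ r by omega, hco, mul_comm]
  · by_cases h : u = ⟨ng D r, hn⟩
    · subst h
      simp [ChevalleyDatum.xMat, hne, G.negIdx_getD hr, hvec_inr, bas, cd, G.ng_ne hr]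
    · by_cases h' : u = ⟨r, hr⟩
      · subst h'
        simp [ChevalleyDatum.xMat, hne, hne.symm, G.negIdx_getD hr, hvec_inr, bas, cd]
      · have : u.val ≠ r := fun e => h' (Fin.ext e)
        simp [ChevalleyDatum.xMat, hne, G.negIdx_getD hr, hvec_inr, bas, cd, h, h', this]

theorem x_bas_other {r s : ℕ} (hr : r < D.nroots) (hs : s < D.nroots) (h1 : s ≠ r)
    (h2 : s ≠ ng D r) (t : F) :
    D.x F r t *ᵥ bas D F s = bas D F s + chVec D F t (T.ch r s).zipIdx := by
  have hb := bas_inr (F := F) (⟨s, hs⟩ : Fin D.nroots)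
  simp only at hb
  rw [hb, Matrix.mulVec_single_one, G.x_eq hr]
  have key : ∀ (l : List ((ℕ × ℤ) × ℕ)) (x : D.Idx), chVec D F t l x =
      ((l.filter fun q => q.1.1 = cd D x).map fun q => (q.1.2 : F) * t ^ (q.2 + 1)).sum := by
    intro l x
    induction l with
    | nil => simp [chVec]
    | cons q l ih =>
      simp only [chVec, List.map_cons, List.sum_cons, Pi.add_apply] at ih ⊢
      rw [ih]
      by_cases hq : q.1.1 = cd D x
      · rw [List.filter_cons_of_pos (by simpa using hq)]
        simp [bas, hq]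
      · rw [List.filter_cons_of_neg (by simpa using hq)]
        simp [bas, Ne.symm hq]
  funext x
  rw [Pi.add_apply, key]
  rcases x with j | u
  · have hnil : (T.ch r s).zipIdx.filter (fun q => q.1.1 = cd D (Sum.inl j)) = [] := by
      simp only [cd, Sum.elim_inl]
      refine List.filter_eq_nil_iff.2 fun q hq => ?_
      obtain ⟨⟨u, M⟩, m⟩ := q
      have := (G.ch_entry hr hs (List.mk_mem_zipIdx_iff_getElem?.1 hq)).1
      have hne : u ≠ D.nroots + j.val := by omega
      simp [hne]
    rw [hnil]
    simp [ChevalleyDatum.xMat, h1, G.negIdx_getD hr, h2]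
  · rw [Matrix.col_apply]
    simp only [ChevalleyDatum.xMat, Matrix.of_apply]
    rw [if_neg (fun h => h1 (Fin.mk.inj h)), if_neg (by rw [G.negIdx_getD hr]; exact h2)]
    rw [G.chainCoeff_eq _ hr hs, List.map_map]
    congr 1
    by_cases h : u = ⟨s, hs⟩ <;> simp [h]

theorem x_bas_big {r a : ℕ} (hr : r < D.nroots) (ha : D.nroots + D.rank ≤ a) (t : F) :
    D.x F r t *ᵥ bas D F a = 0 := by
  rw [bas_eq_zero ha, Matrix.mulVec_zero]

theorem pairing_self {r : ℕ} (hr : r < D.nroots) :
    ∑ i ∈ Finset.range D.rank, T.c r i * T.A i r = 2 := by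
  have inv : ∀ {i r : ℕ}, i < D.rank → r < D.nroots →
      ∑ j ∈ Finset.range D.rank, T.c (T.w i r) j * T.A j (T.w i r) =
        ∑ j ∈ Finset.range D.rank, T.c r j * T.A j r := by
    intro i r hi hr
    rw [Finset.sum_congr rfl (fun j hj => by
      rw [G.c_w hi hr (Finset.mem_range.1 hj), G.A_w hi hr (Finset.mem_range.1 hj)])]
    simp only [sub_mul, mul_sub, ite_mul, zero_mul, Finset.sum_sub_distrib]
    rw [Finset.sum_ite_eq', Finset.sum_ite_eq', if_pos (Finset.mem_range.2 hi),
      if_pos (Finset.mem_range.2 hi), G.A_sim hi]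
    have : ∑ x ∈ Finset.range D.rank, T.c r x * (T.A i r * T.A x (sim D i)) =
        T.A i r * ∑ x ∈ Finset.range D.rank, T.c r x * T.A x (sim D i) := by
      rw [Finset.mul_sum]; exact Finset.sum_congr rfl fun x _ => by ring
    rw [this]
    ring
  have hpos : ∀ r, r < D.nroots → npos D ≤ r →
      ∑ j ∈ Finset.range D.rank, T.c r j * T.A j r = 2 := by
    intro r
    induction r using Nat.strong_induction_on with
    | _ r ih =>
      intro hr hp
      by_cases h : ∃ i < D.rank, r = sim D i
      · obtain ⟨i, hi, rfl⟩ := h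
        rw [Finset.sum_congr rfl (fun j hj => by rw [G.c_sim hi (Finset.mem_range.1 hj)])]
        simp [hi, G.A_sim hi]
      · push Not at h
        obtain ⟨i, hi, hp', hlt⟩ := G.exists_lower hr hp h
        rw [← inv hi hr]
        exact ih _ hlt (G.w_lt hi hr) hp'
  by_cases hp : npos D ≤ r
  · exact hpos r hr hp
  · have h := hpos _ (G.ng_lt hr) ((G.ng_pos_iff hr).2 (by omega))
    rw [← h]
    refine Finset.sum_congr rfl fun j hj => ?_
    rw [G.c_ng hr (Finset.mem_range.1 hj), G.A_ng hr (Finset.mem_range.1 hj)]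
    ring

theorem x_hvec {r q : ℕ} (hq : q < D.nroots) (t : F) :
    D.x F q t *ᵥ hvec D T F r = hvec D T F r +
      (-((∑ i ∈ Finset.range D.rank, T.c r i * T.A i q : ℤ) : F) * t) • bas D F q := by
  simp only [hvec, Matrix.mulVec_sum, Matrix.mulVec_smul]
  rw [Finset.sum_congr rfl (fun i hi => by rw [G.x_bas_h hq (Finset.mem_range.1 hi), smul_add,
    smul_smul]), Finset.sum_add_distrib, ← Finset.sum_smul]
  congr 2
  rw [Int.cast_sum, neg_mul, Finset.sum_mul, ← Finset.sum_neg_distrib]
  refine Finset.sum_congr rfl fun i _ => ?_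
  push_cast
  ring

theorem x_zero {r : ℕ} (hr : r < D.nroots) : D.x F r (0 : F) = 1 := by
  refine ext_bas fun a ha => ?_
  rw [Matrix.one_mulVec]
  rcases code_cases D ha with ⟨i, hi, rfl⟩ | ha
  · simp [G.x_bas_h hr hi]
  · by_cases h1 : a = r
    · subst h1; exact G.x_bas_self ha _
    by_cases h2 : a = ng D r
    · subst h2; simp [G.x_bas_ng hr]
    · rw [G.x_bas_other hr ha h1 h2]
      have : chVec D F 0 (T.ch r a).zipIdx = 0 := by
        unfold chVec
        refine List.sum_eq_zero fun x hx => ?_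
        obtain ⟨q, -, rfl⟩ := List.mem_map.1 hx
        simp
      rw [this, add_zero]

/-- `x_r(t₁) x_r(t₂) = x_r(t₁ + t₂)`. -/
theorem x_add {r : ℕ} (hr : r < D.nroots) (t₁ t₂ : F) :
    D.x F r t₁ * D.x F r t₂ = D.x F r (t₁ + t₂) := by
  refine ext_bas fun a ha => ?_
  rw [← Matrix.mulVec_mulVec]
  rcases code_cases D ha with ⟨i, hi, rfl⟩ | ha
  · simp only [G.x_bas_h hr hi, Matrix.mulVec_add, Matrix.mulVec_smul, G.x_bas_self hr]
    module
  · by_cases h1 : a = r
    · subst h1; simp only [G.x_bas_self ha]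
    by_cases h2 : a = ng D r
    · subst h2
      simp only [G.x_bas_ng hr, Matrix.mulVec_add, Matrix.mulVec_smul, G.x_bas_self hr,
        G.x_hvec hr, G.pairing_self hr]
      push_cast
      module
    · rw [G.x_bas_other hr ha h1 h2, G.x_bas_other hr ha h1 h2, Matrix.mulVec_add,
        G.x_bas_other hr ha h1 h2]
      have hlen := G.ch_length_le hr ha
      match hl : T.ch r a, hlen with
      | [], _ => simp [chVec]
      | [(u, M)], _ =>
        obtain ⟨hu, hur, hung, -, -, -, hul, -⟩ :=
          G.ch_entry (m := 0) (u := u) (M := M) hr ha (by rw [hl]; rfl)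
        have h0 : T.ch r u = [] := List.length_eq_zero_iff.1 (by rw [hl] at hul; simp at hul; exact List.length_eq_zero_iff.2 hul)
        simp [chVec, List.zipIdx_cons, Matrix.mulVec_smul, G.x_bas_other hr hu hur hung, h0]
        module
      | [(u, M), (v, N)], _ =>
        obtain ⟨hu, hur, hung, -, -, -, hul, hub⟩ :=
          G.ch_entry (m := 0) (u := u) (M := M) hr ha (by rw [hl]; rfl)
        obtain ⟨hv, hvr, hvng, -, -, -, hvl, -⟩ :=
          G.ch_entry (m := 1) (u := v) (M := N) hr ha (by rw [hl]; rfl)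
        rw [hl] at hul hvl hub
        have hv0 : T.ch r v = [] := List.length_eq_zero_iff.1 (by simp at hvl; simp [hvl])
        obtain ⟨⟨u', M'⟩, hu'⟩ := List.length_eq_one_iff.1 (show (T.ch r u).length = 1 by simp at hul; omega)
        obtain ⟨M'', hM1, hM2⟩ := hub 0 u' M' (by rw [hu']; rfl)
        simp at hM1
        obtain ⟨rfl, rfl⟩ := hM1
        have h2 : ((M' : F) * (M : F)) = 2 * (N : F) := by
          have := congrArg (Int.cast : ℤ → F) hM2
          push_cast at this
          simpa using this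
        simp [chVec, List.zipIdx_cons, Matrix.mulVec_smul, Matrix.mulVec_add,
          G.x_bas_other hr hu hur hung, G.x_bas_other hr hv hvr hvng, hv0, hu']
        match_scalars <;> first
          | ring1
          | linear_combination (t₁ * t₂) * h2
          | linear_combination -(t₁ * t₂) * h2
      | [(u, M), (v, N), (z, P)], _ =>
        obtain ⟨hu, hur, hung, -, -, -, hul, hub⟩ :=
          G.ch_entry (m := 0) (u := u) (M := M) hr ha (by rw [hl]; rfl)
        obtain ⟨hv, hvr, hvng, -, -, -, hvl, hvb⟩ :=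
          G.ch_entry (m := 1) (u := v) (M := N) hr ha (by rw [hl]; rfl)
        obtain ⟨hz, hzr, hzng, -, -, -, hzl, -⟩ :=
          G.ch_entry (m := 2) (u := z) (M := P) hr ha (by rw [hl]; rfl)
        rw [hl] at hul hvl hzl hub hvb
        have hz0 : T.ch r z = [] := List.length_eq_zero_iff.1 (by simp at hzl; simp [hzl])
        obtain ⟨⟨v', N'⟩, hv'⟩ := List.length_eq_one_iff.1 (show (T.ch r v).length = 1 by simp at hvl; omega)
        obtain ⟨⟨u1, M1⟩, ⟨u2, M2⟩, hu'⟩ := List.length_eq_two.1 (show (T.ch r u).length = 2 by simp at hul; omega)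
        obtain ⟨Q, hQ1, hQ2⟩ := hvb 0 v' N' (by rw [hv']; rfl)
        obtain ⟨R, hR1, hR2⟩ := hub 0 u1 M1 (by rw [hu']; rfl)
        obtain ⟨S, hS1, hS2⟩ := hub 1 u2 M2 (by rw [hu']; rfl)
        simp at hQ1 hR1 hS1
        obtain ⟨rfl, rfl⟩ := hQ1
        obtain ⟨rfl, rfl⟩ := hR1
        obtain ⟨rfl, rfl⟩ := hS1
        have e1 : ((M1 : F) * (M : F)) = 2 * (N : F) := by
          have := congrArg (Int.cast : ℤ → F) hR2
          push_cast at this
          simpa using this
        have e2 : ((M2 : F) * (M : F)) = 3 * (P : F) := by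
          have := congrArg (Int.cast : ℤ → F) hS2
          push_cast [show Nat.choose 3 1 = 3 from rfl] at this
          simpa using this
        have e3 : ((N' : F) * (N : F)) = 3 * (P : F) := by
          have := congrArg (Int.cast : ℤ → F) hQ2
          push_cast [show Nat.choose 3 2 = 3 from rfl] at this
          simpa using this
        simp [chVec, List.zipIdx_cons, Matrix.mulVec_smul, Matrix.mulVec_add,
          G.x_bas_other hr hu hur hung, G.x_bas_other hr hv hvr hvng,
          G.x_bas_other hr hz hzr hzng, hz0, hu', hv']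
        match_scalars <;> first
          | ring1
          | linear_combination (t₁ * t₂) * e1
          | linear_combination -(t₁ * t₂) * e1
          | linear_combination (t₁ ^ 2 * t₂) * e2 + (t₁ * t₂ ^ 2) * e3
          | linear_combination -(t₁ ^ 2 * t₂) * e2 - (t₁ * t₂ ^ 2) * e3

theorem exists_c_ne_zero {r : ℕ} (hr : r < D.nroots) :
    ∃ i < D.rank, (T.c r i : F) ≠ 0 := by
  have hpos : ∀ r, r < D.nroots → npos D ≤ r → ∃ i < D.rank, (T.c r i : F) ≠ 0 := by
    intro r
    induction r using Nat.strong_induction_on with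
    | _ r ih =>
      intro hr hp
      by_cases h : ∃ i < D.rank, r = sim D i
      · obtain ⟨i, hi, rfl⟩ := h
        exact ⟨i, hi, by simp [G.c_sim hi hi]⟩
      · push Not at h
        obtain ⟨i, hi, hp', hlt⟩ := G.exists_lower hr hp h
        obtain ⟨j, hj, hne⟩ := ih _ hlt (G.w_lt hi hr) hp'
        by_contra hcon
        push Not at hcon
        apply hne
        rw [G.c_w hi hr hj]
        split
        · push_cast
          rw [hcon j hj, Finset.sum_eq_zero (fun m hm => by rw [hcon m (Finset.mem_range.1 hm)]; simp)]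
          simp
        · simp [hcon j hj]
  by_cases hp : npos D ≤ r
  · exact hpos r hr hp
  · obtain ⟨i, hi, h⟩ := hpos _ (G.ng_lt hr) ((G.ng_pos_iff hr).2 (by omega))
    exact ⟨i, hi, by rw [G.c_ng hr hi] at h; simpa using h⟩

/-- `x_r(t) = 1` only for `t = 0`. -/
theorem x_eq_one_iff {r : ℕ} (hr : r < D.nroots) (t : F) : D.x F r t = 1 ↔ t = 0 := by
  refine ⟨fun h => ?_, fun h => h ▸ G.x_zero hr⟩
  obtain ⟨i, hi, hc⟩ := G.exists_c_ne_zero (F := F) hr
  have h1 := G.x_bas_ng hr t
  rw [h, Matrix.one_mulVec] at h1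
  have h2 := congrFun h1 (Sum.inl ⟨i, hi⟩)
  have e1 : bas D F r (Sum.inl ⟨i, hi⟩) = 0 := by
    simp [bas, cd, show D.nroots + i ≠ r by omega]
  simp [hvec_inl, e1, hc] at h2
  exact h2

end Good

end Cfsg.Agent.Lib.Chev
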