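import Cfsg.Agent.Lib.Chev.RootsCent
import Cfsg.Agent.Lib.Chev.All

/-!
The centraliser data for the involutions of `G₂` and `F₄` in characteristic two.
-/

set_option autoImplicit false
set_option maxRecDepth 100000

namespace Cfsg.Agent.Lib.Chev

open Cfsg.Lie

/-- `x₁₁(1)` in `G₂`. -/
def cfgG2z : CentCfg where
  R := [11]
  M := []
  E := []
  J := [0]
  SS := [6, 7, 8, 9, 10, 11, 4]
  NN := []
  W := [(1, [(11, 1)])]
  dom := [(11, 1)]

/-- `x₉(1)` in `G₂`. -/
def cfgG2t : CentCfg where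
  R := [9]
  M := [10, 11]
  E := [(7, 10), (8, 11)]
  J := [1]
  SS := [9, 10, 11, 6, 5]
  NN := [9, 10, 11]
  W := [(0, [(9, 1)])]
  dom := [(9, 1)]

/-- `x₄₇(1) x₄₄(1)` in `F₄`. -/
def cfgF4w : CentCfg where
  R := [47, 44]
  M := []
  E := []
  J := [1, 2]
  SS := List.range' 24 24 ++ [20, 22]
  NN := []
  W := [(0, [(44, 1)]), (3, [(47, 1)])]
  dom := [(47, 1), (44, 1)]

/-- `x₃₉(1) x₄₅(1)` in `F₄`. -/
def cfgF4v : CentCfg where
  R := [39, 45]
  M := [40, 44, 46, 47]
  E := [(27, 40), (34, 44), (25, 46), (26, 47)]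
  J := [0, 3]
  SS := (List.range' 24 24).filter (fun r => !([27, 25, 34, 26].contains r)) ++ [14, 23]
  NN := (List.range' 24 24).filter (fun r => !([27, 25, 34, 26, 33, 24].contains r))
  W := [(1, [(39, 1), (45, 1)]), (2, [(39, 2), (45, 1)])]
  dom := [(39, 3), (45, 2)]

theorem okG2z : cfgG2z.OK chevG2 tabG2 := by
  constructor <;> decide +kernel

theorem okG2t : cfgG2t.OK chevG2 tabG2 := by
  constructor <;> decide +kernel

theorem okF4w : cfgF4w.OK chevF4 tabF4 := by
  constructor <;> decide +kernel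

theorem okF4v : cfgF4v.OK chevF4 tabF4 := by
  constructor <;> decide +kernel

end Cfsg.Agent.Lib.Chev
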