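import Cfsg.Agent.Lib.Chev.StBasic

/-!
Conjugation of the generators of Steinberg's presented group by the elements `n̄_r(t)`.
-/

set_option autoImplicit false

namespace Cfsg.Agent.Lib.Chev

open Cfsg.Lie
open scoped Matrix

variable {D : ChevalleyDatum} {T : Tables} {K : Type*} [Field K]

/-- Every node has a neighbour. -/
def chkAdj (D : ChevalleyDatum) (T : Tables) : Bool :=
  allLt D.rank fun i => anyLt D.rank fun j => decide (j ≠ i) && decide (T.A j (sim D i) ≠ 0)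

/-- The roots on one side of the hyperplane pair `±r`, `r` being sent to the simple root `i`. -/
def sideSet (D : ChevalleyDatum) (T : Tables) (l : List ℕ) (i : ℕ) (P : Prop) : Set ℕ :=
  {q | wl T l q ≠ sim D i ∧ wl T l q ≠ ng D (sim D i) ∧ (npos D ≤ wl T l q ↔ P)}

/-- The subgroup generated by the generators on one side. -/
def sideU (D : ChevalleyDatum) (T : Tables) (K : Type*) [Field K] (l : List ℕ) (i : ℕ) (P : Prop) :
    Subgroup (D.SteinbergGroup K) :=
  Subgroup.closure {g | ∃ q t, q < D.nroots ∧ q ∈ sideSet D T l i P ∧ g = xb D K q t}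

/-- An element moves generators to generators. -/
def Mv (D : ChevalleyDatum) (K : Type*) [Field K] (g : D.SteinbergGroup K) : Prop :=
  ∀ s < D.nroots, ∀ u : K, ∃ q < D.nroots, ∃ c : K, g * xb D K s u * g⁻¹ = xb D K q c

theorem mv_one : Mv D K 1 := fun s hs u => ⟨s, hs, u, by group⟩

theorem mv_mul {g g' : D.SteinbergGroup K} (h : Mv D K g) (h' : Mv D K g') : Mv D K (g * g') := by
  intro s hs u
  obtain ⟨q', hq', c', e'⟩ := h' s hs u
  obtain ⟨q, hq, c, e⟩ := h q' hq' c'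
  exact ⟨q, hq, c, by rw [← e, ← e']; group⟩

namespace Good

variable (G : Good D T)
include G

theorem mv_eq {g : D.SteinbergGroup K} (h : Mv D K g) {s q : ℕ} (hs : s < D.nroots)
    (hq : q < D.nroots) {u c : K}
    (e : G.th K g * G.X K s u * (G.th K g)⁻¹ = G.X K q c) :
    g * xb D K s u * g⁻¹ = xb D K q c := by
  obtain ⟨q', hq', c', e'⟩ := h s hs u
  have e2 := congrArg (G.th K) e'
  rw [map_mul, map_mul, map_inv, G.th_xb hs, G.th_xb hq', e] at e2
  rw [e']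
  exact (G.xb_eq_of_X_eq hq hq' e2).symm

/-! ### Representatives of the reflections -/

theorem sameSide_term {l : List ℕ} (hl : IsW D l) {x q k a b : ℕ} {C : ℤ} (hx : x < D.nroots)
    (hq : q < D.nroots) (h : (k, C, a, b) ∈ T.terms x q)
    (hxq : npos D ≤ wl T l x ↔ npos D ≤ wl T l q) :
    k < D.nroots ∧ (npos D ≤ wl T l k ↔ npos D ≤ wl T l x) ∧ wl T l k ≠ wl T l x ∧
      wl T l k ≠ ng D (wl T l x) := by
  obtain ⟨hk, ha, hb, e⟩ := G.code_wl_term hl hx hq h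
  have hn : code D T (ng D (wl T l x)) = - code D T (wl T l x) := G.code_ng (G.wl_lt hl hx)
  refine ⟨hk, ?_⟩
  by_cases hp : npos D ≤ wl T l x
  · have h1 := G.code_pos (G.wl_lt hl hx) hp
    have h2 := G.code_pos (G.wl_lt hl hq) (hxq.1 hp)
    have h3 : code D T (wl T l x) < code D T (wl T l k) := by rw [e]; nlinarith
    refine ⟨iff_of_true (G.pos_of_code_pos (G.wl_lt hl hk) (by linarith)) hp, ?_, ?_⟩
    · intro he; rw [he] at h3; exact lt_irrefl _ h3
    · intro he; rw [he, hn] at h3; linarith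
  · have h1 := G.code_neg (G.wl_lt hl hx) (by omega)
    have h2 := G.code_neg (G.wl_lt hl hq) (Nat.lt_of_not_le fun h' => hp (hxq.2 h'))
    have h3 : code D T (wl T l k) < code D T (wl T l x) := by rw [e]; nlinarith
    refine ⟨iff_of_false (fun h' => ?_) hp, ?_, ?_⟩
    · have := G.code_pos (G.wl_lt hl hk) h'; linarith
    · intro he; rw [he] at h3; exact lt_irrefl _ h3
    · intro he; rw [he, hn] at h3; linarith

theorem side_w {l : List ℕ} (hl : IsW D l) {i q : ℕ} (hi : i < D.rank) (hq : q < D.nroots)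
    (h1 : wl T l q ≠ sim D i) (h2 : wl T l q ≠ ng D (sim D i)) :
    T.w i (wl T l q) ≠ sim D i ∧ T.w i (wl T l q) ≠ ng D (sim D i) ∧
      (npos D ≤ T.w i (wl T l q) ↔ npos D ≤ wl T l q) := by
  have hlt := G.wl_lt hl hq
  refine ⟨fun e => h2 ?_, fun e => h1 ?_, (G.pos_w hi hlt h1 h2).symm⟩
  · rw [← G.w_w hi hlt, e, G.w_sim hi]
  · rw [← G.w_w hi hlt, e, G.w_ng hi (G.sim_lt hi), G.w_sim hi, G.ng_ng (G.sim_lt hi)]

theorem term_mem_side {l : List ℕ} (hl : IsW D l) {i : ℕ} (hi : i < D.rank) {P : Prop}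
    {x q k a b : ℕ} {C : ℤ} (hx : x < D.nroots) (hq : q < D.nroots)
    (hxi : wl T l x = sim D i ∨ wl T l x = ng D (sim D i)) (hqS : q ∈ sideSet D T l i P)
    (h : (k, C, a, b) ∈ T.terms x q) : k < D.nroots ∧ k ∈ sideSet D T l i P := by
  obtain ⟨q1, q2, q3⟩ := hqS
  have hsn : ¬ npos D ≤ ng D (sim D i) := fun h' =>
    absurd ((G.ng_pos_iff (G.sim_lt hi)).1 h') (not_lt.2 (G.sim_pos hi))
  by_cases hs : npos D ≤ wl T l x ↔ npos D ≤ wl T l q
  · obtain ⟨hk, k1, k2, k3⟩ := G.sameSide_term hl hx hq h hs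
    refine ⟨hk, ?_, ?_, (k1.trans hs).trans q3⟩
    · rcases hxi with e | e <;> rw [e] at k2 k3
      · exact k2
      · rw [G.ng_ng (G.sim_lt hi)] at k3; exact k3
    · rcases hxi with e | e <;> rw [e] at k2 k3
      · exact k3
      · exact k2
  · have hl' : IsW D (i :: l) := (isW_single hi).append hl
    obtain ⟨w1, w2, w3⟩ := G.side_w hl hi hq q1 q2
    have hwx : (wl T (i :: l) x = ng D (sim D i) ∧ wl T l x = sim D i) ∨
        (wl T (i :: l) x = sim D i ∧ wl T l x = ng D (sim D i)) := by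
      rcases hxi with e | e
      · exact Or.inl ⟨by simp [wl, e, G.w_sim hi], e⟩
      · exact Or.inr ⟨by simp [wl, e, G.w_ng hi (G.sim_lt hi), G.w_sim hi, G.ng_ng (G.sim_lt hi)], e⟩
    have hside : npos D ≤ wl T (i :: l) x ↔ npos D ≤ wl T (i :: l) q := by
      rcases hwx with ⟨e1, e2⟩ | ⟨e1, e2⟩
      · rw [e2] at hs
        refine iff_of_false (e1 ▸ hsn) fun h' => hs ?_
        exact iff_of_true (G.sim_pos hi) (w3.1 h')
      · rw [e2] at hs
        refine iff_of_true (e1 ▸ G.sim_pos hi) ?_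
        by_contra h'
        exact hs (iff_of_false hsn fun h'' => h' (w3.2 h''))
    obtain ⟨hk, k1, k2, k3⟩ := G.sameSide_term hl' hx hq h hside
    have k1' : wl T (i :: l) k ≠ sim D i ∧ wl T (i :: l) k ≠ ng D (sim D i) := by
      rcases hwx with ⟨e, -⟩ | ⟨e, -⟩ <;> rw [e] at k2 k3
      · rw [G.ng_ng (G.sim_lt hi)] at k3; exact ⟨k3, k2⟩
      · exact ⟨k2, k3⟩
    have e3 : wl T l k = T.w i (wl T (i :: l) k) := by
      show _ = T.w i (T.w i (wl T l k))
      rw [G.w_w hi (G.wl_lt hl hk)]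
    obtain ⟨u1, u2, u3⟩ := G.side_w hl' hi hk k1'.1 k1'.2
    refine ⟨hk, ?_⟩
    show wl T l k ≠ _ ∧ wl T l k ≠ _ ∧ (npos D ≤ wl T l k ↔ P)
    rw [e3]
    refine ⟨u1, u2, u3.trans ((k1.trans hside).trans ?_)⟩
    exact w3.trans q3

theorem sideU_conj_X {l : List ℕ} (hl : IsW D l) {i : ℕ} (hi : i < D.rank) {P : Prop} {x : ℕ}
    (hx : x < D.nroots) (hxi : wl T l x = sim D i ∨ wl T l x = ng D (sim D i)) (t : K)
    {g : D.SteinbergGroup K} (hg : g ∈ sideU D T K l i P) :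
    xb D K x t * g * (xb D K x t)⁻¹ ∈ sideU D T K l i P := by
  have h : sideU D T K l i P ≤
      (sideU D T K l i P).comap (MulAut.conj (xb D K x t)).toMonoidHom := by
    refine (Subgroup.closure_le _).2 ?_
    rintro g ⟨q, u, hq, hqS, rfl⟩
    show xb D K x t * xb D K q u * (xb D K x t)⁻¹ ∈ sideU D T K l i P
    have h1 : q ≠ x := fun e => by
      subst e; rcases hxi with e | e
      · exact hqS.1 e
      · exact hqS.2.1 e
    have h2 : q ≠ D.neg x := fun e => by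
      rw [G.neg_eq hx] at e; subst e
      rcases hxi with e | e
      · exact hqS.2.1 (by rw [G.wl_ng hl hx, e])
      · exact hqS.1 (by rw [G.wl_ng hl hx, e, G.ng_ng (G.sim_lt hi)])
    have e : xb D K x t * xb D K q u * (xb D K x t)⁻¹ =
        (xb D K x (-t))⁻¹ * (xb D K q u * xb D K x (-t)) := by
      rw [xb_inv hx, xb_inv hx, neg_neg, mul_assoc]
    rw [e, xb_comm hx hq h1 h2, mul_assoc (xb D K x (-t)), inv_mul_cancel_left]
    refine mul_mem (Subgroup.subset_closure ⟨q, u, hq, hqS, rfl⟩) (list_prod_mem fun y hy => ?_)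
    obtain ⟨p, hp, rfl⟩ := List.mem_map.1 hy
    rw [G.commWord_eq hx hq] at hp
    obtain ⟨⟨k, C, a, b⟩, hc, rfl⟩ := List.mem_map.1 hp
    obtain ⟨hk, hkS⟩ := G.term_mem_side hl hi hx hq hxi hqS hc
    exact Subgroup.subset_closure ⟨k, _, hk, hkS, rfl⟩
  exact h hg

theorem sideU_inj {l : List ℕ} (hl : IsW D l) {i : ℕ} {P : Prop} {g g' : D.SteinbergGroup K}
    (hg : g ∈ sideU D T K l i P) (hg' : g' ∈ sideU D T K l i P) (h : G.th K g = G.th K g') :
    g = g' := by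
  by_cases hP : P
  · have hle : sideU D T K l i P ≤ frameU D T K l (npos D) := by
      refine Subgroup.closure_mono ?_
      rintro g ⟨q, t, hq, ⟨-, -, hp⟩, rfl⟩
      exact ⟨q, t, hq, hp.2 hP, hp.2 hP, rfl⟩
    exact G.frame_inj hl (hle hg) (hle hg') h
  · obtain ⟨l0, hl0, -, h0⟩ := G.exists_longest
    have hle : sideU D T K l i P ≤ frameU D T K (l0 ++ l) (npos D) := by
      refine Subgroup.closure_mono ?_
      rintro g ⟨q, t, hq, ⟨-, -, hp⟩, rfl⟩
      have : npos D ≤ wl T (l0 ++ l) q := by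
        rw [wl_append]
        exact h0 _ (G.wl_lt hl hq) (Nat.lt_of_not_le fun h' => hP (hp.1 h'))
      exact ⟨q, t, hq, this, this, rfl⟩
    exact G.frame_inj (hl0.append hl) (hle hg) (hle hg') h

theorem exists_frame : ∀ r < D.nroots, ∃ l, IsW D l ∧ ∃ i < D.rank, wl T l r = sim D i := by
  refine G.root_induction (C := fun r => ∃ l, IsW D l ∧ ∃ i < D.rank, wl T l r = sim D i) ?_ ?_
  · exact fun i hi => ⟨[], isW_nil, i, hi, rfl⟩
  · rintro j r hj hr ⟨l, hl, i, hi, e⟩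
    refine ⟨l ++ [j], hl.append (isW_single hj), i, hi, ?_⟩
    rw [wl_append]
    simp only [wl]
    rw [G.w_w hj hr, e]

theorem rep_nl_inv : ∀ {l : List ℕ}, IsW D l → G.Rep K (G.nl K l)⁻¹ l.reverse
  | [], _ => by
    rw [nl_nil, inv_one]
    exact G.rep_diag (one_mem _)
  | i :: l, hl => by
    rw [nl_cons, mul_inv_rev, List.reverse_cons]
    exact G.rep_mul (rep_nl_inv hl.tail.2) (G.rep_ni_inv hl.tail.1)

theorem rep_Ng {l : List ℕ} (hl : IsW D l) {r i : ℕ} (hr : r < D.nroots) (hi : i < D.rank)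
    (he : wl T l r = sim D i) {t : K} (ht : t ≠ 0) :
    G.Rep K (G.Ng K r t) (l.reverse ++ [i] ++ l) := by
  have het : (el T l r : K) * t ≠ 0 := by
    rcases el_eq_or (T := T) l r with h | h <;> simp [h, ht]
  have h1 : G.Rep K (G.Ng K (sim D i) ((el T l r : K) * t)) [i] := by
    rw [G.Ng_sim_eq hi]
    exact G.rep_mul (G.rep_diag (G.Hg_mem (G.sim_lt hi) het)) (G.rep_ni hi)
  have h2 := G.rep_mul (G.rep_mul (G.rep_nl_inv (K := K) hl) h1) (G.rep_nl hl)
  have e : (G.nl K l)⁻¹ * G.Ng K (sim D i) ((el T l r : K) * t) * G.nl K l = G.Ng K r t := by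
    have := G.nl_conj_Ng (F := K) hl hr t
    rw [he] at this
    rw [← this]; group
  rwa [e] at h2

theorem rep_conj_pm {g : GL D.Idx K} {l : List ℕ} (h : G.Rep K g l) {a : ℕ} (ha : a < D.nroots) :
    ∃ c : K, c ≠ 0 ∧ (∀ t, g * G.X K a t * g⁻¹ = G.X K (wl T l a) (c * t)) ∧
      ∀ t, g * G.X K (ng D a) t * g⁻¹ = G.X K (ng D (wl T l a)) (c⁻¹ * t) := by
  obtain ⟨c, hc, hd⟩ := G.exists_tor h.2
  have hch := G.isChar_tor (c := c) fun i _ => hc i
  have hwa := G.wl_lt h.1 ha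
  have eg : g = g * (G.nl K l)⁻¹ * G.nl K l := by group
  have key : ∀ x, x < D.nroots → ∀ t, g * G.X K x t * g⁻¹ =
      G.X K (wl T l x) (tor D T c (wl T l x) * (el T l x : K) * t) := by
    intro x hx t
    have e : g * G.X K x t * g⁻¹ = (g * (G.nl K l)⁻¹) *
        (G.nl K l * G.X K x t * (G.nl K l)⁻¹) * (g * (G.nl K l)⁻¹)⁻¹ := by group
    rw [e, G.nl_conj_X h.1 hx, G.diag_conj_X hd hch (G.wl_lt h.1 hx), mul_assoc]
  refine ⟨tor D T c (wl T l a) * (el T l a : K), ?_, key a ha, fun t => ?_⟩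
  · refine mul_ne_zero (hch.ne_zero hwa) ?_
    rcases el_eq_or (T := T) l a with e | e <;> simp [e]
  · rw [key _ (G.ng_lt ha), G.wl_ng h.1 ha, G.el_ng h.1 ha]
    congr 2
    rw [mul_inv, eq_inv_of_mul_eq_one_left (hch.neg _ hwa)]
    rcases el_eq_or (T := T) l a with e | e <;> simp [e]

theorem Ng_wl {l : List ℕ} (hl : IsW D l) {r i q : ℕ} (hi : i < D.rank) (hq : q < D.nroots)
    (he : wl T l r = sim D i) :
    wl T (l.reverse ++ [i] ++ l) q < D.nroots ∧
      wl T l (wl T (l.reverse ++ [i] ++ l) q) = T.w i (wl T l q) := by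
  have h : wl T (l.reverse ++ [i] ++ l) q = wl T l.reverse (T.w i (wl T l q)) := by
    rw [wl_append, wl_append]; rfl
  have hlt := G.w_lt hi (G.wl_lt hl hq)
  rw [h]
  exact ⟨G.wl_lt hl.reverse hlt, G.wl_wl_reverse hl hlt⟩

theorem nb_conj_of_ne {l : List ℕ} (hl : IsW D l) {r i s : ℕ} (hr : r < D.nroots) (hi : i < D.rank)
    (he : wl T l r = sim D i) (hs : s < D.nroots) (h1 : wl T l s ≠ sim D i)
    (h2 : wl T l s ≠ ng D (sim D i)) {t : K} (ht : t ≠ 0) (u : K) :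
    ∃ c : K, nb D K r t * xb D K s u * (nb D K r t)⁻¹ =
      xb D K (wl T (l.reverse ++ [i] ++ l) s) c := by
  obtain ⟨hf, c, -, hc⟩ := G.rep_act (G.rep_Ng hl hr hi he ht) s hs
  refine ⟨c * u, ?_⟩
  set P : Prop := npos D ≤ wl T l s
  obtain ⟨-, hw⟩ := G.Ng_wl hl hi hs he
  have hsS : s ∈ sideSet D T l i P := ⟨h1, h2, Iff.rfl⟩
  have hwS : wl T (l.reverse ++ [i] ++ l) s ∈ sideSet D T l i P := by
    show _ ∧ _ ∧ _
    rw [hw]
    exact G.side_w hl hi hs h1 h2
  have hsU : xb D K s u ∈ sideU D T K l i P := Subgroup.subset_closure ⟨s, u, hs, hsS, rfl⟩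
  have hng : wl T l (ng D r) = ng D (sim D i) := by rw [G.wl_ng hl hr, he]
  refine G.sideU_inj hl (i := i) (P := P) ?_ (Subgroup.subset_closure ⟨_, _, hf, hwS, rfl⟩) ?_
  · have a1 := G.sideU_conj_X hl hi hr (Or.inl he) t hsU
    have a2 := G.sideU_conj_X hl hi (G.ng_lt hr) (Or.inr hng) (-t⁻¹) a1
    have a3 := G.sideU_conj_X hl hi hr (Or.inl he) t a2
    rw [G.nb_eq hr]
    simpa only [mul_inv_rev, mul_assoc] using a3
  · rw [map_mul, map_mul, map_inv, G.th_nb hr, G.th_xb hs, G.th_xb hf]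
    exact hc u

theorem mv_nb (ha : chkAdj D T = true) {r : ℕ} (hr : r < D.nroots) {t : K} (ht : t ≠ 0) :
    Mv D K (nb D K r t) := by
  intro s hs u
  obtain ⟨l, hl, i, hi, he⟩ := G.exists_frame r hr
  by_cases h : wl T l s = sim D i ∨ wl T l s = ng D (sim D i)
  swap
  · push Not at h
    obtain ⟨c, hc⟩ := G.nb_conj_of_ne hl hr hi he hs h.1 h.2 ht u
    exact ⟨_, (G.Ng_wl hl hi hs he).1, c, hc⟩
  obtain ⟨j, hj, hij⟩ := anyLt_eq_true (allLt_eq_true ha i hi)
  simp only [Bool.and_eq_true, decide_eq_true_eq] at hij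
  obtain ⟨hji, hA⟩ := hij
  have hsi := G.sim_lt hi
  have hsj := G.sim_lt hj
  have hwi := G.w_lt hj hsi
  -- the image of `α_i` under the reflection of the neighbour
  have k1 : T.k j (T.w j (sim D i)) ≠ 0 := by
    rw [G.k_w hj hsi hj, G.k_sim hi hj, if_neg hji, if_pos rfl]
    simpa using hA
  have k2 : T.k i (T.w j (sim D i)) = 1 := by
    rw [G.k_w hj hsi hi, G.k_sim hi hi, if_pos rfl, if_neg (Ne.symm hji), sub_zero]
  have n1 : T.w j (sim D i) ≠ sim D i := fun e => k1 (by rw [e, G.k_sim hi hj, if_neg hji])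
  have n2 : T.w j (sim D i) ≠ ng D (sim D i) := fun e =>
    k1 (by rw [e, G.k_ng hsi hj, G.k_sim hi hj, if_neg hji, neg_zero])
  have n3 : sim D i ≠ sim D j := fun e => by
    have := G.k_sim (T := T) hi hi
    rw [e, G.k_sim hj hi, if_neg (Ne.symm hji), if_pos rfl] at this
    omega
  have n4 : sim D i ≠ ng D (sim D j) := fun e => by
    have := G.k_sim (T := T) hi hi
    rw [e, G.k_ng hsj hi, G.k_sim hj hi, if_neg (Ne.symm hji), if_pos rfl] at this
    omega
  -- the auxiliary roots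
  set a := wl T l.reverse (sim D j) with ha_def
  have hal : a < D.nroots := G.wl_lt hl.reverse hsj
  have hea : wl T l a = sim D j := G.wl_wl_reverse hl hsj
  have hls := G.wl_lt hl hs
  set s0 := wl T l.reverse (T.w j (wl T l s)) with hs0_def
  have hs0 : s0 < D.nroots := G.wl_lt hl.reverse (G.w_lt hj hls)
  have hes0 : wl T l s0 = T.w j (wl T l s) := G.wl_wl_reverse hl (G.w_lt hj hls)
  have hb1 : wl T l s0 ≠ sim D i ∧ wl T l s0 ≠ ng D (sim D i) := by
    rw [hes0]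
    rcases h with e | e <;> rw [e]
    · exact ⟨n1, n2⟩
    · rw [G.w_ng hj hsi]
      exact ⟨fun e' => n2 (by rw [← G.ng_ng hwi, e']),
        fun e' => n1 (by rw [← G.ng_ng hwi, e', G.ng_ng hsi])⟩
  have hb2 : wl T l s ≠ sim D j ∧ wl T l s ≠ ng D (sim D j) := by
    rcases h with e | e <;> rw [e]
    · exact ⟨n3, n4⟩
    · exact ⟨fun e' => n4 (by rw [← e', G.ng_ng hsi]),
        fun e' => n3 (by rw [← G.ng_ng hsi, e', G.ng_ng hsj])⟩
  -- `x_s(u)` is a conjugate of a generator by `n̄_a(1)`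
  obtain ⟨c0, hc0⟩ := G.nb_conj_of_ne hl hal hj hea hs hb2.1 hb2.2 (neg_ne_zero.2 one_ne_zero) u
  have hq0 : wl T (l.reverse ++ [j] ++ l) s = s0 := by
    rw [wl_append, wl_append]; rfl
  rw [hq0, ← G.nb_inv hal, inv_inv] at hc0
  have hex : xb D K s u = nb D K a 1 * xb D K s0 c0 * (nb D K a 1)⁻¹ := by rw [← hc0]; group
  -- conjugating `n̄_a(1)`
  have hb3 : wl T l a ≠ sim D i ∧ wl T l a ≠ ng D (sim D i) := by
    rw [hea]
    exact ⟨fun e => n3 e.symm, fun e => n4 (by rw [e, G.ng_ng hsi])⟩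
  have hb4 : wl T l (ng D a) ≠ sim D i ∧ wl T l (ng D a) ≠ ng D (sim D i) := by
    rw [G.wl_ng hl hal, hea]
    exact ⟨fun e => n4 e.symm, fun e => n3 (by rw [← G.ng_ng hsi, ← e, G.ng_ng hsj])⟩
  set f := wl T (l.reverse ++ [i] ++ l) with hf_def
  have hrep := G.rep_Ng hl hr hi he ht
  obtain ⟨c1, hc1, hpa, hpn⟩ := G.rep_conj_pm hrep hal
  set n := nb D K r t with hn_def
  have hna : n * nb D K a 1 * n⁻¹ = nb D K (f a) c1 := by
    obtain ⟨x1, e1⟩ := G.nb_conj_of_ne hl hr hi he hal hb3.1 hb3.2 ht 1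
    obtain ⟨x2, e2⟩ := G.nb_conj_of_ne hl hr hi he (G.ng_lt hal) hb4.1 hb4.2 ht (-(1 : K)⁻¹)
    have hfa : f a < D.nroots := G.wl_lt hrep.1 hal
    have hfn : f (ng D a) = ng D (f a) := G.wl_ng hrep.1 hal
    have v1 : x1 = c1 := by
      have := congrArg (G.th K) e1
      rw [map_mul, map_mul, map_inv, G.th_nb hr, G.th_xb hal, G.th_xb hfa, hpa, mul_one] at this
      exact (G.X_injective hfa this).symm
    rw [← hn_def] at e1 e2
    rw [← hf_def] at e1 e2
    rw [hfn] at e2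
    have v2 : x2 = -c1⁻¹ := by
      have := congrArg (G.th K) e2
      rw [map_mul, map_mul, map_inv, hn_def, G.th_nb hr, G.th_xb (G.ng_lt hal),
        G.th_xb (G.ng_lt hfa), hpn] at this
      rw [← G.X_injective (G.ng_lt hfa) this, inv_one, mul_neg, mul_one]
    rw [G.nb_eq hal, G.nb_eq hfa]
    calc n * (xb D K a 1 * xb D K (ng D a) (-(1 : K)⁻¹) * xb D K a 1) * n⁻¹
        = (n * xb D K a 1 * n⁻¹) * (n * xb D K (ng D a) (-(1 : K)⁻¹) * n⁻¹) *
          (n * xb D K a 1 * n⁻¹) := by group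
      _ = _ := by rw [e1, e2, v1, v2]
  -- conjugating the generator
  obtain ⟨c2, e3⟩ := G.nb_conj_of_ne hl hr hi he hs0 hb1.1 hb1.2 ht c0
  rw [← hn_def, ← hf_def] at e3
  have hfs0 : f s0 < D.nroots := G.wl_lt hrep.1 hs0
  obtain ⟨l', hl', j', hj', he'⟩ := G.exists_frame (f a) (G.wl_lt hrep.1 hal)
  have hne : ∀ q, (q = sim D j' ∨ q = ng D (sim D j')) → wl T l' (f s0) ≠ q := by
    intro q hq e
    have hs0a : wl T l s0 ≠ sim D j ∧ wl T l s0 ≠ ng D (sim D j) := by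
      rw [hes0]
      exact ⟨(G.side_w hl hj hs hb2.1 hb2.2).1, (G.side_w hl hj hs hb2.1 hb2.2).2.1⟩
    rcases hq with rfl | rfl
    · have := G.wl_injective hl' hfs0 (G.wl_lt hrep.1 hal) (e.trans he'.symm)
      rw [G.wl_injective hrep.1 hs0 hal this] at hs0a
      exact hs0a.1 hea
    · rw [← he', ← G.wl_ng hl' (G.wl_lt hrep.1 hal)] at e
      have := G.wl_injective hl' hfs0 (G.ng_lt (G.wl_lt hrep.1 hal)) e
      rw [hf_def, ← G.wl_ng hrep.1 hal] at this
      rw [G.wl_injective hrep.1 hs0 (G.ng_lt hal) this, G.wl_ng hl hal, hea] at hs0a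
      exact hs0a.2 rfl
  obtain ⟨c3, e4⟩ := G.nb_conj_of_ne hl' (G.wl_lt hrep.1 hal) hj' he' hfs0
    (hne _ (Or.inl rfl)) (hne _ (Or.inr rfl)) hc1 c2
  refine ⟨_, (G.Ng_wl hl' hj' hfs0 he').1, c3, ?_⟩
  rw [← e4, ← hna, ← e3, hex]
  group

end Good

end Cfsg.Agent.Lib.Chev
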