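import Cfsg.Agent.Lib.Chev.Coxeter
import Cfsg.Agent.Lib.Chev.Char
import Cfsg.Agent.Lib.Chev.Count
import Cfsg.Agent.Lib.BNPair.Steinberg
import Cfsg.Agent.Lib.Characters.Values

/-!
The Steinberg character of a Chevalley group.
-/

set_option autoImplicit false

namespace Cfsg.Agent.Lib.Chev

open Cfsg.Lie
open Cfsg.Agent.Lib
open scoped Matrix

variable {D : ChevalleyDatum} {T : Tables} {F : Type*} [Field F]

namespace Good

variable (G : Good D T)
include G

theorem parabolicIn_eq (J : Finset (Fin D.rank)) :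
    D.parabolicIn F (J.map Fin.valEmbedding) =
      BNPair.par (G.bnPair F) (↑(J.map (G.sEquiv F).toEmbedding) : Set (G.bnPair F).S) := by
  refine Subgroup.map_injective (D.group F).subtype_injective ?_
  have hle : D.parabolicSubgroup F ↑(J.map Fin.valEmbedding) ≤ D.group F := by
    refine sup_le G.borel_le_group ((Subgroup.closure_le _).2 ?_)
    rintro g ⟨j, -, hj, e⟩
    have e' : g = G.ni F j := Units.ext (by rw [e, G.simple_eq, ← G.Ng_val (G.sim_lt hj)]; rfl)
    exact e' ▸ G.ni_mem_group hj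
  rw [ChevalleyDatum.parabolicIn, Subgroup.subgroupOf_map_subtype, inf_eq_left.2 hle,
    BNPair.par, Cfsg.BNPair.parabolic, Subgroup.map_sup, MonoidHom.map_closure]
  show _ = Subgroup.map _ ((D.borelSubgroup F).subgroupOf (D.group F)) ⊔ _
  rw [Subgroup.subgroupOf_map_subtype, inf_eq_left.2 G.borel_le_group,
    ChevalleyDatum.parabolicSubgroup]
  congr 2
  ext g
  constructor
  · rintro ⟨j, hjJ, hj, e⟩
    obtain ⟨i, hiJ, rfl⟩ := Finset.mem_map.1 (Finset.mem_coe.1 hjJ)
    exact ⟨_, ⟨G.sEquiv F i, Finset.mem_coe.2 (Finset.mem_map_of_mem _ hiJ), rfl⟩,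
      (Units.ext (by
        show (G.ni F i.val : Matrix D.Idx D.Idx F) = (g : Matrix D.Idx D.Idx F)
        rw [e]; show _ = D.nMat F (D.simple i.val) 1
        rw [G.simple_eq, ← G.Ng_val (G.sim_lt i.isLt)]; rfl) : G.ni F i.val = g)⟩
  · rintro ⟨x, ⟨s, hs, rfl⟩, rfl⟩
    obtain ⟨i, hiJ, rfl⟩ := Finset.mem_map.1 (Finset.mem_coe.1 hs)
    refine ⟨i.val, Finset.mem_coe.2 (Finset.mem_map_of_mem _ hiJ), i.isLt, ?_⟩
    show (G.ni F i.val : Matrix D.Idx D.Idx F) = D.nMat F (D.simple i.val) 1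
    rw [G.simple_eq, ← G.Ng_val (G.sim_lt i.isLt)]; rfl

theorem steinberg_eq [Fintype (G.bnPair F).S] :
    D.steinbergCharacter F = BNPair.stein (G.bnPair F) := by
  classical
  funext g
  rw [ChevalleyDatum.steinbergCharacter, BNPair.stein]
  symm
  refine Finset.sum_bij
    (fun J _ => (J.map (G.sEquiv F).symm.toEmbedding).map Fin.valEmbedding) ?_ ?_ ?_ ?_
  · intro J _
    rw [Finset.mem_powerset]
    intro j hj
    obtain ⟨i, -, rfl⟩ := Finset.mem_map.1 hj
    exact Finset.mem_range.2 i.isLt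
  · intro J _ J' _ h
    exact Finset.map_injective _ (Finset.map_injective _ h)
  · intro J hJ
    rw [Finset.mem_powerset] at hJ
    refine ⟨(Finset.univ.filter fun i : Fin D.rank => i.val ∈ J).map (G.sEquiv F).toEmbedding,
      Finset.mem_univ _, ?_⟩
    ext j
    simp only [Finset.mem_map, Finset.mem_filter, Finset.mem_univ, true_and,
      Equiv.coe_toEmbedding, Fin.valEmbedding_apply]
    constructor
    · rintro ⟨i, ⟨s, ⟨k, hk, rfl⟩, rfl⟩, rfl⟩
      simpa using hk
    · intro hj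
      exact ⟨⟨j, Finset.mem_range.1 (hJ hj)⟩, ⟨_, ⟨⟨j, Finset.mem_range.1 (hJ hj)⟩, hj, rfl⟩, by simp⟩, rfl⟩
  · intro J _
    have hJ : (J.map (G.sEquiv F).symm.toEmbedding).map (G.sEquiv F).toEmbedding = J := by
      ext s; simp
    rw [Finset.card_map, Finset.card_map, G.parabolicIn_eq, hJ]

/-- An element of `N` without right ascents, with its intersection property. -/
theorem exists_top :
    ∃ n : (G.bnPair F).N, (BNPair.exchangeData (G.bnPair F)).IsTop (QuotientGroup.mk n) ∧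
      ∀ x ∈ (G.bnPair F).B,
        x ∈ (D.diagonalSubgroup F).subgroupOf (D.group F) ↔
          (n : ↥(D.group F))⁻¹ * x * n ∈ (G.bnPair F).B := by
  obtain ⟨n₀, hn₀, hmap⟩ := G.exists_n0 (F := F)
  refine ⟨⟨⟨n₀⁻¹, G.monomial_le_group (inv_mem hn₀)⟩, inv_mem hn₀⟩, ?_, ?_⟩
  · intro s
    obtain ⟨i, rfl⟩ := (G.sEquiv F).surjective s
    have hp := G.sim_lt i.isLt
    set ν : ↥(D.group F) := ((G.sEquiv F i : (G.bnPair F).S) : ↥(D.group F)) with hν
    have hXB : G.X F (sim D i.val) 1 ∈ D.borelSubgroup F :=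
      Subgroup.mem_sup_left (G.X_mem_posUnipotent hp (G.sim_pos i.isLt) 1)
    set x : ↥(D.group F) := ν * ⟨_, G.borel_le_group hXB⟩ * ν⁻¹ with hx
    have hneg : ng D (sim D i.val) < npos D := by
      have := G.even_n; have := G.sim_pos i.isLt; unfold ng; omega
    have hxX : (x : GL D.Idx F) =
        G.X F (ng D (sim D i.val)) ((T.eta i.val (sim D i.val) : F) * 1) := by
      show G.ni F i.val * G.X F (sim D i.val) 1 * (G.ni F i.val)⁻¹ = _
      rw [G.ni_conj_X i.isLt hp, G.w_sim i.isLt]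
    have hxneg : (x : GL D.Idx F) ∈ D.negUnipotent F := by
      rw [hxX]; exact G.X_mem_negUnipotent (G.ng_lt hp) hneg _
    refine BNPair.descent_of (G.bnPair F) (x := x) ?_ ?_
    · rw [BNPair.wgen, BNPair.cell_mk]
      rcases BNPair.mem_union_right (G.bnPair F) (G.sEquiv F i).2
          ((G.bnPair F).subset (G.sEquiv F i).2)
          (show (⟨G.X F (sim D i.val) 1, G.borel_le_group hXB⟩ : ↥(D.group F)) ∈ (G.bnPair F).B
            from hXB) with h | h
      · exfalso
        rw [BNPair.dc_eq_of_cong _ (BNPair.cong_ss _ (G.sEquiv F i).2), BNPair.dc_one] at h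
        have h' : (x : GL D.Idx F) ∈ D.borelSubgroup F := h
        have h4 := Subgroup.mem_bot.1 (G.borel_inf_neg (F := F) ▸
          Subgroup.mem_inf.2 ⟨h', hxneg⟩)
        rw [hxX, G.X_eq_one_iff (G.ng_lt hp), G.eta_sim i.isLt] at h4
        simp at h4
      · exact h
    · show n₀⁻¹ * (x : GL D.Idx F) * (n₀⁻¹)⁻¹ ∈ D.borelSubgroup F
      rw [inv_inv]
      have hxmap : (x : GL D.Idx F) ∈
          (D.posUnipotent F).map (MulAut.conj n₀).toMonoidHom := hmap.symm ▸ hxneg
      obtain ⟨u, hu, he⟩ := hxmap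
      rw [← he]
      show n₀⁻¹ * (n₀ * u * n₀⁻¹) * n₀ ∈ D.borelSubgroup F
      have e : n₀⁻¹ * (n₀ * u * n₀⁻¹) * n₀ = u := by group
      rw [e]
      exact Subgroup.mem_sup_left hu
  · intro x hx
    constructor
    · intro hxH
      show (n₀⁻¹)⁻¹ * (x : GL D.Idx F) * n₀⁻¹ ∈ D.borelSubgroup F
      rw [inv_inv]
      exact Subgroup.mem_sup_right
        ((Subgroup.mem_normalizer_iff.1 (G.monomial_le_normalizer hn₀) _).1 hxH)
    · intro h
      change (n₀⁻¹)⁻¹ * (x : GL D.Idx F) * n₀⁻¹ ∈ D.borelSubgroup F at h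
      rw [inv_inv] at h
      obtain ⟨u, hu, d, hd, hud⟩ := G.mem_borel.1 (hx : (x : GL D.Idx F) ∈ D.borelSubgroup F)
      replace hud : (x : GL D.Idx F) = u * d := hud
      have h1 : n₀ * (x : GL D.Idx F) * n₀⁻¹ ∈ D.negUnipotent F ⊔ D.diagonalSubgroup F := by
        have e : n₀ * (x : GL D.Idx F) * n₀⁻¹ = (n₀ * u * n₀⁻¹) * (n₀ * d * n₀⁻¹) := by
          rw [hud]; group
        rw [e]
        exact mul_mem (Subgroup.mem_sup_left (hmap ▸ ⟨u, hu, rfl⟩))
          (Subgroup.mem_sup_right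
            ((Subgroup.mem_normalizer_iff.1 (G.monomial_le_normalizer hn₀) d).1 hd))
      have h2 := G.borel_inf_negBorel (F := F) ▸ Subgroup.mem_inf.2 ⟨h, h1⟩
      exact (Subgroup.mem_normalizer_iff.1 (G.monomial_le_normalizer hn₀) _).2 h2

theorem steinberg_isIrr [Fintype F] :
    Cfsg.IsIrrCharacter ↥(D.group F) (D.steinbergCharacter F) := by
  classical
  haveI := Fintype.ofFinite (G.bnPair F).S
  haveI := Fintype.ofFinite (G.W0 F)
  haveI := Fintype.ofFinite ↥(D.group F)
  rw [G.steinberg_eq]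
  exact BNPair.stein_isIrr (G.bnPair F)

theorem steinberg_borel [Fintype F]
    (b : ↥((D.borelSubgroup F).subgroupOf (D.group F))) :
    D.steinbergCharacter F (b : ↥(D.group F)) =
      Cfsg.fixedPointCharacter (((D.diagonalSubgroup F).subgroupOf (D.group F)).subgroupOf
        ((D.borelSubgroup F).subgroupOf (D.group F))) b := by
  classical
  haveI := Fintype.ofFinite (G.bnPair F).S
  haveI := Fintype.ofFinite (G.W0 F)
  obtain ⟨n, hn, hH⟩ := G.exists_top (F := F)
  rw [G.steinberg_eq, BNPair.stein_borel (G.bnPair F) b.2 hn]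
  exact BNPair.cellFix_eq (G.bnPair F) hH b

theorem steinberg_one [Fintype F] :
    D.steinbergCharacter F 1 = (Fintype.card F : ℂ) ^ (D.nroots / 2) := by
  have h := G.steinberg_borel (F := F) 1
  rw [OneMemClass.coe_one] at h
  rw [h]
  set Bg := (D.borelSubgroup F).subgroupOf (D.group F) with hBg
  set Hg := (D.diagonalSubgroup F).subgroupOf (D.group F) with hHg
  have h1 : Nat.card (MulAction.fixedBy (Bg ⧸ Hg.subgroupOf Bg) (1 : Bg)) =
      Nat.card (Bg ⧸ Hg.subgroupOf Bg) :=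
    Nat.card_congr (Equiv.subtypeUnivEquiv fun q => one_smul _ q)
  unfold Cfsg.fixedPointCharacter
  rw [h1]
  have hle : Hg ≤ Bg := fun x hx => Subgroup.mem_sup_right hx
  have h2 := Subgroup.card_eq_card_quotient_mul_card_subgroup (Hg.subgroupOf Bg)
  rw [Nat.card_congr (Subgroup.subgroupOfEquivOfLe hle).toEquiv,
    Nat.card_congr (Subgroup.subgroupOfEquivOfLe (G.borel_le_group (F := F))).toEquiv,
    Nat.card_congr (Subgroup.subgroupOfEquivOfLe
      (diagonal_le_monomial.trans (G.monomial_le_group (F := F)))).toEquiv,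
    G.card_borel, G.card_pos] at h2
  rw [← mul_right_cancel₀ (Nat.card_pos.ne' : Nat.card (D.diagonalSubgroup F) ≠ 0) h2]
  push_cast
  rfl

theorem steinberg_vanish [Fintype F] (p : ℕ) [hp : Fact p.Prime] [CharP F p]
    {g : ↥(D.group F)} (hg : p ∣ orderOf g) : D.steinbergCharacter F g = 0 := by
  obtain ⟨P, hP⟩ := G.exists_sylow (F := F) p
  have hcard : p ^ (Nat.card ↥(D.group F)).factorization p = Fintype.card F ^ (D.nroots / 2) := by
    rw [← P.card_eq_multiplicity, ← G.card_pos (F := F)]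
    exact (Nat.card_congr (MulEquiv.subgroupCongr hP).toEquiv).trans
      (Nat.card_congr (Subgroup.subgroupOfEquivOfLe
        ((le_sup_left : _ ≤ D.borelSubgroup F).trans G.borel_le_group)).toEquiv)
  exact Characters.vanish_of_defect_zero G.steinberg_isIrr hp.out
    (d := Fintype.card F ^ (D.nroots / 2)) (by rw [G.steinberg_one]; push_cast; rfl)
    (by rw [hcard]) hg

end Good

end Cfsg.Agent.Lib.Chev
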