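import Cfsg.Agent.Lib.Chev.LieData
import Cfsg.Agent.Lib.BNPair.SteinValue

/-!
The values of the Steinberg character of a Chevalley group at semisimple elements.
-/

set_option autoImplicit false

namespace Cfsg.Agent.Lib.Chev

open Cfsg.Lie
open Cfsg.Agent.Lib

variable {D : ChevalleyDatum} {T : Tables} {F : Type*} [Field F]

theorem Good.steinberg_semisimple (G : Good D T) (hP : chkPar D T = true) [Fintype F] (p : ℕ)
    [Fact p.Prime] [CharP F p] {g : ↥(D.group F)} (hg : ¬ p ∣ orderOf g) :
    D.steinbergCharacter F g =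
        ((p ^ (Nat.card ↥(Subgroup.centralizer ({g} : Set ↥(D.group F)))).factorization p : ℕ) : ℂ) ∨
      D.steinbergCharacter F g =
        -((p ^ (Nat.card ↥(Subgroup.centralizer ({g} : Set ↥(D.group F)))).factorization p : ℕ) : ℂ) := by
  classical
  haveI := Fintype.ofFinite (G.bnPair F).S
  haveI := Fintype.ofFinite (G.W0 F)
  rw [G.steinberg_eq]
  exact (G.lieData (F := F) hP p).stein_semisimple hg

end Cfsg.Agent.Lib.Chev
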