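import Mathlib
import Cfsg.Prelude.Def_ChevStructure

/-!
Packed copies of the tables of a Chevalley datum and the boolean checks on them that the structure
theory uses. Packed numbers make random access cheap in kernel reduction.
-/

set_option autoImplicit false

namespace Cfsg.Agent.Lib.Chev

open Cfsg.Lie

/-- Binary tree of natural numbers, indexed in heap order. -/
inductive BT
  | leaf
  | node (v : ℕ) (l r : BT)

namespace BT

/-- Entry with a given index, 0 if absent. -/
def get : BT → ℕ → ℕ
  | .leaf, _ => 0
  | .node v l r, i => if i = 0 then v else if i % 2 = 1 then get l ((i - 1) / 2) else get r ((i - 1) / 2)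

end BT

/-- The `i`-th block of `w` bits. -/
def field (v w i : ℕ) : ℕ := (v >>> (w * i)) % 2 ^ w

/-- Entry of a short list of packed numbers. -/
def nthNat : List ℕ → ℕ → ℕ
  | [], _ => 0
  | a :: _, 0 => a
  | _ :: l, i + 1 => nthNat l i

/-- Boolean bounded quantifier. -/
def allLt : ℕ → (ℕ → Bool) → Bool
  | 0, _ => true
  | n + 1, f => f n && allLt n f

theorem allLt_eq_true : ∀ {n : ℕ} {f : ℕ → Bool}, allLt n f = true → ∀ i < n, f i = true := by
  intro n
  induction n with
  | zero => intro f _ i hi; omega
  | succ n ih =>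
    intro f h i hi
    simp only [allLt, Bool.and_eq_true] at h
    rcases Nat.lt_succ_iff_lt_or_eq.1 hi with hi | rfl
    · exact ih h.2 i hi
    · exact h.1

/-- Boolean bounded existential. -/
def anyLt : ℕ → (ℕ → Bool) → Bool
  | 0, _ => false
  | n + 1, f => f n || anyLt n f

theorem anyLt_eq_true : ∀ {n : ℕ} {f : ℕ → Bool}, anyLt n f = true → ∃ i < n, f i = true := by
  intro n
  induction n with
  | zero => intro f h; simp [anyLt] at h
  | succ n ih =>
    intro f h
    simp only [anyLt, Bool.or_eq_true] at h
    rcases h with h | h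
    · exact ⟨n, Nat.lt_succ_self n, h⟩
    · obtain ⟨i, hi, h⟩ := ih h
      exact ⟨i, Nat.lt_succ_of_lt hi, h⟩

theorem anyLt_eq_false : ∀ {n : ℕ} {f : ℕ → Bool}, anyLt n f = false → ∀ i < n, f i = false := by
  intro n
  induction n with
  | zero => intro f _ i hi; omega
  | succ n ih =>
    intro f h i hi
    simp only [anyLt, Bool.or_eq_false_iff] at h
    rcases Nat.lt_succ_iff_lt_or_eq.1 hi with hi | rfl
    · exact ih h.2 i hi
    · exact h.1

/-- Decode a slot holding at most three chain entries. -/
def decAux : ℕ → ℕ → List (ℕ × ℤ)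
  | 0, _ => []
  | k + 1, v =>
    if v % 65536 = 0 then []
    else ((v % 65536) / 16 - 1, ((v % 16 : ℕ) : ℤ) - 8) :: decAux k (v >>> 16)

/-- Decode a slot. -/
def dec (v : ℕ) : List (ℕ × ℤ) := decAux 3 v

/-- Integer power by a natural number, by plain recursion. -/
def ipow (c : ℤ) : ℕ → ℤ
  | 0 => 1
  | k + 1 => ipow c k * c

theorem ipow_eq (c : ℤ) (k : ℕ) : ipow c k = c ^ k := by
  induction k with
  | zero => simp [ipow]
  | succ k ih => rw [ipow, ih, pow_succ]

/-- Packed tables: chains (tree over the first root, slots of 48 bits over the second one), root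
coefficients and coroot coefficients (4 bits, offset 8), Cartan integers (4 bits, offset 8), and
the action of the fundamental `n`'s (16 bits: image and sign). -/
structure Tables where
  chainT : BT
  coefP : List ℕ
  coP : List ℕ
  cartP : List ℕ
  reflP : List ℕ

namespace Tables

variable (T : Tables)

/-- Chain through `s` in direction `r`. -/
def ch (r s : ℕ) : List (ℕ × ℤ) := dec (field (T.chainT.get r) 48 s)

/-- Coefficient of the `i`-th fundamental root in the root `r`. -/
def k (i r : ℕ) : ℤ := (field (nthNat T.coefP i) 4 r : ℤ) - 8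

/-- Coefficient of the `i`-th fundamental coroot in the coroot of `r`. -/
def c (r i : ℕ) : ℤ := (field (nthNat T.coP i) 4 r : ℤ) - 8

/-- Cartan integer. -/
def A (i r : ℕ) : ℤ := (field (nthNat T.cartP i) 4 r : ℤ) - 8

/-- Image of the root `r` under the `i`-th fundamental reflection. -/
def w (i r : ℕ) : ℕ := field (nthNat T.reflP i) 16 r / 2

/-- Sign of the `i`-th `n` on the root vector of `r`. -/
def eta (i r : ℕ) : ℤ := if field (nthNat T.reflP i) 16 r % 2 = 1 then -1 else 1

theorem eta_eq_or (i r : ℕ) : T.eta i r = 1 ∨ T.eta i r = -1 := by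
  unfold eta; split <;> simp

theorem eta_mul_self (i r : ℕ) : T.eta i r * T.eta i r = 1 := by
  rcases T.eta_eq_or i r with h | h <;> simp [h]

/-- Root of a chain. -/
def chRoot (r s i : ℕ) : Option ℕ := ((T.ch r s)[i - 1]?).map Prod.fst

/-- Integer of a chain. -/
def chM (r s i : ℕ) : ℤ := (((T.ch r s)[i - 1]?).map Prod.snd).getD 0

/-- The terms of the commutator formula. -/
def terms (r s : ℕ) : List (ℕ × ℤ × ℕ × ℕ) :=
  let rs := T.chRoot r s 1
  let cands : List (Option ℕ × ℤ × ℕ × ℕ) :=
    [ (T.chRoot r s 1, T.chM r s 1, 1, 1),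
      (T.chRoot r s 2, T.chM r s 2, 2, 1),
      (T.chRoot s r 2, T.chM s r 2, 1, 2),
      (T.chRoot r s 3, T.chM r s 3, 3, 1),
      (T.chRoot s r 3, - T.chM s r 3, 1, 3),
      ((T.chRoot r s 3).bind fun k => T.chRoot k s 1, (rs.map fun k => T.chM k r 2 / 3).getD 0, 3, 2),
      ((T.chRoot s r 3).bind fun k => T.chRoot k r 1, (rs.map fun k => -2 * T.chM k s 2 / 3).getD 0, 2, 3) ]
  cands.filterMap fun c => c.1.map fun k => (k, c.2)

end Tables

variable (D : ChevalleyDatum) (T : Tables)

/-- Number of positive roots. -/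
def npos : ℕ := D.nroots / 2

/-- The fundamental root indices, read off the datum. -/
def sim (i : ℕ) : ℕ := D.simpleIdx.getD i 0

/-- Negation of a root index. -/
def ng (r : ℕ) : ℕ := D.nroots - 1 - r

/-- Compare a row of the chain table with the packed slots, walking along the second index. -/
def walk (v : ℕ) : ℕ → ℕ → List (ℕ × Array (ℕ × ℤ)) → Bool
  | 0, _, l => l.isEmpty
  | fuel + 1, s, [] => (field v 48 s == 0) && walk v fuel (s + 1) []
  | fuel + 1, s, e :: l =>
    if e.1 = s then (dec (field v 48 s) == e.2.toList) && (field v 48 s != 0) && walk v fuel (s + 1) l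
    else (field v 48 s == 0) && walk v fuel (s + 1) (e :: l)

/-- Walk all rows. -/
def walkRows : ℕ → List (Array (ℕ × Array (ℕ × ℤ))) → Bool
  | _, [] => true
  | r, row :: rows => walk (T.chainT.get r) D.nroots 0 row.toList && walkRows (r + 1) rows

/-- Sum of `f j` over `j < n`. -/
def isum : ℕ → (ℕ → ℤ) → ℤ
  | 0, _ => 0
  | n + 1, f => isum n f + f n

theorem isum_eq (n : ℕ) (f : ℕ → ℤ) : isum n f = ∑ j ∈ Finset.range n, f j := by
  induction n with
  | zero => rfl
  | succ n ih => rw [isum, Finset.sum_range_succ, ih]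

/-- Order-preserving code of a root. -/
def code (r : ℕ) : ℤ := (List.range D.rank).foldl (fun a i => a * 16 + T.k i r) 0

/-- The shape of the datum and its small tables. -/
def chkBasic : Bool :=
  (decide (2 * npos D = D.nroots)) && (D.simpleIdx.toList.length == D.rank) &&
  (D.negIdx.toList == (List.range D.nroots).map (ng D)) &&
  (D.cartanSR.toList.map Array.toList ==
    (List.range D.rank).map fun i => (List.range D.nroots).map fun r => T.A i r) &&
  (D.coroot.toList.map Array.toList ==
    (List.range D.nroots).map fun r => (List.range D.rank).map fun i => T.c r i) &&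
  (D.chain.toList.length == D.nroots) && walkRows D T 0 D.chain.toList &&
  allLt D.nroots (fun r => decide (D.IsPosRoot r) == decide (npos D ≤ r) &&
    decide (D.IsNegRoot r) == decide (r < npos D)) &&
  allLt (D.nroots - 1) (fun r => decide (code D T r < code D T (r + 1))) &&
  allLt D.rank (fun i => decide (sim D i < D.nroots) && decide (npos D ≤ sim D i) &&
    allLt D.rank (fun j => (T.k j (sim D i) == if j = i then 1 else 0) &&
      (T.c (sim D i) j == if j = i then 1 else 0)) &&
    (T.A i (sim D i) == 2) && (T.w i (sim D i) == ng D (sim D i)) &&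
    (T.eta i (sim D i) == -1)) &&
  allLt D.rank (fun i => allLt D.nroots fun s =>
    T.A i s == isum D.rank (fun j => T.k j s * T.A i (sim D j))) &&
  allLt D.nroots (fun r => allLt D.rank fun i => T.k i (ng D r) == - T.k i r &&
    T.c (ng D r) i == - T.c r i)

/-- One chain entry `(s, l)` in the row of `r`. -/
def chkEntry (r s : ℕ) (l : List (ℕ × ℤ)) : Bool :=
  decide (s < D.nroots) && decide (s ≠ r) && decide (s ≠ ng D r) && decide (l.length ≤ 3) &&
  decide (T.ch s r ≠ []) &&
  allLt l.length (fun m =>
    let e := l.getD m (0, 0)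
    decide (e.1 < D.nroots) && decide (e.1 ≠ r) && decide (e.1 ≠ ng D r) &&
    (if npos D ≤ r then decide (s < e.1) else decide (e.1 < s)) &&
    allLt D.rank (fun i => T.k i e.1 == ((m : ℤ) + 1) * T.k i r + T.k i s) &&
    ((T.ch r e.1).length + (m + 1) == l.length) &&
    allLt (T.ch r e.1).length (fun j =>
      let e' := (T.ch r e.1).getD j (0, 0)
      let e'' := l.getD (m + 1 + j) (0, 0)
      (e'.1 == e''.1) && (e'.2 * e.2 == (Nat.choose (m + j + 2) (m + 1) : ℤ) * e''.2))) &&
  (if l.length = 3 then
    (T.chM (T.chRoot r s 1 |>.getD 0) r 2 % 3 == 0) &&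
    (T.chM (T.chRoot r s 1 |>.getD 0) s 2 % 3 == 0) &&
    (T.chM (T.chRoot s r 1 |>.getD 0) r 2 % 3 == 0) &&
    (T.chM (T.chRoot s r 1 |>.getD 0) s 2 % 3 == 0)
  else true)

/-- All chain entries. -/
def chkChain : Bool :=
  allLt D.nroots fun r => (D.chain.toList.getD r #[]).toList.all fun e =>
    chkEntry D T r e.1 e.2.toList

/-- The fundamental reflections. -/
def chkRefl : Bool :=
  allLt D.rank (fun i => allLt D.nroots fun s =>
    decide (T.w i s < D.nroots) && (T.w i (T.w i s) == s) &&
    (T.w i (ng D s) == ng D (T.w i s)) && (T.eta i (ng D s) == T.eta i s) &&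
    (T.eta i s * T.eta i (T.w i s) == if T.A i s % 2 = 0 then 1 else -1) &&
    allLt D.rank (fun j =>
      (T.k j (T.w i s) == T.k j s - if j = i then T.A i s else 0) &&
      (T.c (T.w i s) j == T.c s j - if j = i then
        isum D.rank (fun m => T.c s m * T.A m (sim D i)) else 0)) &&
    (decide (npos D ≤ s) == decide (npos D ≤ T.w i s) || s == sim D i || s == ng D (sim D i))) &&
  allLt D.nroots (fun r => decide (r < npos D) || anyLt D.rank (fun i => r == sim D i) ||
    anyLt D.rank (fun i => decide (npos D ≤ T.w i r) && decide (T.w i r < r)))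

/-- Equivariance of the chains under the fundamental reflections. -/
def chkEquiv : Bool :=
  allLt D.rank fun i => allLt D.nroots fun r => (D.chain.toList.getD r #[]).toList.all fun e =>
    (T.ch (T.w i r) (T.w i e.1) ==
      e.2.toList.zipIdx.map fun q => (T.w i q.1.1,
        ipow (T.eta i r) (q.2 + 1) * T.eta i e.1 * T.eta i q.1.1 * q.1.2))

/-! ### A sparse evaluator over the integers -/

/-- Column `a` of `x_r(c)`; codes `< nroots` are root vectors, `nroots + i` fundamental coroots. -/
def xcol (r : ℕ) (c : ℤ) (a : ℕ) : List (ℕ × ℤ) :=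
  if D.nroots ≤ a then [(a, 1), (r, - T.A (a - D.nroots) r * c)]
  else if a = r then [(r, 1)]
  else if a = ng D r then
    (a, 1) :: (r, -(c * c)) :: (List.range D.rank).map fun i => (D.nroots + i, T.c r i * c)
  else (a, 1) :: (T.ch r a).zipIdx.map fun q => (q.1.1, q.1.2 * ipow c (q.2 + 1))

/-- Apply `x_r(c)` to a sparse vector. -/
def applyX (r : ℕ) (c : ℤ) (v : List (ℕ × ℤ)) : List (ℕ × ℤ) :=
  v.flatMap fun p => if p.2 = 0 then [] else (xcol D T r c p.1).map fun q => (q.1, p.2 * q.2)

/-- Apply the product of a word to a sparse vector. -/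
def applyWord : List (ℕ × ℤ) → List (ℕ × ℤ) → List (ℕ × ℤ)
  | [], v => v
  | p :: w, v => applyX D T p.1 p.2 (applyWord w v)

/-- Coefficient in a sparse vector. -/
def coef : List (ℕ × ℤ) → ℕ → ℤ
  | [], _ => 0
  | p :: v, a => (if p.1 = a then p.2 else 0) + coef v a

/-- Equality of sparse vectors. -/
def eqVec (u v : List (ℕ × ℤ)) : Bool :=
  (u.map Prod.fst ++ v.map Prod.fst).all fun a => coef u a == coef v a

/-- Column `a` of the `i`-th fundamental `n`. -/
def ncol (i a : ℕ) : List (ℕ × ℤ) :=
  if D.nroots ≤ a then [(a, 1), (D.nroots + i, - T.A (a - D.nroots) (sim D i))]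
  else [(T.w i a, T.eta i a)]

/-- The word `n_p(1)`. -/
def nw (p : ℕ) : List (ℕ × ℤ) := [(p, 1), (ng D p, -1), (p, 1)]

/-- The fundamental `n`'s act as recorded. -/
def chkN : Bool :=
  allLt D.rank fun i => allLt (D.nroots + D.rank) fun a =>
    eqVec (applyWord D T (nw D (sim D i)) [(a, 1)]) (ncol D T i a)

/-- The commutator formula at parameters `1, 1`, and independence of the two roots. -/
def chkCommAt (r s : ℕ) : Bool :=
  anyLt D.rank (fun i => anyLt D.rank fun j =>
    decide (T.k i r * T.k j s - T.k j r * T.k i s ≠ 0)) &&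
  allLt (D.nroots + D.rank) fun a =>
    eqVec (applyWord D T [(s, 1), (r, 1)] [(a, 1)])
      (applyWord D T ((r, 1) :: (s, 1) :: (T.terms r s).map fun c => (c.1, c.2.1 * ipow (-1) c.2.2.1))
        [(a, 1)])

/-- Pairs that no reflection moves to an earlier case satisfy the commutator formula. -/
def chkComm : Bool :=
  allLt D.nroots fun r =>
    if anyLt D.rank (fun i => decide (r < T.w i r)) then true
    else allLt D.nroots fun s =>
      if s = r || s = ng D r then true
      else if anyLt D.rank (fun i => (T.w i r == r) && decide (T.w i s < s)) then true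
      else chkCommAt D T r s

/-- Everything checked about a datum. -/
structure Good : Prop where
  basic : chkBasic D T = true
  chain : chkChain D T = true
  refl : chkRefl D T = true
  equiv : chkEquiv D T = true
  ncols : chkN D T = true
  comm : chkComm D T = true

end Cfsg.Agent.Lib.Chev
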