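import Cfsg.Agent.Lib.Chev.Monomial

/-!
The torus: `n_r(t) n_r(u)` and `h_r(t)` as diagonal matrices, conjugation by the torus.
-/

set_option autoImplicit false

namespace Cfsg.Agent.Lib.Chev

open Cfsg.Lie
open scoped Matrix

variable {D : ChevalleyDatum} {T : Tables} {F : Type*} [Field F]

namespace Good

variable (G : Good D T)
include G

/-- Induction over the roots along fundamental reflections. -/
theorem root_induction {C : ℕ → Prop} (hs : ∀ i < D.rank, C (sim D i))
    (hw : ∀ i r, i < D.rank → r < D.nroots → C r → C (T.w i r)) :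
    ∀ r < D.nroots, C r := by
  have hpos : ∀ r, r < D.nroots → npos D ≤ r → C r := by
    intro r
    induction r using Nat.strong_induction_on with
    | _ r ih =>
      intro hr hp
      by_cases h : ∃ i < D.rank, r = sim D i
      · obtain ⟨i, hi, rfl⟩ := h
        exact hs i hi
      · push Not at h
        obtain ⟨i, hi, hp', hlt⟩ := G.exists_lower hr hp h
        have := hw i _ hi (G.w_lt hi hr) (ih _ hlt (G.w_lt hi hr) hp')
        rwa [G.w_w hi hr] at this
  have hneg : ∀ r, r < D.nroots → npos D ≤ r → C (ng D r) := by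
    intro r
    induction r using Nat.strong_induction_on with
    | _ r ih =>
      intro hr hp
      by_cases h : ∃ i < D.rank, r = sim D i
      · obtain ⟨i, hi, rfl⟩ := h
        rw [← G.w_sim hi]
        exact hw i _ hi hr (hs i hi)
      · push Not at h
        obtain ⟨i, hi, hp', hlt⟩ := G.exists_lower hr hp h
        have h1 := hw i _ hi (G.ng_lt (G.w_lt hi hr)) (ih _ hlt (G.w_lt hi hr) hp')
        rwa [G.w_ng hi (G.w_lt hi hr), G.w_w hi hr] at h1
  intro r hr
  by_cases hp : npos D ≤ r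
  · exact hpos r hr hp
  · have := hneg _ (G.ng_lt hr) ((G.ng_pos_iff hr).2 (by omega))
    rwa [G.ng_ng hr] at this

theorem P_w {i r s : ℕ} (hi : i < D.rank) (hr : r < D.nroots) (hs : s < D.nroots) :
    P D T (T.w i r) (T.w i s) = P D T r s := by
  unfold P
  rw [Finset.sum_congr rfl (fun j hj => by
    rw [G.c_w hi hr (Finset.mem_range.1 hj), G.A_w hi hs (Finset.mem_range.1 hj)])]
  simp only [sub_mul, mul_sub, ite_mul, zero_mul, Finset.sum_sub_distrib]
  rw [Finset.sum_ite_eq', Finset.sum_ite_eq', if_pos (Finset.mem_range.2 hi),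
    if_pos (Finset.mem_range.2 hi), G.A_sim hi]
  have : ∑ x ∈ Finset.range D.rank, T.c r x * (T.A i s * T.A x (sim D i)) =
      T.A i s * ∑ x ∈ Finset.range D.rank, T.c r x * T.A x (sim D i) := by
    rw [Finset.mul_sum]; exact Finset.sum_congr rfl fun x _ => by ring
  rw [this]
  ring

theorem P_self {r : ℕ} (hr : r < D.nroots) : P D T r r = 2 := G.pairing_self hr

theorem P_sim {i : ℕ} (hi : i < D.rank) (s : ℕ) : P D T (sim D i) s = T.A i s := by
  unfold P
  rw [Finset.sum_congr rfl (fun j hj => by rw [G.c_sim hi (Finset.mem_range.1 hj)])]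
  simp [hi]

theorem P_ng {r s : ℕ} (hr : r < D.nroots) : P D T (ng D r) s = - P D T r s := by
  unfold P
  rw [← Finset.sum_neg_distrib]
  exact Finset.sum_congr rfl fun j hj => by rw [G.c_ng hr (Finset.mem_range.1 hj), neg_mul]

theorem P_ng_right {r s : ℕ} (hs : s < D.nroots) : P D T r (ng D s) = - P D T r s := by
  unfold P
  rw [← Finset.sum_neg_distrib]
  exact Finset.sum_congr rfl fun j hj => by rw [G.A_ng hs (Finset.mem_range.1 hj), mul_neg]

theorem P_chain {r s m u : ℕ} {M : ℤ} (q : ℕ) (hr : r < D.nroots) (hs : s < D.nroots)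
    (hm : (T.ch r s)[m]? = some (u, M)) :
    P D T q u = ((m : ℤ) + 1) * P D T q r + P D T q s := by
  unfold P
  rw [Finset.mul_sum, ← Finset.sum_add_distrib]
  exact Finset.sum_congr rfl fun j hj => by
    rw [G.A_chain (Finset.mem_range.1 hj) hr hs hm]; ring

/-- `c` to the power of an additive function is multiplicative. -/
theorem isChar_zpow {f : ℕ → ℤ} (hneg : ∀ r < D.nroots, f (ng D r) = - f r)
    (hch : ∀ (r s m u : ℕ) (M : ℤ), r < D.nroots → s < D.nroots →
      (T.ch r s)[m]? = some (u, M) →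
      f u = ((m : ℤ) + 1) * f r + f s) {c : F} (hc : c ≠ 0) :
    IsChar D T fun s => c ^ f s where
  neg r hr := by rw [hneg r hr, ← zpow_add₀ hc, neg_add_cancel, zpow_zero]
  chain r s m u M hr hs hm := by
    rw [hch r s m u M hr hs hm, zpow_add₀ hc, mul_comm ((m : ℤ) + 1), zpow_mul, ← zpow_natCast]
    push_cast
    rfl

theorem isChar_P (r : ℕ) {c : F} (hc : c ≠ 0) : IsChar D T fun s => c ^ P D T r s :=
  G.isChar_zpow (fun _ hs => G.P_ng_right hs) (fun _ _ _ _ _ hr hs hm => G.P_chain r hr hs hm) hc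

theorem isChar_k {i : ℕ} (hi : i < D.rank) {c : F} (hc : c ≠ 0) :
    IsChar D T fun s => c ^ T.k i s :=
  G.isChar_zpow (fun _ hs => G.k_ng hs hi)
    (fun _ _ _ _ _ hr hs hm => (G.ch_entry hr hs hm).2.2.2.2.2.1 i hi) hc

theorem dmat_x {χ : ℕ → F} (h : IsChar D T χ) {r : ℕ} (hr : r < D.nroots) (t : F) :
    dmat D χ * D.x F r t = D.x F r (χ r * t) * dmat D χ := by
  refine ext_bas fun a ha => ?_
  rw [← Matrix.mulVec_mulVec, ← Matrix.mulVec_mulVec]
  rcases code_cases D ha with ⟨j, hj, rfl⟩ | ha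
  · simp only [G.x_bas_h hr hj, Matrix.mulVec_add, Matrix.mulVec_smul, dmat_bas_h,
      dmat_bas_root χ hr]
    module
  by_cases h1 : a = r
  · subst h1
    simp only [G.x_bas_self ha, Matrix.mulVec_smul, dmat_bas_root χ ha]
  by_cases h2 : a = ng D r
  · subst h2
    simp only [G.x_bas_ng hr, Matrix.mulVec_add, Matrix.mulVec_smul, dmat_bas_root χ ha,
      dmat_bas_root χ hr]
    have hh : dmat D χ *ᵥ hvec D T F r = hvec D T F r := by
      simp [hvec, Matrix.mulVec_sum, Matrix.mulVec_smul, dmat_bas_h]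
    rw [hh]
    have hn := h.neg r hr
    match_scalars <;> first
      | ring1
      | linear_combination t * hn
      | linear_combination (-t) * hn
      | linear_combination (χ r * t ^ 2) * hn
      | linear_combination (-(χ r * t ^ 2)) * hn
  · rw [G.x_bas_other hr ha h1 h2, dmat_bas_root χ ha, Matrix.mulVec_smul,
      G.x_bas_other hr ha h1 h2, Matrix.mulVec_add, dmat_bas_root χ ha, smul_add]
    congr 1
    simp only [chVec, List.smul_sum, List.map_map]
    rw [← Matrix.mulVecLin_apply, map_list_sum, List.map_map]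
    congr 1
    refine List.map_congr_left fun q hq => ?_
    obtain ⟨⟨u, M⟩, m⟩ := q
    have hm := List.mk_mem_zipIdx_iff_getElem?.1 hq
    simp only [Function.comp_apply, Matrix.mulVecLin_apply, Matrix.mulVec_smul,
      dmat_bas_root χ (G.ch_entry hr ha hm).1, smul_smul]
    congr 1
    rw [h.chain r a m u M hr ha hm, mul_pow]
    ring

theorem ni_dmat {i : ℕ} (hi : i < D.rank) (χ : ℕ → F) :
    (G.ni F i : Matrix D.Idx D.Idx F) * dmat D χ =
      dmat D (fun s => χ (T.w i s)) * (G.ni F i : Matrix D.Idx D.Idx F) := by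
  refine ext_bas fun a ha => ?_
  rw [← Matrix.mulVec_mulVec, ← Matrix.mulVec_mulVec]
  rcases code_cases D ha with ⟨j, hj, rfl⟩ | ha
  · simp only [dmat_bas_h, G.ni_bas_h hi hj, Matrix.mulVec_add, Matrix.mulVec_smul]
  · simp only [dmat_bas_root χ ha, G.ni_bas_root hi ha, Matrix.mulVec_smul,
      dmat_bas_root _ (G.w_lt hi ha), G.w_w hi ha, smul_smul]
    rw [mul_comm]

/-- `n_{p_i}(t)` on a root vector. -/
theorem Ng_sim_bas_root {i s : ℕ} (hi : i < D.rank) (hs : s < D.nroots) {t : F} (ht : t ≠ 0) :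
    (G.Ng F (sim D i) t : Matrix D.Idx D.Idx F) *ᵥ bas D F s =
      ((T.eta i s : F) * t ^ (- T.A i s)) • bas D F (T.w i s) ∧
    ∀ j < D.rank, (G.Ng F (sim D i) t : Matrix D.Idx D.Idx F) *ᵥ bas D F (D.nroots + j) =
      bas D F (D.nroots + j) + (-(T.A j (sim D i)) : F) • bas D F (D.nroots + i) := by
  have hp := G.sim_lt hi
  have hpn := G.ng_lt hp
  set χ : ℕ → F := fun s => t ^ T.k i s with hχdef
  have hχ : IsChar D T χ := G.isChar_k hi ht
  have e1 : χ (sim D i) = t := by simp [hχdef, G.k_sim hi hi]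
  have e2 : χ (ng D (sim D i)) = t⁻¹ := by simp [hχdef, G.k_ng hp hi, G.k_sim hi hi]
  have key : dmat D χ * (G.ni F i : Matrix D.Idx D.Idx F) =
      (G.Ng F (sim D i) t : Matrix D.Idx D.Idx F) * dmat D χ := by
    simp only [Good.ni, Good.Ng, Units.val_mul, X_val, inv_one]
    rw [← mul_assoc, ← mul_assoc, G.dmat_x hχ hp, e1, mul_one, mul_assoc (D.x F (sim D i) t),
      G.dmat_x hχ hpn, e2, mul_neg_one, ← mul_assoc, mul_assoc (D.x F (sim D i) t * _),
      G.dmat_x hχ hp, e1, mul_one, ← mul_assoc]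
  constructor
  · have h1 := congrArg (fun M : Matrix D.Idx D.Idx F => M *ᵥ bas D F s) key
    simp only [← Matrix.mulVec_mulVec, G.ni_bas_root hi hs, Matrix.mulVec_smul,
      dmat_bas_root _ hs, dmat_bas_root _ (G.w_lt hi hs)] at h1
    have h2 : χ s ≠ 0 := hχ.ne_zero hs
    rw [eq_comm, ← eq_inv_smul_iff₀ h2, smul_smul, smul_smul] at h1
    rw [h1]
    congr 1
    simp only [hχdef, G.k_w hi hs hi, if_pos rfl]
    rw [← zpow_neg]
    rw [mul_comm (t ^ _) (T.eta i s : F), mul_assoc, ← zpow_add₀ ht]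
    congr 2
    simp
    ring
  · intro j hj
    have h1 := congrArg (fun M : Matrix D.Idx D.Idx F => M *ᵥ bas D F (D.nroots + j)) key
    simp only [← Matrix.mulVec_mulVec, dmat_bas_h, G.ni_bas_h hi hj, Matrix.mulVec_add,
      Matrix.mulVec_smul] at h1
    exact h1.symm

theorem Ng_mul_Ng_sim {i : ℕ} (hi : i < D.rank) {t u : F} (ht : t ≠ 0) (hu : u ≠ 0) :
    (G.Ng F (sim D i) t : Matrix D.Idx D.Idx F) * (G.Ng F (sim D i) u : Matrix D.Idx D.Idx F) =
      dmat D fun s => (-t / u) ^ T.A i s := by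
  refine ext_bas fun a ha => ?_
  rw [← Matrix.mulVec_mulVec]
  rcases code_cases D ha with ⟨j, hj, rfl⟩ | ha
  · have h1 := fun (c : F) (hc : c ≠ 0) (m : ℕ) (hm : m < D.rank) =>
      (G.Ng_sim_bas_root (F := F) hi (G.sim_lt hi) hc).2 m hm
    simp only [h1 u hu j hj, dmat_bas_h, Matrix.mulVec_add, Matrix.mulVec_smul, h1 t ht j hj,
      h1 t ht i hi, G.A_sim hi]
    module
  · rw [(G.Ng_sim_bas_root hi ha hu).1, Matrix.mulVec_smul,
      (G.Ng_sim_bas_root hi (G.w_lt hi ha) ht).1, G.w_w hi ha, dmat_bas_root _ ha, smul_smul]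
    congr 1
    rw [G.A_w hi ha hi, G.A_sim hi, show -(T.A i a - T.A i a * 2) = T.A i a by ring,
      div_zpow, show -t = (-1 : F) * t by ring, mul_zpow, zpow_neg]
    have he : ((T.eta i a : F) * (T.eta i (T.w i a) : F)) = (-1) ^ T.A i a := by
      rw [← Int.cast_mul, G.eta_w hi ha]
      push_cast
      rcases Int.natAbs_eq (T.A i a) with h | h <;> conv_rhs => rw [h]
      · rw [zpow_natCast]
      · rw [zpow_neg, zpow_natCast, ← inv_pow, inv_neg_one]
    rw [← he]
    ring

theorem ni_Ng {i r : ℕ} (hi : i < D.rank) (hr : r < D.nroots) (t : F) :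
    (G.ni F i : Matrix D.Idx D.Idx F) * (G.Ng F r t : Matrix D.Idx D.Idx F) =
      (G.Ng F (T.w i r) ((T.eta i r : F) * t) : Matrix D.Idx D.Idx F) *
        (G.ni F i : Matrix D.Idx D.Idx F) := by
  simp only [Good.Ng, Units.val_mul, X_val]
  rw [← mul_assoc, ← mul_assoc, G.ni_x hi hr, mul_assoc (D.x F (T.w i r) _),
    G.ni_x hi (G.ng_lt hr), ← mul_assoc, mul_assoc (D.x F (T.w i r) _ * _), G.ni_x hi hr,
    ← mul_assoc, G.w_ng hi hr, G.eta_ng hi hr]
  have e : (T.eta i r : F) * -t⁻¹ = -((T.eta i r : F) * t)⁻¹ := by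
    rcases T.eta_eq_or i r with h | h <;> simp [h]
  rw [e]

/-- The product `n_r(t) n_r(u)` is diagonal. -/
theorem Ng_mul_Ng : ∀ r < D.nroots, ∀ {t u : F}, t ≠ 0 → u ≠ 0 →
    (G.Ng F r t : Matrix D.Idx D.Idx F) * (G.Ng F r u : Matrix D.Idx D.Idx F) =
      dmat D fun s => (-t / u) ^ P D T r s := by
  refine G.root_induction ?_ ?_
  · intro i hi t u ht hu
    rw [G.Ng_mul_Ng_sim hi ht hu]
    exact dmat_congr fun s _ => by rw [G.P_sim hi]
  · intro i r hi hr ih t u ht hu
    have he : (T.eta i r : F) ≠ 0 := by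
      rcases T.eta_eq_or i r with h | h <;> simp [h]
    have e2 := G.eta_sq (F := F) i r
    have h := ih (mul_ne_zero he ht) (mul_ne_zero he hu)
    have hunit : IsUnit (G.ni F i : Matrix D.Idx D.Idx F) := (G.ni F i).isUnit
    apply hunit.mul_right_cancel
    have et : (T.eta i r : F) * (T.eta i r : F) * t = t := by linear_combination t * e2
    have eu : (T.eta i r : F) * ((T.eta i r : F) * u) = u := by linear_combination u * e2
    have h1 := congrArg (fun M => (G.ni F i : Matrix D.Idx D.Idx F) * M) h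
    simp only [← mul_assoc, G.ni_Ng hi hr, G.ni_dmat hi] at h1
    rw [mul_assoc (G.Ng F (T.w i r) _ : Matrix D.Idx D.Idx F), G.ni_Ng hi hr, ← mul_assoc,
      et, eu] at h1
    rw [h1]
    congr 1
    refine dmat_congr fun s hs => ?_
    congr 1
    · rw [neg_div, mul_div_mul_left _ _ he, neg_div]
    · rw [← G.P_w hi hr (G.w_lt hi hs), G.w_w hi hs]

theorem Hg_eq {r : ℕ} (hr : r < D.nroots) {t : F} (ht : t ≠ 0) :
    (G.Hg F r t : Matrix D.Idx D.Idx F) = dmat D fun s => t ^ P D T r s := by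
  rw [Good.Hg, Units.val_mul, G.Ng_mul_Ng r hr ht (neg_ne_zero.2 one_ne_zero)]
  exact dmat_congr fun s _ => by rw [neg_div_neg_eq, div_one]

end Good

end Cfsg.Agent.Lib.Chev
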