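import Cfsg.Agent.Lib.Chev.DataF4
import Cfsg.Agent.Lib.Chev.Char
import Cfsg.Prelude.Def_LieTwisted
import Cfsg.Agent.Lib.Chev.Tw.Field

/-!
Unipotent elements raise the height grading, so two-elements of F4 in characteristic two have order
dividing thirty-two.
-/

set_option autoImplicit false
set_option linter.unusedSectionVars false
set_option maxRecDepth 100000

namespace Cfsg.Agent.Lib.Chev

open Cfsg.Lie
open scoped Matrix

/-- Height of a code, shifted by `H`. -/
def hlev (D : ChevalleyDatum) (T : Tables) (H a : ℕ) : ℕ :=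
  if D.nroots ≤ a then H else (isum D.rank (fun i => T.k i a) + (H : ℤ)).toNat

/-- The shifted height is bounded and separates the signs. -/
def chkHlev (D : ChevalleyDatum) (T : Tables) (H : ℕ) : Bool :=
  allLt D.nroots fun r =>
    decide (0 ≤ isum D.rank (fun i => T.k i r) + (H : ℤ)) &&
    decide (hlev D T H r ≤ 2 * H) &&
    (decide (r < npos D) || decide (0 < isum D.rank (fun i => T.k i r)))

variable {D : ChevalleyDatum} {T : Tables} {F : Type*} [Field F]

namespace Good

variable (G : Good D T)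
include G

theorem hlev_raises {H : ℕ} (h : chkHlev D T H = true) {r : ℕ} (hr : r < D.nroots)
    (hp : npos D ≤ r) (t : F) : Raises (hlev D T H) (D.x F r t - 1) 1 := by
  have hf : ∀ s < D.nroots, (hlev D T H s : ℤ) = isum D.rank (fun i => T.k i s) + (H : ℤ) := by
    intro s hs
    have := allLt_eq_true h s hs
    simp only [Bool.and_eq_true, decide_eq_true_eq] at this
    rw [hlev, if_neg (by omega), Int.toNat_of_nonneg this.1.1]
  have hrpos : 0 < isum D.rank (fun i => T.k i r) := by
    have := allLt_eq_true h r hr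
    simp only [Bool.and_eq_true, Bool.or_eq_true, decide_eq_true_eq] at this
    exact this.2.resolve_left (by omega)
  have hng : isum D.rank (fun i => T.k i (ng D r)) = -isum D.rank (fun i => T.k i r) := by
    rw [isum_eq, isum_eq, ← Finset.sum_neg_distrib]
    exact Finset.sum_congr rfl fun i hi => G.k_ng hr (Finset.mem_range.1 hi)
  have e1 := hf r hr
  have e2 := hf _ (G.ng_lt hr)
  refine G.x_sub_one_raises hr t (fun i _ => ?_) (by omega) fun s u m M hs hm => ?_
  · have : hlev D T H (D.nroots + i) = H := if_pos (Nat.le_add_right _ _)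
    rw [this]; omega
  · obtain ⟨hu, -, -, -, -, hk, -⟩ := G.ch_entry hr hs hm
    have e3 := hf s hs
    have e4 := hf u hu
    have e5 : isum D.rank (fun i => T.k i u) =
        ((m : ℤ) + 1) * isum D.rank (fun i => T.k i r) + isum D.rank (fun i => T.k i s) := by
      rw [isum_eq, isum_eq, isum_eq, Finset.mul_sum, ← Finset.sum_add_distrib]
      exact Finset.sum_congr rfl fun i hi => hk i (Finset.mem_range.1 hi)
    have e6 : 0 < ((m : ℤ) + 1) * isum D.rank (fun i => T.k i r) := mul_pos (by omega) hrpos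
    omega

theorem pos_hraises {H : ℕ} (h : chkHlev D T H = true) {g : GL D.Idx F}
    (hg : g ∈ D.posUnipotent F) :
    Raises (hlev D T H) ((g : Matrix D.Idx D.Idx F) - 1) 1 ∧
      Raises (hlev D T H) ((g⁻¹ : GL D.Idx F) - 1 : Matrix D.Idx D.Idx F) 1 := by
  let K : Subgroup (GL D.Idx F) :=
    { carrier := {g | Raises (hlev D T H) ((g : Matrix D.Idx D.Idx F) - 1) 1 ∧
        Raises (hlev D T H) ((g⁻¹ : GL D.Idx F) - 1 : Matrix D.Idx D.Idx F) 1}
      one_mem' := by simp [raises_zero]
      mul_mem' := by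
        have key : ∀ {a b : Matrix D.Idx D.Idx F}, Raises (hlev D T H) (a - 1) 1 →
            Raises (hlev D T H) (b - 1) 1 → Raises (hlev D T H) (a * b - 1) 1 := by
          intro a b ha hb
          rw [show a * b - 1 = (a - 1) * (b - 1) + (a - 1) + (b - 1) by noncomm_ring]
          exact (((ha.mul hb).mono (by omega)).add ha).add hb
        intro a b ha hb
        exact ⟨by simpa using key ha.1 hb.1, by simpa using key hb.2 ha.2⟩
      inv_mem' := fun {a} ha => ⟨ha.2, by simpa using ha.1⟩ }
  have hle : D.posUnipotent F ≤ K := G.posUnipotent_le_of fun r hr hp t => by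
    refine ⟨?_, ?_⟩
    · rw [G.X_val]; exact G.hlev_raises h hr hp t
    · rw [G.X_inv, G.X_val]; exact G.hlev_raises h hr hp (-t)
  exact hle hg

theorem pos_pow_eq_one [CharP F 2] {H k : ℕ} (h : chkHlev D T H = true) (hk : 2 * H < 2 ^ k)
    {g : GL D.Idx F} (hg : g ∈ D.posUnipotent F) : g ^ 2 ^ k = 1 := by
  have h1 := (G.pos_hraises h hg).1
  have h2 : ∀ n, Raises (hlev D T H) (((g : Matrix D.Idx D.Idx F) - 1) ^ n) n := by
    intro n
    induction n with
    | zero => rw [pow_zero]; exact raises_one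
    | succ n ih => rw [pow_succ]; exact ih.mul h1
  have hb : ∀ x : D.Idx, hlev D T H (cd D x) ≤ 2 * H := by
    intro x
    by_cases hx : D.nroots ≤ cd D x
    · rw [hlev, if_pos hx]; omega
    · have := allLt_eq_true h (cd D x) (by omega)
      simp only [Bool.and_eq_true, decide_eq_true_eq] at this
      exact this.1.2
  have h3 : ((g : Matrix D.Idx D.Idx F) - 1) ^ 2 ^ k = 0 := by
    ext x y
    exact h2 _ x y (by have := hb x; omega)
  rcases isEmpty_or_nonempty D.Idx with hE | hN
  · exact Units.ext (Matrix.ext fun i => hE.elim i)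
  haveI : CharP (Matrix D.Idx D.Idx F) 2 :=
    charP_of_injective_algebraMap (algebraMap F (Matrix D.Idx D.Idx F)).injective 2
  rw [sub_pow_char_pow_of_commute 2 k (Commute.one_right _), one_pow, sub_eq_zero] at h3
  exact Units.ext (by rw [Units.val_pow_eq_pow_val, h3, Units.val_one])

end Good

theorem hlevF4 : chkHlev chevF4 tabF4 11 = true := by decide +kernel

/-- Two-elements of F4 in characteristic two have order dividing 32. -/
theorem f4_two_element {K : Type*} [Field K] [Fintype K] [CharP K 2] (x : ↥(chevF4.group K))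
    (hx : ∃ j, orderOf x = 2 ^ j) : x ^ 32 = 1 := by
  obtain ⟨P, hP⟩ := goodF4.exists_sylow (F := K) 2
  obtain ⟨j, hj⟩ := hx
  have hp : IsPGroup 2 ↥(Subgroup.zpowers x) :=
    IsPGroup.of_card (n := j) (by rw [Nat.card_zpowers, hj])
  obtain ⟨Q, hQ⟩ := hp.exists_le_sylow
  obtain ⟨g, rfl⟩ := MulAction.exists_smul_eq ↥(chevF4.group K) P Q
  have hmem : x ∈ ((g • P : Sylow 2 ↥(chevF4.group K)) : Subgroup ↥(chevF4.group K)) :=
    hQ (Subgroup.mem_zpowers x)
  rw [Sylow.coe_subgroup_smul, Subgroup.mem_pointwise_smul_iff_inv_smul_mem, hP,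
    Subgroup.mem_subgroupOf] at hmem
  have h1 := goodF4.pos_pow_eq_one hlevF4 (k := 5) (by norm_num) hmem
  have h2 : ((MulAut.conj g)⁻¹ • x) ^ 32 = 1 := by
    refine Subtype.ext ?_
    rw [Subgroup.coe_pow]
    simpa using h1
  rw [← smul_pow', smul_eq_iff_eq_inv_smul, smul_one] at h2
  exact h2

theorem twistedF4_le {K : Type*} [Field K] (q : ℕ) : twistedF4 K q ≤ chevF4.group K := by
  refine (Subgroup.closure_le _).2 ?_
  rintro g ⟨w, -, hg⟩
  have e : g = goodF4.wordG w := Units.ext (by rw [hg, goodF4.wordG_val])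
  rw [e]
  refine goodF4.wordG_mem fun p _ => ?_
  by_cases hs : p.1 < chevF4.nroots
  · exact goodF4.X_mem_group hs _
  · have : goodF4.X K p.1 p.2 = 1 := Units.ext (by simp [ChevalleyDatum.x, hs])
    rw [this]; exact one_mem _

theorem twistedF4_two_element {K : Type*} [Field K] [Fintype K] (m : ℕ)
    (hK : Fintype.card K = 2 ^ (2 * m + 1)) (x : ↥(twistedF4 K (2 ^ m)))
    (hx : ∃ j : ℕ, orderOf x = 2 ^ j) : orderOf x ≤ 32 := by
  haveI := Tw.exists_prime_pow_of_card Nat.prime_two hK
  have hi := Subgroup.inclusion_injective (twistedF4_le (K := K) (2 ^ m))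
  have h1 := f4_two_element (Subgroup.inclusion (twistedF4_le (2 ^ m)) x)
    (by rwa [orderOf_injective _ hi])
  rw [← map_pow, map_eq_one_iff _ hi] at h1
  exact Nat.le_of_dvd (by norm_num) (orderOf_dvd_of_pow_eq_one h1)

end Cfsg.Agent.Lib.Chev
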