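import Cfsg.Agent.Lib.Chev.Comm

/-!
The unipotent subgroup: triangularity, ordered products, nilpotency.
-/

set_option autoImplicit false

namespace Cfsg.Agent.Lib.Chev

open Cfsg.Lie
open scoped Matrix

variable {D : ChevalleyDatum} {T : Tables} {F : Type*} [Field F]

/-- Level of a code in the upper triangular order: negative roots, then `h`, then positive roots. -/
def lev (D : ChevalleyDatum) (a : ℕ) : ℕ :=
  if D.nroots ≤ a then npos D else if a < npos D then a else a + 1

/-- Level for the lower triangular order. -/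
def levNeg (D : ChevalleyDatum) (a : ℕ) : ℕ := D.nroots - lev D a

/-- Nonzero entries go up by at least `k` levels. -/
def Raises (f : ℕ → ℕ) (M : Matrix D.Idx D.Idx F) (k : ℕ) : Prop :=
  ∀ x y, f (cd D x) < f (cd D y) + k → M x y = 0

theorem Raises.mul {f : ℕ → ℕ} {M N : Matrix D.Idx D.Idx F} {a b : ℕ} (hM : Raises f M a)
    (hN : Raises f N b) : Raises f (M * N) (a + b) := by
  intro x y h
  rw [Matrix.mul_apply]
  refine Finset.sum_eq_zero fun z _ => ?_
  by_cases h1 : f (cd D x) < f (cd D z) + a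
  · rw [hM x z h1, zero_mul]
  · rw [hN z y (by omega), mul_zero]

theorem Raises.add {f : ℕ → ℕ} {M N : Matrix D.Idx D.Idx F} {a : ℕ} (hM : Raises f M a)
    (hN : Raises f N a) : Raises f (M + N) a := fun x y h => by
  rw [Matrix.add_apply, hM x y h, hN x y h, add_zero]

theorem Raises.neg {f : ℕ → ℕ} {M : Matrix D.Idx D.Idx F} {a : ℕ} (hM : Raises f M a) :
    Raises f (-M) a := fun x y h => by
  rw [Matrix.neg_apply, hM x y h, neg_zero]

theorem Raises.sub {f : ℕ → ℕ} {M N : Matrix D.Idx D.Idx F} {a : ℕ} (hM : Raises f M a)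
    (hN : Raises f N a) : Raises f (M - N) a := fun x y h => by
  rw [Matrix.sub_apply, hM x y h, hN x y h, sub_zero]

theorem Raises.mono {f : ℕ → ℕ} {M : Matrix D.Idx D.Idx F} {a b : ℕ} (hM : Raises f M a)
    (h : b ≤ a) : Raises f M b := fun x y h' => hM x y (by omega)

theorem raises_zero {f : ℕ → ℕ} (k : ℕ) : Raises (D := D) f (0 : Matrix D.Idx D.Idx F) k :=
  fun _ _ _ => rfl

theorem raises_one {f : ℕ → ℕ} : Raises (D := D) f (1 : Matrix D.Idx D.Idx F) 0 := fun x y h => by
  rw [Matrix.one_apply_ne]; rintro rfl; omega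

theorem entry_eq (M : Matrix D.Idx D.Idx F) (x y : D.Idx) :
    M x y = (M *ᵥ bas D F (cd D y)) x := by
  rcases y with i | r
  · simp only [cd, Sum.elim_inl]; rw [bas_inl, Matrix.mulVec_single_one]; rfl
  · simp only [cd, Sum.elim_inr]; rw [bas_inr, Matrix.mulVec_single_one]; rfl

theorem bas_apply_eq_zero {a : ℕ} {x : D.Idx} (h : cd D x ≠ a) : bas D F a x = 0 := by simp [bas, h]

theorem list_sum_apply' (l : List (D.Idx → F)) (x : D.Idx) :
    l.sum x = (l.map fun v => v x).sum := by
  induction l with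
  | nil => rfl
  | cons v l ih => simp [ih]

theorem cd_lt (x : D.Idx) : cd D x < D.nroots + D.rank := by
  rcases x with i | r
  · have := i.isLt; simp [cd]
  · have := r.isLt; simp [cd]; omega

theorem hvec_apply_eq_zero (r : ℕ) {x : D.Idx} (h : cd D x < D.nroots) :
    hvec D T F r x = 0 := by
  rcases x with i | u
  · simp [cd] at h
  · exact hvec_inr T r u

namespace Good

variable (G : Good D T)
include G

theorem lev_le (a : ℕ) : lev D a ≤ D.nroots := by
  have := G.even_n
  unfold lev; split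
  · omega
  split <;> omega

/-- Entries of `x_r(t) - 1`, given a level function compatible with the root `r`. -/
theorem x_sub_one_raises {f : ℕ → ℕ} {r : ℕ} (hr : r < D.nroots) (t : F)
    (h1 : ∀ i < D.rank, f (D.nroots + i) < f r ∧ f (ng D r) < f (D.nroots + i))
    (h2 : f (ng D r) < f r)
    (h3 : ∀ (s u m : ℕ) (M : ℤ), s < D.nroots → (T.ch r s)[m]? = some (u, M) → f s < f u) :
    Raises f (D.x F r t - 1) 1 := by
  intro x y hxy
  rw [entry_eq (D.x F r t - 1), Matrix.sub_mulVec, Matrix.one_mulVec, Pi.sub_apply]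
  rcases code_cases D (cd_lt y) with ⟨i, hi, he⟩ | hy
  · rw [he, G.x_bas_h hr hi, Pi.add_apply, add_sub_cancel_left, Pi.smul_apply,
      bas_apply_eq_zero, smul_zero]
    intro hx
    have := (h1 i hi).1
    rw [hx, he] at hxy
    omega
  by_cases e1 : cd D y = r
  · rw [e1, G.x_bas_self hr, sub_self]
  by_cases e2 : cd D y = ng D r
  · rw [e2, G.x_bas_ng hr, Pi.add_apply, Pi.add_apply]
    rw [e2] at hxy
    have hh : hvec D T F r x = 0 := by
      rcases code_cases D (cd_lt x) with ⟨i, hi, he⟩ | hx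
      · have := (h1 i hi).2
        rw [he] at hxy
        omega
      · exact hvec_apply_eq_zero r hx
    have hb : bas D F r x = 0 := bas_apply_eq_zero fun hx => by rw [hx] at hxy; omega
    simp [hh, hb]
  rw [G.x_bas_other hr hy e1 e2, Pi.add_apply, add_sub_cancel_left]
  simp only [chVec, list_sum_apply']
  refine List.sum_eq_zero fun z hz => ?_
  simp only [List.map_map, List.mem_map, Function.comp_apply] at hz
  obtain ⟨⟨⟨u, M⟩, m⟩, hq, rfl⟩ := hz
  have := h3 (cd D y) u m M hy (List.mk_mem_zipIdx_iff_getElem?.1 hq)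
  rw [Pi.smul_apply, bas_apply_eq_zero, smul_zero]
  intro hx
  simp only [hx] at hxy
  omega

omit G in
theorem lev_h (i : ℕ) : lev D (D.nroots + i) = npos D := if_pos (Nat.le_add_right _ _)

omit G in
theorem lev_neg_root {a : ℕ} (h : a < npos D) : lev D a = a := by
  unfold lev
  rw [if_neg (by unfold npos at h; omega), if_pos h]

omit G in
theorem lev_pos_root {a : ℕ} (h : npos D ≤ a) (h' : a < D.nroots) : lev D a = a + 1 := by
  unfold lev
  rw [if_neg (by omega), if_neg (by omega)]

omit G in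
theorem lev_root {a : ℕ} (h' : a < D.nroots) :
    (a < npos D ∧ lev D a = a) ∨ (npos D ≤ a ∧ lev D a = a + 1) := by
  rcases Nat.lt_or_ge a (npos D) with h | h
  · exact Or.inl ⟨h, lev_neg_root h⟩
  · exact Or.inr ⟨h, lev_pos_root h h'⟩

theorem x_raises {r : ℕ} (hr : r < D.nroots) (hp : npos D ≤ r) (t : F) :
    Raises (lev D) (D.x F r t - 1) 1 := by
  have he := G.even_n
  have hg : ng D r < npos D := by unfold ng; omega
  refine G.x_sub_one_raises hr t (fun i _ => ?_) ?_ fun s u m M hs hm => ?_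
  · rw [lev_h, lev_neg_root hg, lev_pos_root hp hr]; omega
  · rw [lev_neg_root hg, lev_pos_root hp hr]; omega
  · obtain ⟨hu, -, -, hlt, -⟩ := G.ch_entry hr hs hm
    have := hlt hp
    rcases lev_root hs with ⟨a, b⟩ | ⟨a, b⟩ <;> rcases lev_root hu with ⟨c, d⟩ | ⟨c, d⟩ <;> omega

theorem x_lowers {r : ℕ} (hr : r < D.nroots) (hp : r < npos D) (t : F) :
    Raises (levNeg D) (D.x F r t - 1) 1 := by
  have he := G.even_n
  have hg : npos D ≤ ng D r := by unfold ng; omega
  have hg' : ng D r < D.nroots := G.ng_lt hr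
  refine G.x_sub_one_raises hr t (fun i _ => ?_) ?_ fun s u m M hs hm => ?_
  · simp only [levNeg]; rw [lev_h, lev_pos_root hg hg', lev_neg_root hp]; omega
  · simp only [levNeg]; rw [lev_pos_root hg hg', lev_neg_root hp]; omega
  · obtain ⟨hu, -, -, -, hlt, -⟩ := G.ch_entry hr hs hm
    have := hlt hp
    simp only [levNeg]
    rcases lev_root hs with ⟨a, b⟩ | ⟨a, b⟩ <;> rcases lev_root hu with ⟨c, d⟩ | ⟨c, d⟩ <;> omega

omit G in
theorem raises_of_mem_closure {f : ℕ → ℕ} {S : Set (GL D.Idx F)}
    (hS : ∀ g ∈ S, Raises f ((g : Matrix D.Idx D.Idx F) - 1) 1 ∧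
      Raises f (((g⁻¹ : GL D.Idx F) : Matrix D.Idx D.Idx F) - 1) 1)
    {g : GL D.Idx F} (hg : g ∈ Subgroup.closure S) :
    Raises f ((g : Matrix D.Idx D.Idx F) - 1) 1 := by
  have key : ∀ a b : Matrix D.Idx D.Idx F, Raises f (a - 1) 1 → Raises f (b - 1) 1 →
      Raises f (a * b - 1) 1 := fun a b ha hb => by
    have e : a * b - 1 = (a - 1) * (b - 1) + (a - 1) + (b - 1) := by
      rw [sub_mul, mul_sub, one_mul, mul_one]; abel
    rw [e]
    exact (((ha.mul hb).mono (by omega)).add ha).add hb
  induction hg using Subgroup.closure_induction_left with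
  | one => rw [Units.val_one, sub_self]; exact raises_zero 1
  | mul_left x hx y _ ih => rw [Units.val_mul]; exact key _ _ (hS x hx).1 ih
  | inv_mul_cancel x hx y _ ih => rw [Units.val_mul]; exact key _ _ (hS x hx).2 ih

theorem pos_raises {g : GL D.Idx F} (hg : g ∈ D.posUnipotent F) :
    Raises (lev D) ((g : Matrix D.Idx D.Idx F) - 1) 1 := by
  refine raises_of_mem_closure ?_ hg
  rintro x ⟨r, t, hr, hx⟩
  obtain ⟨hr, hp⟩ := G.isPos_iff.1 hr
  rw [G.eq_X_of_val hx, G.X_inv]
  exact ⟨G.x_raises hr hp t, G.x_raises hr hp _⟩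

theorem neg_raises {g : GL D.Idx F} (hg : g ∈ D.negUnipotent F) :
    Raises (levNeg D) ((g : Matrix D.Idx D.Idx F) - 1) 1 := by
  refine raises_of_mem_closure ?_ hg
  rintro x ⟨r, t, hr, hx⟩
  obtain ⟨hr, hp⟩ := G.isNeg_iff.1 hr
  rw [G.eq_X_of_val hx, G.X_inv]
  exact ⟨G.x_lowers hr hp t, G.x_lowers hr hp _⟩

/-- Unipotence. -/
theorem pow_sub_one_eq_zero {g : GL D.Idx F} (hg : g ∈ D.posUnipotent F) :
    ((g : Matrix D.Idx D.Idx F) - 1) ^ (D.rank + D.nroots) = 0 := by
  have key : ∀ k, Raises (lev D) (((g : Matrix D.Idx D.Idx F) - 1) ^ k) k := by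
    intro k
    induction k with
    | zero => rw [pow_zero]; exact raises_one
    | succ k ih => rw [pow_succ]; exact ih.mul (G.pos_raises hg)
  ext x y
  refine key _ x y ?_
  have h0 : 0 < D.rank := by
    by_contra h
    rcases Nat.eq_zero_or_pos D.nroots with h' | h'
    · have := cd_lt x; omega
    · obtain ⟨i, hi, -⟩ := G.exists_c_ne_zero (F := F) h'
      omega
  have := G.lev_le (cd D x)
  omega

theorem pos_isNilpotent : Group.IsNilpotent (D.posUnipotent F) := by
  let H : ℕ → Subgroup (D.posUnipotent F) := fun k =>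
    { carrier := {g | Raises (lev D) (((g : GL D.Idx F) : Matrix D.Idx D.Idx F) - 1) (k + 1)}
      one_mem' := by
        show Raises (lev D) ((1 : Matrix D.Idx D.Idx F) - 1) (k + 1)
        rw [sub_self]; exact raises_zero _
      mul_mem' := by
        intro a b ha hb
        show Raises (lev D) (((a : GL D.Idx F) : Matrix D.Idx D.Idx F) *
          ((b : GL D.Idx F) : Matrix D.Idx D.Idx F) - 1) (k + 1)
        have e : ∀ a b : Matrix D.Idx D.Idx F, a * b - 1 = (a - 1) * (b - 1) + (a - 1) + (b - 1) := by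
          intro a b; rw [sub_mul, mul_sub, one_mul, mul_one]; abel
        rw [e]
        exact (((Raises.mul ha hb).mono (by omega)).add ha).add hb
      inv_mem' := by
        intro a ha
        show Raises (lev D) ((((a : GL D.Idx F))⁻¹ : GL D.Idx F) - 1 : Matrix D.Idx D.Idx F) (k + 1)
        have h1 := G.pos_raises (inv_mem a.2)
        have e : ((((a : GL D.Idx F))⁻¹ : GL D.Idx F) : Matrix D.Idx D.Idx F) - 1 =
            -(((((a : GL D.Idx F))⁻¹ : GL D.Idx F) : Matrix D.Idx D.Idx F) - 1) *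
              (((a : GL D.Idx F) : Matrix D.Idx D.Idx F) - 1) -
              (((a : GL D.Idx F) : Matrix D.Idx D.Idx F) - 1) := by
          rw [neg_mul, sub_mul, mul_sub, one_mul, mul_one, Units.inv_mul]; abel
        rw [e]
        exact ((Raises.mul h1.neg ha).mono (by omega)).sub ha }
  rw [Subgroup.nilpotent_iff_finite_descending_central_series]
  refine ⟨D.nroots, H, ⟨?_, ?_⟩, ?_⟩
  · rw [eq_top_iff]; intro g _; exact G.pos_raises g.2
  · intro x n hx g
    show Raises (lev D) ((((x * g * x⁻¹ * g⁻¹ : D.posUnipotent F) : GL D.Idx F) :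
      Matrix D.Idx D.Idx F) - 1) (n + 1 + 1)
    set a : GL D.Idx F := (x : GL D.Idx F) with ha
    set b : GL D.Idx F := (g : GL D.Idx F) with hb
    have e : (((a * b * a⁻¹ * b⁻¹ : GL D.Idx F)) : Matrix D.Idx D.Idx F) - 1 =
        (((a : Matrix D.Idx D.Idx F) - 1) * ((b : Matrix D.Idx D.Idx F) - 1) -
          ((b : Matrix D.Idx D.Idx F) - 1) * ((a : Matrix D.Idx D.Idx F) - 1)) *
          ((a⁻¹ * b⁻¹ : GL D.Idx F) : Matrix D.Idx D.Idx F) := by
      have e1 : ((a : Matrix D.Idx D.Idx F) - 1) * ((b : Matrix D.Idx D.Idx F) - 1) -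
          ((b : Matrix D.Idx D.Idx F) - 1) * ((a : Matrix D.Idx D.Idx F) - 1) =
          (a : Matrix D.Idx D.Idx F) * b - (b : Matrix D.Idx D.Idx F) * a := by
        simp only [sub_mul, mul_sub, one_mul, mul_one]; abel
      rw [e1, sub_mul, ← Units.val_mul, ← Units.val_mul, ← Units.val_mul, ← Units.val_mul,
        show a * b * (a⁻¹ * b⁻¹) = a * b * a⁻¹ * b⁻¹ by group,
        show b * a * (a⁻¹ * b⁻¹) = 1 by group, Units.val_one]
    have h0 : Raises (lev D) ((a⁻¹ * b⁻¹ : GL D.Idx F) : Matrix D.Idx D.Idx F) 0 := by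
      have h := G.pos_raises (mul_mem (inv_mem x.2) (inv_mem g.2))
      have := (h.mono (Nat.zero_le _)).add raises_one
      simpa using this
    show Raises (lev D) (((a * b * a⁻¹ * b⁻¹ : GL D.Idx F) : Matrix D.Idx D.Idx F) - 1) (n + 1 + 1)
    rw [e]
    exact ((((Raises.mul hx (G.pos_raises g.2)).sub
      ((Raises.mul (G.pos_raises g.2) hx).mono (by omega))).mul h0)).mono le_rfl
  · rw [eq_bot_iff]
    intro g hg
    rw [Subgroup.mem_bot]
    refine Subtype.ext (Units.ext ?_)
    have : (((g : GL D.Idx F) : Matrix D.Idx D.Idx F) - 1) = 0 := by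
      ext x y
      have := G.lev_le (cd D x)
      exact hg x y (by omega)
    exact sub_eq_zero.1 this

/-- The subgroup generated by the positive root subgroups from index `k` on. -/
def tailU (F : Type*) [Field F] (k : ℕ) : Subgroup (GL D.Idx F) :=
  Subgroup.closure {g | ∃ q t, q < D.nroots ∧ npos D ≤ q ∧ k ≤ q ∧ g = G.X F q t}

theorem code_ng {r : ℕ} (hr : r < D.nroots) : code D T (ng D r) = - code D T r := by
  have key : ∀ (l : List ℕ) (a : ℤ), (∀ i ∈ l, T.k i (ng D r) = - T.k i r) →
      l.foldl (fun a i => a * 16 + T.k i (ng D r)) (-a) =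
        - l.foldl (fun a i => a * 16 + T.k i r) a := by
    intro l
    induction l with
    | nil => intros; rfl
    | cons i l ih =>
      intro a hl
      simp only [List.foldl_cons, hl i List.mem_cons_self]
      rw [show -a * 16 + -T.k i r = -(a * 16 + T.k i r) by ring]
      exact ih _ fun j hj => hl j (List.mem_cons_of_mem _ hj)
  simpa [code] using key _ 0 fun i hi => G.k_ng hr (List.mem_range.1 hi)

theorem code_pos {r : ℕ} (hr : r < D.nroots) (hp : npos D ≤ r) : 0 < code D T r := by
  have h : ng D r < r := by have := G.even_n; unfold ng; omega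
  have := G.code_strictMono h hr
  rw [G.code_ng hr] at this
  omega

omit G in
theorem code_lin {r s k : ℕ} {a b : ℤ}
    (h : ∀ i < D.rank, T.k i k = a * T.k i r + b * T.k i s) :
    code D T k = a * code D T r + b * code D T s := by
  have key : ∀ (l : List ℕ) (x y : ℤ), (∀ i ∈ l, i < D.rank) →
      l.foldl (fun a i => a * 16 + T.k i k) (a * x + b * y) =
        a * l.foldl (fun a i => a * 16 + T.k i r) x + b * l.foldl (fun a i => a * 16 + T.k i s) y := by
    intro l
    induction l with
    | nil => intros; rfl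
    | cons i l ih =>
      intro x y hl
      simp only [List.foldl_cons, h i (hl i List.mem_cons_self)]
      rw [show (a * x + b * y) * 16 + (a * T.k i r + b * T.k i s) =
        a * (x * 16 + T.k i r) + b * (y * 16 + T.k i s) by ring]
      exact ih _ _ fun j hj => hl j (List.mem_cons_of_mem _ hj)
  simpa [code] using key _ 0 0 fun i hi => List.mem_range.1 hi

/-- The roots in a commutator word of two positive roots are later than both. -/
theorem terms_gt {r s k a b : ℕ} {C : ℤ} (hr : r < D.nroots) (hs : s < D.nroots)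
    (hpr : npos D ≤ r) (hps : npos D ≤ s) (h : (k, C, a, b) ∈ T.terms r s) :
    k < D.nroots ∧ r < k ∧ s < k := by
  obtain ⟨hk, ha, hb, hl⟩ := G.mem_terms hr hs h
  have e := code_lin (D := D) hl
  have h1 := G.code_pos hr hpr
  have h2 := G.code_pos hs hps
  refine ⟨hk, ?_, ?_⟩
  all_goals
    by_contra hcon
    push Not at hcon
    have ha' : (1 : ℤ) ≤ (a : ℤ) := by exact_mod_cast ha
    have hb' : (1 : ℤ) ≤ (b : ℤ) := by exact_mod_cast hb
    have hlt : code D T r + code D T s ≤ code D T k := by rw [e]; nlinarith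
    rcases Nat.lt_or_eq_of_le hcon with h' | h'
    · have := G.code_strictMono h' (by assumption); omega
    · rw [h'] at hlt; omega

theorem X_mem_tail {k q : ℕ} (hq : q < D.nroots) (hp : npos D ≤ q) (hk : k ≤ q) (t : F) :
    G.X F q t ∈ G.tailU F k :=
  Subgroup.subset_closure ⟨q, t, hq, hp, hk, rfl⟩

theorem tail_conj {k q : ℕ} (hk : k < D.nroots) (hpk : npos D ≤ k) (hq : q < D.nroots)
    (hkq : k < q) (t u : F) :
    (G.X F k t)⁻¹ * G.X F q u * G.X F k t ∈ G.tailU F (k + 1) := by
  have hne : q ≠ ng D k := by have := G.even_n; unfold ng; omega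
  rw [mul_assoc, G.commAt k q hk hq (by omega) hne t u, mul_assoc (G.X F k t), inv_mul_cancel_left]
  refine mul_mem (G.X_mem_tail hq (by omega) (by omega) u) (G.wordG_mem ?_)
  intro p hp
  simp only [cw, List.mem_map] at hp
  obtain ⟨⟨j, C, a, b⟩, hc, rfl⟩ := hp
  obtain ⟨hj, h1, h2⟩ := G.terms_gt hk hq hpk (by omega) hc
  exact G.X_mem_tail hj (by omega) (by omega) _

theorem tail_decomp {k : ℕ} (hk : k < D.nroots) (hpk : npos D ≤ k) {g : GL D.Idx F}
    (hg : g ∈ G.tailU F k) : ∃ t, ∃ h ∈ G.tailU F (k + 1), g = G.X F k t * h := by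
  induction hg using Subgroup.closure_induction_left with
  | one => exact ⟨0, 1, one_mem _, by rw [G.X_zero, mul_one]⟩
  | mul_left x hx y _ ih =>
    obtain ⟨q, u, hq, hpq, hkq, rfl⟩ := hx
    obtain ⟨t, h, hh, rfl⟩ := ih
    rcases Nat.eq_or_lt_of_le hkq with rfl | hlt
    · exact ⟨u + t, h, hh, by rw [← mul_assoc, G.X_add]⟩
    · exact ⟨t, _, mul_mem (G.tail_conj hk hpk hq hlt t u) hh, by group⟩
  | inv_mul_cancel x hx y _ ih =>
    obtain ⟨q, u, hq, hpq, hkq, rfl⟩ := hx
    obtain ⟨t, h, hh, rfl⟩ := ih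
    rw [G.X_inv]
    rcases Nat.eq_or_lt_of_le hkq with rfl | hlt
    · exact ⟨-u + t, h, hh, by rw [← mul_assoc, G.X_add]⟩
    · exact ⟨t, _, mul_mem (G.tail_conj hk hpk hq hlt t (-u)) hh, by group⟩

theorem tail_bot {k : ℕ} (hk : D.nroots ≤ k) : G.tailU F k = ⊥ := by
  rw [eq_bot_iff, Good.tailU, Subgroup.closure_le]
  rintro g ⟨q, t, hq, -, hkq, rfl⟩
  omega

/-- An element of a later tail has no coroot part in the column of an earlier negative root. -/
theorem tail_entry {r : ℕ} (hr : r < D.nroots) (hp : npos D ≤ r) {g : GL D.Idx F}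
    (hg : g ∈ G.tailU F (r + 1)) :
    ∀ x y : D.Idx, (ng D r ≤ cd D y ∧ cd D y < D.nroots) →
      ¬ (ng D r ≤ cd D x ∧ cd D x < D.nroots) → (g : Matrix D.Idx D.Idx F) x y = 0 := by
  have gen : ∀ q (t : F), q < D.nroots → npos D ≤ q → r + 1 ≤ q →
      ∀ x y : D.Idx, (ng D r ≤ cd D y ∧ cd D y < D.nroots) →
      ¬ (ng D r ≤ cd D x ∧ cd D x < D.nroots) → D.x F q t x y = 0 := by
    intro q t hq hpq hrq x y hy hx
    rw [entry_eq (D.x F q t)]
    have hne : cd D y ≠ ng D q := by unfold ng at *; omega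
    have hb : bas D F (cd D y) x = 0 := bas_apply_eq_zero fun e => hx (e ▸ hy)
    by_cases e1 : cd D y = q
    · rw [e1, G.x_bas_self hq, ← e1, hb]
    rw [G.x_bas_other hq hy.2 e1 hne, Pi.add_apply, hb, zero_add]
    simp only [chVec, list_sum_apply']
    refine List.sum_eq_zero fun z hz => ?_
    simp only [List.map_map, List.mem_map, Function.comp_apply] at hz
    obtain ⟨⟨⟨u, M⟩, m⟩, hm, rfl⟩ := hz
    obtain ⟨hu, -, -, hlt, -⟩ := G.ch_entry hq hy.2 (List.mk_mem_zipIdx_iff_getElem?.1 hm)
    have := hlt hpq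
    rw [Pi.smul_apply, bas_apply_eq_zero, smul_zero]
    intro e
    simp only at e
    exact hx ⟨by omega, by omega⟩
  induction hg using Subgroup.closure_induction_left with
  | one =>
    intro x y hy hx
    rw [Units.val_one, Matrix.one_apply_ne]
    rintro rfl
    exact hx hy
  | mul_left a ha b _ ih =>
    obtain ⟨q, t, hq, hpq, hrq, rfl⟩ := ha
    intro x y hy hx
    rw [Units.val_mul, G.X_val, Matrix.mul_apply]
    refine Finset.sum_eq_zero fun z _ => ?_
    by_cases hz : ng D r ≤ cd D z ∧ cd D z < D.nroots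
    · rw [gen q t hq hpq hrq x z hz hx, zero_mul]
    · rw [ih z y hy hz, mul_zero]
  | inv_mul_cancel a ha b _ ih =>
    obtain ⟨q, t, hq, hpq, hrq, rfl⟩ := ha
    intro x y hy hx
    rw [G.X_inv, Units.val_mul, G.X_val, Matrix.mul_apply]
    refine Finset.sum_eq_zero fun z _ => ?_
    by_cases hz : ng D r ≤ cd D z ∧ cd D z < D.nroots
    · rw [gen q _ hq hpq hrq x z hz hx, zero_mul]
    · rw [ih z y hy hz, mul_zero]

theorem X_tail_eq_zero {r : ℕ} (hr : r < D.nroots) (hp : npos D ≤ r) {t : F}
    (h : G.X F r t ∈ G.tailU F (r + 1)) : t = 0 := by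
  obtain ⟨i, hi, hc⟩ := G.exists_c_ne_zero (F := F) hr
  have hn := G.ng_lt hr
  have h1 := G.tail_entry hr hp h (Sum.inl ⟨i, hi⟩) (Sum.inr ⟨ng D r, hn⟩) ⟨le_rfl, hn⟩
    (by simp [cd])
  rw [G.X_val, entry_eq (D.x F r t)] at h1
  simp only [cd, Sum.elim_inr, G.x_bas_ng hr, Pi.add_apply, Pi.smul_apply, hvec_inl] at h1
  rw [bas_apply_eq_zero (by simp [cd]; omega), bas_apply_eq_zero (by simp [cd]; omega)] at h1
  simpa [hc] using h1

/-- Ordered product of root elements along a segment. -/
def oprod (F : Type*) [Field F] (k m : ℕ) (t : ℕ → F) : GL D.Idx F :=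
  G.wordG ((List.range' k m).map fun r => (r, t r))

theorem oprod_succ (k m : ℕ) (t : ℕ → F) :
    G.oprod F k (m + 1) t = G.X F k (t k) * G.oprod F (k + 1) m t := by
  simp [Good.oprod, Good.wordG, List.range'_succ]

theorem oprod_mem {k m : ℕ} (hk : npos D ≤ k) (hm : k + m ≤ D.nroots) (t : ℕ → F) :
    G.oprod F k m t ∈ G.tailU F k := by
  refine G.wordG_mem fun p hp => ?_
  obtain ⟨r, hr, rfl⟩ := List.mem_map.1 hp
  rw [List.mem_range'_1] at hr
  exact G.X_mem_tail (by omega) (by omega) hr.1 _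

theorem oprod_congr {k m : ℕ} {t t' : ℕ → F} (h : ∀ r, k ≤ r → r < k + m → t r = t' r) :
    G.oprod F k m t = G.oprod F k m t' := by
  unfold Good.oprod
  congr 1
  refine List.map_congr_left fun r hr => ?_
  rw [List.mem_range'_1] at hr
  rw [h r hr.1 hr.2]

theorem exists_oprod : ∀ (m k : ℕ), npos D ≤ k → k + m = D.nroots → ∀ g ∈ G.tailU F k,
    ∃ t : ℕ → F, g = G.oprod F k m t := by
  intro m
  induction m with
  | zero =>
    intro k _ hkm g hg
    rw [G.tail_bot (by omega), Subgroup.mem_bot] at hg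
    exact ⟨fun _ => 0, by simp [hg, Good.oprod, Good.wordG]⟩
  | succ m ih =>
    intro k hk hkm g hg
    obtain ⟨t, h, hh, rfl⟩ := G.tail_decomp (by omega) hk hg
    obtain ⟨f, rfl⟩ := ih (k + 1) (by omega) (by omega) h hh
    refine ⟨Function.update f k t, ?_⟩
    rw [G.oprod_succ, Function.update_self, G.oprod_congr (t := Function.update f k t) (t' := f)
      fun r hr _ => Function.update_of_ne (by omega) _ _]

theorem oprod_injective : ∀ (m k : ℕ), npos D ≤ k → k + m = D.nroots → ∀ t t' : ℕ → F,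
    G.oprod F k m t = G.oprod F k m t' → ∀ r, k ≤ r → r < k + m → t r = t' r := by
  intro m
  induction m with
  | zero => intro k _ _ t t' _ r h1 h2; omega
  | succ m ih =>
    intro k hk hkm t t' he r h1 h2
    rw [G.oprod_succ, G.oprod_succ] at he
    have h0 : t k = t' k := by
      have h3 : G.X F k (t k - t' k) ∈ G.tailU F (k + 1) := by
        have e : G.X F k (t k - t' k) = G.oprod F (k + 1) m t' * (G.oprod F (k + 1) m t)⁻¹ := by
          rw [eq_mul_inv_iff_mul_eq, sub_eq_neg_add, ← G.X_add, mul_assoc, he, ← mul_assoc,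
            G.X_add, neg_add_cancel, G.X_zero, one_mul]
        rw [e]
        exact mul_mem (G.oprod_mem (by omega) (by omega) _) (inv_mem (G.oprod_mem (by omega) (by omega) _))
      exact sub_eq_zero.1 (G.X_tail_eq_zero (by omega) hk h3)
    rw [h0, mul_right_inj] at he
    rcases Nat.eq_or_lt_of_le h1 with rfl | h3
    · exact h0
    · exact ih (k + 1) (by omega) (by omega) t t' he r h3 (by omega)

theorem tail_npos : G.tailU F (npos D) = D.posUnipotent F := by
  apply le_antisymm
  · rw [Good.tailU, Subgroup.closure_le]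
    rintro g ⟨q, t, hq, hp, -, rfl⟩
    exact G.X_mem_posUnipotent hq hp t
  · exact G.posUnipotent_le_of fun r hr hp t => G.X_mem_tail hr hp hp t

theorem posRoots_range' : D.posRoots = List.range' (npos D) (npos D) := by
  have he := G.even_n
  rw [G.posRoots_eq, List.range_eq_range',
    show List.range' 0 D.nroots = List.range' 0 (npos D) ++ List.range' (npos D) (npos D) by
      rw [show D.nroots = npos D + npos D by omega]
      have := List.range'_append_1 (s := 0) (m := npos D) (n := npos D)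
      simpa using this.symm,
    List.filter_append]
  rw [List.filter_eq_nil_iff.2 (fun r hr => by
    rw [List.mem_range'_1] at hr; simp; omega), List.nil_append]
  exact List.filter_eq_self.2 fun r hr => by
    rw [List.mem_range'_1] at hr; simp; omega

theorem oprod_val (t : ℕ → F) :
    ((G.oprod F (npos D) (npos D) t : GL D.Idx F) : Matrix D.Idx D.Idx F) =
      D.wordMat F (D.posRoots.map fun r => (r, t r)) := by
  rw [G.posRoots_range', Good.oprod, G.wordG_val]

theorem pos_unique_product :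
    (∀ g : GL D.Idx F, g ∈ D.posUnipotent F →
      ∃! t : ℕ → F, (∀ r, ¬ D.IsPosRoot r → t r = 0) ∧
        (g : Matrix D.Idx D.Idx F) = D.wordMat F (D.posRoots.map fun r => (r, t r))) ∧
    (∀ t : ℕ → F, ∃ g : GL D.Idx F, g ∈ D.posUnipotent F ∧
      (g : Matrix D.Idx D.Idx F) = D.wordMat F (D.posRoots.map fun r => (r, t r))) := by
  have he := G.even_n
  refine ⟨fun g hg => ?_, fun t => ⟨G.oprod F (npos D) (npos D) t, ?_, G.oprod_val t⟩⟩
  · rw [← G.tail_npos] at hg
    obtain ⟨t, rfl⟩ := G.exists_oprod (npos D) (npos D) le_rfl (by omega) g hg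
    classical
    refine ⟨fun r => if D.IsPosRoot r then t r else 0, ⟨fun r hr => if_neg hr, ?_⟩, ?_⟩
    · rw [← G.oprod_val]
      congr 1
      refine G.oprod_congr fun r h1 h2 => ?_
      rw [if_pos (G.isPos_iff.2 ⟨by omega, h1⟩)]
    · intro t' ht'
      funext r
      by_cases hr : D.IsPosRoot r
      · obtain ⟨h1, h2⟩ := G.isPos_iff.1 hr
        rw [if_pos hr]
        refine (G.oprod_injective (npos D) (npos D) le_rfl (by omega) t t' ?_ r h2 (by omega)).symm
        exact Units.ext (ht'.2.trans (G.oprod_val t').symm)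
      · rw [if_neg hr, ht'.1 r hr]
  · rw [← G.tail_npos]
    exact G.oprod_mem le_rfl (by omega) t

theorem card_pos [Fintype F] : Nat.card (D.posUnipotent F) = Fintype.card F ^ (D.nroots / 2) := by
  have he := G.even_n
  let e : (Fin (npos D) → F) → D.posUnipotent F := fun f =>
    ⟨G.oprod F (npos D) (npos D) fun r => if h : r - npos D < npos D then f ⟨r - npos D, h⟩ else 0,
      by rw [← G.tail_npos]; exact G.oprod_mem le_rfl (by omega) _⟩
  have hbij : Function.Bijective e := by
    constructor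
    · intro f f' h
      funext i
      have := G.oprod_injective (npos D) (npos D) le_rfl (by omega) _ _ (congrArg Subtype.val h)
        (npos D + i.val) (by omega) (by have := i.isLt; omega)
      simpa [i.isLt] using this
    · rintro ⟨g, hg⟩
      rw [← G.tail_npos] at hg
      obtain ⟨t, rfl⟩ := G.exists_oprod (npos D) (npos D) le_rfl (by omega) g hg
      refine ⟨fun i => t (npos D + i.val), Subtype.ext ?_⟩
      refine G.oprod_congr fun r h1 h2 => ?_
      simp only
      rw [dif_pos (by omega)]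
      congr 1
      omega
  rw [← Nat.card_eq_of_bijective e hbij, Nat.card_eq_fintype_card, Fintype.card_fun, Fintype.card_fin]
  rfl

end Good

end Cfsg.Agent.Lib.Chev
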