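import Cfsg.Agent.Lib.Chev.RadicalCent
import Cfsg.Agent.Lib.Chev.Cov.Universal
import Mathlib.RingTheory.IntegralDomain

/-!
Subgroups of the maximal unipotent subgroup weakly closed in it.
-/

set_option autoImplicit false
set_option linter.unusedSectionVars false

namespace Cfsg.Agent.Lib.Chev

open Cfsg.Lie
open Cfsg.Agent.Lib
open scoped Classical

/-- Every pair of positive roots is separated by the torus of a field with `M + 1` elements. -/
def chkSepM (D : ChevalleyDatum) (T : Tables) (M : ℕ) (skip : List (ℕ × ℕ)) : Bool :=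
  (List.range D.nroots).all fun k => decide (k < npos D) || (List.range D.nroots).all fun j =>
    decide (j ≤ k) || skip.contains (k, j) ||
      (List.range D.rank).any fun a => (List.range D.rank).any fun b =>
        (List.range M).any fun m => (List.range M).any fun n =>
          (((m : ℤ) * T.A a k + (n : ℤ) * T.A b k) % (M : ℤ) == 0) !=
            (((m : ℤ) * T.A a j + (n : ℤ) * T.A b j) % (M : ℤ) == 0)

/-- Each non-simple positive root comes from a commutator with the fundamental root lowering it. -/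
def chkUp (D : ChevalleyDatum) (T : Tables) : Bool :=
  (List.range D.nroots).all fun r => decide (r < npos D) || (List.range D.rank).all fun i =>
    decide (T.w i r < npos D) || decide (r ≤ T.w i r) || !(T.k i r == 0) &&
      (List.range D.nroots).any fun q => decide (npos D ≤ q) && q != sim D i &&
        (T.terms (sim D i) q).any fun c => c.1 == r && (c.2.1 == 1 || c.2.1 == -1) &&
          (c.2.2.1 == 1 || c.2.2.2 == 1)

/-- The commutator words are listed by increasing root. -/
def chkSorted (D : ChevalleyDatum) (T : Tables) : Bool :=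
  (List.range D.rank).all fun i => (List.range D.nroots).all fun q =>
    decide (q < npos D) || q == sim D i ||
      decide (((T.terms (sim D i) q).map Prod.fst).Pairwise (· < ·))

variable {D : ChevalleyDatum} {T : Tables} {F : Type*} [Field F]

namespace Good

variable (G : Good D T)
include G

/-- The torus separates the two root subgroups. -/
def Sep (F : Type*) [Field F] (k j : ℕ) : Prop :=
  ∃ g ∈ D.diagonalSubgroup F, ∃ a b : F, (∀ t, g * G.X F k t * g⁻¹ = G.X F k (a * t)) ∧
    (∀ t, g * G.X F j t * g⁻¹ = G.X F j (b * t)) ∧ ((a = 1 ∧ b ≠ 1) ∨ (a ≠ 1 ∧ b = 1))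

/-- The leading root element of an element of `X` lies in `X`. -/
def LeadIn (X : Subgroup (GL D.Idx F)) (k : ℕ) : Prop :=
  ∀ (t : F), ∀ y ∈ G.tailU F (k + 1), G.X F k t * y ∈ X → G.X F k t ∈ X

/-- A substitute for separation. -/
def Esc (X : Subgroup (GL D.Idx F)) (k j : ℕ) : Prop :=
  (∀ k', k < k' → k' < D.nroots → G.LeadIn X k') →
    ∀ (t : F), t ≠ 0 → ∀ y ∈ G.tailU F j, G.X F k t * y ∈ X → ∀ s : F, G.X F j s ∈ X

theorem tail_le {a b : ℕ} (h : a ≤ b) : G.tailU F b ≤ G.tailU F a := by
  refine (Subgroup.closure_le _).2 ?_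
  rintro x ⟨q, t, hq, hq', hbq, rfl⟩
  exact G.X_mem_tail hq hq' (h.trans hbq) t

variable [Fintype F]

theorem leadIn_of_sep {X : Subgroup (GL D.Idx F)}
    (hU : ∀ u ∈ D.posUnipotent F, ∀ x ∈ X, u * x * u⁻¹ ∈ X)
    (hH : ∀ h ∈ D.diagonalSubgroup F, ∀ x ∈ X, h * x * h⁻¹ ∈ X)
    (hsep : ∀ k j, npos D ≤ k → k < j → j < D.nroots → G.Sep F k j ∨ G.Esc X k j) :
    ∀ k, npos D ≤ k → k < D.nroots → G.LeadIn X k := by
  suffices H : ∀ m k, npos D ≤ k → k + m = D.nroots → ∀ k', k ≤ k' → k' < D.nroots → G.LeadIn X k' from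
    fun k hk hk' => H (D.nroots - k) k hk (by omega) k le_rfl hk'
  intro m
  induction m with
  | zero => intro k _ hkm k' h1 h2; omega
  | succ m ih =>
    intro k hk hkm k' h1 h2
    rcases Nat.eq_or_lt_of_le h1 with rfl | hlt
    swap
    · exact ih (k + 1) (by omega) (by omega) k' hlt h2
    have IH := ih (k + 1) (by omega) (by omega)
    intro t
    by_cases ht : t = 0
    · subst ht
      intro y _ _
      rw [G.X_zero]; exact one_mem _
    suffices H2 : ∀ n j, k < j → j + n = D.nroots → ∀ y ∈ G.tailU F j, G.X F k t * y ∈ X →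
        G.X F k t ∈ X from fun y hy => H2 (D.nroots - (k + 1)) (k + 1) (by omega) (by omega) y hy
    intro n
    induction n with
    | zero =>
      intro j _ hjn y hy hx
      rw [G.tail_bot (by omega), Subgroup.mem_bot] at hy
      rwa [hy, mul_one] at hx
    | succ n ih2 =>
      intro j hkj hjn y hy hx
      have hj : j < D.nroots := by omega
      have hpj : npos D ≤ j := by omega
      obtain ⟨s, z, hz, rfl⟩ := G.tail_decomp hj hpj hy
      have hremove : G.X F j s ∈ X → G.X F k t ∈ X := by
        intro hjs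
        have hc := hU _ (G.X_mem_posUnipotent h2 hk t) _ (inv_mem hjs)
        have := mul_mem hc hx
        have e : G.X F k t * (G.X F j s)⁻¹ * (G.X F k t)⁻¹ * (G.X F k t * (G.X F j s * z)) =
            G.X F k t * z := by group
        rw [e] at this
        exact ih2 (j + 1) (by omega) (by omega) z hz this
      rcases hsep k j hk hkj hj with hs | he
      swap
      · exact hremove (he (fun k'' h3 h4 => IH k'' h3 h4) t ht _ hy hx s)
      obtain ⟨g, hg, a, b, hga, hgb, hab⟩ := hs
      -- commutation with the separating torus element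
      let P : F → F → Prop := fun u v =>
        ∃ z ∈ G.tailU F (j + 1), G.X F k u * (G.X F j v * z) ∈ X
      have hgt : ∀ z ∈ G.tailU F (j + 1), g * z * g⁻¹ ∈ G.tailU F (j + 1) := by
        intro z hz
        have hle : G.tailU F (j + 1) ≤ (G.tailU F (j + 1)).comap (MulAut.conj g).toMonoidHom := by
          refine (Subgroup.closure_le _).2 ?_
          rintro x ⟨q, u, hq, hq', hkq, rfl⟩
          obtain ⟨-, c, -, hc⟩ := G.act_diag hg q hq
          show g * G.X F q u * g⁻¹ ∈ G.tailU F (j + 1)
          rw [hc]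
          exact G.X_mem_tail hq hq' hkq _
        exact hle hz
      have step : ∀ u v, P u v → P ((a - 1) * u) ((b - 1) * v) := by
        rintro u v ⟨z, hz, hx⟩
        have h' := mul_mem (hH g hg _ hx) (inv_mem hx)
        set xk : F → GL D.Idx F := G.X F k
        set xj : F → GL D.Idx F := G.X F j
        have hn := G.posUnipotent_le_normalizer_tail (F := F) (j + 1)
        have hxk : ∀ w, xk w ∈ D.posUnipotent F := G.X_mem_posUnipotent h2 hk
        have hxj : ∀ w, xj w ∈ D.posUnipotent F := G.X_mem_posUnipotent hj hpj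
        set z'' := xj v * ((g * z * g⁻¹) * z⁻¹) * (xj v)⁻¹ with hz''
        have hz''m : z'' ∈ G.tailU F (j + 1) :=
          (Subgroup.mem_normalizer_iff.1 (hn (hxj v)) _).1 (mul_mem (hgt z hz) (inv_mem hz))
        have hc := G.lead_conj (hxk u) hj hpj ((b - 1) * v)
        refine ⟨((xj ((b - 1) * v))⁻¹ * (xk u * xj ((b - 1) * v) * (xk u)⁻¹)) *
          (xk u * z'' * (xk u)⁻¹),
          mul_mem hc ((Subgroup.mem_normalizer_iff.1 (hn (hxk u)) _).1 hz''m), ?_⟩
        have eb : xj ((b - 1) * v) = xj (b * v) * (xj v)⁻¹ := by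
          show G.X F j _ = G.X F j _ * (G.X F j _)⁻¹
          rw [G.X_inv, G.X_add]; ring_nf
        have ea : xk ((a - 1) * u) = xk (a * u) * (xk u)⁻¹ := by
          show G.X F k _ = G.X F k _ * (G.X F k _)⁻¹
          rw [G.X_inv, G.X_add]; ring_nf
        have e : g * (xk u * (xj v * z)) * g⁻¹ * (xk u * (xj v * z))⁻¹ =
            xk ((a - 1) * u) * (xj ((b - 1) * v) *
              (((xj ((b - 1) * v))⁻¹ * (xk u * xj ((b - 1) * v) * (xk u)⁻¹)) *
                (xk u * z'' * (xk u)⁻¹))) := by
          rw [ea, eb, hz'', show xk (a * u) = g * xk u * g⁻¹ from (hga u).symm,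
            show xj (b * v) = g * xj v * g⁻¹ from (hgb v).symm]
          group
        rw [e] at h'
        exact h'
      have iter : ∀ i : ℕ, P ((a - 1) ^ i * t) ((b - 1) ^ i * s) := by
        intro i
        induction i with
        | zero => exact ⟨z, hz, by simpa using hx⟩
        | succ i ih3 => rw [pow_succ', pow_succ', mul_assoc, mul_assoc]; exact step _ _ ih3
      have hq1 : 1 ≤ Fintype.card F - 1 := by have := Fintype.one_lt_card (α := F); omega
      obtain ⟨z', hz', hx'⟩ := iter (Fintype.card F - 1)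
      rcases hab with ⟨rfl, hb⟩ | ⟨ha, rfl⟩
      · rw [sub_self, zero_pow (by omega), zero_mul, G.X_zero, one_mul,
          FiniteField.pow_card_sub_one_eq_one _ (sub_ne_zero.2 hb), one_mul] at hx'
        exact hremove (IH j (by omega) hj s z' hz' hx')
      · rw [sub_self, zero_pow (by omega), zero_mul, G.X_zero, one_mul,
          FiniteField.pow_card_sub_one_eq_one _ (sub_ne_zero.2 ha), one_mul] at hx'
        exact ih2 (j + 1) (by omega) (by omega) z' hz' hx'

theorem mem_of_leadIn_gen {X : Subgroup (GL D.Idx F)}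
    (hL : ∀ k, npos D ≤ k → k < D.nroots → G.LeadIn X k) :
    ∀ m k, npos D ≤ k → k + m = D.nroots → ∀ x ∈ X, x ∈ G.tailU F k →
      x ∈ Subgroup.closure {g | ∃ r t, r < D.nroots ∧ npos D ≤ r ∧ g = G.X F r t ∧ g ∈ X} := by
  intro m
  induction m with
  | zero =>
    intro k _ hkm x _ hx
    rw [G.tail_bot (by omega), Subgroup.mem_bot] at hx
    rw [hx]; exact one_mem _
  | succ m ih =>
    intro k hk hkm x hxX hx
    obtain ⟨t, y, hy, rfl⟩ := G.tail_decomp (by omega) hk hx
    have ht := hL k hk (by omega) t y hy hxX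
    refine mul_mem (Subgroup.subset_closure ⟨k, t, by omega, hk, rfl, ht⟩)
      (ih (k + 1) (by omega) (by omega) y ?_ hy)
    have := mul_mem (inv_mem ht) hxX
    rwa [inv_mul_cancel_left] at this

theorem word_components {X : Subgroup (GL D.Idx F)} :
    ∀ w : List (ℕ × F), (w.map Prod.fst).Pairwise (· < ·) →
      (∀ p ∈ w, p.1 < D.nroots ∧ npos D ≤ p.1 ∧ G.LeadIn X p.1) → G.wordG w ∈ X →
        ∀ p ∈ w, G.X F p.1 p.2 ∈ X := by
  intro w
  induction w with
  | nil => intro _ _ _ p hp; simp at hp
  | cons p w ih =>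
    intro hs hp hx
    rw [List.map_cons, List.pairwise_cons] at hs
    have e : G.wordG (p :: w) = G.X F p.1 p.2 * G.wordG w := by simp [Good.wordG]
    rw [e] at hx
    have h1 : G.X F p.1 p.2 ∈ X := by
      refine (hp p List.mem_cons_self).2.2 p.2 _ (G.wordG_mem fun q hq => ?_) hx
      obtain ⟨h2, h3, -⟩ := hp q (List.mem_cons_of_mem _ hq)
      exact G.X_mem_tail h2 h3 (hs.1 q.1 (List.mem_map_of_mem hq)) q.2
    have h2 := mul_mem (inv_mem h1) hx
    rw [inv_mul_cancel_left] at h2
    intro q hq
    rcases List.mem_cons.1 hq with rfl | hq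
    · exact h1
    · exact ih hs.2 (fun q hq => hp q (List.mem_cons_of_mem _ hq)) h2 q hq

omit G [Fintype F] in
theorem exists_two_squares [Finite F] (a : F) : ∃ u v : F, u * u + v * v = a := by
  classical
  haveI := Fintype.ofFinite F
  by_cases h : ringChar F = 2
  · obtain ⟨u, hu⟩ := FiniteField.isSquare_of_char_two h a
    exact ⟨u, 0, by rw [mul_zero, add_zero, ← hu]⟩
  · obtain ⟨u, v, huv⟩ := FiniteField.exists_root_sum_quadratic
      (f := (Polynomial.X ^ 2 : Polynomial F))
      (g := Polynomial.X ^ 2 - Polynomial.C a) (Polynomial.degree_X_pow 2)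
      (Polynomial.degree_X_pow_sub_C (by norm_num) a) (FiniteField.odd_card_of_char_ne_two h)
    refine ⟨u, v, ?_⟩
    simp only [Polynomial.eval_pow, Polynomial.eval_X, Polynomial.eval_sub, Polynomial.eval_C] at huv
    linear_combination huv

theorem weakly_closed_eq_radical (hP : chkPar D T = true) (hUp : chkUp D T = true)
    (hSo : chkSorted D T = true) {X : Subgroup (GL D.Idx F)} (hXU : X ≤ D.posUnipotent F)
    (hwc : ∀ g ∈ D.group F, X.map (MulAut.conj g).toMonoidHom ≤ D.posUnipotent F →
      X.map (MulAut.conj g).toMonoidHom = X)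
    (hsep : (∀ u ∈ D.posUnipotent F, ∀ x ∈ X, u * x * u⁻¹ ∈ X) →
      (∀ h ∈ D.diagonalSubgroup F, ∀ x ∈ X, h * x * h⁻¹ ∈ X) →
      ∀ k j, npos D ≤ k → k < j → j < D.nroots → G.Sep F k j ∨ G.Esc X k j) :
    ∃ J : Set ℕ, (∀ j ∈ J, j < D.rank) ∧ X = D.unipotentRadical F J := by
  have hnorm : ∀ g ∈ D.group F, (∀ x ∈ X, g * x * g⁻¹ ∈ D.posUnipotent F) →
      ∀ x ∈ X, g * x * g⁻¹ ∈ X := by
    intro g hg h x hx
    have he := hwc g hg (by rintro _ ⟨y, hy, rfl⟩; exact h y hy)
    exact he ▸ ⟨x, hx, rfl⟩
  have hU : ∀ u ∈ D.posUnipotent F, ∀ x ∈ X, u * x * u⁻¹ ∈ X := fun u hu =>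
    hnorm u (G.borel_le_group (Subgroup.mem_sup_left hu))
      fun x hx => mul_mem (mul_mem hu (hXU hx)) (inv_mem hu)
  have hH : ∀ h ∈ D.diagonalSubgroup F, ∀ x ∈ X, h * x * h⁻¹ ∈ X := fun h hh =>
    hnorm h (G.borel_le_group (Subgroup.mem_sup_right hh))
      fun x hx => (Subgroup.mem_normalizer_iff.1 (G.diag_normalizes_pos hh) x).1 (hXU hx)
  have hL := G.leadIn_of_sep hU hH (hsep hU hH)
  have hgen : ∀ x ∈ X,
      x ∈ Subgroup.closure {g | ∃ r t, r < D.nroots ∧ npos D ≤ r ∧ g = G.X F r t ∧ g ∈ X} :=
    fun x hx => G.mem_of_leadIn_gen hL (npos D) (npos D) le_rfl (by have := G.even_n; omega) x hx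
      (by rw [G.tail_npos]; exact hXU hx)
  set J : Set ℕ := {j | j < D.rank ∧ ∀ x ∈ X, G.ni F j * x * (G.ni F j)⁻¹ ∈ X} with hJ
  have hconjX : ∀ j ∈ J, ∀ r, r < D.nroots → ∀ t : F, G.X F r t ∈ X →
      G.X F (T.w j r) ((T.eta j r : F) * t) ∈ X := by
    intro j hj r hr t ht
    rw [← G.ni_conj_X hj.1 hr]
    exact hj.2 _ ht
  -- the whole fundamental root subgroups outside `J`
  have hsim : ∀ i < D.rank, i ∉ J → ∀ t : F, G.X F (sim D i) t ∈ X := by
    intro i hi hiJ
    obtain ⟨t, ht0, ht⟩ : ∃ t : F, t ≠ 0 ∧ G.X F (sim D i) t ∈ X := by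
      by_contra hcon
      push Not at hcon
      refine hiJ ⟨hi, hnorm _ (G.ni_mem_group hi) fun x hx => ?_⟩
      have hle : Subgroup.closure {g | ∃ r t, r < D.nroots ∧ npos D ≤ r ∧ g = G.X F r t ∧ g ∈ X} ≤
          (D.posUnipotent F).comap (MulAut.conj (G.ni F i)).toMonoidHom := by
        refine (Subgroup.closure_le _).2 ?_
        rintro g ⟨r, t, hr, hp, rfl, hg⟩
        show G.ni F i * G.X F r t * (G.ni F i)⁻¹ ∈ D.posUnipotent F
        rw [G.ni_conj_X hi hr]
        by_cases hne : r = sim D i
        · subst hne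
          have : t = 0 := by
            by_contra h
            exact hcon t h hg
          rw [this, mul_zero, G.X_zero]; exact one_mem _
        · exact G.X_mem_posUnipotent (G.w_lt hi hr) ((G.keep_single_iff hi hr hp).2 hne) _
      exact hle (hgen x hx)
    intro u
    have hsq : ∀ c : F, G.X F (sim D i) (c * c * t) ∈ X := by
      intro c
      by_cases hc : c = 0
      · rw [hc, mul_zero, zero_mul, G.X_zero]; exact one_mem _
      have := hH _ (G.Hg_mem (G.sim_lt hi) hc) _ ht
      rwa [G.Hg_conj_X (G.sim_lt hi) (G.sim_lt hi) hc, G.P_self (G.sim_lt hi), zpow_ofNat,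
        pow_two] at this
    obtain ⟨v, w, hvw⟩ := exists_two_squares (u / t)
    have := mul_mem (hsq v) (hsq w)
    rwa [G.X_add, ← add_mul, hvw, div_mul_cancel₀ _ ht0] at this
  simp only [chkUp, chkSorted, List.all_eq_true, List.mem_range, Bool.or_eq_true, decide_eq_true_eq,
    List.any_eq_true, Bool.and_eq_true, beq_iff_eq, bne_iff_ne, Bool.not_eq_true', beq_eq_false_iff_ne] at hUp hSo
  -- the roots outside the subsystem
  have hout : ∀ r, r < D.nroots → npos D ≤ r → ¬ D.InRootSub J r → ∀ t : F, G.X F r t ∈ X := by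
    intro r
    induction r using Nat.strong_induction_on with
    | _ r ih =>
      intro hr hp hnot t
      by_cases h : ∃ i < D.rank, r = sim D i
      · obtain ⟨i, hi, rfl⟩ := h
        exact hsim i hi (fun hiJ => hnot ((G.sim_inRootSub hP hi).2 hiJ)) t
      push Not at h
      obtain ⟨i, hi, hp', hlt⟩ := G.exists_lower hr hp h
      by_cases hiJ : i ∈ J
      · have hr' := G.w_lt hi hr
        have hnot' : ¬ D.InRootSub J (T.w i r) := by
          intro hin
          apply hnot
          rw [G.inRootSub_iff hP] at hin ⊢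
          refine ⟨hr, fun c hc hcJ => ?_⟩
          have hci : c ≠ i := fun e => hcJ (e ▸ hiJ)
          have := hin.2 c hc hcJ
          rwa [G.k_w hi hr hc, if_neg hci, sub_zero] at this
        have := hconjX i hiJ _ hr' ((T.eta i (T.w i r) : F) * t) (ih _ hlt hr' hp' hnot' _)
        rwa [G.w_w hi hr, ← mul_assoc, ← Int.cast_mul, Tables.eta_mul_self, Int.cast_one,
          one_mul] at this
      · obtain ⟨-, q, hq, ⟨⟨hpq, hqi⟩, c, hc, ⟨⟨hcr, hC⟩, hab⟩⟩⟩ :=
          ((hUp r hr).resolve_left (by omega) i hi).resolve_left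
            (by rintro (h' | h') <;> omega)
        have hsorted : ((T.terms (sim D i) q).map Prod.fst).Pairwise (· < ·) :=
          ((hSo i hi q hq).resolve_left (by rintro (h' | h') <;> omega))
        have hs := G.sim_lt hi
        have hsp := G.sim_pos hi
        have hne' : q ≠ ng D (sim D i) := by have := G.even_n; unfold ng; omega
        have hword : ∀ a b : F, ∀ p ∈ Good.cw T (sim D i) q a b, G.X F p.1 p.2 ∈ X := by
          intro a b
          refine G.word_components _ ?_ ?_ ?_
          · have e : (Good.cw T (sim D i) q a b).map Prod.fst = (T.terms (sim D i) q).map Prod.fst := by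
              simp [Good.cw, List.map_map, Function.comp_def]
            rw [e]; exact hsorted
          · intro p hp''
            obtain ⟨⟨k, C, x, y⟩, hk, rfl⟩ := List.mem_map.1 hp''
            obtain ⟨h1, h2, h3⟩ := G.terms_gt hs hq hsp hpq hk
            exact ⟨h1, by omega, hL k (by omega) h1⟩
          · have h1 := hsim i hi hiJ a
            have h2 := mul_mem (inv_mem (hU _ (inv_mem (G.X_mem_posUnipotent hq hpq b)) _ h1)) h1
            have e : G.wordG (Good.cw T (sim D i) q a b) =
                ((G.X F q b)⁻¹ * (G.X F (sim D i) a)⁻¹) * (G.X F q b * G.X F (sim D i) a) := by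
              rw [G.commAt (sim D i) q hs hq hqi hne' a b]; group
            rw [e]
            convert h2 using 1
            group
        obtain ⟨k, C, x, y⟩ := c
        simp only at hcr hC hab
        subst hcr
        have hC0 : (C : F) * C = 1 := by rcases hC with rfl | rfl <;> simp
        rcases hab with rfl | rfl
        · have := hword (-((C : F) * t)) 1 _ (List.mem_map_of_mem hc)
          simpa [← mul_assoc, hC0] using this
        · have := hword (-1) ((C : F) * t) _ (List.mem_map_of_mem hc)
          simpa [← mul_assoc, hC0] using this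
  -- no root of the subsystem
  have hin : ∀ r, r < D.nroots → npos D ≤ r → D.InRootSub J r → ∀ t : F, G.X F r t ∈ X → t = 0 := by
    intro r
    induction r using Nat.strong_induction_on with
    | _ r ih =>
      intro hr hp hin t ht
      by_cases h : ∃ i < D.rank, r = sim D i
      · obtain ⟨i, hi, rfl⟩ := h
        have h1 := hconjX i ((G.sim_inRootSub hP hi).1 hin) _ hr t ht
        rw [G.w_sim hi, G.eta_sim hi] at h1
        have hneg : ng D (sim D i) < npos D := by have := G.even_n; unfold ng; omega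
        have h3 := Subgroup.mem_bot.1 (G.borel_inf_neg (F := F) ▸ Subgroup.mem_inf.2
          ⟨Subgroup.mem_sup_left (hXU h1), G.X_mem_negUnipotent (G.ng_lt hr) hneg _⟩)
        rw [G.X_eq_one_iff (G.ng_lt hr)] at h3
        simpa using h3
      push Not at h
      obtain ⟨i, hi, hp', hlt⟩ := G.exists_lower hr hp h
      have hiJ : i ∈ J := by
        by_contra hiJ
        have h0 := ((G.inRootSub_iff hP).1 hin).2 i hi hiJ
        exact (((hUp r hr).resolve_left (by omega) i hi).resolve_left
          (by rintro (h' | h') <;> omega)).1 h0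
      have hin' : D.InRootSub J (T.w i r) := by
        rw [G.inRootSub_iff hP] at hin ⊢
        refine ⟨G.w_lt hi hr, fun c hc hcJ => ?_⟩
        have hci : c ≠ i := fun e => hcJ (e ▸ hiJ)
        rw [G.k_w hi hr hc, if_neg hci, sub_zero]
        exact hin.2 c hc hcJ
      have h2 := ih _ hlt (G.w_lt hi hr) hp' hin' _ (hconjX i hiJ r hr t ht)
      rcases T.eta_eq_or i r with e | e <;> simpa [e] using h2
  refine ⟨J, fun j hj => hj.1, le_antisymm (fun x hx => ?_) ?_⟩
  · rw [G.radical_eq hP]
    have hle : Subgroup.closure {g | ∃ r t, r < D.nroots ∧ npos D ≤ r ∧ g = G.X F r t ∧ g ∈ X} ≤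
        G.USub F (outSet D J) := by
      refine (Subgroup.closure_le _).2 ?_
      rintro g ⟨r, t, hr, hp, rfl, hg⟩
      by_cases h : D.InRootSub J r
      · rw [hin r hr hp h t hg, G.X_zero]; exact one_mem _
      · exact G.X_mem_USub hr hp h t
    exact hle (hgen x hx)
  · rw [G.radical_eq hP]
    exact G.USub_le_of fun q hq hpq hqS t => hout q hq hpq hqS t

end Good

end Cfsg.Agent.Lib.Chev
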