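import Cfsg.Agent.Lib.Chev.WeaklyClosed

/-!
Separation of root subgroups by the torus, and the data of the exceptional pairs.
-/

set_option autoImplicit false
set_option linter.unusedSectionVars false

namespace Cfsg.Agent.Lib.Chev

open Cfsg.Lie
open Cfsg.Agent.Lib
open scoped Classical

variable {D : ChevalleyDatum} {T : Tables} {F : Type*} [Field F] [Fintype F]

namespace Good

variable (G : Good D T)
include G

theorem sep_of_big (hK : 4 < Fintype.card F) (hsep : chkSep D T = true) {k j : ℕ}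
    (hk : npos D ≤ k) (hkj : k < j) (hj : j < D.nroots) : G.Sep F k j := by
  obtain ⟨g, hg, κ, hκ, h1, h2⟩ := G.exists_separating (K := F)
    ⟨Finset.univ, by rwa [Finset.card_univ]⟩ hsep k (by omega) j hj (by omega)
    (by have := G.even_n; unfold ng; omega)
  exact ⟨g, hg, 1, κ, fun t => by rw [h1, one_mul], h2, Or.inl ⟨rfl, hκ⟩⟩

theorem sep_of_chk {M : ℕ} (hM : Fintype.card F = M + 1) {skip : List (ℕ × ℕ)}
    (h : chkSepM D T M skip = true) {k j : ℕ}
    (hk : npos D ≤ k) (hkj : k < j) (hj : j < D.nroots) : G.Sep F k j ∨ (k, j) ∈ skip := by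
  simp only [chkSepM, List.all_eq_true, List.mem_range, Bool.or_eq_true, decide_eq_true_eq,
    List.any_eq_true, List.contains_iff_mem] at h
  rcases ((h k (by omega)).resolve_left (by omega) j hj) with (h | h) | h
  · omega
  · exact Or.inr h
  left
  obtain ⟨a, ha, b, hb, m, -, n, -, hne⟩ := h
  obtain ⟨ζ, hζ⟩ := IsCyclic.exists_generator (α := Fˣ)
  have hord : orderOf ζ = M := by
    rw [orderOf_eq_card_of_forall_mem_zpowers hζ, Nat.card_units, Nat.card_eq_fintype_card, hM]
    rfl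
  set e : ℕ → ℤ := fun r => (m : ℤ) * T.A a r + (n : ℤ) * T.A b r with he
  have hchar : ∀ r, r < D.nroots → ∀ t : F,
      G.Hg F (sim D a) ((ζ : F) ^ m) * G.Hg F (sim D b) ((ζ : F) ^ n) * G.X F r t *
        (G.Hg F (sim D a) ((ζ : F) ^ m) * G.Hg F (sim D b) ((ζ : F) ^ n))⁻¹ =
      G.X F r (((ζ ^ e r : Fˣ) : F) * t) := by
    intro r hr t
    have hz : ∀ i : ℕ, (ζ : F) ^ i ≠ 0 := fun i => pow_ne_zero i ζ.ne_zero
    calc _ = G.Hg F (sim D a) ((ζ : F) ^ m) *
          (G.Hg F (sim D b) ((ζ : F) ^ n) * G.X F r t * (G.Hg F (sim D b) ((ζ : F) ^ n))⁻¹) *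
            (G.Hg F (sim D a) ((ζ : F) ^ m))⁻¹ := by group
      _ = G.X F r (((ζ : F) ^ m) ^ T.A a r * (((ζ : F) ^ n) ^ T.A b r * t)) := by
          rw [G.Hg_conj_X (G.sim_lt hb) hr (hz n), G.Hg_conj_X (G.sim_lt ha) hr (hz m), G.P_sim ha,
            G.P_sim hb]
      _ = _ := by
          congr 1
          rw [Units.val_zpow_eq_zpow_val, ← mul_assoc, ← zpow_natCast, ← zpow_natCast, ← zpow_mul,
            ← zpow_mul, ← zpow_add₀ ζ.ne_zero]
  have hone : ∀ r, ((ζ ^ e r : Fˣ) : F) = 1 ↔ e r % (M : ℤ) = 0 := by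
    intro r
    rw [Units.val_eq_one, ← orderOf_dvd_iff_zpow_eq_one, hord, Int.dvd_iff_emod_eq_zero]
  have hz : ∀ i : ℕ, (ζ : F) ^ i ≠ 0 := fun i => pow_ne_zero i ζ.ne_zero
  refine ⟨_, mul_mem (G.Hg_mem (G.sim_lt ha) (hz m)) (G.Hg_mem (G.sim_lt hb) (hz n)), _, _,
    hchar k (by omega), hchar j hj, ?_⟩
  by_cases h1 : e k % (M : ℤ) = 0
  · refine Or.inl ⟨(hone k).2 h1, fun h2 => ?_⟩
    have h2' := (hone j).1 h2
    simp only [he] at h1 h2'
    simp [h1, h2'] at hne
  · refine Or.inr ⟨fun h2 => h1 ((hone k).1 h2), (hone j).2 ?_⟩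
    by_contra h2
    simp only [he] at h1 h2
    simp [h1, h2] at hne

theorem word_mem_of_normal {X : Subgroup (GL D.Idx F)}
    (hU : ∀ u ∈ D.posUnipotent F, ∀ x ∈ X, u * x * u⁻¹ ∈ X) {r s : ℕ} (hr : r < D.nroots)
    (hs : s < D.nroots) (hps : npos D ≤ s) (hne : s ≠ r) (hne' : s ≠ ng D r) (t u : F)
    (h : G.X F r t ∈ X) : G.wordG (Good.cw T r s t u) ∈ X := by
  have h2 := mul_mem (inv_mem (hU _ (inv_mem (G.X_mem_posUnipotent hs hps u)) _ h)) h
  have e : G.wordG (Good.cw T r s t u) =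
      ((G.X F s u)⁻¹ * (G.X F r t)⁻¹) * (G.X F s u * G.X F r t) := by
    rw [G.commAt r s hr hs hne hne' t u]; group
  rw [e]
  convert h2 using 1
  group

end Good

theorem sq_surjective (hF : Fintype.card F = 4) (a : F) : ∃ v : F, v * v = a := by
  haveI : CharP F 2 := by
    obtain ⟨p, hp⟩ := CharP.exists F
    obtain ⟨f, hp', hf⟩ := FiniteField.card F p
    have h : p ∣ 2 := hp'.dvd_of_dvd_pow (n := 2) (by
      rw [show (2 : ℕ) ^ 2 = p ^ (f : ℕ) by rw [← hf, hF]; norm_num]; exact dvd_pow_self p (PNat.ne_zero f))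
    rwa [← (Nat.prime_dvd_prime_iff_eq hp' Nat.prime_two).1 h]
  obtain ⟨v, hv⟩ := FiniteField.isSquare_of_char_two (ringChar.eq F 2) a
  exact ⟨v, hv.symm⟩

theorem G2_esc (hF : Fintype.card F = 4) {X : Subgroup (GL chevG2.Idx F)}
    (hU : ∀ u ∈ chevG2.posUnipotent F, ∀ x ∈ X, u * x * u⁻¹ ∈ X) {k j : ℕ}
    (h : (k, j) ∈ [(6, 10), (6, 11), (10, 11)]) : goodG2.Esc X k j := by
  intro IH t ht y hy hx
  haveI : CharP F 2 := by
    obtain ⟨p, hp⟩ := CharP.exists F
    obtain ⟨f, hp', hf⟩ := FiniteField.card F p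
    have h : p ∣ 2 := hp'.dvd_of_dvd_pow (n := 2) (by
      rw [show (2 : ℕ) ^ 2 = p ^ (f : ℕ) by rw [← hf, hF]; norm_num]; exact dvd_pow_self p (PNat.ne_zero f))
    rwa [← (Nat.prime_dvd_prime_iff_eq hp' Nat.prime_two).1 h]
  have h2 : (2 : F) = 0 := CharP.cast_eq_zero F 2
  have hn : chevG2.nroots = 12 := by decide +kernel
  have hp : npos chevG2 = 6 := by decide +kernel
  have hng7 : ng chevG2 7 = 4 := by decide +kernel
  -- commutation of a root group above with the tail
  have hcomm : ∀ (r a : ℕ), r < 12 → 6 ≤ r → (∀ q, a ≤ q → q < 12 → q ≠ r ∧ tabG2.terms r q = []) →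
      ∀ v : F, ∀ z ∈ goodG2.tailU F a, z * goodG2.X F r v = goodG2.X F r v * z := by
    intro r a hr hr' hterm v z hz
    refine Subgroup.mem_centralizer_singleton_iff.1 (?_ : z ∈ Subgroup.centralizer {goodG2.X F r v})
    refine (Subgroup.closure_le _).2 ?_ hz
    rintro g ⟨q, u, hq, hpq, haq, rfl⟩
    obtain ⟨hne, he⟩ := hterm q haq (by omega)
    rw [SetLike.mem_coe, Subgroup.mem_centralizer_singleton_iff]
    have := goodG2.commAt r q (by omega) hq hne (by unfold ng; omega) v u
    rw [show goodG2.wordG (Good.cw tabG2 r q v u) = 1 by simp [Good.cw, he, Good.wordG], mul_one]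
      at this
    exact this
  simp only [List.mem_cons, Prod.mk.injEq, List.not_mem_nil, or_false] at h
  rcases h with ⟨rfl, hj⟩ | ⟨rfl, hj⟩ | ⟨rfl, rfl⟩
  rotate_left 2
  · intro s
    have hc : tabG2.terms 10 6 = [(11, -1, 1, 1)] := by decide +kernel
    have hword : ∀ v : F, goodG2.X F 11 (t * v) ∈ X := by
      intro v
      have hu := goodG2.X_mem_posUnipotent (F := F) (show 6 < chevG2.nroots by omega)
        (show npos chevG2 ≤ 6 by omega) v
      have h1 := mul_mem (inv_mem (hU _ (inv_mem hu) _ hx)) hx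
      have hy' := hcomm 6 11 (by omega) (by omega) (by decide +kernel) v y hy
      have hw : goodG2.wordG (Good.cw tabG2 10 6 t v) =
          (goodG2.X F 6 v)⁻¹ * (goodG2.X F 10 t)⁻¹ * (goodG2.X F 6 v * goodG2.X F 10 t) := by
        rw [goodG2.commAt 10 6 (by omega) (by omega) (by omega) (by unfold ng; omega) t v]; group
      have e : ((goodG2.X F 6 v)⁻¹ * (goodG2.X F 10 t * y) * ((goodG2.X F 6 v)⁻¹)⁻¹)⁻¹ *
          (goodG2.X F 10 t * y) = y⁻¹ * goodG2.wordG (Good.cw tabG2 10 6 t v) * y := by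
        rw [hw]
        have hy'' : y⁻¹ * (goodG2.X F 6 v)⁻¹ = (goodG2.X F 6 v)⁻¹ * y⁻¹ := by
          rw [← mul_inv_rev, ← mul_inv_rev, hy']
        calc _ = (goodG2.X F 6 v)⁻¹ * y⁻¹ * (goodG2.X F 10 t)⁻¹ *
              (goodG2.X F 6 v * (goodG2.X F 10 t * y)) := by group
          _ = _ := by rw [← hy'']; group
      rw [e] at h1
      have h3 := hU y (goodG2.tail_npos (F := F) ▸ goodG2.tail_le (by omega) hy) _ h1
      rw [show y * (y⁻¹ * goodG2.wordG (Good.cw tabG2 10 6 t v) * y) * y⁻¹ =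
        goodG2.wordG (Good.cw tabG2 10 6 t v) by group] at h3
      simpa [Good.cw, hc, Good.wordG] using h3
    have := hword (s / t)
    rwa [mul_div_cancel₀ _ ht] at this
  all_goals
    have hc : tabG2.terms 7 6 = [(8, -1, 1, 1), (9, 1, 2, 1), (10, 1, 3, 1), (11, 1, 3, 2)] := by
      decide +kernel
    have hy10 : y ∈ goodG2.tailU F 10 := goodG2.tail_le (by omega) hy
    have hcomp : ∀ v : F, ∀ p ∈ Good.cw tabG2 7 6 v t, goodG2.X F p.1 p.2 ∈ X := by
      intro v
      refine goodG2.word_components _ ?_ ?_ ?_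
      · simp [Good.cw, hc]
      · intro p hp'
        simp only [Good.cw, hc, List.map_cons, List.map_nil, List.mem_cons, List.not_mem_nil,
          or_false] at hp'
        rcases hp' with rfl | rfl | rfl | rfl <;>
          exact ⟨by omega, by omega, IH _ (by omega) (by omega)⟩
      have hu := goodG2.X_mem_posUnipotent (F := F) (show 7 < chevG2.nroots by omega)
        (show npos chevG2 ≤ 7 by omega) v
      have h1 := mul_mem (inv_mem hx) (hU _ (inv_mem hu) _ hx)
      have hy' := hcomm 7 10 (by omega) (by omega) (by decide +kernel) v y hy10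
      have hw : goodG2.wordG (Good.cw tabG2 7 6 v t) =
          (goodG2.X F 6 t)⁻¹ * (goodG2.X F 7 v)⁻¹ * (goodG2.X F 6 t * goodG2.X F 7 v) := by
        rw [goodG2.commAt 7 6 (by omega) (by omega) (by omega) (by unfold ng; omega) v t]; group
      have e : (goodG2.X F 6 t * y)⁻¹ *
          ((goodG2.X F 7 v)⁻¹ * (goodG2.X F 6 t * y) * ((goodG2.X F 7 v)⁻¹)⁻¹) =
            y⁻¹ * goodG2.wordG (Good.cw tabG2 7 6 v t) * y := by
        rw [hw]
        calc _ = y⁻¹ * (goodG2.X F 6 t)⁻¹ * (goodG2.X F 7 v)⁻¹ * goodG2.X F 6 t *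
              (y * goodG2.X F 7 v) := by group
          _ = _ := by rw [hy']; group
      rw [e] at h1
      have h3 := hU y (goodG2.tail_npos (F := F) ▸ goodG2.tail_le (by omega) hy) _ h1
      rwa [show y * (y⁻¹ * goodG2.wordG (Good.cw tabG2 7 6 v t) * y) * y⁻¹ =
        goodG2.wordG (Good.cw tabG2 7 6 v t) by group] at h3
    have hX8 : ∀ s : F, goodG2.X F 8 s ∈ X := by
      intro s
      have := hcomp (s / t) (8, s) (by
        simp [Good.cw, hc, div_mul_cancel₀ _ ht])
      exact this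
    have hX9 : ∀ s : F, goodG2.X F 9 s ∈ X := by
      intro s
      obtain ⟨v, hv⟩ := sq_surjective hF (s / t)
      have := hcomp v (9, s) (by
        simp [Good.cw, hc, pow_two, hv, div_mul_cancel₀ _ ht])
      exact this
    have h3 : (-3 : F) = 1 := by linear_combination (-2 : F) * h2
    have hX10 : ∀ s : F, goodG2.X F 10 s ∈ X := by
      intro s
      have hw := goodG2.word_mem_of_normal hU (r := 9) (s := 7) (by omega) (by omega) (by omega)
        (by omega) (by unfold ng; omega) (-s) 1 (hX9 (-s))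
      have hc' : tabG2.terms 9 7 = [(10, -3, 1, 1)] := by decide +kernel
      simpa [Good.cw, hc', Good.wordG, h3] using hw
    have hX11 : ∀ s : F, goodG2.X F 11 s ∈ X := by
      intro s
      have hw := goodG2.word_mem_of_normal hU (r := 8) (s := 9) (by omega) (by omega) (by omega)
        (by omega) (by unfold ng; omega) s 1 (hX8 s)
      have hc' : tabG2.terms 8 9 = [(11, 3, 1, 1)] := by decide +kernel
      have h3' : (3 : F) = -1 := by linear_combination (2 : F) * h2
      simpa [Good.cw, hc', Good.wordG, h3'] using hw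
    subst hj
    first | exact hX10 | exact hX11

theorem sepG2 : chkSepM chevG2 tabG2 3 [(6, 10), (6, 11), (10, 11)] = true := by decide +kernel
theorem sepB2 : chkSepM chevB2 tabB2 3 [] = true := by decide +kernel
theorem sepD4 : chkSepM chevD4 tabD4 3 [] = true := by decide +kernel
theorem sepF4 : chkSepM chevF4 tabF4 3 [] = true := by decide +kernel
theorem sepE6 : chkSepM chevE6 tabE6 3 [] = true := by decide +kernel
theorem sepE7 : chkSepM chevE7 tabE7 3 [] = true := by decide +kernel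
theorem sepE8 : chkSepM chevE8 tabE8 3 [] = true := by decide +kernel
theorem sep2E6 : chkSepM chevE6 tabE6 2 [] = true := by decide +kernel
theorem sep2E7 : chkSepM chevE7 tabE7 2 [] = true := by decide +kernel
theorem sep2E8 : chkSepM chevE8 tabE8 2 [] = true := by decide +kernel

theorem upG2 : (chkUp chevG2 tabG2 && chkSorted chevG2 tabG2) = true := by decide +kernel
theorem upB2 : (chkUp chevB2 tabB2 && chkSorted chevB2 tabB2) = true := by decide +kernel
theorem upD4 : (chkUp chevD4 tabD4 && chkSorted chevD4 tabD4) = true := by decide +kernel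
theorem upF4 : (chkUp chevF4 tabF4 && chkSorted chevF4 tabF4) = true := by decide +kernel
theorem upE6 : (chkUp chevE6 tabE6 && chkSorted chevE6 tabE6) = true := by decide +kernel
theorem upE7 : (chkUp chevE7 tabE7 && chkSorted chevE7 tabE7) = true := by decide +kernel
theorem upE8 : (chkUp chevE8 tabE8 && chkSorted chevE8 tabE8) = true := by decide +kernel

end Cfsg.Agent.Lib.Chev
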