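import Cfsg.Agent.Lib.Chev.Unipotent

/-!
The Weyl group acting on the root indices through words in the fundamental reflections, and the
monomial subgroup acting on the root subgroups.
-/

set_option autoImplicit false

namespace Cfsg.Agent.Lib.Chev

open Cfsg.Lie
open scoped Matrix

variable {D : ChevalleyDatum} {T : Tables} {F : Type*} [Field F]

/-- The action of a word in the fundamental reflections. -/
def wl (T : Tables) : List ℕ → ℕ → ℕ
  | [], s => s
  | i :: l, s => T.w i (wl T l s)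

/-- The sign of the word of `n`'s on a root. -/
def el (T : Tables) : List ℕ → ℕ → ℤ
  | [], _ => 1
  | i :: l, s => T.eta i (wl T l s) * el T l s

theorem wl_append (l l' : List ℕ) (s : ℕ) : wl T (l ++ l') s = wl T l (wl T l' s) := by
  induction l with
  | nil => rfl
  | cons i l ih => simp [wl, ih]

theorem el_mul_self (l : List ℕ) (s : ℕ) : el T l s * el T l s = 1 := by
  induction l with
  | nil => rfl
  | cons i l ih =>
    simp only [el]
    rw [mul_mul_mul_comm, Tables.eta_mul_self, ih, mul_one]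

theorem el_eq_or (l : List ℕ) (s : ℕ) : el T l s = 1 ∨ el T l s = -1 :=
  mul_self_eq_one_iff.1 (el_mul_self l s)

/-- A valid word. -/
def IsW (D : ChevalleyDatum) (l : List ℕ) : Prop := ∀ i ∈ l, i < D.rank

theorem IsW.tail {i : ℕ} {l : List ℕ} (h : IsW D (i :: l)) : i < D.rank ∧ IsW D l :=
  ⟨h i List.mem_cons_self, fun j hj => h j (List.mem_cons_of_mem _ hj)⟩

theorem IsW.append {l l' : List ℕ} (h : IsW D l) (h' : IsW D l') : IsW D (l ++ l') := fun i hi => by
  rcases List.mem_append.1 hi with hi | hi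
  · exact h i hi
  · exact h' i hi

theorem IsW.left {l l' : List ℕ} (h : IsW D (l ++ l')) : IsW D l := fun i hi =>
  h i (List.mem_append_left _ hi)

theorem IsW.right {l l' : List ℕ} (h : IsW D (l ++ l')) : IsW D l' := fun i hi =>
  h i (List.mem_append_right _ hi)

theorem IsW.reverse {l : List ℕ} (h : IsW D l) : IsW D l.reverse := fun i hi =>
  h i (List.mem_reverse.1 hi)

theorem isW_single {i : ℕ} (h : i < D.rank) : IsW D [i] := fun j hj => by
  rw [List.mem_singleton] at hj; exact hj ▸ h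

theorem isW_nil : IsW D [] := fun _ hj => by simp at hj

namespace Good

variable (G : Good D T)
include G

theorem wl_lt : ∀ {l : List ℕ}, IsW D l → ∀ {s : ℕ}, s < D.nroots → wl T l s < D.nroots
  | [], _, _, hs => hs
  | _ :: _, hl, _, hs => G.w_lt hl.tail.1 (wl_lt hl.tail.2 hs)

theorem wl_ng : ∀ {l : List ℕ}, IsW D l → ∀ {s : ℕ}, s < D.nroots →
    wl T l (ng D s) = ng D (wl T l s)
  | [], _, _, _ => rfl
  | i :: l, hl, s, hs => by
    simp only [wl]
    rw [wl_ng hl.tail.2 hs, G.w_ng hl.tail.1 (G.wl_lt hl.tail.2 hs)]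

theorem el_ng : ∀ {l : List ℕ}, IsW D l → ∀ {s : ℕ}, s < D.nroots → el T l (ng D s) = el T l s
  | [], _, _, _ => rfl
  | i :: l, hl, s, hs => by
    simp only [el]
    rw [G.wl_ng hl.tail.2 hs, G.eta_ng hl.tail.1 (G.wl_lt hl.tail.2 hs), el_ng hl.tail.2 hs]

theorem wl_reverse_wl : ∀ {l : List ℕ}, IsW D l → ∀ {s : ℕ}, s < D.nroots →
    wl T l.reverse (wl T l s) = s
  | [], _, _, _ => rfl
  | i :: l, hl, s, hs => by
    rw [List.reverse_cons, wl_append]
    simp only [wl]
    rw [G.w_w hl.tail.1 (G.wl_lt hl.tail.2 hs), wl_reverse_wl hl.tail.2 hs]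

theorem wl_wl_reverse {l : List ℕ} (hl : IsW D l) {s : ℕ} (hs : s < D.nroots) :
    wl T l (wl T l.reverse s) = s := by
  simpa using G.wl_reverse_wl hl.reverse hs

theorem wl_injective {l : List ℕ} (hl : IsW D l) {r s : ℕ} (hr : r < D.nroots) (hs : s < D.nroots)
    (h : wl T l r = wl T l s) : r = s := by
  rw [← G.wl_reverse_wl hl hr, h, G.wl_reverse_wl hl hs]

/-- The word of `n`'s. -/
def nl (F : Type*) [Field F] (l : List ℕ) : GL D.Idx F := (l.map (G.ni F)).prod

theorem nl_nil : G.nl F [] = 1 := rfl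

theorem nl_cons (i : ℕ) (l : List ℕ) : G.nl F (i :: l) = G.ni F i * G.nl F l := by
  simp [Good.nl]

theorem nl_append (l l' : List ℕ) : G.nl F (l ++ l') = G.nl F l * G.nl F l' := by
  simp [Good.nl]

theorem nl_single (i : ℕ) : G.nl F [i] = G.ni F i := by simp [Good.nl]

theorem nl_mem_monomial {l : List ℕ} (hl : IsW D l) : G.nl F l ∈ D.monomialSubgroup F := by
  refine list_prod_mem fun x hx => ?_
  obtain ⟨i, hi, rfl⟩ := List.mem_map.1 hx
  exact G.ni_mem_monomial (hl i hi)

theorem nl_conj_X : ∀ {l : List ℕ}, IsW D l → ∀ {r : ℕ}, r < D.nroots → ∀ t : F,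
    G.nl F l * G.X F r t * (G.nl F l)⁻¹ = G.X F (wl T l r) ((el T l r : F) * t)
  | [], _, _, _, _ => by simp [Good.nl, wl, el]
  | i :: l, hl, r, hr, t => by
    have e : G.nl F (i :: l) * G.X F r t * (G.nl F (i :: l))⁻¹ =
        G.ni F i * (G.nl F l * G.X F r t * (G.nl F l)⁻¹) * (G.ni F i)⁻¹ := by
      rw [G.nl_cons]; group
    rw [e, nl_conj_X hl.tail.2 hr, G.ni_conj_X hl.tail.1 (G.wl_lt hl.tail.2 hr)]
    simp only [wl, el, Int.cast_mul, mul_assoc]

theorem nl_conj_Ng {l : List ℕ} (hl : IsW D l) {r : ℕ} (hr : r < D.nroots) (t : F) :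
    G.nl F l * G.Ng F r t * (G.nl F l)⁻¹ = G.Ng F (wl T l r) ((el T l r : F) * t) := by
  have e : G.nl F l * G.Ng F r t * (G.nl F l)⁻¹ = (G.nl F l * G.X F r t * (G.nl F l)⁻¹) *
      (G.nl F l * G.X F (ng D r) (-t⁻¹) * (G.nl F l)⁻¹) *
      (G.nl F l * G.X F r t * (G.nl F l)⁻¹) := by
    simp only [Good.Ng]; group
  rw [e, G.nl_conj_X hl hr, G.nl_conj_X hl (G.ng_lt hr), G.wl_ng hl hr, G.el_ng hl hr, Good.Ng]
  congr 3
  rcases el_eq_or (T := T) l r with h | h <;> simp [h]

/-- `g` moves the root subgroups as `f` moves the roots. -/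
def Act (F : Type*) [Field F] (g : GL D.Idx F) (f : ℕ → ℕ) : Prop :=
  ∀ r < D.nroots, f r < D.nroots ∧ ∃ c : F, c ≠ 0 ∧
    ∀ t, g * G.X F r t * g⁻¹ = G.X F (f r) (c * t)

theorem X_root_inj {a b : ℕ} (ha : a < D.nroots) (hb : b < D.nroots) {t u : F} (ht : t ≠ 0)
    (h : G.X F a t = G.X F b u) : a = b := by
  by_contra hne
  obtain ⟨i, hi, hc⟩ := G.exists_c_ne_zero (F := F) ha
  have hn := G.ng_lt ha
  have h1 := congrArg (fun g : GL D.Idx F =>
    ((g : Matrix D.Idx D.Idx F) *ᵥ bas D F (ng D a)) (Sum.inl ⟨i, hi⟩)) h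
  simp only [G.X_val, G.x_bas_ng ha, Pi.add_apply, Pi.smul_apply, hvec_inl] at h1
  rw [bas_apply_eq_zero (by simp [cd]; omega), bas_apply_eq_zero (by simp [cd]; omega)] at h1
  have h2 : (D.x F b u *ᵥ bas D F (ng D a)) (Sum.inl ⟨i, hi⟩) = 0 := by
    by_cases e1 : ng D a = b
    · rw [← e1, G.x_bas_self hn, bas_apply_eq_zero (by simp [cd]; omega)]
    have e2 : ng D a ≠ ng D b := fun e => hne (by rw [← G.ng_ng ha, e, G.ng_ng hb])
    rw [G.x_bas_other hb hn e1 e2, Pi.add_apply, bas_apply_eq_zero (by simp [cd]; omega), zero_add]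
    simp only [chVec, list_sum_apply']
    refine List.sum_eq_zero fun z hz => ?_
    simp only [List.map_map, List.mem_map, Function.comp_apply] at hz
    obtain ⟨⟨⟨v, M⟩, m⟩, hm, rfl⟩ := hz
    have hv := (G.ch_entry hb hn (List.mk_mem_zipIdx_iff_getElem?.1 hm)).1
    simp only
    rw [Pi.smul_apply, bas_apply_eq_zero (by simp [cd]; omega), smul_zero]
  rw [h2] at h1
  simp [ht, hc] at h1

theorem act_unique {g : GL D.Idx F} {f f' : ℕ → ℕ} (h : G.Act F g f) (h' : G.Act F g f') {r : ℕ}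
    (hr : r < D.nroots) : f r = f' r := by
  obtain ⟨hf, c, hc, e⟩ := h r hr
  obtain ⟨hf', c', -, e'⟩ := h' r hr
  exact G.X_root_inj hf hf' (mul_ne_zero hc one_ne_zero) ((e 1).symm.trans (e' 1))

theorem act_mul {g g' : GL D.Idx F} {f f' : ℕ → ℕ} (h : G.Act F g f) (h' : G.Act F g' f') :
    G.Act F (g * g') (f ∘ f') := by
  intro r hr
  obtain ⟨hf', c', hc', e'⟩ := h' r hr
  obtain ⟨hf, c, hc, e⟩ := h _ hf'
  refine ⟨hf, c * c', mul_ne_zero hc hc', fun t => ?_⟩
  have e2 : g * g' * G.X F r t * (g * g')⁻¹ = g * (g' * G.X F r t * g'⁻¹) * g⁻¹ := by group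
  rw [e2, e', e, mul_assoc]
  rfl

theorem act_diag {g : GL D.Idx F} (hg : g ∈ D.diagonalSubgroup F) : G.Act F g id := by
  obtain ⟨c, hc, h⟩ := G.exists_tor hg
  intro r hr
  exact ⟨hr, _, (G.isChar_tor fun i _ => hc i).ne_zero hr,
    fun t => G.diag_conj_X h (G.isChar_tor fun i _ => hc i) hr t⟩

theorem act_nl {l : List ℕ} (hl : IsW D l) : G.Act F (G.nl F l) (wl T l) := by
  intro r hr
  refine ⟨G.wl_lt hl hr, (el T l r : F), ?_, fun t => G.nl_conj_X hl hr t⟩
  rcases el_eq_or (T := T) l r with h | h <;> simp [h]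

/-- `g` is `h n_l` with `h` in `H`. -/
def Rep (F : Type*) [Field F] (g : GL D.Idx F) (l : List ℕ) : Prop :=
  IsW D l ∧ g * (G.nl F l)⁻¹ ∈ D.diagonalSubgroup F

theorem rep_act {g : GL D.Idx F} {l : List ℕ} (h : G.Rep F g l) : G.Act F g (wl T l) := by
  have e : g = g * (G.nl F l)⁻¹ * G.nl F l := by group
  rw [e]
  have h2 := G.act_mul (G.act_diag h.2) (G.act_nl (F := F) h.1)
  exact h2

theorem nl_conj_diag {l : List ℕ} (hl : IsW D l) {h : GL D.Idx F}
    (hh : h ∈ D.diagonalSubgroup F) : G.nl F l * h * (G.nl F l)⁻¹ ∈ D.diagonalSubgroup F :=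
  (Subgroup.mem_normalizer_iff.1 (G.monomial_le_normalizer (G.nl_mem_monomial hl)) h).1 hh

theorem rep_mul {g g' : GL D.Idx F} {l l' : List ℕ} (h : G.Rep F g l) (h' : G.Rep F g' l') :
    G.Rep F (g * g') (l ++ l') := by
  refine ⟨h.1.append h'.1, ?_⟩
  have e : g * g' * (G.nl F (l ++ l'))⁻¹ = (g * (G.nl F l)⁻¹) *
      (G.nl F l * (g' * (G.nl F l')⁻¹) * (G.nl F l)⁻¹) := by
    rw [G.nl_append]; group
  rw [e]
  exact mul_mem h.2 (G.nl_conj_diag h.1 h'.2)

theorem rep_diag {g : GL D.Idx F} (hg : g ∈ D.diagonalSubgroup F) : G.Rep F g [] :=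
  ⟨isW_nil, by simpa [G.nl_nil] using hg⟩

theorem rep_ni {i : ℕ} (hi : i < D.rank) : G.Rep F (G.ni F i) [i] :=
  ⟨isW_single hi, by simp [G.nl_single]⟩

theorem rep_nl {l : List ℕ} (hl : IsW D l) : G.Rep F (G.nl F l) l := ⟨hl, by simp⟩

theorem ni_sq {i : ℕ} (hi : i < D.rank) : G.ni F i * G.ni F i ∈ D.diagonalSubgroup F := by
  have e : G.ni F i * G.ni F i = (G.Hg F (sim D i) (-1))⁻¹ := by
    rw [Good.Hg, mul_inv_rev, G.Ng_inv, neg_neg]; rfl
  rw [e]
  exact inv_mem (G.Hg_mem (G.sim_lt hi) (neg_ne_zero.2 one_ne_zero))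

theorem rep_ni_inv {i : ℕ} (hi : i < D.rank) : G.Rep F (G.ni F i)⁻¹ [i] := by
  refine ⟨isW_single hi, ?_⟩
  rw [G.nl_single, ← mul_inv_rev]
  exact inv_mem (G.ni_sq hi)

theorem exists_rep {g : GL D.Idx F} (hg : g ∈ D.monomialSubgroup F) : ∃ l, G.Rep F g l := by
  rw [G.monomial_eq, ← Subgroup.closure_eq (D.diagonalSubgroup F), ← Subgroup.closure_union] at hg
  induction hg using Subgroup.closure_induction_left with
  | one => exact ⟨[], G.rep_diag (one_mem _)⟩
  | mul_left x hx y _ ih =>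
    obtain ⟨l, hl⟩ := ih
    rcases hx with hx | ⟨i, hi, rfl⟩
    · exact ⟨_, G.rep_mul (G.rep_diag hx) hl⟩
    · exact ⟨_, G.rep_mul (G.rep_ni hi) hl⟩
  | inv_mul_cancel x hx y _ ih =>
    obtain ⟨l, hl⟩ := ih
    rcases hx with hx | ⟨i, hi, rfl⟩
    · exact ⟨_, G.rep_mul (G.rep_diag (inv_mem hx)) hl⟩
    · exact ⟨_, G.rep_mul (G.rep_ni_inv hi) hl⟩

theorem monomial_of_rep {g : GL D.Idx F} {l : List ℕ} (h : G.Rep F g l) :
    g ∈ D.monomialSubgroup F := by
  have e : g = g * (G.nl F l)⁻¹ * G.nl F l := by group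
  rw [e]
  exact mul_mem (diagonal_le_monomial h.2) (G.nl_mem_monomial h.1)

/-- Integral linear relations between roots are preserved. -/
theorem k_wl_lin : ∀ {l : List ℕ}, IsW D l → ∀ {r s u : ℕ} {a b : ℤ}, r < D.nroots →
    s < D.nroots → u < D.nroots → (∀ j < D.rank, T.k j u = a * T.k j r + b * T.k j s) →
    ∀ j < D.rank, T.k j (wl T l u) = a * T.k j (wl T l r) + b * T.k j (wl T l s)
  | [], _, _, _, _, _, _, _, _, _, h => h
  | i :: l, hl, r, s, u, a, b, hr, hs, hu, h => by
    have h' := k_wl_lin hl.tail.2 hr hs hu h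
    have hr' := G.wl_lt hl.tail.2 hr
    have hs' := G.wl_lt hl.tail.2 hs
    have hu' := G.wl_lt hl.tail.2 hu
    intro j hj
    simp only [wl]
    rw [G.k_w hl.tail.1 hu' hj, G.k_w hl.tail.1 hr' hj, G.k_w hl.tail.1 hs' hj, h' j hj]
    have hA : T.A i (wl T l u) = a * T.A i (wl T l r) + b * T.A i (wl T l s) := by
      rw [G.A_linear hl.tail.1 hu', G.A_linear hl.tail.1 hr', G.A_linear hl.tail.1 hs',
        Finset.mul_sum, Finset.mul_sum, ← Finset.sum_add_distrib]
      refine Finset.sum_congr rfl fun m hm => ?_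
      rw [h' m (Finset.mem_range.1 hm)]; ring
    split
    · rw [hA]; ring
    · ring

theorem code_neg {r : ℕ} (hr : r < D.nroots) (hp : r < npos D) : code D T r < 0 := by
  have h := G.code_pos (G.ng_lt hr) ((G.ng_pos_iff hr).2 hp)
  rw [G.code_ng hr] at h
  omega

theorem pos_of_code_pos {r : ℕ} (hr : r < D.nroots) (h : 0 < code D T r) : npos D ≤ r := by
  by_contra h'
  have := G.code_neg hr (by omega)
  omega

/-- Where a word first makes a root positive. -/
theorem exists_split {x : ℕ} (hx : x < D.nroots) (hn : x < npos D) : ∀ {l : List ℕ}, IsW D l →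
    npos D ≤ wl T l x → ∃ a j b, l = a ++ j :: b ∧ wl T b x = ng D (sim D j)
  | [], _, h => absurd h (by simp only [wl]; omega)
  | i :: l, hl, h => by
    by_cases h' : npos D ≤ wl T l x
    · obtain ⟨a, j, b, rfl, hb⟩ := exists_split hx hn hl.tail.2 h'
      exact ⟨i :: a, j, b, rfl, hb⟩
    · refine ⟨[], i, l, rfl, ?_⟩
      have hlt := G.wl_lt hl.tail.2 hx
      simp only [wl] at h
      by_contra hne
      have h2 : wl T l x ≠ sim D i := fun e => h' (e ▸ G.sim_pos hl.tail.1)
      exact h' ((G.pos_w hl.tail.1 hlt h2 hne).2 h)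

/-- A word keeping all fundamental roots positive is trivial in `N / H`. -/
theorem nl_mem_diag_of_pos : ∀ (k : ℕ) {l : List ℕ}, l.length = k → IsW D l →
    (∀ i < D.rank, npos D ≤ wl T l (sim D i)) → G.nl F l ∈ D.diagonalSubgroup F := by
  intro k
  induction k using Nat.strong_induction_on with
  | _ k ih =>
    intro l hk hl hid
    rcases List.eq_nil_or_concat l with rfl | ⟨l', i, rfl⟩
    · rw [G.nl_nil]; exact one_mem _
    rw [List.concat_eq_append] at *
    have hi : i < D.rank := hl i (by simp)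
    have hp := G.sim_lt hi
    have hne : npos D ≤ wl T l' (ng D (sim D i)) := by
      have h := hid i hi
      rw [wl_append] at h
      simp only [wl, G.w_sim hi] at h
      exact h
    have hneg : ng D (sim D i) < npos D := by
      have := G.even_n; have := G.sim_pos hi; unfold ng; omega
    obtain ⟨a, j, b, rfl, hb⟩ := G.exists_split (G.ng_lt hp) hneg hl.left hne
    have hb' : IsW D b := fun x hx => hl x (by simp [hx])
    have ha : IsW D a := fun x hx => hl x (by simp [hx])
    have hj : j < D.rank := hl j (by simp)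
    have hbp : wl T b (sim D i) = sim D j := by
      have := G.wl_ng hb' hp
      rw [hb] at this
      rw [← G.ng_ng (G.wl_lt hb' hp), ← this, G.ng_ng (G.sim_lt hj)]
    have he : G.nl F b * G.ni F i * (G.nl F b)⁻¹ = G.Ng F (sim D j) (el T b (sim D i) : F) := by
      rw [Good.ni, G.nl_conj_Ng hb' hp, hbp, mul_one]
    have hd : G.Rep F (G.nl F b * G.ni F i * (G.nl F b)⁻¹) [j] := by
      rw [he]
      refine ⟨isW_single hj, ?_⟩
      have hne0 : ((el T b (sim D i) : ℤ) : F) ≠ 0 := by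
        rcases el_eq_or (T := T) b (sim D i) with h | h <;> simp [h]
      rw [G.nl_single, Good.ni, G.Ng_inv]
      exact G.Hg_mem (G.sim_lt hj) hne0
    have hjj : G.Rep F (G.ni F j * (G.nl F b * G.ni F i * (G.nl F b)⁻¹)) [] := by
      have h2 := G.rep_mul (G.rep_ni hj) hd
      refine G.rep_diag ?_
      have e : G.ni F j * (G.nl F b * G.ni F i * (G.nl F b)⁻¹) =
          (G.ni F j * (G.nl F b * G.ni F i * (G.nl F b)⁻¹) * (G.nl F [j, j])⁻¹) *
            (G.ni F j * G.ni F j) := by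
        simp [G.nl_cons, G.nl_nil]; group
      rw [e]
      exact mul_mem h2.2 (G.ni_sq hj)
    have hr : G.Rep F (G.nl F ((a ++ j :: b) ++ [i])) (a ++ b) := by
      have e : G.nl F ((a ++ j :: b) ++ [i]) =
          G.nl F a * (G.ni F j * (G.nl F b * G.ni F i * (G.nl F b)⁻¹)) * G.nl F b := by
        simp only [G.nl_append, G.nl_cons, G.nl_nil]; group
      rw [e]
      have := G.rep_mul (G.rep_mul (G.rep_nl ha) hjj) (G.rep_nl hb')
      simpa using this
    have hid' : ∀ x < D.rank, npos D ≤ wl T (a ++ b) (sim D x) := fun x hx => by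
      rw [← G.act_unique (G.act_nl (F := F) hl) (G.rep_act hr) (G.sim_lt hx)]
      exact hid x hx
    have hlen : (a ++ b).length < k := by subst hk; simp
    have := ih _ hlen rfl hr.1 hid'
    have h2 := mul_mem hr.2 this
    simpa using h2

/-- The Weyl group is faithful on the roots. -/
theorem nl_mem_diag (k : ℕ) {l : List ℕ} (hk : l.length = k) (hl : IsW D l)
    (h : ∀ s < D.nroots, wl T l s = s) : G.nl F l ∈ D.diagonalSubgroup F :=
  G.nl_mem_diag_of_pos k hk hl fun i hi => by rw [h _ (G.sim_lt hi)]; exact G.sim_pos hi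

/-- A word keeping all fundamental roots positive fixes every root. -/
theorem wl_eq_self_of_pos {l : List ℕ} (hl : IsW D l)
    (h : ∀ i < D.rank, npos D ≤ wl T l (sim D i)) {s : ℕ} (hs : s < D.nroots) : wl T l s = s :=
  G.act_unique (G.act_nl (F := ℚ) hl) (G.act_diag (G.nl_mem_diag_of_pos _ rfl hl h)) hs

/-- Elements of `N` fixing every root subgroup lie in `H`. -/
theorem mem_diag_of_act_id {g : GL D.Idx F} (hg : g ∈ D.monomialSubgroup F) {f : ℕ → ℕ}
    (h : G.Act F g f) (hf : ∀ s < D.nroots, f s = s) : g ∈ D.diagonalSubgroup F := by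
  obtain ⟨l, hl⟩ := G.exists_rep hg
  have h1 : ∀ s < D.nroots, wl T l s = s := fun s hs => by
    rw [G.act_unique (G.rep_act hl) h hs, hf s hs]
  have := mul_mem hl.2 (G.nl_mem_diag (F := F) _ rfl hl.1 h1)
  simpa using this

/-- Positive roots made negative by a word. -/
def invSet (D : ChevalleyDatum) (T : Tables) (l : List ℕ) : Finset ℕ :=
  (Finset.range D.nroots).filter fun s => npos D ≤ s ∧ wl T l s < npos D

omit G in
theorem mem_invSet {l : List ℕ} {s : ℕ} :
    s ∈ invSet D T l ↔ s < D.nroots ∧ npos D ≤ s ∧ wl T l s < npos D := by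
  simp [invSet]

theorem inv_succ {l : List ℕ} (hl : IsW D l) {i : ℕ} (hi : i < D.rank)
    (h : npos D ≤ wl T l (sim D i)) :
    (invSet D T (l ++ [i])).card = (invSet D T l).card + 1 := by
  have hp := G.sim_lt hi
  have hpp := G.sim_pos hi
  have he := G.even_n
  have hnp : ng D (sim D i) < npos D := by unfold ng; omega
  have hself : wl T l (ng D (sim D i)) < npos D := by
    rw [G.wl_ng hl hp]
    have := G.wl_lt hl hp
    unfold ng; omega
  have key : invSet D T (l ++ [i]) = insert (sim D i) ((invSet D T l).image (T.w i)) := by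
    ext s
    simp only [mem_invSet, Finset.mem_insert, Finset.mem_image, wl_append, wl]
    constructor
    · rintro ⟨hs, hsp, hsn⟩
      by_cases hne : s = sim D i
      · exact Or.inl hne
      refine Or.inr ⟨T.w i s, ⟨G.w_lt hi hs, ?_, hsn⟩, G.w_w hi hs⟩
      exact (G.pos_w hi hs hne (by omega)).1 hsp
    · rintro (rfl | ⟨u, ⟨hu, hup, hun⟩, rfl⟩)
      · exact ⟨hp, hpp, by rw [G.w_sim hi]; exact hself⟩
      · have hne : u ≠ sim D i := fun e => by subst e; omega
        refine ⟨G.w_lt hi hu, (G.pos_w hi hu hne (by omega)).1 hup, ?_⟩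
        rw [G.w_w hi hu]; exact hun
  rw [key, Finset.card_insert_of_notMem, Finset.card_image_of_injOn]
  · intro u hu v hv e
    simp only [Finset.mem_coe, mem_invSet] at hu hv
    rw [← G.w_w hi hu.1, e, G.w_w hi hv.1]
  · rw [Finset.mem_image]
    rintro ⟨u, hu, e⟩
    rw [mem_invSet] at hu
    have : u = ng D (sim D i) := by rw [← G.w_w hi hu.1, e, G.w_sim hi]
    omega

theorem neg_of_simples {l : List ℕ} (hl : IsW D l)
    (h : ∀ i < D.rank, wl T l (sim D i) < npos D) :
    ∀ r < D.nroots, npos D ≤ r → wl T l r < npos D := by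
  intro r
  induction r using Nat.strong_induction_on with
  | _ r ih =>
    intro hr hp
    by_cases hs : ∃ i < D.rank, r = sim D i
    · obtain ⟨i, hi, rfl⟩ := hs
      exact h i hi
    · push Not at hs
      obtain ⟨i, hi, hp', hlt⟩ := G.exists_lower hr hp hs
      have hr' := G.w_lt hi hr
      have hrel : ∀ j < D.rank, T.k j r = 1 * T.k j (T.w i r) + T.A i r * T.k j (sim D i) := by
        intro j hj
        rw [G.k_w hi hr hj, G.k_sim hi hj]
        split <;> ring
      have hc := code_lin (D := D) hrel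
      have hc' := code_lin (D := D) (G.k_wl_lin hl hr' (G.sim_lt hi) hr hrel)
      have h1 := G.code_strictMono hlt hr
      have h2 := G.code_pos (G.sim_lt hi) (G.sim_pos hi)
      have hA : 0 ≤ T.A i r := by nlinarith
      have h3 := G.code_neg (G.wl_lt hl (G.sim_lt hi)) (h i hi)
      have h4 := G.code_neg (G.wl_lt hl hr') (ih _ hlt hr' hp')
      by_contra hcon
      have h5 := G.code_pos (G.wl_lt hl hr) (by omega)
      nlinarith

/-- A word for the longest element. -/
theorem exists_longest : ∃ l, IsW D l ∧ (∀ r < D.nroots, npos D ≤ r → wl T l r < npos D) ∧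
    ∀ r < D.nroots, r < npos D → npos D ≤ wl T l r := by
  by_contra hcon
  have step : ∀ k, ∃ l, IsW D l ∧ k ≤ (invSet D T l).card := by
    intro k
    induction k with
    | zero => exact ⟨[], isW_nil, Nat.zero_le _⟩
    | succ k ih =>
      obtain ⟨l, hl, hk⟩ := ih
      have : ∃ i < D.rank, npos D ≤ wl T l (sim D i) := by
        by_contra h
        push Not at h
        refine hcon ⟨l, hl, G.neg_of_simples hl h, fun r hr hrn => ?_⟩
        have h1 := G.neg_of_simples hl h _ (G.ng_lt hr) ((G.ng_pos_iff hr).2 hrn)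
        rw [G.wl_ng hl hr] at h1
        have := G.wl_lt hl hr
        have := G.even_n
        unfold ng at h1; omega
      obtain ⟨i, hi, hp⟩ := this
      exact ⟨l ++ [i], hl.append (isW_single hi), by rw [G.inv_succ hl hi hp]; omega⟩
  obtain ⟨l, -, hk⟩ := step (D.nroots + 1)
  have : (invSet D T l).card ≤ D.nroots := by
    refine (Finset.card_le_card (Finset.filter_subset _ _)).trans ?_
    simp
  omega

end Good

end Cfsg.Agent.Lib.Chev
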